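import Cfsg.Agent.O8Three.WSide
import Cfsg.Agent.S3342

/-!
# The conclusion, given a subgroup of index two avoiding the outer involution
-/

set_option autoImplicit false
set_option maxRecDepth 100000
set_option linter.style.haveILetI false
set_option linter.unusedSectionVars false

namespace CfsgLib.O8Three

open Subgroup

universe u

namespace Base

variable {G : Type u} [Group G] [Finite G]

/-- The recognition of `PSp₄(3)` from the centralizer of an element of order three. -/
theorem recogPSp (X : Type u) [Group X] [Finite X] : RecogPSp X (ZMod 3) (ZMod 2) := by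
  haveI : Fact (Nat.Prime 3) := fact_three
  haveI : Fact (Nat.Prime 2) := ⟨Nat.prime_two⟩
  intro a ha C hC hR hR27 hR3 e J hJC hJc hJe hJ hsig
  exact Cfsg.Agent.S3342.result a ha C hC hR hR27 hR3 e J hJC hJc hJe hJ hsig (ZMod 3)
    (ZMod.card 3) (ZMod 2) (ZMod.card 2)

variable {H : Base G}

/-- The data of the finish, unconditionally. -/
theorem Good.wdata' (hG : H.Good) (he : H.ext = false) (N : Subgroup G) [N.Normal]
    (hpar : ∀ x, H.par x ∈ N ↔ x.v.b = 0) : H.WData N := by
  haveI : Fact (Nat.Prime 3) := fact_three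
  haveI : Fact (Nat.Prime 2) := ⟨Nat.prime_two⟩
  exact hG.wdata he (ZMod.card 3) (recogPSp H.XA) N hpar

/-- The conclusion when the centralizer of `z` is smaller. -/
theorem Good.conclude_false (hG : H.Good) (he : H.ext = false) :
    ∃ N : Subgroup G, N.Normal ∧ Nonempty (N ≃* Cfsg.Omega (ZMod 2) (Cfsg.quadFormPlus 4 (ZMod 2))) ∧
      centralizer (N : Set G) = ⊥ ∧ (N.index = 3 ∨ N.index = 6) :=
  hG.finish_false he fun N hN _ hpar => hG.wdata' he N hpar

/-- The conclusion when the centralizer of `z` is larger, from the subgroup of index two. -/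
theorem Good.conclude_true (hG : H.Good) (he : H.ext = true) {G0 : Subgroup G} (hidx : G0.index = 2)
    (hpar0 : ∀ x, H.par x ∈ G0) (hout : H.out ∉ G0) :
    ∃ N : Subgroup G, N.Normal ∧ Nonempty (N ≃* Cfsg.Omega (ZMod 2) (Cfsg.quadFormPlus 4 (ZMod 2))) ∧
      centralizer (N : Set G) = ⊥ ∧ (N.index = 3 ∨ N.index = 6) := by
  refine hG.finish_true he hidx hpar0 hout fun N hN hNle _ hpar => ?_
  set H0 := H.restrict G0 hidx hpar0 hout with hH0
  have hG0 : H0.Good := restrict_good hidx hpar0 hout hG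
  haveI hN0 : (N.subgroupOf G0).Normal := hN.comap G0.subtype
  obtain ⟨K, π, hex, hcard, hKle, hcK, hs, hk⟩ := hG0.wdata' rfl (N.subgroupOf G0) fun x =>
    mem_subgroupOf.trans (hpar x)
  have hiff : ∀ g : G0, g ∈ N.subgroupOf G0 ⊓ centralizer ({H0.t} : Set G0) ↔
      (g : G) ∈ N ⊓ centralizer ({H.t} : Set G) := fun g => by
    rw [mem_inf, mem_inf, mem_subgroupOf, mem_centralizer_singleton_iff, mem_centralizer_singleton_iff]
    exact and_congr Iff.rfl ⟨fun h => congrArg Subtype.val h, fun h => Subtype.ext h⟩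
  let ι : ↥(N ⊓ centralizer ({H.t} : Set G)) →*
      ↥(N.subgroupOf G0 ⊓ centralizer ({H0.t} : Set G0)) :=
    MonoidHom.mk' (fun g => ⟨⟨g, hNle g.2.1⟩, (hiff _).2 g.2⟩) fun _ _ => rfl
  refine ⟨K.map G0.subtype, π.comp ι, LargeExtra.isExtraspecial_equiv
    (K.equivMapOfInjective _ G0.subtype_injective) hex, ?_, ?_, ?_, ?_, fun c => ?_⟩
  · rw [card_map_of_injective G0.subtype_injective, hcard]
  · rintro _ ⟨y, hy, rfl⟩
    exact (hiff y).1 (hKle hy)
  · intro g hg
    refine ⟨⟨g, hNle hg.1⟩, hcK ⟨mem_subgroupOf.2 hg.1, mem_centralizer_iff.2 fun y hy =>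
      Subtype.ext (mem_centralizer_iff.1 hg.2 _ (mem_map_of_mem _ hy))⟩, rfl⟩
  · intro q
    obtain ⟨c, rfl⟩ := hs q
    exact ⟨⟨((c : G0) : G), (hiff _).1 c.2⟩, rfl⟩
  · rw [MonoidHom.comp_apply, hk]
    constructor
    · exact fun h => ⟨_, h, rfl⟩
    · rintro ⟨y, hy, e⟩
      rwa [show ((ι c : ↥(N.subgroupOf G0 ⊓ centralizer ({H0.t} : Set G0))) : G0) = y from Subtype.ext e.symm]

end Base

end CfsgLib.O8Three
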