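import Cfsg.Agent.O8Three.Model
import Mathlib.GroupTheory.Sylow

/-!
# The standing hypotheses: a 3-central element with centralizer `3^{1+4}.SL₂(3)`, possibly extended by an
involution inverting `(v₁,v₂)`

`out` is that involution if `ext` holds and `1` otherwise.
-/

set_option autoImplicit false
set_option maxRecDepth 100000

namespace CfsgLib.O8Three

universe u

/-- The automorphism induced by the outer involution. -/
def sigB (b : Bool) (x : T) : T := if b then ⟨x.c, ⟨-x.v.a, -x.v.b, x.v.m, x.v.n⟩, x.g⟩ else x

theorem sigB_mul (b : Bool) (x y : T) : sigB b (x * y) = sigB b x * sigB b y := by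
  cases b
  · rfl
  · simp only [sigB, mul_def, tm, if_true]
    refine T.ext ?_ ?_ rfl
    · simp only [bet, act]; ring
    · simp only [va, act]
      refine Vec.ext ?_ ?_ rfl rfl <;> ring

theorem sigB_sigB (b : Bool) (x : T) : sigB b (sigB b x) = x := by
  cases b
  · rfl
  · simp [sigB]

/-- A subgroup `S` of the model: the extraspecial group with the transvection. -/
def inS (x : T) : Bool := x.g == 0 || x.g == 10 || x.g == PSpFourInvol.sm 10 10

/-- The standing hypotheses. -/
structure Base (G : Type u) [Group G] where
  /-- the parametrisation -/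
  par : T →* G
  inj : Function.Injective par
  /-- whether the centralizer is larger -/
  ext : Bool
  /-- the outer involution -/
  out : G
  out_sq : out * out = 1
  out_eq : ext = false → out = 1
  out_not : ext = true → ∀ x, par x ≠ out
  out_act : ∀ x, out * par x * out = par (sigB ext x)
  cover : ∀ g, g * par zT = par zT * g → ∃ x, g = par x ∨ g = par x * out
  fus : ∃ g : G, ∃ x : T, g * par zT * g⁻¹ = par x ∧ x.g = 0 ∧ x.v ≠ v0
  not_dvd : ¬ 3 ^ 7 ∣ Nat.card G

namespace Base

variable {G : Type u} [Group G] (H : Base G)

/-- The central element. -/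
def z : G := H.par zT

/-- The involution. -/
def t : G := H.par tT

theorem zT_central : ∀ x : T, x * zT = zT * x := by
  intro x
  simp only [mul_def, tm, zT]
  refine T.ext ?_ ?_ ?_
  · simp only [bet, act, v0]; ring
  · simp only [va, act, v0, PSpFourInvol.Concrete.smat_one]
    refine Vec.ext ?_ ?_ ?_ ?_ <;> simp [chi_zero]
  · exact (PSpFourInvol.sm_one _).2.1.trans (PSpFourInvol.sm_one _).1.symm

theorem sigB_zT : ∀ b : Bool, sigB b zT = zT := by decide

theorem par_z (x : T) : H.par x * H.z = H.z * H.par x := by
  rw [z, ← map_mul, zT_central, map_mul]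

theorem out_z : H.out * H.z = H.z * H.out := by
  have h := H.out_act zT
  rw [sigB_zT] at h
  calc H.out * H.z = H.out * H.par zT * (H.out * H.out) := by rw [H.out_sq, mul_one]; rfl
    _ = H.out * H.par zT * H.out * H.out := by simp only [mul_assoc]
    _ = _ := by rw [h]; rfl

theorem mem_cent {g : G} : g * H.z = H.z * g ↔ ∃ x, g = H.par x ∨ g = H.par x * H.out := by
  refine ⟨H.cover g, ?_⟩
  rintro ⟨x, rfl | rfl⟩
  · exact H.par_z x
  · rw [mul_assoc, H.out_z, ← mul_assoc, H.par_z, mul_assoc]

end Base

end CfsgLib.O8Three
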