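import Cfsg.Agent.O8Three.IndexThree
import Cfsg.Agent.CyclicNormal.Symplectic
import Cfsg.Agent.Solvable.Basics
import Cfsg.Prelude.Def_Solvable
import Cfsg.Prelude.Def_Classical
import Mathlib.GroupTheory.SchurZassenhaus

/-!
# The centralizer of `p₁` modulo `⟨p₁⟩`: `PSp₄(3)`, resp. its automorphism group or `Sp₆(2)`
-/

set_option autoImplicit false
set_option maxRecDepth 100000
set_option linter.style.haveILetI false
set_option linter.unusedSectionVars false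

namespace CfsgLib.O8Three

open CfsgLib.PSpFourInvol (S sm si)
open CfsgLib.PSpFourInvol.Concrete (smat)

universe u v w

/-- The elements of the model commuting with `p₁`. -/
def Tb : Subgroup T := bHom.ker

theorem mem_Tb {x : T} : x ∈ Tb ↔ x.v.b = 0 := by
  rw [Tb, MonoidHom.mem_ker]
  exact ofAdd_eq_one

theorem Tb_comm {x : T} : x * p1T = p1T * x ↔ x.v.b = 0 := by
  have h : ∀ (g : S), act g ⟨1, 0, 0, 0⟩ = ⟨1, 0, 0, 0⟩ := by decide +kernel
  have hg : sm x.g 0 = sm 0 x.g :=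
    (PSpFourInvol.sm_one x.g).2.1.trans (PSpFourInvol.sm_one x.g).1.symm
  have hd : ∀ r : ZMod 3, -r = r → r = 0 := by decide
  simp only [p1T, qT, mul_def, tm, h, act_zero]
  constructor
  · intro e
    refine hd _ ?_
    have := congrArg T.c e
    simp [bet] at this
    linear_combination this
  · intro e
    refine T.ext ?_ ?_ hg
    · simp [bet, e]
    · simp [va, add_comm]

theorem not_inverted (x : T) : x * p1T ≠ p1T⁻¹ * x := by
  rw [show p1T⁻¹ = sigB true p1T by decide +kernel]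
  intro h
  have ha := congrArg (fun y => y.v.a) h
  simp only [mul_v, va, act, sigB, p1T, qT, if_true, chi_zero] at ha
  have : ∀ r c : ZMod 3, r + (1 + c * 0) = -1 + (r + 0 * x.v.b) → False := by
    intro r c
    revert r
    generalize x.v.b = s
    revert c s
    decide
  exact this _ _ ha

theorem jT_a_mul {x : T} (hx : x.v.b = 0) (j : ZMod 3) :
    x * jT ⟨0, j, 0, 0⟩ = ⟨x.c, ⟨x.v.a + j, 0, x.v.m, x.v.n⟩, x.g⟩ := by
  have h : ∀ (g : S) (j : ZMod 3), act g ⟨j, 0, 0, 0⟩ = ⟨j, 0, 0, 0⟩ := by decide +kernel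
  simp only [jT, mul_def, tm, show xpow 0 = 0 from by decide, h]
  refine T.ext ?_ ?_ (PSpFourInvol.sm_one _).2.1
  · simp [bet, hx]
  · simp [va, hx]

/-- The linear part. -/
def slHom : T →* Matrix.SpecialLinearGroup (Fin 2) (ZMod 3) :=
  MonoidHom.mk' (fun x => ⟨smat x.g, by rw [Matrix.det_fin_two]; exact smat_det x.g⟩) fun x y =>
    Subtype.ext (PSpFourInvol.Concrete.smat_mul x.g y.g)

theorem smat_inj : ∀ a b : S, smat a = smat b → a = b := by decide +kernel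

theorem slHom_eq_one {x : T} : slHom x = 1 ↔ x.g = 0 := by
  constructor
  · intro h
    refine smat_inj _ _ ?_
    rw [PSpFourInvol.Concrete.smat_one]
    exact congrArg Subtype.val h
  · intro h
    refine Subtype.ext ?_
    show smat x.g = 1
    rw [h, PSpFourInvol.Concrete.smat_one]

theorem slHom_surj (M : Matrix.SpecialLinearGroup (Fin 2) (ZMod 3)) : ∃ g : S, slHom ⟨0, v0, g⟩ = M := by
  have h := M.2
  rw [Matrix.det_fin_two] at h
  obtain ⟨g, hg⟩ := PSpFourInvol.Concrete.smat_surj _ _ _ _ h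
  exact ⟨g, Subtype.ext (hg.trans (Matrix.eta_fin_two M.1).symm)⟩

theorem comm_two : ∀ g : S, g ≠ 0 → sm g g = 0 ∨ ∃ h : S, sm (sm (sm h g) (si h)) (si g) ≠ 0 ∧
    sm (sm (sm (sm (sm h g) (si h)) (si g)) (sm (sm (sm h g) (si h)) (si g)))
      (sm (sm (sm (sm h g) (si h)) (si g)) (sm (sm (sm h g) (si h)) (si g))) = 0 := by decide +kernel

attribute [local instance] fact_three

theorem three_core_sl {N : Subgroup (Matrix.SpecialLinearGroup (Fin 2) (ZMod 3))} (hn : N.Normal)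
    (hp : IsPGroup 3 N) : N = ⊥ := by
  rw [eq_bot_iff]
  intro M hM
  obtain ⟨g, rfl⟩ := slHom_surj M
  rw [Subgroup.mem_bot, slHom_eq_one]
  by_contra hg
  have hone : ∀ {e : ℕ}, (e = 2 ∨ e = 4) → ∀ M ∈ N, M ^ e = 1 → M = 1 := by
    intro e he M hM hMe
    obtain ⟨k, hk⟩ := hp ⟨M, hM⟩
    refine orderOf_eq_one_iff.1 (Nat.eq_one_of_dvd_coprimes (b := e) ?_ (orderOf_dvd_of_pow_eq_one
      (congrArg Subtype.val hk : M ^ 3 ^ k = 1)) (orderOf_dvd_of_pow_eq_one hMe))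
    exact Nat.Coprime.pow_left k (by rcases he with rfl | rfl <;> norm_num)
  rcases comm_two g hg with h | ⟨h, h1, h2⟩
  · refine hg (slHom_eq_one.1 (hone (Or.inl rfl) _ hM ?_))
    rw [pow_two, ← map_mul, L_mul]
    exact slHom_eq_one.2 h
  · set u : T := ⟨0, v0, h⟩ * ⟨0, v0, g⟩ * (⟨0, v0, h⟩ : T)⁻¹ * (⟨0, v0, g⟩ : T)⁻¹
    have hu : slHom u ∈ N := by
      rw [map_mul, map_mul, map_mul, map_inv, map_inv]
      exact mul_mem (hn.conj_mem _ hM _) (inv_mem hM)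
    refine h1 (slHom_eq_one.1 (hone (Or.inr rfl) _ hu ?_) :)
    rw [← map_pow, show (4 : ℕ) = 2 + 2 from rfl, pow_add, pow_two]
    exact slHom_eq_one.2 h2

theorem card_comap_mk' {X : Type*} [Group X] [Finite X] (N : Subgroup X) [N.Normal] (K : Subgroup (X ⧸ N)) :
    Nat.card (K.comap (QuotientGroup.mk' N)) = Nat.card N * Nat.card K := by
  have h1 := (K.comap (QuotientGroup.mk' N)).card_mul_index
  rw [K.index_comap_of_surjective (QuotientGroup.mk'_surjective N), Subgroup.card_eq_card_quotient_mul_card_subgroup N,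
    ← K.card_mul_index] at h1
  exact Nat.eq_of_mul_eq_mul_right (Nat.pos_of_ne_zero Subgroup.index_ne_zero_of_finite)
    (h1.trans (by ring))

theorem q_word : ∀ c m n : ZMod 3, ∃ i j k : Fin 3,
    qT c ⟨0, 0, m, n⟩ = zT ^ i.1 * m1T ^ j.1 * m2T ^ k.1 := by decide +kernel

theorem rot_word : apW [4, 2, 4, 4] ⟨0, 1, 0, 0⟩ = ⟨0, 1, 0, 0⟩ ∧
    apW [4, 2, 4, 4] ⟨1, 0, 0, 0⟩ = ⟨1, 0, 2, 2⟩ := by decide +kernel

theorem rot_split : jT ⟨1, 0, 2, 2⟩ = zT * m1T * m1T * (xT * xT) := by decide +kernel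

theorem centre_S : ∀ g : S, (g == 0 || g == 10 || g == sm 10 10) = true →
    act g ⟨0, 1, 0, 0⟩ = ⟨0, 1, 0, 0⟩ → g = 0 := by decide +kernel

theorem qJ_line : ∀ c j : ZMod 3, (c = 1 ∨ c = -1) → qJ ⟨c, j, 0, 0⟩ = 0 → j = 0 := by decide

attribute [local instance] fact_three

namespace Base

variable {G : Type u} [Group G] (H : Base G)

/-- The element `p₁`. -/
def aEl : G := H.emb ⟨0, 1, 0, 0⟩

/-- Its centralizer. -/
abbrev Ca : Subgroup G := Subgroup.centralizer ({H.aEl} : Set G)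

/-- The group it generates, inside the centralizer. -/
def aSub : Subgroup H.Ca := (Subgroup.zpowers H.aEl).subgroupOf H.Ca

theorem aEl_eq : H.aEl = H.par p1T := congrArg H.par jT_gens.1

theorem mem_zp {g : G} : g ∈ Subgroup.zpowers H.aEl ↔ ∃ j : ZMod 3, g = H.emb ⟨0, j, 0, 0⟩ := by
  let L : Subgroup G :=
    { carrier := {g | ∃ j : ZMod 3, g = H.emb ⟨0, j, 0, 0⟩}
      mul_mem' := by
        rintro _ _ ⟨i, rfl⟩ ⟨j, rfl⟩
        exact ⟨i + j, by rw [← H.emb_ja]; simp [ja]⟩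
      one_mem' := ⟨0, H.emb_j0.symm⟩
      inv_mem' := by
        rintro _ ⟨i, rfl⟩
        exact ⟨-i, by rw [← H.emb_jn]; simp [jn]⟩ }
  refine ⟨fun h => (Subgroup.zpowers_le.2 (show H.aEl ∈ L from ⟨1, rfl⟩)) h, ?_⟩
  rintro ⟨j, rfl⟩
  have h3 : ∀ j : ZMod 3, j = 0 ∨ j = 1 ∨ j = -1 := by decide
  rcases h3 j with rfl | rfl | rfl
  · exact H.emb_j0.symm ▸ one_mem _
  · exact Subgroup.mem_zpowers _
  · have e : H.emb ⟨0, -1, 0, 0⟩ = H.aEl⁻¹ := by rw [aEl, ← H.emb_jn]; rfl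
    rw [e]; exact inv_mem (Subgroup.mem_zpowers _)

instance aSub_normal : H.aSub.Normal := by
  constructor
  intro n hn g
  have h : Commute (g : G) (n : G) := by
    obtain ⟨k, hk⟩ := Subgroup.mem_zpowers_iff.1 (show (n : G) ∈ Subgroup.zpowers H.aEl from hn)
    rw [← hk]
    exact (show Commute (g : G) H.aEl from Subgroup.mem_centralizer_singleton_iff.1 g.2).zpow_right k
  rw [show g * n * g⁻¹ = n from Subtype.ext (by
    show (g : G) * n * (g : G)⁻¹ = n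
    rw [h.eq, mul_inv_cancel_right])]
  exact hn

/-- The factor group. -/
abbrev XA : Type u := H.Ca ⧸ H.aSub

theorem par_mem_Ca {x : T} : H.par x ∈ H.Ca ↔ x.v.b = 0 := by
  rw [Subgroup.mem_centralizer_singleton_iff, H.aEl_eq, H.par_comm, Tb_comm]

theorem cent_za {g : G} (ha : g ∈ H.Ca) (hz : g * H.z = H.z * g) : ∃ x, x.v.b = 0 ∧ g = H.par x := by
  have hga : g * H.par p1T = H.par p1T * g := by
    rw [← H.aEl_eq]; exact Subgroup.mem_centralizer_singleton_iff.1 ha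
  obtain ⟨x, rfl | rfl⟩ := H.mem_cent.1 hz
  · exact ⟨x, H.par_mem_Ca.1 ha, rfl⟩
  · cases he : H.ext
    · rw [H.out_eq he, mul_one] at ha ⊢
      exact ⟨x, H.par_mem_Ca.1 ha, rfl⟩
    · exact absurd hga (H.not_out_fix x he)

/-- The projection of the centralizer of `z`. -/
def psi : Tb →* H.XA :=
  (QuotientGroup.mk' H.aSub).comp
    ((H.par.comp Tb.subtype).codRestrict H.Ca fun x => H.par_mem_Ca.2 (mem_Tb.1 x.2))

theorem psi_eq_iff {x y : Tb} : H.psi x = H.psi y ↔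
    (x : T).c = (y : T).c ∧ (x : T).v.m = (y : T).v.m ∧ (x : T).v.n = (y : T).v.n ∧ (x : T).g = (y : T).g := by
  show QuotientGroup.mk' H.aSub _ = QuotientGroup.mk' H.aSub _ ↔ _
  rw [QuotientGroup.mk'_eq_mk']
  have hx := mem_Tb.1 x.2
  have hy := mem_Tb.1 y.2
  constructor
  · rintro ⟨a, ha, e⟩
    obtain ⟨j, hj⟩ := H.mem_zp.1 (show (a : G) ∈ Subgroup.zpowers H.aEl from ha)
    have e' : H.par x * (a : G) = H.par y := congrArg Subtype.val e
    rw [hj, emb, ← map_mul, jT_a_mul hx] at e'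
    rw [← H.inj e']
    exact ⟨rfl, rfl, rfl, rfl⟩
  · rintro ⟨h1, h2, h3, h4⟩
    refine ⟨⟨H.emb ⟨0, (y : T).v.a - (x : T).v.a, 0, 0⟩, ?_⟩, ?_, ?_⟩
    · exact H.par_mem_Ca.2 rfl
    · exact H.mem_zp.2 ⟨_, rfl⟩
    · refine Subtype.ext ?_
      show H.par x * H.par (jT _) = H.par y
      rw [← map_mul, jT_a_mul hx]
      exact congrArg H.par (T.ext h1 (Vec.ext (by simp) hy.symm h2 h3) h4)

theorem z_mem_Ca : H.z ∈ H.Ca := (H.par_mem_Ca (x := zT)).2 rfl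

/-- The image of `z`. -/
def zA : H.XA := QuotientGroup.mk' H.aSub ⟨H.z, H.z_mem_Ca⟩

theorem zA_eq : H.psi ⟨zT, mem_Tb.2 rfl⟩ = H.zA := rfl

theorem pm_line {g : G} (hG : H.Good) (ε : Bool)
    (h : ∃ a ∈ Subgroup.zpowers H.aEl, g * H.z * g⁻¹ = cond ε H.z⁻¹ H.z * a) :
    g * H.z * g⁻¹ = cond ε H.z⁻¹ H.z := by
  obtain ⟨a, ha, e⟩ := h
  obtain ⟨j, rfl⟩ := H.mem_zp.1 ha
  have e' : cond ε H.z⁻¹ H.z * H.emb ⟨0, j, 0, 0⟩ = H.emb ⟨cond ε (-1) 1, j, 0, 0⟩ := by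
    cases ε <;> simp only [cond_true, cond_false] <;> rw [H.emb_zT] <;>
      first
      | (rw [← H.emb_jn, ← H.emb_ja]; simp [ja, jn])
      | (rw [← H.emb_ja]; simp [ja])
  rw [e'] at e
  have hq := ((hG _).1 ⟨g, Or.inl e⟩).2
  have hj : j = 0 := qJ_line _ j (by cases ε <;> simp) hq
  rw [e, hj]
  cases ε <;> simp only [cond_true, cond_false] <;> rw [H.emb_zT]
  rw [← H.emb_jn]; simp [jn]

theorem mk_conj_iff {ε : Bool} {g : H.Ca} (hG : H.Good) :
    QuotientGroup.mk' H.aSub g * H.zA * (QuotientGroup.mk' H.aSub g)⁻¹ = cond ε H.zA⁻¹ H.zA ↔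
      (g : G) * H.z * (g : G)⁻¹ = cond ε H.z⁻¹ H.z := by
  set zc : H.Ca := ⟨H.z, H.z_mem_Ca⟩
  set z' : H.Ca := cond ε zc⁻¹ zc with hz'
  have e1 : cond ε H.zA⁻¹ H.zA = QuotientGroup.mk' H.aSub z' := by
    cases ε <;> simp only [hz', cond_true, cond_false, map_inv] <;> rfl
  have e2 : (z' : G) = cond ε H.z⁻¹ H.z := by cases ε <;> rfl
  rw [e1, show H.zA = QuotientGroup.mk' H.aSub zc from rfl, ← map_mul, ← map_inv, ← map_mul,
    eq_comm, QuotientGroup.mk'_eq_mk']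
  constructor
  · rintro ⟨a, ha, e⟩
    refine H.pm_line hG ε ⟨(a : G), ha, ?_⟩
    rw [← e2]
    exact (congrArg Subtype.val e).symm
  · intro h
    exact ⟨1, one_mem _, by rw [mul_one]; exact Subtype.ext (e2.trans h.symm)⟩

theorem psi_range (hG : H.Good) : H.psi.range = Subgroup.centralizer ({H.zA} : Set H.XA) := by
  refine le_antisymm ?_ ?_
  · rintro _ ⟨x, rfl⟩
    rw [Subgroup.mem_centralizer_singleton_iff, ← H.zA_eq, ← map_mul, ← map_mul]
    exact congrArg H.psi (Subtype.ext (zT_central x))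
  · intro q hq
    obtain ⟨g, rfl⟩ := QuotientGroup.mk'_surjective H.aSub q
    rw [Subgroup.mem_centralizer_singleton_iff, ← mul_inv_eq_iff_eq_mul] at hq
    have h := (H.mk_conj_iff (ε := false) hG).1 hq
    obtain ⟨x, hx, e⟩ := H.cent_za g.2 (mul_inv_eq_iff_eq_mul.1 h)
    exact ⟨⟨x, mem_Tb.2 hx⟩, congrArg (QuotientGroup.mk' H.aSub) (Subtype.ext e.symm)⟩

/-- The conjugation moving `z` off the line, inside the centralizer of `p₁`. -/
theorem Good.exists_rot {H : Base G} [Finite G] (hG : H.Good) :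
    ∃ n : H.Ca, (n : G) * H.z * (n : G)⁻¹ = H.par (zT * m1T * m1T * (xT * xT)) := by
  obtain ⟨n, hn⟩ := hG.exists_fix [4, 2, 4, 4]
  refine ⟨⟨n, Subgroup.mem_centralizer_singleton_iff.2 ?_⟩, ?_⟩
  · have := hn ⟨0, 1, 0, 0⟩
    rw [rot_word.1] at this
    exact mul_inv_eq_iff_eq_mul.1 this
  · show n * H.z * n⁻¹ = _
    rw [H.emb_zT, hn, rot_word.2, emb, rot_split]

variable [Finite G]

theorem core_facts (hG : H.Good) :
    (∃ _ : Cfsg.IsExtraspecial 3 (Cfsg.pCore 3 (Subgroup.centralizer ({H.zA} : Set H.XA))),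
      Nat.card (Cfsg.pCore 3 (Subgroup.centralizer ({H.zA} : Set H.XA))) = 27 ∧
      ∀ r ∈ Cfsg.pCore 3 (Subgroup.centralizer ({H.zA} : Set H.XA)), r ^ 3 = 1) ∧
    Nonempty (Subgroup.centralizer ({H.zA} : Set H.XA) ⧸
      Cfsg.pCore 3 (Subgroup.centralizer ({H.zA} : Set H.XA)) ≃* Matrix.SpecialLinearGroup (Fin 2) (ZMod 3)) := by
  classical
  set C := Subgroup.centralizer ({H.zA} : Set H.XA) with hC
  let ψ : Tb →* C := H.psi.codRestrict C fun x => (H.psi_range hG).le ⟨x, rfl⟩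
  have hψ : Function.Surjective ψ := fun c => by
    obtain ⟨x, hx⟩ := (H.psi_range hG).ge c.2
    exact ⟨x, Subtype.ext hx⟩
  have hψeq : ∀ {x y : Tb}, ψ x = ψ y ↔ (x : T).c = (y : T).c ∧ (x : T).v.m = (y : T).v.m ∧
      (x : T).v.n = (y : T).v.n ∧ (x : T).g = (y : T).g := fun {x y} =>
    Subtype.ext_iff.trans H.psi_eq_iff
  let sl := slHom.comp Tb.subtype
  have hle : ψ.ker ≤ sl.ker := fun x hx => by
    rw [MonoidHom.mem_ker] at hx ⊢
    exact slHom_eq_one.2 (hψeq.1 (hx.trans (map_one ψ).symm)).2.2.2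
  let φ : C →* Matrix.SpecialLinearGroup (Fin 2) (ZMod 3) :=
    (QuotientGroup.lift ψ.ker sl hle).comp (QuotientGroup.quotientKerEquivOfSurjective ψ hψ).symm.toMonoidHom
  have hφ : ∀ x : Tb, φ (ψ x) = slHom x := fun x => by
    show QuotientGroup.lift ψ.ker sl hle ((QuotientGroup.quotientKerEquivOfSurjective ψ hψ).symm (ψ x)) = _
    rw [show (QuotientGroup.quotientKerEquivOfSurjective ψ hψ).symm (ψ x) = QuotientGroup.mk x from
      (MulEquiv.symm_apply_eq _).2 rfl]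
    rfl
  have hφs : Function.Surjective φ := fun M => by
    obtain ⟨g, hg⟩ := slHom_surj M
    exact ⟨ψ ⟨⟨0, v0, g⟩, mem_Tb.2 rfl⟩, (hφ _).trans hg⟩
  let e27 : ZMod 3 × ZMod 3 × ZMod 3 → φ.ker := fun p =>
    ⟨ψ ⟨qT p.1 ⟨0, 0, p.2.1, p.2.2⟩, mem_Tb.2 rfl⟩, (hφ _).trans (slHom_eq_one.2 rfl)⟩
  have he : Function.Bijective e27 := by
    refine ⟨fun p q h => ?_, fun r => ?_⟩
    · obtain ⟨h1, h2, h3, -⟩ := hψeq.1 (congrArg Subtype.val h)
      exact Prod.ext h1 (Prod.ext h2 h3)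
    · obtain ⟨r, hr⟩ := r
      obtain ⟨x, rfl⟩ := hψ r
      rw [MonoidHom.mem_ker, hφ, slHom_eq_one] at hr
      exact ⟨((x : T).c, (x : T).v.m, (x : T).v.n), Subtype.ext (hψeq.2 ⟨rfl, rfl, rfl, hr.symm⟩)⟩
  have hcard : Nat.card φ.ker = 27 := by
    rw [← Nat.card_congr (Equiv.ofBijective e27 he)]; simp
  have hp : IsPGroup 3 φ.ker := IsPGroup.of_card (n := 3) hcard
  have hcube : ∀ r : C, r ∈ φ.ker → r ^ 3 = 1 := fun r hr => by
    obtain ⟨x, rfl⟩ := hψ r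
    rw [MonoidHom.mem_ker, hφ, slHom_eq_one] at hr
    rw [← map_pow, show x ^ 3 = 1 from Subtype.ext (cube_q hr), map_one]
  have hcore : Cfsg.pCore 3 C = φ.ker := by
    refine le_antisymm (fun r hr => ?_) (Solvable.le_pCore 3 inferInstance hp)
    have hn : (Cfsg.pCore 3 C).Normal := (Solvable.pCore_spec 3).1
    have := three_core_sl (hn.map φ hφs) ((Solvable.isPGroup_pCore 3).map φ)
    exact MonoidHom.mem_ker.2 ((Subgroup.eq_bot_iff_forall _).1 this _ ⟨r, hr, rfl⟩)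
  refine ⟨?_, ⟨(QuotientGroup.quotientMulEquivOfEq hcore).trans (QuotientGroup.quotientKerEquivOfSurjective φ hφs)⟩⟩
  rw [hcore]
  refine ⟨?_, hcard, hcube⟩
  let z₀ : φ.ker := e27 (1, 0, 0)
  have hline : ∀ r : φ.ker, ∀ p, e27 p = r → p.2.1 = 0 → p.2.2 = 0 → r ∈ Subgroup.zpowers z₀ := by
    rintro r ⟨c, m, n⟩ rfl hm hn
    dsimp only at hm hn
    subst hm hn
    have hadd : ∀ c : ZMod 3, e27 (c + 1, 0, 0) = e27 (c, 0, 0) * z₀ := fun c => Subtype.ext (by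
      show ψ _ = ψ _ * ψ _
      rw [← map_mul]
      refine congrArg ψ (Subtype.ext ?_)
      show qT (c + 1) ⟨0, 0, 0, 0⟩ = qT c ⟨0, 0, 0, 0⟩ * qT 1 ⟨0, 0, 0, 0⟩
      revert c; decide +kernel)
    have h1 : z₀ ∈ Subgroup.zpowers z₀ := Subgroup.mem_zpowers z₀
    have h2 : e27 (2, 0, 0) ∈ Subgroup.zpowers z₀ := by
      rw [show (2 : ZMod 3) = 1 + 1 from rfl, hadd]; exact mul_mem h1 h1
    have h0 : e27 (0, 0, 0) ∈ Subgroup.zpowers z₀ := by
      have h := hadd 2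
      rw [show (2 : ZMod 3) + 1 = 0 from rfl] at h
      rw [h]; exact mul_mem h2 h1
    have h3 : ∀ c : ZMod 3, c = 0 ∨ c = 1 ∨ c = 2 := by decide
    rcases h3 c with rfl | rfl | rfl
    exacts [h0, h1, h2]
  have hrep : ∀ r : φ.ker, ∃ x : Tb, (x : T).g = 0 ∧ ψ x = (r : C) ∧
      e27 ((x : T).c, (x : T).v.m, (x : T).v.n) = r := fun r => by
    obtain ⟨x, hx⟩ := hψ (r : C)
    have hg : (x : T).g = 0 := slHom_eq_one.1 (by rw [← hφ, hx]; exact r.2)
    refine ⟨x, hg, hx, Subtype.ext ?_⟩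
    show ψ _ = _
    rw [← hx]
    exact hψeq.2 ⟨rfl, rfl, rfl, hg.symm⟩
  have hz3 : orderOf z₀ = 3 := orderOf_eq_prime (Subtype.ext (hcube _ z₀.2)) fun e => by
    have h0 : z₀ = e27 (0, 0, 0) := by
      rw [e]
      refine Subtype.ext ?_
      show (1 : C) = ψ _
      rw [← map_one ψ]
      exact congrArg ψ (Subtype.ext qT_zero.2.2.symm)
    exact absurd (congrArg Prod.fst (he.1 h0)) (show (1 : ZMod 3) ≠ 0 by decide)
  refine Cfsg.Agent.CyclicNormal.isExtraspecial_of hp hz3 (fun r hr => ?_) ?_ (fun a b => ?_)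
    (fun a => ?_) ?_
  · obtain ⟨x, hx, hxr, hxe⟩ := hrep r
    have hd : ∀ s : ZMod 3, -s = s → s = 0 := by decide
    have key : ∀ m n : ZMod 3, ((x : T) * qT 0 ⟨0, 0, m, n⟩).c = (qT 0 ⟨0, 0, m, n⟩ * (x : T)).c := by
      intro m n
      have h := congrArg Subtype.val (Subgroup.mem_center_iff.1 hr (e27 (0, m, n)))
      simp only [Subgroup.coe_mul, e27, ← hxr, ← map_mul] at h
      exact (hψeq.1 h).1.symm
    have hm := key 1 0
    have hn := key 0 1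
    simp [mul_def, tm, qT, hx, act_zero, bet] at hm hn
    exact hline r _ hxe (hd _ hn) (hd _ hm.symm)
  · refine Subgroup.mem_center_iff.2 fun r => Subtype.ext ?_
    obtain ⟨x, -, hxr, -⟩ := hrep r
    simp only [Subgroup.coe_mul, ← hxr, z₀, e27, ← map_mul]
    refine congrArg ψ (Subtype.ext ?_)
    show (x : T) * qT 1 v0 = qT 1 v0 * x
    rw [qT_zero.1]
    exact zT_central _
  · obtain ⟨x, hx, hxr, -⟩ := hrep a
    obtain ⟨y, hy, hyr, -⟩ := hrep b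
    refine hline _ ((((x * y * x⁻¹ * y⁻¹ : Tb) : T)).c, 0, 0) (Subtype.ext ?_) rfl rfl
    simp only [Subgroup.coe_mul, Subgroup.coe_inv, e27, ← hxr, ← hyr, ← map_mul, ← map_inv]
    refine hψeq.2 ⟨rfl, ?_, ?_, ?_⟩ <;>
      simp [mul_v, mul_g, inv_v, hx, hy, act_zero, va, vn, qT,
        (PSpFourInvol.sm_one _).1]
  · exact (show a ^ 3 = 1 from Subtype.ext (hcube _ a.2)) ▸ one_mem _
  · refine ⟨e27 (0, 1, 0), e27 (0, 0, 1), fun h => ?_⟩
    have h' := congrArg Subtype.val h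
    simp only [Subgroup.coe_mul, e27, ← map_mul] at h'
    exact absurd (hψeq.1 h').1 (show (qT 0 ⟨0, 0, 1, 0⟩ * qT 0 ⟨0, 0, 0, 1⟩).c ≠
      (qT 0 ⟨0, 0, 0, 1⟩ * qT 0 ⟨0, 0, 1, 0⟩).c by decide +kernel)

/-- The image of `J`. -/
def JA : Subgroup H.XA := (H.J.subgroupOf H.Ca).map (QuotientGroup.mk' H.aSub)

theorem JA_le : H.JA ≤ Subgroup.centralizer ({H.zA} : Set H.XA) := by
  rintro _ ⟨g, hg, rfl⟩
  obtain ⟨v, hv⟩ := H.mem_J.1 (show (g : G) ∈ H.J from hg)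
  rw [Subgroup.mem_centralizer_singleton_iff, zA, ← map_mul, ← map_mul]
  refine congrArg _ (Subtype.ext ?_)
  show (g : G) * H.z = H.z * g
  rw [← hv, H.emb_zT]; exact H.emb_comm _ _

theorem JA_card : Nat.card H.JA = 27 := by
  classical
  have hb : ∀ v, (jT v) ∈ Tb := fun v => mem_Tb.2 rfl
  let e : ZMod 3 × ZMod 3 × ZMod 3 → H.JA := fun p =>
    ⟨H.psi ⟨jT ⟨p.1, 0, p.2.1, p.2.2⟩, hb _⟩, _, H.mem_J.2 ⟨_, rfl⟩, rfl⟩
  have he : Function.Bijective e := by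
    refine ⟨fun p q h => ?_, ?_⟩
    · obtain ⟨h1, h2, -, h4⟩ := H.psi_eq_iff.1 (congrArg Subtype.val h)
      have hk : ∀ k l, xpow k = xpow l → k = l := by decide +kernel
      exact Prod.ext h1 (Prod.ext h2 (hk _ _ h4))
    · rintro ⟨_, g, hg, rfl⟩
      obtain ⟨v, hv⟩ := H.mem_J.1 (show (g : G) ∈ H.J from hg)
      refine ⟨(v.c, v.b, v.k), Subtype.ext ?_⟩
      show H.psi _ = QuotientGroup.mk' H.aSub g
      rw [show g = ⟨H.par (jT v), H.par_mem_Ca.2 rfl⟩ from Subtype.ext hv.symm]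
      show H.psi _ = H.psi ⟨jT v, hb v⟩
      exact H.psi_eq_iff.2 ⟨rfl, rfl, rfl, rfl⟩
  rw [← Nat.card_congr (Equiv.ofBijective e he)]; simp

theorem JA_comm : IsMulCommutative H.JA := ⟨⟨by
  rintro ⟨_, x, hx, rfl⟩ ⟨_, y, hy, rfl⟩
  refine Subtype.ext ?_
  show QuotientGroup.mk' H.aSub x * QuotientGroup.mk' H.aSub y =
    QuotientGroup.mk' H.aSub y * QuotientGroup.mk' H.aSub x
  rw [← map_mul, ← map_mul]
  obtain ⟨v, hv⟩ := H.mem_J.1 (show (x : G) ∈ H.J from hx)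
  obtain ⟨w, hw⟩ := H.mem_J.1 (show (y : G) ∈ H.J from hy)
  refine congrArg _ (Subtype.ext ?_)
  show (x : G) * y = y * x
  rw [← hv, ← hw]; exact H.emb_comm _ _⟩⟩

theorem JA_exp : ∀ j ∈ H.JA, j ^ 3 = 1 := by
  rintro _ ⟨x, hx, rfl⟩
  rw [← map_pow, show x ^ 3 = 1 from Subtype.ext (H.J_cube hx), map_one]

theorem card_aSub : Nat.card H.aSub = 3 := by
  rw [aSub, Nat.card_congr (Subgroup.subgroupOfEquivOfLe (Subgroup.zpowers_le.2
    (Subgroup.mem_centralizer_singleton_iff.2 rfl))).toEquiv, Nat.card_zpowers]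
  refine orderOf_eq_prime (H.J_cube (H.mem_J.2 ⟨_, rfl⟩)) fun e => ?_
  rw [aEl, ← H.emb_j0] at e
  exact absurd (congrArg JV.a (H.emb_inj e)) (show (1 : ZMod 3) ≠ 0 by decide)

theorem JA_signalizer (hG : H.Good) (K : Subgroup H.XA) (hK : (Nat.card K).Coprime 3)
    (hn : ∀ j ∈ H.JA, K.map (MulAut.conj j).toMonoidHom = K) : K = ⊥ := by
  set π := QuotientGroup.mk' H.aSub with hπ
  set K' := K.comap π with hK'
  have hAK : H.aSub ≤ K' := fun a ha => by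
    rw [hK', Subgroup.mem_comap, hπ, QuotientGroup.mk'_apply, (QuotientGroup.eq_one_iff a).2 ha]
    exact one_mem K
  set N := H.aSub.subgroupOf K'
  have hNcard : Nat.card N = 3 := by
    rw [Nat.card_congr (Subgroup.subgroupOfEquivOfLe hAK).toEquiv, H.card_aSub]
  have hKcard : Nat.card K' = 3 * Nat.card K := by
    rw [← H.card_aSub]
    exact CfsgLib.O8Three.card_comap_mk' H.aSub K
  have hidx : N.index = Nat.card K := by
    have := N.card_mul_index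
    rw [hNcard, hKcard] at this
    omega
  obtain ⟨L, hL⟩ := Subgroup.exists_right_complement'_of_coprime (N := N)
    (by rw [hNcard, hidx]; exact hK.symm)
  have hLcard : Nat.card L = Nat.card K := hL.symm.index_eq_card.symm.trans hidx
  have hLset : ∀ x : K', x ^ Nat.card K = 1 → x ∈ L := by
    intro x hx
    obtain ⟨⟨a, l⟩, e⟩ := hL.2 x
    dsimp only at e
    have hc : Commute (a : K') l := by
      refine Subtype.ext (Subtype.ext ?_)
      show ((a : K') : H.Ca) * (((l : K') : H.Ca) : G) = (((l : K') : H.Ca) : G) * ((a : K') : H.Ca)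
      obtain ⟨k, hk⟩ := Subgroup.mem_zpowers_iff.1
        (show ((((a : N) : K') : H.Ca) : G) ∈ Subgroup.zpowers H.aEl from a.2)
      rw [← hk]
      exact ((show Commute _ H.aEl from
        Subgroup.mem_centralizer_singleton_iff.1 (l : K').1.2).zpow_right k).symm.eq
    have hl1 : (l : K') ^ Nat.card K = 1 := by
      rw [← hLcard]; exact congrArg Subtype.val (pow_card_eq_one' (x := l))
    rw [← e, hc.mul_pow, hl1, mul_one] at hx
    have h3 : (a : K') ^ 3 = 1 := by rw [← hNcard]; exact congrArg Subtype.val (pow_card_eq_one' (x := a))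
    have ha1 : (a : K') = 1 := by
      have := pow_gcd_eq_one.2 ⟨hx, h3⟩
      rwa [hK.gcd_eq_one, pow_one] at this
    rw [← e, ha1, one_mul]
    exact l.2
  set ι : K' →* G := H.Ca.subtype.comp K'.subtype
  have hιinj : Function.Injective ι := H.Ca.subtype_injective.comp K'.subtype_injective
  have hM : L.map ι = ⊥ := by
    refine hG.signalizer_free _ (by rw [Subgroup.card_map_of_injective hιinj, hLcard]; exact hK) ?_
    rintro v _ ⟨l, hl, rfl⟩
    let j : H.Ca := ⟨H.par (jT v), H.par_mem_Ca.2 rfl⟩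
    have hjJ : π j ∈ H.JA := ⟨j, H.mem_J.2 ⟨v, rfl⟩, rfl⟩
    have hmem : j * (l : H.Ca) * j⁻¹ ∈ K' := by
      show π (j * (l : H.Ca) * j⁻¹) ∈ K
      rw [map_mul, map_mul, map_inv, ← hn _ hjJ]
      exact ⟨_, (show π (l : H.Ca) ∈ K from l.2), rfl⟩
    refine ⟨⟨_, hmem⟩, hLset _ (Subtype.ext ?_), rfl⟩
    have hl1 : l ^ Nat.card K = 1 := by
      rw [← hLcard]; exact congrArg Subtype.val (pow_card_eq_one' (x := (⟨l, hl⟩ : L)))
    show (j * (l : H.Ca) * j⁻¹) ^ Nat.card K = 1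
    rw [conj_pow, ← SubgroupClass.coe_pow, hl1]
    simp
  rw [Subgroup.map_eq_bot_iff_of_injective _ hιinj] at hM
  rw [← Subgroup.card_eq_one, ← hLcard, hM, Subgroup.card_bot]

theorem not_real (hG : H.Good) (he : H.ext = false) (q : H.XA) : q * H.zA * q⁻¹ ≠ H.zA⁻¹ := by
  intro hq
  obtain ⟨g, rfl⟩ := QuotientGroup.mk'_surjective H.aSub q
  have h := (H.mk_conj_iff (ε := true) hG).1 hq
  simp only [cond_true] at h
  obtain ⟨i, hi⟩ := hG.exists_fix [4, 0, 4, 3, 0]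
  have hineg : ∀ v, i * H.emb v * i⁻¹ = H.emb (jn v) := fun v => by rw [hi, neg_word]
  have hiz : i * H.z * i⁻¹ = H.z⁻¹ := by rw [H.emb_zT, hineg, H.emb_jn]
  have hc : i⁻¹ * (g : G) * H.z = H.z * (i⁻¹ * (g : G)) := by
    calc i⁻¹ * (g : G) * H.z = i⁻¹ * ((g : G) * H.z * (g : G)⁻¹) * g := by group
      _ = i⁻¹ * (i * H.z * i⁻¹) * g := by rw [h, hiz]
      _ = _ := by group
  obtain ⟨x, hx⟩ := H.mem_cent.1 hc
  rw [H.out_eq he, mul_one, or_self] at hx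
  refine not_inverted x (H.inj ?_)
  have ha : (g : G) * H.aEl = H.aEl * g := Subgroup.mem_centralizer_singleton_iff.1 g.2
  have hia : i⁻¹ * H.aEl * i = H.aEl⁻¹ := by
    rw [aEl, ← H.emb_jn]
    have := hineg (jn ⟨0, 1, 0, 0⟩)
    rw [show jn (jn ⟨0, 1, 0, 0⟩) = (⟨0, 1, 0, 0⟩ : JV) by decide] at this
    rw [← this]; group
  rw [map_mul, map_mul, map_inv, ← H.aEl_eq, ← hx, ← hia]
  calc i⁻¹ * (g : G) * H.aEl = i⁻¹ * ((g : G) * H.aEl) := mul_assoc _ _ _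
    _ = i⁻¹ * (H.aEl * g) := by rw [ha]
    _ = _ := by group

theorem real (hG : H.Good) (he : H.ext = true) : ∃ q : H.XA, q * H.zA * q⁻¹ = H.zA⁻¹ := by
  obtain ⟨i, hi⟩ := hG.exists_fix [4, 0, 4, 3, 0]
  have hineg : ∀ v, i * H.emb v * i⁻¹ = H.emb (jn v) := fun v => by rw [hi, neg_word]
  have ho : H.out * H.aEl * H.out = H.aEl⁻¹ := by
    rw [H.aEl_eq, H.out_act, he, ← map_inv]
    exact congrArg H.par (by decide +kernel)
  have hoi : H.out⁻¹ = H.out := inv_eq_of_mul_eq_one_right H.out_sq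
  have hmem : i * H.out ∈ H.Ca := by
    rw [Subgroup.mem_centralizer_singleton_iff, ← mul_inv_eq_iff_eq_mul]
    calc i * H.out * H.aEl * (i * H.out)⁻¹ = i * (H.out * H.aEl * H.out⁻¹) * i⁻¹ := by group
      _ = (i * H.aEl * i⁻¹)⁻¹ := by rw [hoi, ho]; group
      _ = H.aEl := by rw [aEl, hineg, H.emb_jn, inv_inv]
  refine ⟨QuotientGroup.mk' H.aSub ⟨_, hmem⟩, ?_⟩
  have := (H.mk_conj_iff (ε := true) (g := ⟨_, hmem⟩) hG).2 ?_
  · simpa using this
  show i * H.out * H.z * (i * H.out)⁻¹ = H.z⁻¹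
  calc i * H.out * H.z * (i * H.out)⁻¹ = i * (H.out * H.z) * H.out⁻¹ * i⁻¹ := by group
    _ = i * H.z * i⁻¹ := by rw [H.out_z]; group
    _ = _ := by rw [H.emb_zT, hineg, H.emb_jn]

theorem zA_three : orderOf H.zA = 3 := by
  rw [← H.zA_eq]
  refine orderOf_eq_prime ?_ fun e => ?_
  · rw [← map_pow, show (⟨zT, mem_Tb.2 rfl⟩ : Tb) ^ 3 = 1 from Subtype.ext (cube_q rfl), map_one]
  · exact absurd (H.psi_eq_iff.1 (e.trans (map_one H.psi).symm)).1 (show (1 : ZMod 3) ≠ 0 by decide)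

theorem zA_not_normal (hG : H.Good) :
    Subgroup.normalizer (Subgroup.zpowers H.zA : Set H.XA) ≠ ⊤ := by
  intro htop
  obtain ⟨n, hn⟩ := hG.exists_rot
  set N := H.psi.comp (MonoidHom.id Tb)
  have h1 : QuotientGroup.mk' H.aSub n * H.zA * (QuotientGroup.mk' H.aSub n)⁻¹ ∈ Subgroup.zpowers H.zA :=
    (Subgroup.mem_normalizer_iff.1 (htop ▸ Subgroup.mem_top _) _).1 (Subgroup.mem_zpowers _)
  let L : Subgroup Tb :=
    { carrier := {x | (x : T).g = 0}
      mul_mem' := fun {a b} ha hb => g_zero_mul ha hb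
      one_mem' := rfl
      inv_mem' := fun {a} ha => (inv_v ha).2 }
  obtain ⟨x, hx, e⟩ : QuotientGroup.mk' H.aSub n * H.zA * (QuotientGroup.mk' H.aSub n)⁻¹ ∈ L.map H.psi := by
    refine Subgroup.zpowers_le.2 ?_ h1
    exact ⟨⟨zT, mem_Tb.2 rfl⟩, (show zT.g = 0 from rfl), H.zA_eq⟩
  rw [zA, ← map_mul, ← map_inv, ← map_mul] at e
  have e' : n * ⟨H.z, H.z_mem_Ca⟩ * n⁻¹ = ⟨H.par (zT * m1T * m1T * (xT * xT)),
      H.par_mem_Ca.2 (by decide +kernel)⟩ := Subtype.ext hn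
  rw [e'] at e
  have hg := (H.psi_eq_iff (y := ⟨zT * m1T * m1T * (xT * xT), mem_Tb.2 (by decide +kernel)⟩)).1 e
  rw [show (x : T).g = 0 from hx] at hg
  exact absurd hg.2.2.2 (show (0 : S) ≠ (zT * m1T * m1T * (xT * xT)).g by decide +kernel)

theorem centre_SS {g : G} (hg : g ∈ H.SS) (h : ∀ s ∈ H.SS, s * g = g * s) :
    g = 1 ∨ g = H.z ∨ g = H.z⁻¹ := by
  obtain ⟨x, hx, rfl⟩ := hg
  have hq : ∀ w, x * qT 0 w = qT 0 w * x := fun w =>
    H.par_comm.1 (h _ ⟨qT 0 w, (show inS (qT 0 w) = true from rfl), rfl⟩).symm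
  have hg : x.g = 0 := centre_S _ (mem_Ssub.1 hx) (va_cancel (comm_vec (q := qT 0 ⟨0, 1, 0, 0⟩) rfl (hq _)))
  have hv : x.v = v0 := by
    by_contra hv
    obtain ⟨w, hw⟩ := bet_nondeg x.v hv
    exact hw ((qq_comm (y := qT 0 w) hg rfl).1 (hq w))
  have h3 : ∀ r : ZMod 3, r = 0 ∨ r = 1 ∨ r = 2 := by decide
  rw [show x = qT x.c v0 from T.ext rfl hv hg]
  rcases h3 x.c with e | e | e <;> rw [e]
  · exact Or.inl (by rw [qT_zero.2.2, map_one])
  · exact Or.inr (Or.inl (by rw [qT_zero.1]; rfl))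
  · exact Or.inr (Or.inr (by rw [show qT 2 v0 = zT⁻¹ by decide +kernel, map_inv]; rfl))

theorem not_six (hG : H.Good) : ¬ 3 ^ 6 ∣ Nat.card H.Ca := by
  classical
  intro h6
  obtain ⟨P, hP⟩ := H.exists_sylow
  obtain ⟨K, hK⟩ := Sylow.exists_subgroup_card_pow_prime 3 h6
  set K' := K.map H.Ca.subtype with hK'
  have hK'c : Nat.card K' = 3 ^ 6 := by rw [Subgroup.card_map_of_injective H.Ca.subtype_injective, hK]
  obtain ⟨P', hP'⟩ := (IsPGroup.of_card hK'c).exists_le_sylow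
  have hP'e : K' = P' := Subgroup.eq_of_le_of_card_ge hP' (le_of_eq (by
    rw [hK'c, P'.card_eq_multiplicity, ← P.card_eq_multiplicity, hP, H.card_SS]; norm_num))
  obtain ⟨g, hg⟩ := MulAction.exists_smul_eq G P' P
  have hconj : ∀ y, y ∈ H.SS ↔ g⁻¹ * y * g ∈ K' := fun y => by
    rw [← hP, ← hg, hP'e, Sylow.coe_subgroup_smul, Subgroup.mem_pointwise_smul_iff_inv_smul_mem]
    simp
  have hK'C : ∀ k ∈ K', k * H.aEl = H.aEl * k := by
    rintro _ ⟨k, -, rfl⟩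
    exact Subgroup.mem_centralizer_singleton_iff.1 k.2
  have haK : H.aEl ∈ K' := by
    rw [hP'e]
    have hn : Subgroup.zpowers H.aEl ≤ Subgroup.normalizer ((P' : Subgroup G) : Set G) := by
      rw [Subgroup.zpowers_le, ← hP'e, Subgroup.mem_normalizer_iff]
      intro k
      refine ⟨fun hk => ?_, fun hk => ?_⟩
      · rwa [← hK'C k hk, mul_inv_cancel_right]
      · have h := hK'C _ hk
        rw [show H.aEl * k * H.aEl⁻¹ * H.aEl = H.aEl * k by group, mul_right_inj] at h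
        rwa [← h] at hk
    have hp : IsPGroup 3 (Subgroup.zpowers H.aEl) := by
      refine IsPGroup.of_card (n := 1) ?_
      rw [pow_one, Nat.card_zpowers]
      exact orderOf_eq_prime (H.J_cube (H.mem_J.2 ⟨_, rfl⟩)) fun e => by
        rw [aEl, ← H.emb_j0] at e
        exact absurd (congrArg JV.a (H.emb_inj e)) (show (1 : ZMod 3) ≠ 0 by decide)
    exact (P'.3 (hp.to_sup_of_normal_right' P'.2 hn) le_sup_right) ▸
      Subgroup.mem_sup_left (Subgroup.mem_zpowers _)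
  have hmem : g * H.aEl * g⁻¹ ∈ H.SS := (hconj _).2 (by
    rw [show g⁻¹ * (g * H.aEl * g⁻¹) * g = H.aEl by group]; exact haK)
  have hz : ∀ e : G, g * H.aEl * g⁻¹ = e → (e = H.z ∨ e = H.z⁻¹) → False := by
    intro e he hez
    refine absurd ((hG ⟨0, 1, 0, 0⟩).1 ⟨g⁻¹, ?_⟩).2 (show qJ ⟨0, 1, 0, 0⟩ ≠ 0 by decide)
    rw [inv_inv]
    show g⁻¹ * H.z * g = H.aEl ∨ g⁻¹ * H.z * g = H.aEl⁻¹
    rcases hez with rfl | rfl
    · exact Or.inl (by rw [← he]; group)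
    · exact Or.inr (by rw [show H.z = H.z⁻¹⁻¹ from (inv_inv _).symm, ← he]; group)
  rcases H.centre_SS hmem (fun s hs => by
    have := hK'C _ ((hconj s).1 hs)
    calc s * (g * H.aEl * g⁻¹) = g * (g⁻¹ * s * g * H.aEl) * g⁻¹ := by group
      _ = g * (H.aEl * (g⁻¹ * s * g)) * g⁻¹ := by rw [this]
      _ = _ := by group) with e | e | e
  · rw [conj_eq_one_iff, aEl, ← H.emb_j0] at e
    exact absurd (congrArg JV.a (H.emb_inj e)) (show (1 : ZMod 3) ≠ 0 by decide)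
  · exact hz _ e (Or.inl rfl)
  · exact hz _ e (Or.inr rfl)

theorem no_index_three (hG : H.Good) : ¬ ∃ N : Subgroup H.XA, N.Normal ∧ N.index = 3 := by
  classical
  rintro ⟨N, hN, hidx⟩
  have hcard : Nat.card (H.XA ⧸ N) = 3 := hidx
  haveI : IsCyclic (H.XA ⧸ N) := isCyclic_of_prime_card hcard
  letI : CommGroup (H.XA ⧸ N) := IsCyclic.commGroup
  let V : H.Ca →* H.XA ⧸ N := (QuotientGroup.mk' N).comp (QuotientGroup.mk' H.aSub)
  let W : Tb →* H.XA ⧸ N := (QuotientGroup.mk' N).comp H.psi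
  have h3 : ∀ y : H.XA ⧸ N, y ^ 3 = 1 := fun y => by rw [← hcard]; exact pow_card_eq_one'
  have hfour : ∀ y : H.XA ⧸ N, y ^ 4 = 1 → y = 1 := fun y h => by
    rwa [pow_succ, h3, one_mul] at h
  have hinv : ∀ y : H.XA ⧸ N, y⁻¹ = y → y = 1 := fun y h => by
    have h2 : y * y = 1 := by nth_rw 1 [← h]; exact inv_mul_cancel y
    have := h3 y
    rwa [pow_succ, pow_two, h2, one_mul] at this
  have hm : ∀ v : Vec, ∀ hv : qT 0 v ∈ Tb, tT * qT 0 v * tT⁻¹ = (qT 0 v)⁻¹ → W ⟨_, hv⟩ = 1 := by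
    intro v hv e
    refine hinv _ ?_
    have e' : (⟨tT, mem_Tb.2 rfl⟩ : Tb) * ⟨_, hv⟩ * (⟨tT, mem_Tb.2 rfl⟩ : Tb)⁻¹ = (⟨_, hv⟩ : Tb)⁻¹ :=
      Subtype.ext e
    rw [← map_inv, ← e', map_mul, map_mul, map_inv, mul_comm (W ⟨tT, _⟩), mul_inv_cancel_right]
  set m1 : Tb := ⟨m1T, mem_Tb.2 rfl⟩
  set m2 : Tb := ⟨m2T, mem_Tb.2 rfl⟩
  set zz : Tb := ⟨zT, mem_Tb.2 rfl⟩
  set xx : Tb := ⟨xT, mem_Tb.2 rfl⟩
  have hm1 : W m1 = 1 := hm _ _ (by decide +kernel)
  have hm2 : W m2 = 1 := hm _ _ (by decide +kernel)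
  have hzz : W zz = 1 := by
    have e : m1 * m2 = zz * (m2 * m1) := Subtype.ext (show m1T * m2T = zT * (m2T * m1T) by decide +kernel)
    have := congrArg W e
    rw [map_mul, map_mul, map_mul, hm1, hm2, mul_one, mul_one] at this
    exact this.symm
  have hxx : W xx = 1 := by
    obtain ⟨n, hn⟩ := hG.exists_rot
    have e : n * ⟨H.z, H.z_mem_Ca⟩ * n⁻¹ = ⟨H.par ((zz * m1 * m1 * (xx * xx) : Tb) : T),
        H.par_mem_Ca.2 (mem_Tb.1 (Subtype.prop _))⟩ := Subtype.ext hn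
    have h1 := congrArg V e
    change V _ = W (zz * m1 * m1 * (xx * xx)) at h1
    rw [map_mul, map_mul, map_inv, show V ⟨H.z, H.z_mem_Ca⟩ = W zz from rfl, hzz, mul_one, mul_inv_cancel,
      map_mul, map_mul, map_mul, map_mul, hzz, hm1, one_mul, one_mul, one_mul] at h1
    have := h3 (W xx)
    rwa [pow_succ, pow_two, ← h1, one_mul] at this
  have hL : ∀ s : S, W ⟨⟨0, v0, s⟩, mem_Tb.2 rfl⟩ = 1 := by
    have hmul : ∀ a b : S, W ⟨⟨0, v0, sm a b⟩, mem_Tb.2 rfl⟩ =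
        W ⟨⟨0, v0, a⟩, mem_Tb.2 rfl⟩ * W ⟨⟨0, v0, b⟩, mem_Tb.2 rfl⟩ := fun a b => by
      rw [← map_mul]
      exact congrArg W (Subtype.ext (L_mul a b).symm)
    have h0 : W ⟨⟨0, v0, 0⟩, mem_Tb.2 rfl⟩ = 1 := map_one W
    intro s
    obtain ⟨a, b, e, ha, hb⟩ := S_factor s
    have h1 : W ⟨⟨0, v0, a⟩, mem_Tb.2 rfl⟩ = 1 := hfour _ (by
      rw [show (4 : ℕ) = 2 + 2 from rfl, pow_add, pow_two, ← hmul, ← hmul]
      simp only [ha]; exact h0)
    have h2 : W ⟨⟨0, v0, b⟩, mem_Tb.2 rfl⟩ = 1 := by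
      by_cases hb0 : b = 0
      · subst hb0; exact h0
      obtain ⟨h, hh⟩ := to_transvection b hb hb0
      have hx : ∀ c : S, c = 10 ∨ c = 13 → W ⟨⟨0, v0, c⟩, mem_Tb.2 rfl⟩ = 1 := by
        rintro c (rfl | rfl)
        · exact hxx
        · rw [show (13 : S) = sm 10 10 by decide]
          rw [hmul]
          exact (congrArg₂ (· * ·) hxx hxx).trans (one_mul 1)
      have := hx _ hh
      rw [hmul, hmul, mul_comm (W ⟨⟨0, v0, h⟩, _⟩), mul_assoc, ← hmul] at this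
      have hsi : sm h (si h) = 0 := (show ∀ a : S, sm a (si a) = 0 by decide +kernel) h
      simp only [hsi] at this
      rwa [h0, mul_one] at this
    simp only [← e]
    rw [hmul, h1, h2, one_mul]
  have hker : ∀ x : Tb, W x = 1 := by
    intro x
    have hsplit : H.psi x = H.psi (⟨qT (x : T).c ⟨0, 0, (x : T).v.m, (x : T).v.n⟩, mem_Tb.2 rfl⟩ *
        ⟨⟨0, v0, (x : T).g⟩, mem_Tb.2 rfl⟩) := by
      refine H.psi_eq_iff.2 ⟨?_, ?_, ?_, ?_⟩ <;>
        simp [qT, mul_def, tm, bet, v0, va, (PSpFourInvol.sm_one _).1, act_zero]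
    have : W x = W (⟨qT (x : T).c ⟨0, 0, (x : T).v.m, (x : T).v.n⟩, mem_Tb.2 rfl⟩ *
        ⟨⟨0, v0, (x : T).g⟩, mem_Tb.2 rfl⟩) := congrArg (QuotientGroup.mk' N) hsplit
    rw [this, map_mul, hL, mul_one]
    obtain ⟨i, j, k, e⟩ := q_word (x : T).c (x : T).v.m (x : T).v.n
    rw [show (⟨qT (x : T).c ⟨0, 0, (x : T).v.m, (x : T).v.n⟩, mem_Tb.2 rfl⟩ : Tb) =
      zz ^ i.1 * m1 ^ j.1 * m2 ^ k.1 from Subtype.ext e, map_mul, map_mul, map_pow, map_pow, map_pow,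
      hzz, hm1, hm2, one_pow, one_pow, one_pow, one_mul, one_mul]
  refine H.not_six hG ?_
  have hVs : Function.Surjective V :=
    (QuotientGroup.mk'_surjective N).comp (QuotientGroup.mk'_surjective H.aSub)
  have hVc : Nat.card H.Ca = Nat.card V.ker * 3 := by
    rw [← hcard, ← Subgroup.card_top (G := H.XA ⧸ N), ← MonoidHom.range_eq_top.2 hVs,
      ← Subgroup.index_ker, Subgroup.card_mul_index]
  let ρ : Tb →* V.ker :=
    (((H.par.comp Tb.subtype).codRestrict H.Ca fun x => H.par_mem_Ca.2 (mem_Tb.1 x.2))).codRestrict V.ker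
      fun x => hker x
  have hρ : Function.Injective ρ := fun x y h =>
    Subtype.ext (H.inj (congrArg (fun w : V.ker => ((w : H.Ca) : G)) h))
  have hTb : Nat.card Tb = 1944 := by
    have h := Subgroup.card_mul_index bHom.ker
    have hr : bHom.range = ⊤ := MonoidHom.range_eq_top.2 fun r =>
      ⟨qT 0 ⟨0, Multiplicative.toAdd r, 0, 0⟩, rfl⟩
    rw [Subgroup.index_ker, hr, Subgroup.card_top, card_T] at h
    rw [Nat.card_eq_fintype_card (α := Multiplicative (ZMod 3)), Fintype.card_multiplicative, ZMod.card] at h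
    show Nat.card bHom.ker = 1944
    omega
  have hd : 1944 ∣ Nat.card V.ker := hTb ▸ Subgroup.card_dvd_of_injective ρ hρ
  rw [hVc]
  exact (show 3 ^ 6 ∣ 1944 * 3 by norm_num).trans (Nat.mul_dvd_mul_right hd 3)

/-- The hypothesis standing for the recognition of `PSp₄(3)` from the centralizer of an element of order three. -/
def RecogPSp (G : Type u) [Group G] [Finite G] (F : Type v) [Field F] [Fintype F] (F₂ : Type w) [Field F₂]
    [Fintype F₂] : Prop :=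
  ∀ (a : G) (_ : orderOf a = 3) (C : Subgroup G) (_ : C = Subgroup.centralizer ({a} : Set G))
    (_ : Cfsg.IsExtraspecial 3 (Cfsg.pCore 3 C)) (_ : Nat.card (Cfsg.pCore 3 C) = 27)
    (_ : ∀ r ∈ Cfsg.pCore 3 C, r ^ 3 = 1)
    (_ : C ⧸ Cfsg.pCore 3 C ≃* Matrix.SpecialLinearGroup (Fin 2) (ZMod 3))
    (J : Subgroup G) (_ : J ≤ C) (_ : IsMulCommutative J) (_ : ∀ j ∈ J, j ^ 3 = 1) (_ : Nat.card J = 27)
    (_ : ∀ K : Subgroup G, (Nat.card K).Coprime 3 → (∀ j ∈ J, K.map (MulAut.conj j).toMonoidHom = K) → K = ⊥),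
    ((∀ g : G, g * a * g⁻¹ ≠ a⁻¹) →
      (∃ N : Subgroup G, N.Normal ∧ N.index = 3) ∨ Nonempty (G ≃* Cfsg.PSp 2 F)) ∧
    ((∃ g : G, g * a * g⁻¹ = a⁻¹) →
      Subgroup.normalizer (Subgroup.zpowers a : Set G) = ⊤ ∨ Nonempty (G ≃* MulAut (Cfsg.PSp 2 F)) ∨
        Nonempty (G ≃* Matrix.symplecticGroup (Fin 3) F₂))

variable {F : Type v} [Field F] [Fintype F] {F₂ : Type w} [Field F₂] [Fintype F₂]

theorem XA_recog (h42 : RecogPSp H.XA F F₂) (hG : H.Good) :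
    (H.ext = false → Nonempty (H.XA ≃* Cfsg.PSp 2 F)) ∧
    (H.ext = true → Nonempty (H.XA ≃* MulAut (Cfsg.PSp 2 F)) ∨
      Nonempty (H.XA ≃* Matrix.symplecticGroup (Fin 3) F₂)) := by
  obtain ⟨⟨hR, hR27, hR3⟩, ⟨e⟩⟩ := H.core_facts hG
  have h := h42 H.zA H.zA_three _ rfl hR hR27 hR3 e H.JA H.JA_le H.JA_comm H.JA_exp H.JA_card
    (H.JA_signalizer hG)
  exact ⟨fun he => (h.1 (H.not_real hG he)).resolve_left (H.no_index_three hG),
    fun he => (h.2 (H.real hG he)).resolve_left (H.zA_not_normal hG)⟩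

theorem proj {P : Type*} [Group P] (e : H.XA ≃* P) :
    ∃ π : H.Ca →* P, Function.Surjective π ∧ ∀ g, π g = 1 ↔ (g : G) ∈ Subgroup.zpowers H.aEl := by
  refine ⟨e.toMonoidHom.comp (QuotientGroup.mk' H.aSub), e.surjective.comp (QuotientGroup.mk'_surjective _),
    fun g => ?_⟩
  show e (QuotientGroup.mk' H.aSub g) = 1 ↔ _
  rw [MulEquiv.map_eq_one_iff, QuotientGroup.mk'_apply, QuotientGroup.eq_one_iff]
  rfl

/-- The centralizer of `p₁` is an extension of `PSp₄(3)` by `⟨p₁⟩`. -/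
theorem Good.centA_psp {H : Base G} (hG : H.Good) (h42 : RecogPSp H.XA F F₂) (he : H.ext = false) :
    ∃ π : H.Ca →* Cfsg.PSp 2 F, Function.Surjective π ∧ ∀ g, π g = 1 ↔ (g : G) ∈ Subgroup.zpowers H.aEl := by
  obtain ⟨e⟩ := (H.XA_recog h42 hG).1 he
  exact H.proj e

/-- The centralizer of `p₁` when the centralizer of `z` is larger. -/
theorem Good.centA_ext {H : Base G} (hG : H.Good) (h42 : RecogPSp H.XA F F₂) (he : H.ext = true) :
    (∃ π : H.Ca →* MulAut (Cfsg.PSp 2 F), Function.Surjective π ∧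
      ∀ g, π g = 1 ↔ (g : G) ∈ Subgroup.zpowers H.aEl) ∨
    ∃ π : H.Ca →* Matrix.symplecticGroup (Fin 3) F₂, Function.Surjective π ∧
      ∀ g, π g = 1 ↔ (g : G) ∈ Subgroup.zpowers H.aEl := by
  rcases (H.XA_recog h42 hG).2 he with h | h
  · exact Or.inl (H.proj h.some)
  · exact Or.inr (H.proj h.some)

end Base

end CfsgLib.O8Three
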