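import Cfsg.Prelude.Def_Transfer
import Mathlib.Data.ZMod.Basic
import Mathlib.Algebra.Group.Pi.Basic

/-!
# The abstract centralizer of the involution

An elementary group `A` of order 27 with three commuting reflections, normalising an extraspecial
group `K` of order `2^9`, knowing the centralizers of the elements of weight at least two.
-/

set_option autoImplicit false

namespace CfsgLib.O8Three

open Subgroup

universe u

/-- Coordinates on `A` with respect to the orthonormal basis. -/
abbrev V3 : Type := Fin 3 → ZMod 3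

/-- Negating one coordinate. -/
def vflip (i : Fin 3) (v : V3) : V3 := fun j => if j = i then -v j else v j

/-- The basis vectors. -/
def ax (i : Fin 3) : V3 := fun j => if j = i then 1 else 0

/-- Weight at least two. -/
def Heavy (v : V3) : Prop := ∃ i j : Fin 3, i ≠ j ∧ v i ≠ 0 ∧ v j ≠ 0

/-- The hypotheses on the centralizer of the involution. -/
structure WSys (W : Type u) [Group W] where
  /-- the central involution -/
  t : W
  t_central : ∀ g, g * t = t * g
  t_sq : t * t = 1
  t_ne : t ≠ 1
  /-- the elementary group of order 27 -/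
  a : V3 → W
  a_add : ∀ v w, a (v + w) = a v * a w
  a_inj : Function.Injective a
  /-- the reflections -/
  s : Fin 3 → W
  s_sq : ∀ i, s i * s i = 1
  s_comm : ∀ i j, s i * s j = s j * s i
  s_act : ∀ i v, s i * a v * (s i)⁻¹ = a (vflip i v)
  /-- the extraspecial group -/
  K : Subgroup W
  K_ext : Cfsg.IsExtraspecial 2 K
  K_card : Nat.card K = 2 ^ 9
  t_mem : t ∈ K
  K_a : ∀ v, ∀ k ∈ K, a v * k * (a v)⁻¹ ∈ K
  K_s : ∀ i, ∀ k ∈ K, s i * k * (s i)⁻¹ ∈ K
  fix_ax : ∀ i, ∀ k ∈ K, k * a (ax i) = a (ax i) * k → k = 1 ∨ k = t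
  norm_A : ∀ g, (∀ v, ∃ w, g * a v * g⁻¹ = a w) → g ∈ closure (insert t (Set.range a ∪ Set.range s))
  heavy : ∀ v, Heavy v → ∀ g, g * a v = a v * g →
    g ∈ K ⊔ closure (insert t (Set.range a ∪ Set.range s))
  light : ∀ i v, Heavy v → ∀ g, g * a (ax i) * g⁻¹ ≠ a v

namespace WSys

variable {W : Type u} [Group W] (D : WSys W)

/-- The normalizer of `A`. -/
def NA : Subgroup W := closure (insert D.t (Set.range D.a ∪ Set.range D.s))

/-- The group to be shown to be everything. -/
def M : Subgroup W := D.K ⊔ D.NA

end WSys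

end CfsgLib.O8Three
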