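import Cfsg.Agent.O8Three.Quat
import Cfsg.Agent.O8Three.WSys

/-!
# Centralizers in `C_N(t)` of the elements of weight at least two

For `N` normal with `par x ∈ N ↔ x.v.b = 0` the elements of `N` commuting with `t` and with `z`,
resp. with `p₁`, lie in `K.N(A)`.
-/

set_option autoImplicit false
set_option maxRecDepth 100000
set_option linter.style.haveILetI false
set_option linter.unusedSectionVars false

namespace CfsgLib.O8Three

open CfsgLib.PSpFourInvol (S sm si)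
open Subgroup
open scoped Pointwise

universe u v w

theorem q_split : ∀ g : S, ∃ q : S, four q = true ∧ sm q (xpow (chi g)) = g := by decide +kernel

theorem norm_line : ∀ g : S,
    (sm (sm g 10) (si g) == 0 || sm (sm g 10) (si g) == 10 || sm (sm g 10) (si g) == sm 10 10) = true →
      g = xpow (chi g) ∨ g = sm 1 (xpow (chi g)) := by decide +kernel

theorem alJ_b (v : JV) : (alJ v).b = v.b := rfl

theorem weight_three : ∀ u : JV, u.b = 0 → qJ u = 0 → u ≠ j0 →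
    ∃ o : Fin 4, cJ o u = ⟨1, 0, 0, 0⟩ ∨ cJ o u = jn ⟨1, 0, 0, 0⟩ := by decide +kernel

theorem weight_two : ∀ u : JV, u.b = 0 → qJ u = -1 →
    ∃ (o : Fin 4) (i : Fin 3), cJ o ((alJ^[i.1]) u) = ⟨0, 1, 0, 0⟩ ∨
      cJ o ((alJ^[i.1]) u) = jn ⟨0, 1, 0, 0⟩ := by decide +kernel

theorem reps_four : ∀ g h : S, four g = true → four h = true → g ≤ sm g 1 → h ≤ sm h 1 →
    (sm h (si g) = 0 ∨ sm h (si g) = 1) → g = h := by decide +kernel

theorem card_reps : Fintype.card {g : S // four g = true ∧ g ≤ sm g 1} = 4 := by decide +kernel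

namespace Base

variable {G : Type u} [Group G] {H : Base G} (R : Refl H)

/-- The group `A`. -/
def AA (H : Base G) : Subgroup G where
  carrier := {g | ∃ u : JV, u.b = 0 ∧ H.emb u = g}
  mul_mem' := by
    rintro _ _ ⟨u, hu, rfl⟩ ⟨w, hw, rfl⟩
    exact ⟨ja u w, by show u.b + w.b = 0; rw [hu, hw, add_zero], H.emb_ja u w⟩
  one_mem' := ⟨j0, rfl, H.emb_j0⟩
  inv_mem' := by
    rintro _ ⟨u, hu, rfl⟩
    exact ⟨jn u, by show -u.b = 0; rw [hu, neg_zero], H.emb_jn u⟩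

theorem card_AA : Nat.card H.AA = 27 := by
  let e : {u : JV // u.b = 0} → H.AA := fun u => ⟨H.emb u.1, u.1, u.2, rfl⟩
  have he : Function.Bijective e :=
    ⟨fun a b h => Subtype.ext (H.emb_inj (congrArg Subtype.val h)),
      fun ⟨g, u, hu, e'⟩ => ⟨⟨u, hu⟩, Subtype.ext e'⟩⟩
  have h27 : Fintype.card {u : JV // u.b = 0} = 27 := by decide +kernel
  rw [← Nat.card_congr (Equiv.ofBijective e he), Nat.card_eq_fintype_card, h27]

/-- The normalizer of `A` in `C_N(t)`. -/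
def Refl.NA : Subgroup G := closure (insert H.t ((H.AA : Set G) ∪ Set.range R.rr))

/-- `K.N(A)`. -/
def Refl.M : Subgroup G := R.K ⊔ R.NA

theorem Refl.rr_mem (i : Fin 3) : R.rr i ∈ R.NA :=
  subset_closure (Set.mem_insert_of_mem _ (Or.inr ⟨i, rfl⟩))

theorem Refl.emb_mem {u : JV} (hu : u.b = 0) : H.emb u ∈ R.NA :=
  subset_closure (Set.mem_insert_of_mem _ (Or.inl ⟨u, hu, rfl⟩))

theorem Refl.t_mem_NA : H.t ∈ R.NA := subset_closure (Set.mem_insert _ _)

theorem Refl.cc_mem : ∀ o, R.cc o ∈ R.NA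
  | 0 => one_mem _
  | 1 => R.rr_mem 0
  | 2 => R.rr_mem 1
  | 3 => R.rr_mem 2

variable [Finite G]

theorem Refl.cc_inv : ∀ o, (R.cc o)⁻¹ = R.cc o
  | 0 => inv_one
  | 1 => R.inv_eq 0
  | 2 => R.inv_eq 1
  | 3 => R.inv_eq 2

variable {N : Subgroup G} [hN : N.Normal] (hpar : ∀ x, H.par x ∈ N ↔ x.v.b = 0)

include hpar

theorem Refl.rr_N : ∀ i, R.rr i ∈ N := by
  have h1 : R.r1 ∈ N := by
    obtain ⟨n, hn, -⟩ := R.conj1
    rw [← hn]
    exact hN.conj_mem _ ((hpar tT).2 rfl) n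
  have h2 : R.r2 ∈ N := R.cyc1 ▸ hN.conj_mem _ h1 _
  have h3 : R.r3 ∈ N := R.cyc2 ▸ hN.conj_mem _ h2 _
  intro i
  match i with
  | 0 => exact h1
  | 1 => exact h2
  | 2 => exact h3

theorem Refl.cc_N : ∀ o, R.cc o ∈ N
  | 0 => one_mem _
  | 1 => R.rr_N hpar 0
  | 2 => R.rr_N hpar 1
  | 3 => R.rr_N hpar 2

theorem Refl.NA_le : R.NA ≤ N ⊓ centralizer ({H.t} : Set G) := by
  refine (closure_le _).2 ?_
  rintro x (rfl | ⟨u, hu, rfl⟩ | ⟨i, rfl⟩)
  · exact ⟨(hpar tT).2 rfl, mem_centralizer_singleton_iff.2 rfl⟩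
  · refine ⟨(hpar (jT u)).2 rfl, mem_centralizer_singleton_iff.2 ?_⟩
    have hf : tJ u = u := JV.ext rfl rfl (by show -u.b = _; rw [hu, neg_zero]) rfl
    have h := H.nrm_t u
    rw [hf] at h
    exact (mul_inv_eq_iff_eq_mul.1 h).symm
  · exact ⟨R.rr_N hpar i, mem_centralizer_singleton_iff.2 (R.comm_t i)⟩

/-- The centralizer of `z`. -/
theorem Refl.cent_z (he : ∀ g ∈ N, g * H.z = H.z * g → g ∈ H.par.range) {g : G} (hg : g ∈ N)
    (ht : g * H.t = H.t * g) (hz : g * H.z = H.z * g) : g ∈ R.M := by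
  obtain ⟨x, rfl⟩ := he g hg hz
  have hf := comm_tT_form (H.par_comm.1 ht) ((hpar x).1 hg)
  obtain ⟨q, hq, hqs⟩ := q_split x.g
  have e : x = ⟨0, v0, q⟩ * jT ⟨x.c, x.v.a, 0, chi x.g⟩ := by
    rw [hf]
    refine T.ext ?_ ?_ hqs.symm
    · simp [mul_def, tm, jT, bet, v0]
    · simp [mul_def, tm, jT, va, v0, act]
  rw [e, map_mul]
  refine mul_mem (mem_sup_left (R.U_le 0 (R.mem_U.2 ⟨_, ⟨_, ⟨q, hq, rfl⟩, rfl⟩, ?_⟩)))
    (mem_sup_right (R.emb_mem rfl))
  show (1 : G) * _ * (1 : G)⁻¹ = _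
  group

omit hpar

/-- `g ∈ N` commuting with `t` and with the element of `u`. -/
def Refl.Step (N : Subgroup G) (u : JV) : Prop :=
  ∀ g ∈ N, g * H.t = H.t * g → g * H.emb u = H.emb u * g → g ∈ R.M

theorem Refl.step_jn {u : JV} (h : R.Step N u) : R.Step N (jn u) := fun g hg ht hu => by
  refine h g hg ht ?_
  rw [H.emb_jn] at hu
  exact Commute.inv_right_iff.1 hu

theorem Refl.step_pm {u w : JV} (h : R.Step N w) (e : u = w ∨ u = jn w) : R.Step N u := by
  rcases e with rfl | rfl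
  · exact h
  · exact R.step_jn h

include hpar

theorem Refl.step_cc {o : Fin 4} {u : JV} (h : R.Step N (cJ o u)) : R.Step N u := fun g hg ht hu => by
  have hm : R.cc o ∈ R.M := mem_sup_right (R.cc_mem o)
  have key := h ((R.cc o)⁻¹ * g * R.cc o) (mul_mem (mul_mem (inv_mem (R.cc_N hpar o)) hg) (R.cc_N hpar o))
    (((show Commute (R.cc o) H.t from R.cc_t o).inv_left.mul_left ht).mul_left (R.cc_t o)).eq ?_
  · have := mul_mem (mul_mem hm key) (inv_mem hm)
    rwa [show R.cc o * ((R.cc o)⁻¹ * g * R.cc o) * (R.cc o)⁻¹ = g by group] at this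
  · rw [← R.conj_back]
    calc (R.cc o)⁻¹ * g * R.cc o * ((R.cc o)⁻¹ * H.emb u * R.cc o) = (R.cc o)⁻¹ * (g * H.emb u) * R.cc o := by
          group
      _ = (R.cc o)⁻¹ * (H.emb u * g) * R.cc o := by rw [hu]
      _ = _ := by group

omit hpar

/-- `p₂` preserves `K.N(A)`. -/
theorem Refl.M_p2 {x : G} (hx : x ∈ R.M) : H.par p2T * x * (H.par p2T)⁻¹ ∈ R.M := by
  set P := H.par p2T
  have hPt : P * H.t = H.t * P := H.par_comm.2 t_p2.1
  have hcyc : ∀ i, P * R.rr i * P⁻¹ ∈ Set.range R.rr := by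
    intro i
    match i with
    | 0 => exact ⟨1, R.cyc1.symm⟩
    | 1 => exact ⟨2, R.cyc2.symm⟩
    | 2 => exact ⟨0, R.cyc3.symm⟩
  have hQ : ∀ q ∈ H.Qsub, P * q * P⁻¹ ∈ H.Qsub := fun q hq =>
    H.Qsub_conj hPt (Or.inl (by rw [H.par_z, mul_inv_cancel_right])) hq
  have hle : R.M ≤ R.M.comap (MulAut.conj P).toMonoidHom := by
    refine sup_le (fun y hy => ?_) ((closure_le _).2 ?_)
    · refine mem_sup_left (R.K_conj_mem (fun o z hz => ?_) hy)
      obtain ⟨q, hq, rfl⟩ := R.mem_U.1 hz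
      induction o using Fin.cases with
      | zero =>
        rw [show R.cc 0 * q * (R.cc 0)⁻¹ = q by show (1 : G) * q * (1 : G)⁻¹ = q; group]
        exact R.U_le 0 (R.mem_U.2 ⟨_, hQ q hq, by show (1 : G) * _ * (1 : G)⁻¹ = _; group⟩)
      | succ j =>
        obtain ⟨k, hk⟩ := hcyc j
        refine R.U_le k.succ (R.mem_U.2 ⟨_, hQ q hq, ?_⟩)
        rw [R.cc_succ, R.cc_succ, hk]; group
    · rintro y (rfl | ⟨u, hu, rfl⟩ | ⟨i, rfl⟩)
      · show P * H.t * P⁻¹ ∈ R.M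
        rw [hPt, mul_inv_cancel_right]
        exact mem_sup_right R.t_mem_NA
      · show P * H.emb u * P⁻¹ ∈ R.M
        rw [H.nrm_al u]
        exact mem_sup_right (R.emb_mem ((alJ_b u).trans hu))
      · obtain ⟨k, hk⟩ := hcyc i
        show P * R.rr i * P⁻¹ ∈ R.M
        rw [← hk]
        exact mem_sup_right (R.rr_mem k)
  exact hle hx

theorem Refl.step_al {u : JV} (h : R.Step N (alJ u)) : R.Step N u := fun g hg ht hu => by
  set P := H.par p2T
  have hP3 : P * P * P = 1 := by rw [← map_mul, ← map_mul, t_p2.2.1, map_one]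
  have hPt : Commute P H.t := H.par_comm.2 t_p2.1
  have key := h (P * g * P⁻¹) (hN.conj_mem g hg P) ((hPt.mul_left ht).mul_left hPt.inv_left).eq ?_
  · have h2 := R.M_p2 (R.M_p2 key)
    rwa [show P * (P * (P * g * P⁻¹) * P⁻¹) * P⁻¹ = (P * P * P) * g * (P * P * P)⁻¹ by group, hP3, one_mul,
      inv_one, mul_one] at h2
  · rw [show H.emb (alJ u) = P * H.emb u * P⁻¹ from (H.nrm_al u).symm]
    calc P * g * P⁻¹ * (P * H.emb u * P⁻¹) = P * (g * H.emb u) * P⁻¹ := by group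
      _ = P * (H.emb u * g) * P⁻¹ := by rw [hu]
      _ = _ := by group

theorem Refl.step_al_iter {u : JV} (i : ℕ) : R.Step N ((alJ^[i]) u) → R.Step N u := by
  induction i with
  | zero => exact id
  | succ i ih =>
    intro h
    rw [Function.iterate_succ_apply'] at h
    exact ih (R.step_al h)

variable {R}

/-- The group `Q₀Q₁` has order at least 32. -/
theorem Refl.Comm.card_two (hR : R.Comm) : 32 ≤ Nat.card (R.U 0 ⊔ R.U 1 : Subgroup G) := by
  classical
  let f : H.Qsub × {g : S // four g = true ∧ g ≤ sm g 1} → (R.U 0 ⊔ R.U 1 : Subgroup G) := fun p =>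
    ⟨R.fU 0 p.1 * R.fU 1 ⟨H.par ⟨0, v0, p.2.1⟩, ⟨_, ⟨p.2.1, p.2.2.1, rfl⟩, rfl⟩⟩,
      mul_mem (mem_sup_left (R.fU_mem 0 _)) (mem_sup_right (R.fU_mem 1 _))⟩
  have hf : Function.Injective f := by
    rintro ⟨q, g, hg⟩ ⟨q', h, hh⟩ e
    have e' := congrArg Subtype.val e
    simp only [f] at e'
    set a := R.fU 1 ⟨H.par ⟨0, v0, g⟩, ⟨_, ⟨g, hg.1, rfl⟩, rfl⟩⟩
    set b := R.fU 1 ⟨H.par ⟨0, v0, h⟩, ⟨_, ⟨h, hh.1, rfl⟩, rfl⟩⟩ with hb
    have e1 : (R.fU 0 q')⁻¹ * R.fU 0 q = b * a⁻¹ := by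
      calc _ = (R.fU 0 q')⁻¹ * (R.fU 0 q * a) * a⁻¹ := by group
        _ = _ := by rw [e']; group
    have h1 : b * a⁻¹ ∈ R.U 0 := e1 ▸ mul_mem (inv_mem (R.fU_mem 0 _)) (R.fU_mem 0 _)
    have h2 := R.U_inter (o := 0) (p := 1) (by decide) h1 (mul_mem (R.fU_mem 1 _) (inv_mem (R.fU_mem 1 _)))
    rw [← map_inv, hb, ← map_mul] at h2
    have h3 := (R.fU_pm h2).imp (congrArg Subtype.val) (congrArg Subtype.val)
    simp only [Subgroup.coe_mul, Subgroup.coe_inv, ← map_inv, ← map_mul, L_inv, L_mul,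
      OneMemClass.coe_one] at h3
    have hgh : g = h := reps_four g h hg.1 hh.1 hg.2 hh.2
      (h3.imp (fun e => congrArg T.g (H.inj (e.trans (map_one H.par).symm)))
        fun e => congrArg T.g (H.inj (show H.par _ = H.par tT from e)))
    subst hgh
    exact Prod.ext (R.fU_inj 0 (mul_right_cancel e')) rfl
  have := Nat.card_le_card_of_injective f hf
  rwa [Nat.card_prod, card_Qsub, Nat.card_eq_fintype_card, card_reps] at this

/-- Part of the centralizer of `p₁` and of the involution. -/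
theorem Refl.Comm.cent_a_lower (hR : R.Comm) :
    1728 ≤ Nat.card (R.U 0 ⊔ R.U 1 ⊔ H.AA ⊔ zpowers R.r1 : Subgroup G) ∧
      R.U 0 ⊔ R.U 1 ⊔ H.AA ⊔ zpowers R.r1 ≤ H.Ca ⊓ centralizer ({H.t} : Set G) := by
  classical
  haveI : Fact (Nat.Prime 2) := ⟨Nat.prime_two⟩
  set E : Subgroup G := R.U 0 ⊔ R.U 1 with hE
  set L0 : Subgroup G := E ⊔ H.AA with hL0
  set L : Subgroup G := L0 ⊔ zpowers R.r1 with hL
  set C : Subgroup G := H.Ca ⊓ centralizer ({H.t} : Set G) with hC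
  have hnorm : H.AA ≤ normalizer (E : Set G) := by
    rintro _ ⟨u, hu, rfl⟩
    have key : ∀ w : JV, w.b = 0 → ∀ y ∈ E, H.emb w * y * (H.emb w)⁻¹ ∈ E := by
      intro w hw y hy
      have : E ≤ E.comap (MulAut.conj (H.emb w)).toMonoidHom :=
        sup_le (fun z hz => mem_sup_left (R.U_norm hw hz)) (fun z hz => mem_sup_right (R.U_norm hw hz))
      exact this hy
    rw [mem_normalizer_iff]
    refine fun y => ⟨key u hu y, fun h => ?_⟩
    have := key (jn u) (by show -u.b = 0; rw [hu, neg_zero]) _ h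
    rwa [H.emb_jn, inv_inv, show (H.emb u)⁻¹ * (H.emb u * y * (H.emb u)⁻¹) * H.emb u = y by group] at this
  have hmul := coe_mul_of_right_le_normalizer_left E H.AA hnorm
  have hr1 : R.r1 ∉ L0 := by
    intro h
    have h' : R.r1 ∈ ((E : Set G) * (H.AA : Set G)) := hmul ▸ h
    obtain ⟨e, heE, _, ⟨u, hu, rfl⟩, e1⟩ := Set.mem_mul.1 h'
    have hn01 : R.U 1 ≤ normalizer (R.U 0 : Set G) := by
      refine le_trans ?_ (centralizer_le_normalizer _)
      exact fun y hy => mem_centralizer_iff.2 fun x hx => hR.U_comm (by decide) hx hy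
    have h'' : e ∈ ((R.U 0 : Set G) * (R.U 1 : Set G)) := coe_mul_of_right_le_normalizer_left _ _ hn01 ▸ heE
    obtain ⟨a, haU, b, hbU, rfl⟩ := Set.mem_mul.1 h''
    obtain ⟨p, hp, rfl⟩ := R.mem_U.1 haU
    obtain ⟨q, hq, rfl⟩ := R.mem_U.1 hbU
    set k := R.r1 * H.z * R.r1⁻¹ with hk
    set y := R.r1 * q * R.r1⁻¹ with hy
    have hqk : y * k = k * y := by
      calc y * k = R.r1 * (q * H.z) * R.r1⁻¹ := by rw [hy, hk]; group
        _ = R.r1 * (H.z * q) * R.r1⁻¹ := by rw [(H.mem_Qsub_iff.1 hq).2.2.2]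
        _ = _ := by rw [hy, hk]; group
    have hpz := (H.mem_Qsub_iff.1 hp).2.2.2
    have hau : H.emb u * H.z * (H.emb u)⁻¹ = H.z := by rw [H.emb_zT, H.emb_comm, mul_inv_cancel_right]
    have hpy : p * y = y * p := hR 0 p hp q hq
    have e2 : R.r1 = p * y * H.emb u := e1.symm.trans (by
      show 1 * p * (1 : G)⁻¹ * y * _ = _; group)
    have e3 : k = p * y * H.z * y⁻¹ * p⁻¹ := by
      calc k = R.r1 * H.z * R.r1⁻¹ := rfl
        _ = p * y * H.emb u * H.z * (p * y * H.emb u)⁻¹ := by rw [e2]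
        _ = p * y * (H.emb u * H.z * (H.emb u)⁻¹) * y⁻¹ * p⁻¹ := by group
        _ = _ := by rw [hau]
    have e4 : p⁻¹ * k * p = H.z := by
      calc p⁻¹ * k * p = p⁻¹ * (y⁻¹ * (y * k)) * p := by group
        _ = p⁻¹ * (y⁻¹ * (k * y)) * p := by rw [hqk]
        _ = (y * p)⁻¹ * k * (y * p) := by group
        _ = (p * y)⁻¹ * k * (p * y) := by rw [hpy]
        _ = _ := by rw [e3]; group
    have e5 : k = H.z := by
      calc k = p * (p⁻¹ * k * p) * p⁻¹ := by group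
        _ = p * H.z * p⁻¹ := by rw [e4]
        _ = _ := by rw [hpz, mul_inv_cancel_right]
    rw [hk, H.emb_zT, R.nrm1] at e5
    exact absurd (H.emb_inj e5) (by decide)
  have h1728 : 1728 ≤ Nat.card L := by
    have hEK : E ≤ R.K := sup_le (R.U_le 0) (R.U_le 1)
    have h32 : 32 ∣ Nat.card E := by
      obtain ⟨n, hn, e⟩ := (Nat.dvd_prime_pow Nat.prime_two).1 (hR.card_K ▸ card_dvd_of_le hEK)
      have := hR.card_two
      rw [e] at this ⊢
      refine (show 32 = 2 ^ 5 by norm_num) ▸ pow_dvd_pow 2 ?_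
      by_contra hlt
      have : 2 ^ n ≤ 2 ^ 4 := Nat.pow_le_pow_right (by norm_num) (by omega)
      omega
    have h0 : 864 ∣ Nat.card L0 :=
      (show Nat.Coprime 32 27 by norm_num).mul_dvd_of_dvd_of_dvd (h32.trans (card_dvd_of_le le_sup_left))
        ((card_AA (H := H)) ▸ card_dvd_of_le le_sup_right)
    have hlt : L0 < L := lt_of_le_of_ne le_sup_left fun e => hr1 (e ▸ mem_sup_right (mem_zpowers _))
    obtain ⟨m, hm⟩ := card_dvd_of_le hlt.le
    have hne : Nat.card L0 ≠ Nat.card L := fun e => hlt.ne (eq_of_le_of_card_ge hlt.le e.ge)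
    have hpos : 0 < Nat.card L := Nat.card_pos
    have h864 := Nat.le_of_dvd Nat.card_pos h0
    rcases m with _ | _ | m
    · rw [hm] at hpos; omega
    · exact absurd (by rw [hm]; ring) hne
    · rw [hm]; nlinarith
  have hLC : L ≤ C := by
    have hQa : ∀ o, (cJ o ⟨0, 1, 0, 0⟩).k = 0 → R.U o ≤ C := fun o hk y hy =>
      ⟨mem_centralizer_singleton_iff.2 (mul_inv_eq_iff_eq_mul.1 (R.U_fix (v := ⟨0, 1, 0, 0⟩) rfl hk hy)).symm,
        mem_centralizer_singleton_iff.2 (hR.K_cent (R.U_le o hy))⟩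
    refine sup_le (sup_le (sup_le (hQa 0 cJ_a.1) (hQa 1 cJ_a.2.1)) ?_) (zpowers_le.2 ⟨?_, ?_⟩)
    · rintro _ ⟨u, hu, rfl⟩
      refine ⟨mem_centralizer_singleton_iff.2 (H.emb_comm _ _), mem_centralizer_singleton_iff.2 ?_⟩
      have hf : tJ u = u := JV.ext rfl rfl (by show -u.b = _; rw [hu, neg_zero]) rfl
      have h := H.nrm_t u
      rw [hf] at h
      exact (mul_inv_eq_iff_eq_mul.1 h).symm
    · refine mem_centralizer_singleton_iff.2 (mul_inv_eq_iff_eq_mul.1 ?_)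
      rw [aEl, R.nrm1]
      exact congrArg H.emb (by decide)
    · exact mem_centralizer_singleton_iff.2 R.comm1
  exact ⟨h1728, hLC⟩

/-- The centralizer of `p₁` in the centralizer of the involution. -/
theorem Refl.Comm.cent_a (hR : R.Comm) (hG : H.Good) (he : H.ext = false) {F : Type v} [Field F]
    [Fintype F] (hF : Fintype.card F = 3) {F₂ : Type w} [Field F₂] [Fintype F₂]
    (h42 : RecogPSp H.XA F F₂) {g : G} (ht : g * H.t = H.t * g) (ha : g * H.aEl = H.aEl * g) :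
    g ∈ R.M := by
  classical
  haveI : Fact (Nat.Prime 2) := ⟨Nat.prime_two⟩
  set E : Subgroup G := R.U 0 ⊔ R.U 1 with hE
  set L0 : Subgroup G := E ⊔ H.AA with hL0
  set L : Subgroup G := L0 ⊔ zpowers R.r1 with hL
  set C : Subgroup G := H.Ca ⊓ centralizer ({H.t} : Set G) with hC
  obtain ⟨h1728, hLC⟩ : 1728 ≤ Nat.card L ∧ L ≤ C := hR.cent_a_lower
  have hLM : L ≤ R.M := sup_le (sup_le (le_trans (sup_le (R.U_le 0) (R.U_le 1)) le_sup_left)
    (by rintro _ ⟨u, hu, rfl⟩; exact mem_sup_right (R.emb_mem hu)))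
    (zpowers_le.2 (mem_sup_right (R.rr_mem 0)))
  have hC1728 : Nat.card C ≤ 1728 := by
    obtain ⟨e⟩ := (H.XA_recog h42 hG).1 he
    set tA : H.XA := QuotientGroup.mk' H.aSub ⟨H.t, H.par_mem_Ca.2 rfl⟩ with htA
    have h576 : Nat.card (centralizer ({tA} : Set H.XA)) = 576 := by
      obtain ⟨hP⟩ := H.pair_t hG he hF h42 R.nrm1 R.comm1
      exact hP.card_cent hF e.symm
    let ψ : C →* H.XA := (QuotientGroup.mk' H.aSub).comp
      ((C.subtype).codRestrict H.Ca fun x => x.2.1)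
    have hrange : ψ.range ≤ centralizer ({tA} : Set H.XA) := by
      rintro _ ⟨x, rfl⟩
      rw [mem_centralizer_singleton_iff, htA]
      show QuotientGroup.mk' _ _ * _ = _ * QuotientGroup.mk' _ _
      rw [← map_mul, ← map_mul]
      exact congrArg _ (Subtype.ext (mem_centralizer_singleton_iff.1 x.2.2))
    have hker : Nat.card ψ.ker ≤ 3 := by
      let j : ψ.ker → H.aSub := fun x => ⟨⟨(x.1 : G), x.1.2.1⟩, (QuotientGroup.eq_one_iff _).1 x.2⟩
      have hj : Function.Injective j := fun a b h =>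
        Subtype.ext (Subtype.ext (congrArg (fun y : H.aSub => ((y : H.Ca) : G)) h))
      exact (Nat.card_le_card_of_injective j hj).trans (le_of_eq H.card_aSub)
    have h1 := ψ.ker.card_mul_index
    rw [index_ker] at h1
    have h2 := Nat.le_of_dvd Nat.card_pos (card_dvd_of_le hrange)
    rw [h576] at h2
    calc Nat.card C = Nat.card ψ.ker * Nat.card ψ.range := h1.symm
      _ ≤ 3 * 576 := Nat.mul_le_mul hker h2
      _ = _ := by norm_num
  have heq := eq_of_le_of_card_ge hLC (hC1728.trans h1728)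
  exact hLM (heq.ge ⟨mem_centralizer_singleton_iff.2 ha, mem_centralizer_singleton_iff.2 ht⟩)

end Base

end CfsgLib.O8Three
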