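import Cfsg.Agent.O8Three.IndexThree

/-!
# Fusion in `J` preserves the form; the reflections commuting with the involution

`r₁`, `r₂`, `r₃` are conjugates of `t` acting on `J` as the reflections in `e₁ = (1,0,0,1)`,
`e₂ = (1,1,0,2)`, `e₃ = (1,2,0,2)`.
-/

set_option autoImplicit false
set_option maxRecDepth 100000
set_option linter.style.haveILetI false

namespace CfsgLib.O8Three

open CfsgLib.PSpFourInvol (S sm si)

theorem qJ_jn (v : JV) : qJ (jn v) = qJ v := by simp only [qJ, jn]; ring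

theorem jn_jn (v : JV) : jn (jn v) = v := by simp [jn]

theorem qJ_genJ (i : ℕ) (v : JV) : qJ (genJ i v) = qJ v := by
  have three : (3 : ZMod 3) = 0 := rfl
  match i with
  | 0 => simp only [genJ, alJ, qJ]; linear_combination (v.a * v.k) * three
  | 1 => simp only [genJ, gaJ, qJ]; linear_combination (-(v.b * v.k)) * three
  | 2 => simp only [genJ, tJ, qJ]; ring
  | 3 => simp only [genJ, f1J, qJ]; linear_combination (-(v.a * v.k) + v.b * v.k) * three
  | 4 => simp only [genJ, f2J, qJ]; linear_combination (-(v.a * v.c) + v.b * v.c) * three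
  | _ + 5 => rfl

theorem qJ_apW (w : List ℕ) (v : JV) : qJ (apW w v) = qJ v := by
  induction w with
  | nil => rfl
  | cons i w ih =>
    show qJ (genJ i (apW w v)) = qJ v
    rw [qJ_genJ, ih]

theorem jn_ja (v w : JV) : jn (ja v w) = ja (jn v) (jn w) := by
  simp only [jn, ja]; refine JV.ext ?_ ?_ ?_ ?_ <;> simp only <;> ring

theorem ja_j0 (v : JV) : ja v j0 = v ∧ ja j0 v = v := by simp [ja, j0]

theorem ja_triple (v : JV) : ja v (ja v v) = j0 := by
  have h : ∀ x : ZMod 3, x + (x + x) = 0 := by decide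
  exact JV.ext (h _) (h _) (h _) (h _)

/-- The elements of the complement normalising `J`. -/
def normL : List ℕ := [0, 1, 10, 13, 18, 21]

theorem normL_of : ∀ g : S, (sm (sm g 10) (si g) == 0 || sm (sm g 10) (si g) == 10 ||
    sm (sm g 10) (si g) == sm 10 10) = true → g.val ∈ normL := by decide +kernel

theorem normL_check : allN 81 (fun j => normL.all fun g =>
    inJN (mN (mN (mk 0 0 g) (jN j)) (iN (mk 0 0 g))) &&
      (qN (vN (mN (mN (mk 0 0 g) (jN j)) (iN (mk 0 0 g)) / 24)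
        (mN (mN (mk 0 0 g) (jN j)) (iN (mk 0 0 g)) / 72 % 81 / 27)
        (mN (mN (mk 0 0 g) (jN j)) (iN (mk 0 0 g)) / 72 % 81 / 3)
        (if mN (mN (mk 0 0 g) (jN j)) (iN (mk 0 0 g)) % 24 == 0 then 0
          else if mN (mN (mk 0 0 g) (jN j)) (iN (mk 0 0 g)) % 24 == 10 then 1 else 2)) == qN j) &&
      mN (mN (mk 0 0 g) (jN j)) (iN (mk 0 0 g)) ==
        jN (vN (mN (mN (mk 0 0 g) (jN j)) (iN (mk 0 0 g)) / 24)
        (mN (mN (mk 0 0 g) (jN j)) (iN (mk 0 0 g)) / 72 % 81 / 27)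
        (mN (mN (mk 0 0 g) (jN j)) (iN (mk 0 0 g)) / 72 % 81 / 3)
        (if mN (mN (mk 0 0 g) (jN j)) (iN (mk 0 0 g)) % 24 == 0 then 0
          else if mN (mN (mk 0 0 g) (jN j)) (iN (mk 0 0 g)) % 24 == 10 then 1 else 2))) = true := by
  decide +kernel

theorem conj_L_q (g : S) (hg : g.val ∈ normL) (v : JV) :
    ∃ v', (⟨0, v0, g⟩ : T) * jT v * (⟨0, v0, g⟩ : T)⁻¹ = jT v' ∧ qJ v' = qJ v := by
  obtain ⟨j, hj, rfl⟩ := exists_dj v
  have h := List.all_eq_true.1 (allN_spec normL_check j hj) g.val hg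
  simp only [Bool.and_eq_true] at h
  obtain ⟨⟨-, h1⟩, h2⟩ := h
  rw [beq_iff_eq] at h1 h2
  generalize hu : vN (mN (mN (mk 0 0 g.val) (jN j)) (iN (mk 0 0 g.val)) / 24) _ _ _ = u at h1 h2
  have hu81 : u < 81 := hu ▸ vN_lt _ _ _ _
  refine ⟨dj u, ?_, ?_⟩
  · have e : dec (mk 0 0 g.val) = (⟨0, v0, g⟩ : T) := by
      rw [dec_mk]
      exact T.ext Nat.cast_zero (show dv (0 % 81) = v0 by decide) (Fin.ext (Nat.mod_eq_of_lt g.isLt))
    rw [← e, jT_dj hj, ← dec_iN (mk_lt _ _ _), ← dec_mN, ← dec_mN, h2, ← jT_dj hu81]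
  · rw [qJ_dj hu81, qJ_dj hj, h1]

theorem t_p2 : p2T * tT = tT * p2T ∧ p2T * p2T * p2T = 1 ∧ tT * tT = 1 := by decide +kernel

/-- The first reflection. -/
def R1J (v : JV) : JV := ⟨-v.k, v.a, v.b, -v.c⟩

/-- The second reflection. -/
def R2J (v : JV) : JV := ⟨-v.c - v.a - v.k, v.c - v.k, v.b, -v.c + v.a - v.k⟩

/-- The third reflection. -/
def R3J (v : JV) : JV := ⟨-v.c + v.a - v.k, -v.c + v.k, v.b, -v.c - v.a - v.k⟩

theorem r1_word : ∀ v : JV, apW [4, 2, 4, 4, 1] (tJ v) = R1J (apW [4, 2, 4, 4, 1] v) ∧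
    apW [4, 2, 4, 4, 1] ⟨0, 1, 0, 0⟩ = ⟨0, 1, 0, 0⟩ := by decide +kernel

theorem refl_facts : ∀ v : JV, alJ (R1J v) = R2J (alJ v) ∧ alJ (R2J v) = R3J (alJ v) ∧
    alJ (R3J v) = R1J (alJ v) ∧ R1J (tJ v) = tJ (R1J v) ∧ R2J (tJ v) = tJ (R2J v) ∧
    R3J (tJ v) = tJ (R3J v) ∧ R1J (R2J v) = R2J (R1J v) ∧ R2J (R3J v) = R3J (R2J v) ∧
    R3J (R1J v) = R1J (R3J v) ∧
    (R1J v = jn v → tJ v = v) ∧ (R2J v = jn v → tJ v = v) ∧ (R3J v = jn v → tJ v = v) ∧
    (R1J v = jn v → R2J v = v) ∧ (R2J v = jn v → R3J v = v) ∧ (R3J v = jn v → R1J v = v) := by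
  decide +kernel

namespace Base

universe u

variable {G : Type u} [Group G] {H : Base G}

theorem t_mul_self (H : Base G) : H.t * H.t = 1 := by rw [t, ← map_mul, t_p2.2.2, map_one]

theorem Nrm.unique {n : G} {f g : JV → JV} (hf : H.Nrm n f) (hg : H.Nrm n g) (v : JV) : f v = g v :=
  H.emb_inj ((hf v).symm.trans (hg v))

/-- Conjugation by an element of the model normalising `J` preserves the form. -/
theorem par_nrm_q {x : T} {f : JV → JV} (hf : H.Nrm (H.par x) f) (v : JV) : qJ (f v) = qJ v := by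
  have hg : x.g.val ∈ normL := by
    refine normL_of _ ?_
    have h := hf ⟨0, 0, 0, 1⟩
    rw [emb, ← map_inv, ← map_mul, ← map_mul] at h
    have h2 : (x * jT ⟨0, 0, 0, 1⟩ * x⁻¹).g = (jT (f ⟨0, 0, 0, 1⟩)).g := congrArg T.g (H.inj h)
    have h3 := Jsub_le (mem_Jsub.2 (jC_jT (f ⟨0, 0, 0, 1⟩)).2)
    rw [mem_Ssub, inS, ← h2, mul_g, mul_g] at h3
    exact h3
  have hx : x = qT x.c x.v * ⟨0, v0, x.g⟩ := by
    simp only [qT, mul_def, tm, act_v0, (va_v0 _).1]
    refine T.ext ?_ rfl (PSpFourInvol.sm_one _).1.symm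
    simp [bet, v0]
  obtain ⟨v', hv', hq'⟩ := conj_L_q x.g hg v
  obtain ⟨j, i, k, hqT, -⟩ := q_decomp x.v x.c
  have h2 : H.Nrm (H.par (qT x.c x.v)) fun u => (alJ^[i.1]) ((gaJ^[k.1]) u) := by
    rw [hqT, map_mul, map_mul, map_pow, map_pow]
    refine (((show H.Nrm (H.par (jT j)) id from fun u => ?_).mul (H.nrm_al.iterate H i.1)).mul
      (H.nrm_ga.iterate H k.1)).congr fun _ => rfl
    show H.emb j * H.emb u * (H.emb j)⁻¹ = H.emb u
    rw [H.emb_comm, mul_inv_cancel_right]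
  have e : f v = (alJ^[i.1]) ((gaJ^[k.1]) v') := by
    refine H.emb_inj ((hf v).symm.trans ?_)
    rw [hx, map_mul]
    calc H.par (qT x.c x.v) * H.par ⟨0, v0, x.g⟩ * H.emb v * (H.par (qT x.c x.v) * H.par ⟨0, v0, x.g⟩)⁻¹
        = H.par (qT x.c x.v) * H.par (⟨0, v0, x.g⟩ * jT v * (⟨0, v0, x.g⟩ : T)⁻¹) *
            (H.par (qT x.c x.v))⁻¹ := by rw [map_mul, map_mul, map_inv, emb]; group
      _ = _ := by rw [hv']; exact h2 v'
  have hit : ∀ (g : JV → JV), (∀ u, qJ (g u) = qJ u) → ∀ (m : ℕ) u, qJ ((g^[m]) u) = qJ u := by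
    intro g hg m
    induction m with
    | zero => intro u; rfl
    | succ m ih => intro u; rw [Function.iterate_succ_apply', hg, ih]
  rw [e, hit alJ (qJ_genJ 0), hit gaJ (qJ_genJ 1), hq']

variable [Finite G]

/-- `N(J)` preserves the form. -/
theorem Good.nrm_q (hG : H.Good) {n : G} {f : JV → JV} (hf : H.Nrm n f) (v : JV) : qJ (f v) = qJ v := by
  have hfz := (hf.zc ⟨1, 0, 0, 0⟩).2 H.zc_z
  obtain ⟨hne, hq⟩ := (hG _).1 hfz
  obtain ⟨w, hw⟩ := exists_word _ hne
  rw [if_pos hq] at hw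
  obtain ⟨m, hm⟩ := hG.exists_fix w
  let e := Equiv.ofBijective (apW w) (Finite.injective_iff_bijective.1 hm.inj)
  have hminv : H.Nrm m⁻¹ e.symm := fun u => by
    have h2 := hm (e.symm u)
    rw [show apW w (e.symm u) = u from e.apply_symm_apply u] at h2
    rw [← h2]; group
  have hk := hminv.mul hf
  have hkz : m⁻¹ * n * H.z * (m⁻¹ * n)⁻¹ = H.z := by
    rw [H.emb_zT, hk]
    refine congrArg H.emb (e.injective ?_)
    rw [e.apply_symm_apply]; exact hw
  obtain ⟨x, hx⟩ := H.mem_cent.1 (mul_inv_eq_iff_eq_mul.1 hkz)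
  have hq' : qJ (e.symm (f v)) = qJ v := by
    rcases hx with hx | hx
    · rw [hx] at hk
      exact par_nrm_q hk v
    · cases hb : H.ext
      · rw [hx, H.out_eq hb, mul_one] at hk
        exact par_nrm_q hk v
      · have hs : H.Nrm H.out fun u => ⟨u.c, -u.a, u.b, u.k⟩ := fun u => by
          rw [inv_eq_of_mul_eq_one_right H.out_sq]
          show H.out * H.par (jT u) * H.out = _
          rw [H.out_act, hb]
          simp only [emb, sigB, jT, if_true, neg_zero]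
        have h3 : H.Nrm (H.par x) fun u => e.symm (f (⟨u.c, -u.a, u.b, u.k⟩)) := by
          have := hk.mul hs
          rwa [hx, mul_assoc (H.par x), H.out_sq, mul_one] at this
        have h4 := par_nrm_q h3 ⟨v.c, -v.a, v.b, v.k⟩
        simp only [neg_neg] at h4
        rw [h4]
        simp only [qJ]; ring
  rw [← qJ_apW w (e.symm (f v))] at hq'
  rwa [show apW w (e.symm (f v)) = f v from e.apply_symm_apply _] at hq'

/-- Elements of `J` conjugate in `G` are conjugate in the normalizer. -/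
theorem conj_emb {g : G} {v w : JV} (h : g * H.emb v * g⁻¹ = H.emb w) :
    ∃ n f, H.Nrm n f ∧ f v = w := by
  classical
  haveI : Fact (Nat.Prime 3) := fact_three
  set C := Subgroup.centralizer ({H.emb w} : Set G) with hC
  have hJC : H.J ≤ C := fun u hu => by
    obtain ⟨u', rfl⟩ := H.mem_J.1 hu
    exact Subgroup.mem_centralizer_singleton_iff.2 (H.emb_comm _ _)
  set A := H.J.map (MulAut.conj g).toMonoidHom with hA
  have hAC : A ≤ C := by
    rintro _ ⟨u, hu, rfl⟩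
    obtain ⟨u', rfl⟩ := H.mem_J.1 hu
    refine Subgroup.mem_centralizer_singleton_iff.2 ?_
    rw [← h, show g * H.emb v * g⁻¹ = (MulAut.conj g) (H.emb v) from rfl, MulEquiv.coe_toMonoidHom,
      ← map_mul, ← map_mul, H.emb_comm]
  have hA81 : Nat.card A = 81 := by
    rw [hA, Subgroup.card_map_of_injective (MulAut.conj g).injective, H.card_J]
  have hp : IsPGroup 3 (H.J.subgroupOf C) := (IsPGroup.of_card (n := 4) (p := 3) H.card_J).of_equiv
    (Subgroup.subgroupOfEquivOfLe hJC).symm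
  have hp' : IsPGroup 3 (A.subgroupOf C) := (IsPGroup.of_card (n := 4) (p := 3) hA81).of_equiv
    (Subgroup.subgroupOfEquivOfLe hAC).symm
  obtain ⟨P, hP⟩ := hp.exists_le_sylow
  obtain ⟨R, hR⟩ := hp'.exists_le_sylow
  obtain ⟨c, hc⟩ := MulAction.exists_smul_eq C R P
  -- both lie in one Sylow subgroup of the whole group
  obtain ⟨W, hW⟩ := (P.2.map C.subtype).exists_le_sylow
  obtain ⟨S0, hS0⟩ := H.exists_sylow
  obtain ⟨d, hd⟩ := MulAction.exists_smul_eq G W S0
  have hin : ∀ a : C, a ∈ (P : Subgroup C) → d * a * d⁻¹ ∈ H.SS := fun a ha => by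
    rw [← hS0, ← hd, Sylow.coe_subgroup_smul]
    exact Subgroup.smul_mem_pointwise_smul _ (MulAut.conj d) _ (hW ⟨a, ha, rfl⟩)
  have hcm : ∀ u u' : JV, H.emb u * H.emb u' = H.emb u' * H.emb u := H.emb_comm
  have h1 : H.J.map (MulAut.conj d).toMonoidHom = H.J := by
    refine H.abelian_SS _ ?_ ?_ ?_
    · rintro _ ⟨u, hu, rfl⟩
      exact hin ⟨u, hJC hu⟩ (hP (Subgroup.mem_subgroupOf.2 hu))
    · rintro _ ⟨a, ha, rfl⟩ _ ⟨b, hb, rfl⟩
      obtain ⟨a', rfl⟩ := H.mem_J.1 ha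
      obtain ⟨b', rfl⟩ := H.mem_J.1 hb
      rw [← map_mul, ← map_mul, hcm]
    · rw [Subgroup.card_map_of_injective (MulAut.conj d).injective, H.card_J]
  have h2 : A.map (MulAut.conj (d * c)).toMonoidHom = H.J := by
    refine H.abelian_SS _ ?_ ?_ ?_
    · rintro _ ⟨a, ha, rfl⟩
      have h3 : (c * ⟨a, hAC ha⟩ * c⁻¹ : C) ∈ (P : Subgroup C) := by
        rw [← hc, Sylow.coe_subgroup_smul]
        exact Subgroup.smul_mem_pointwise_smul _ (MulAut.conj c) _ (hR (Subgroup.mem_subgroupOf.2 ha))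
      have h4 := hin _ h3
      simpa [mul_assoc] using h4
    · rintro _ ⟨a, ha, rfl⟩ _ ⟨b, hb, rfl⟩
      rw [← map_mul, ← map_mul]
      obtain ⟨a', ha', rfl⟩ := ha
      obtain ⟨b', hb', rfl⟩ := hb
      obtain ⟨a'', rfl⟩ := H.mem_J.1 ha'
      obtain ⟨b'', rfl⟩ := H.mem_J.1 hb'
      rw [← map_mul (MulAut.conj g).toMonoidHom, ← map_mul (MulAut.conj g).toMonoidHom, hcm]
    · rw [Subgroup.card_map_of_injective (MulAut.conj (d * (c : G))).injective, hA81]
  set n := d⁻¹ * (d * (c : G)) * g with hn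
  have hnJ : H.J.map (MulAut.conj n).toMonoidHom = H.J := by
    conv_rhs => rw [← Subgroup.map_id H.J]
    have h3 : H.J.map (MulAut.conj d⁻¹).toMonoidHom = H.J := by
      conv_lhs => rw [← h1, Subgroup.map_map]
      convert Subgroup.map_id _
      ext u; simp [mul_assoc]
    have e : (MulAut.conj n).toMonoidHom =
        (MulAut.conj d⁻¹).toMonoidHom.comp ((MulAut.conj (d * (c : G))).toMonoidHom.comp
          (MulAut.conj g).toMonoidHom) := by
      ext u; simp [hn, mul_assoc]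
    rw [e, ← Subgroup.map_map, ← Subgroup.map_map, ← hA, h2, h3, Subgroup.map_id]
  obtain ⟨f, hf⟩ := H.exists_nrm hnJ
  refine ⟨n, f, hf, H.emb_inj ?_⟩
  rw [← hf, hn]
  have hcw := Subgroup.mem_centralizer_singleton_iff.1 c.2
  calc d⁻¹ * (d * (c : G)) * g * H.emb v * (d⁻¹ * (d * (c : G)) * g)⁻¹
      = (c : G) * (g * H.emb v * g⁻¹) * (c : G)⁻¹ := by group
    _ = H.emb w := by rw [h, hcw]; group

/-- Conjugate elements of `J` have the same value of the form. -/
theorem Good.qJ_conj (hG : H.Good) {g : G} {v w : JV} (h : g * H.emb v * g⁻¹ = H.emb w) :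
    qJ v = qJ w := by
  obtain ⟨n, f, hf, rfl⟩ := conj_emb h
  exact (hG.nrm_q hf v).symm

/-- The difference of two elements inducing the same map lies in `J`. -/
theorem Nrm.diff {m n : G} {f : JV → JV} (hm : H.Nrm m f) (hn : H.Nrm n f) : n⁻¹ * m ∈ H.J := by
  refine H.cent_J_le fun v => ?_
  have h1 := hm v
  have h2 := hn v
  rw [← h2] at h1
  calc n⁻¹ * m * H.emb v = n⁻¹ * (m * H.emb v * m⁻¹) * m := by group
    _ = _ := by rw [h1]; group

/-- A word commuting with the action of `t` is induced by an element commuting with `t`. -/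
theorem Good.exists_cent_t (hG : H.Good) (w : List ℕ) (hw : ∀ v, apW w (tJ v) = tJ (apW w v)) :
    ∃ n, H.Nrm n (apW w) ∧ n * H.t = H.t * n := by
  obtain ⟨n, hn⟩ := hG.exists_fix w
  have ht : H.Nrm H.t tJ := H.nrm_t
  obtain ⟨u, hu⟩ := H.mem_J.1 (Nrm.diff (H := H) (hn.mul ht)
    ((ht.mul hn).congr fun v => (hw v).symm))
  -- `n t = t n u`; the involution forces `u` to be inverted by `tJ`
  have hut : H.t * H.emb u * H.t⁻¹ = H.emb (tJ u) := ht u
  have e1 : n * H.t = H.t * n * H.emb u := by rw [hu]; group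
  have e2 : n * H.t * n⁻¹ = H.t * H.emb (apW w u) := by
    rw [e1, show H.t * n * H.emb u * n⁻¹ = H.t * (n * H.emb u * n⁻¹) by group, hn]
  set u' := apW w u
  have hsq : H.emb (ja (tJ u') u') = 1 := by
    have e3 : (n * H.t * n⁻¹) * (n * H.t * n⁻¹) = 1 := by
      rw [show n * H.t * n⁻¹ * (n * H.t * n⁻¹) = n * (H.t * H.t) * n⁻¹ by group, H.t_mul_self]; group
    rw [e2] at e3
    rw [H.emb_ja, ← ht u', inv_eq_of_mul_eq_one_right H.t_mul_self]
    simp only [← mul_assoc] at e3 ⊢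
    exact e3
  have hu' : tJ u' = jn u' := ja_eq_zero _ _ (H.emb_inj (hsq.trans H.emb_j0.symm))
  refine ⟨H.emb (jn u') * n, ?_, ?_⟩
  · intro v
    rw [show H.emb (jn u') * n * H.emb v * (H.emb (jn u') * n)⁻¹ =
      H.emb (jn u') * (n * H.emb v * n⁻¹) * (H.emb (jn u'))⁻¹ by group, hn, H.emb_comm,
      mul_inv_cancel_right]
  · have hc : H.emb (jn u') * H.t = H.t * H.emb u' := by
      have h1 := ht u'
      rw [hu'] at h1
      rw [← h1]; group
    calc H.emb (jn u') * n * H.t = H.emb (jn u') * (n * H.t * n⁻¹) * n := by group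
      _ = H.emb (jn u') * H.t * H.emb u' * n := by rw [e2]; group
      _ = H.t * (H.emb u' * H.emb u') * n := by rw [hc]; group
      _ = H.t * H.emb (jn u') * n := by
        rw [← H.emb_ja, show ja u' u' = jn u' from ja_eq_zero _ _ (by
          rw [show ja (ja u' u') u' = ja u' (ja u' u') from JV.ext (add_comm _ _) (add_comm _ _)
            (add_comm _ _) (add_comm _ _)]
          exact ja_triple _)]
      _ = H.t * (H.emb (jn u') * n) := by group

/-- Involutions inducing commuting maps commute, if the second map fixes what the first inverts. -/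
theorem refl_comm {x y : G} {f g : JV → JV} (hx : H.Nrm x f) (hy : H.Nrm y g) (hx2 : x * x = 1)
    (hy2 : y * y = 1) (hfg : ∀ v, f (g v) = g (f v)) (hfix : ∀ v, f v = jn v → g v = v) :
    x * y = y * x := by
  obtain ⟨u, hu⟩ := H.mem_J.1 (Nrm.diff (H := H) ((hy.mul hx).mul hy) (f := fun v => g (f (g v)))
    (n := x) (hx.congr fun v => by
      show f v = g (f (g v))
      rw [← hfg (g v)]
      refine congrArg f ?_
      have := (hy.mul hy) v
      rw [hy2, one_mul, inv_one, mul_one] at this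
      exact H.emb_inj this))
  have hxi : x⁻¹ = x := inv_eq_of_mul_eq_one_right hx2
  have hyi : y⁻¹ = y := inv_eq_of_mul_eq_one_right hy2
  rw [hxi] at hu
  have e : y * x * y = x * H.emb u := by
    rw [hu, ← mul_assoc x x, hx2, one_mul]
  have hinv : f u = jn u := by
    refine ja_eq_zero _ _ (H.emb_inj ?_)
    rw [H.emb_j0, H.emb_ja, ← hx u, hxi]
    calc x * H.emb u * x * H.emb u = (x * H.emb u) * (x * H.emb u) := by group
      _ = y * x * (y * y) * x * y := by rw [← e]; group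
      _ = y * (x * x) * y := by rw [hy2]; group
      _ = 1 := by rw [hx2, mul_one, hy2]
  have hgu : y * H.emb u * y = H.emb u := by
    have := hy u
    rwa [hyi, hfix u hinv] at this
  have h2 : x = x * H.emb (ja u u) := by
    calc x = y * y * x * (y * y) := by rw [hy2, one_mul, mul_one]
      _ = y * (y * x * y) * y := by group
      _ = y * (x * H.emb u) * y := by rw [e]
      _ = y * x * (y * y) * H.emb u * y := by rw [hy2]; group
      _ = y * x * y * (y * H.emb u * y) := by group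
      _ = x * H.emb u * H.emb u := by rw [hgu, e]
      _ = _ := by rw [H.emb_ja, mul_assoc]
  have hu0 : u = j0 := ja_idem _ (by
    have h3 : H.emb (ja u u) = 1 := mul_eq_left.1 h2.symm
    have h4 : ja u u = j0 := H.emb_inj (h3.trans H.emb_j0.symm)
    have h5 := ja_triple u
    rw [h4, (ja_j0 u).1] at h5
    subst h5; exact h4)
  rw [hu0, H.emb_j0, mul_one] at e
  calc x * y = y * x * y * y := by rw [e]
    _ = _ := by rw [mul_assoc, hy2, mul_one]

variable (H)

/-- The standing choice of the three reflections. -/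
structure Refl where
  /-- the first reflection -/
  r1 : G
  /-- the second reflection -/
  r2 : G
  /-- the third reflection -/
  r3 : G
  sq1 : r1 * r1 = 1
  sq2 : r2 * r2 = 1
  sq3 : r3 * r3 = 1
  nrm1 : H.Nrm r1 R1J
  nrm2 : H.Nrm r2 R2J
  nrm3 : H.Nrm r3 R3J
  comm1 : r1 * H.t = H.t * r1
  comm2 : r2 * H.t = H.t * r2
  comm3 : r3 * H.t = H.t * r3
  comm12 : r1 * r2 = r2 * r1
  comm23 : r2 * r3 = r3 * r2
  comm31 : r3 * r1 = r1 * r3
  cyc1 : H.par p2T * r1 * (H.par p2T)⁻¹ = r2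
  cyc2 : H.par p2T * r2 * (H.par p2T)⁻¹ = r3
  cyc3 : H.par p2T * r3 * (H.par p2T)⁻¹ = r1
  /-- the first reflection is conjugate to `t` fixing `(0,1,0,0)` -/
  conj1 : ∃ n, n * H.t * n⁻¹ = r1 ∧ n * H.emb ⟨0, 1, 0, 0⟩ * n⁻¹ = H.emb ⟨0, 1, 0, 0⟩

variable {H}

theorem Good.exists_refl (hG : H.Good) : Nonempty (Refl H) := by
  obtain ⟨n, hn⟩ := hG.exists_fix [4, 2, 4, 4, 1]
  set r1 := n * H.t * n⁻¹ with hr1
  have hnr1 : H.Nrm r1 R1J := by
    intro v
    let e := Equiv.ofBijective (apW [4, 2, 4, 4, 1]) (Finite.injective_iff_bijective.1 hn.inj)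
    have hv : apW [4, 2, 4, 4, 1] (e.symm v) = v := e.apply_symm_apply v
    rw [show n * H.t * n⁻¹ * H.emb v * (n * H.t * n⁻¹)⁻¹ = n * (H.t * (n⁻¹ * H.emb v * n) * H.t⁻¹) * n⁻¹ by
      group]
    have h1 : n⁻¹ * H.emb v * n = H.emb (e.symm v) := by
      conv_lhs => rw [← hv, ← hn]
      group
    rw [h1, show H.t * H.emb (e.symm v) * H.t⁻¹ = H.emb (tJ (e.symm v)) from H.nrm_t _, hn,
      (r1_word _).1, hv]
  have sq1 : r1 * r1 = 1 := by
    rw [hr1, show n * H.t * n⁻¹ * (n * H.t * n⁻¹) = n * (H.t * H.t) * n⁻¹ by group, H.t_mul_self]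
    group
  set P := H.par p2T
  have hPt : P * H.t = H.t * P := H.par_comm.2 t_p2.1
  have hP3 : P * P * P = 1 := by rw [← map_mul, ← map_mul, t_p2.2.1, map_one]
  have hcj : ∀ (r : G) (R R' : JV → JV), H.Nrm r R → (∀ v, alJ (R v) = R' (alJ v)) →
      H.Nrm (P * r * P⁻¹) R' := by
    intro r R R' hr h v
    have h3 : ∀ v, alJ (alJ (alJ v)) = v := by decide +kernel
    have hP1 : P⁻¹ * H.emb v * P = H.emb (alJ (alJ v)) := by
      have h4 : P * H.emb (alJ (alJ v)) * P⁻¹ = H.emb (alJ (alJ (alJ v))) := H.nrm_al _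
      rw [h3] at h4
      rw [← h4]; group
    rw [show P * r * P⁻¹ * H.emb v * (P * r * P⁻¹)⁻¹ = P * (r * (P⁻¹ * H.emb v * P) * r⁻¹) * P⁻¹ by group,
      hP1, hr, show P * H.emb (R (alJ (alJ v))) * P⁻¹ = H.emb (alJ (R (alJ (alJ v)))) from H.nrm_al _,
      h, h3]
  have hsq : ∀ r : G, r * r = 1 → P * r * P⁻¹ * (P * r * P⁻¹) = 1 := fun r hr => by
    rw [show P * r * P⁻¹ * (P * r * P⁻¹) = P * (r * r) * P⁻¹ by group, hr]; group
  set r2 := P * r1 * P⁻¹ with hr2
  set r3 := P * r2 * P⁻¹ with hr3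
  have n2 : H.Nrm r2 R2J := hcj r1 R1J R2J hnr1 fun v => (refl_facts v).1
  have n3 : H.Nrm r3 R3J := hcj r2 R2J R3J n2 fun v => (refl_facts v).2.1
  have s2 := hsq r1 sq1
  have s3 := hsq r2 s2
  refine ⟨⟨r1, r2, r3, sq1, s2, s3, hnr1, n2, n3, ?_, ?_, ?_, ?_, ?_, ?_, rfl, rfl, ?_, ?_⟩⟩
  · exact refl_comm hnr1 H.nrm_t sq1 H.t_mul_self (fun v => (refl_facts v).2.2.2.1)
      fun v => (refl_facts v).2.2.2.2.2.2.2.2.2.1
  · exact refl_comm n2 H.nrm_t s2 H.t_mul_self (fun v => (refl_facts v).2.2.2.2.1)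
      fun v => (refl_facts v).2.2.2.2.2.2.2.2.2.2.1
  · exact refl_comm n3 H.nrm_t s3 H.t_mul_self (fun v => (refl_facts v).2.2.2.2.2.1)
      fun v => (refl_facts v).2.2.2.2.2.2.2.2.2.2.2.1
  · exact refl_comm hnr1 n2 sq1 s2 (fun v => (refl_facts v).2.2.2.2.2.2.1)
      fun v => (refl_facts v).2.2.2.2.2.2.2.2.2.2.2.2.1
  · exact refl_comm n2 n3 s2 s3 (fun v => (refl_facts v).2.2.2.2.2.2.2.1)
      fun v => (refl_facts v).2.2.2.2.2.2.2.2.2.2.2.2.2.1
  · exact refl_comm n3 hnr1 s3 sq1 (fun v => (refl_facts v).2.2.2.2.2.2.2.2.1)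
      fun v => (refl_facts v).2.2.2.2.2.2.2.2.2.2.2.2.2.2
  · rw [hr3, hr2]
    calc P * (P * (P * r1 * P⁻¹) * P⁻¹) * P⁻¹ = (P * P * P) * r1 * (P * P * P)⁻¹ := by group
      _ = r1 := by rw [hP3]; group
  · exact ⟨n, rfl, by rw [hn, (r1_word j0).2]⟩

end Base

end CfsgLib.O8Three
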