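import Cfsg.Agent.O8Three.Jay

/-!
# The conjugates of `z` in `Q`, and an element of `N(J)` moving `z`
-/

set_option autoImplicit false
set_option maxRecDepth 100000
set_option linter.style.haveILetI false

namespace CfsgLib.O8Three

open CfsgLib.PSpFourInvol (S sm si)

set_option maxHeartbeats 600000

theorem g_comm {h1 h2 : T} (e : sm h1.g h2.g = sm h2.g h1.g) : (h1 * h2 * (h2 * h1)⁻¹).g = 0 := by
  show sm (sm h1.g h2.g) (si (sm h2.g h1.g)) = 0
  rw [e]
  have : ∀ a : S, sm a (si a) = 0 := by decide +kernel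
  exact this _

theorem cube_g {x : T} (h : x ^ 3 = 1) : sm (sm x.g x.g) x.g = 0 := by
  rw [pow_succ, pow_two] at h
  exact congrArg T.g h

theorem g_zero_mul {x y : T} (hx : x.g = 0) (hy : y.g = 0) : (x * y).g = 0 := by
  show sm x.g y.g = 0
  rw [hx, hy]; decide

theorem inv_v {x : T} (hx : x.g = 0) : x⁻¹.v = vn x.v ∧ x⁻¹.g = 0 := by
  have h0 : si (0 : S) = 0 := by decide
  exact ⟨by show act (si x.g) (vn x.v) = _; rw [hx, h0, act_zero], by show si x.g = 0; rw [hx, h0]⟩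

theorem vn_vn (v : Vec) : vn (vn v) = v := by simp [vn]

theorem vn_v0 : vn v0 = v0 := by decide

/-- The conjugate of an element of the extraspecial group by a complement element. -/
theorem cj_L (s : S) (x : T) :
    (⟨0, v0, s⟩ * x * (⟨0, v0, s⟩ : T)⁻¹).v = (va (act s x.v) (act (sm s x.g) (act (si s) v0))) := by
  simp only [mul_v, mul_g, inv_def, ti, vn_v0]
  congr 1
  simp only [va, v0, zero_add]

theorem act_v0 : ∀ s : S, act s v0 = v0 := by decide +kernel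

theorem va_v0 (v : Vec) : va v v0 = v ∧ va v0 v = v := by simp [va, v0]

theorem cj_L_v (s : S) (x : T) : (⟨0, v0, s⟩ * x * (⟨0, v0, s⟩ : T)⁻¹).v = act s x.v := by
  rw [cj_L, act_v0, act_v0, (va_v0 _).1]

theorem cj_L_g (s : S) (x : T) : (⟨0, v0, s⟩ * x * (⟨0, v0, s⟩ : T)⁻¹).g = sm (sm s x.g) (si s) := rfl

/-- The commutator of an element with one of the extraspecial group. -/
theorem comm_v {h w e : T} (hw : w.g = 0) (he : e.g = 0) (hh : h * w = e * (w * h)) :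
    va (act h.g w.v) (vn w.v) = e.v := by
  have := congrArg T.v hh
  rw [mul_v, mul_v, mul_v, he, hw, act_zero, act_zero] at this
  simp only [va, Vec.mk.injEq, vn] at this ⊢
  exact Vec.ext (by simp only; linear_combination this.1) (by simp only; linear_combination this.2.1)
    (by simp only; linear_combination this.2.2.1) (by simp only; linear_combination this.2.2.2)

theorem fix_v {h x : T} (hx : x.g = 0) (hh : h * x = x * h) : act h.g x.v = x.v :=
  va_cancel (comm_vec hx hh)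

theorem qT_comm (a b : Vec) :
    qT 0 a * qT 0 b = qT (bet a b + bet a b) v0 * (qT 0 b * qT 0 a) := by
  have h00 : sm 0 0 = 0 := by decide
  simp only [qT, mul_def, tm, act_zero, h00, (va_v0 _).2]
  refine T.ext ?_ ?_ rfl
  · have : bet v0 (va b a) = 0 := by simp [bet, v0]
    simp only [this, bet_swap a b]
    ring
  · simp only [va]
    refine Vec.ext ?_ ?_ ?_ ?_ <;> ring

theorem qT_zero : qT 1 v0 = zT ∧ qT 2 v0 = zT * zT ∧ qT 0 v0 = 1 := by decide +kernel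

/-- The core of the computation: the commutator makes the element of diagonal type. -/
theorem dtype_of {h w x : T} (hh3 : h ^ 3 = 1) (hg : h.g ≠ 0) (hw : w.g = 0) (hx : x.g = 0) (hxv : x.v ≠ v0)
    (hhx : h * x = x * h) (hwx : w * x = x * w)
    (hcm : h * w = x * (w * h) ∨ h * w = x⁻¹ * (w * h)) : DType x.v := by
  obtain ⟨s, hs⟩ := to_transvection h.g (cube_g hh3) hg
  let l : T := ⟨0, v0, s⟩
  let φ := MulAut.conj l
  have e : ∀ y : T, (φ y).v = act s y.v ∧ (y.g = 0 → (φ y).g = 0) := fun y => ⟨cj_L_v s y, fun hy => by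
    show (l * y * l⁻¹).g = 0
    rw [cj_L_g, hy]
    have : ∀ s : S, sm (sm s 0) (si s) = 0 := by decide +kernel
    exact this s⟩
  have hφg : (φ h).g = 10 ∨ (φ h).g = 13 := hs
  have hne : act s x.v ≠ v0 := fun h0 => hxv (by
    have := congrArg (act (si s)) h0
    rwa [← act_mul, (PSpFourInvol.sm_one s).2.2, act_zero, act_v0] at this)
  have hb : bet (φ x).v (φ w).v = 0 := by
    rw [(e x).1, (e w).1, bet_act]
    exact (qq_comm hx hw).1 hwx.symm
  have hd := vecD (φ h).g hφg (φ x).v (φ w).v (by rw [(e x).1]; exact hne)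
    (fix_v ((e x).2 hx) (by rw [← map_mul, hhx, map_mul])) hb ?_
  · rw [(e x).1] at hd
    have h2 := dType_act (si s) _ hd
    rwa [← act_mul, (PSpFourInvol.sm_one s).2.2, act_zero] at h2
  · rcases hcm with hcm | hcm
    · left
      exact comm_v ((e w).2 hw) ((e x).2 hx) (by rw [← map_mul, hcm, map_mul, map_mul])
    · right
      have hxi : x⁻¹.g = 0 := (inv_v hx).2
      rw [comm_v ((e w).2 hw) ((e _).2 hxi) (by rw [← map_mul, hcm, map_mul, map_mul]), map_inv,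
        (inv_v ((e x).2 hx)).1]

namespace Base

universe u

variable {G : Type u} [Group G] (H : Base G)

theorem par_comm {x y : T} : H.par x * H.par y = H.par y * H.par x ↔ x * y = y * x := by
  rw [← map_mul, ← map_mul]
  exact ⟨fun h => H.inj h, congrArg _⟩

theorem cube_q {q : T} (hq : q.g = 0) : q ^ 3 = 1 := by
  rw [pow_succ, pow_two, show q = qT q.c q.v from T.ext rfl rfl hq]
  exact qT_cube _ _

theorem conj_cube (g : G) (q : T) : (g⁻¹ * H.par q * g) ^ 3 = g⁻¹ * H.par (q ^ 3) * g := by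
  rw [map_pow, pow_succ, pow_two, pow_succ (H.par q), pow_two]; group

theorem pull_comm {g : G} {x : T} {p : G} (hgx : g * H.z * g⁻¹ = p) (hc : H.par x * p = p * H.par x) :
    g⁻¹ * H.par x * g * H.z = H.z * (g⁻¹ * H.par x * g) := by
  calc g⁻¹ * H.par x * g * H.z = g⁻¹ * (H.par x * (g * H.z * g⁻¹)) * g := by group
    _ = g⁻¹ * (g * H.z * g⁻¹ * H.par x) * g := by rw [hgx, hc]
    _ = _ := by group

theorem pull_z (g : G) (x : T) :
    g⁻¹ * H.par x * g * (g⁻¹ * H.z * g) = g⁻¹ * H.z * g * (g⁻¹ * H.par x * g) := by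
  calc g⁻¹ * H.par x * g * (g⁻¹ * H.z * g) = g⁻¹ * (H.par x * H.z) * g := by group
    _ = g⁻¹ * (H.z * H.par x) * g := by rw [H.par_z]
    _ = _ := by group

/-- Elements of order three pulled back into the model, with the images commuting modulo `Q`. -/
theorem pull_pair {g : G} {x : T} (hgx : g * H.z * g⁻¹ = H.par x) (hx : x.g = 0) {a b : Vec}
    (ha : bet x.v a = 0) (hb : bet x.v b = 0) :
    ∃ y1 y2 : T, g⁻¹ * H.par (qT 0 a) * g = H.par y1 ∧ g⁻¹ * H.par (qT 0 b) * g = H.par y2 ∧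
      y1 ^ 3 = 1 ∧ y2 ^ 3 = 1 ∧ sm y1.g y2.g = sm y2.g y1.g ∧
      (y1.g ≠ 0 → y2.g = 0 ∨ y2.g = y1.g ∨ y2.g = sm y1.g y1.g) := by
  have hone : ∀ c, bet x.v c = 0 → ∃ y : T, g⁻¹ * H.par (qT 0 c) * g = H.par y ∧ y ^ 3 = 1 := by
    intro c hc
    have hcm : H.par (qT 0 c) * H.par x = H.par x * H.par (qT 0 c) :=
      H.par_comm.2 ((qq_comm (x := x) (y := qT 0 c) hx rfl).2 hc).symm
    have h3 : (g⁻¹ * H.par (qT 0 c) * g) ^ 3 = 1 := by
      rw [H.conj_cube, cube_q (show (qT 0 c).g = 0 from rfl), map_one]; group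
    obtain ⟨y, hy⟩ := H.three_power_mem (H.pull_comm hgx hcm) (k := 1) (by rw [pow_one]; exact h3)
    exact ⟨y, hy, H.inj (by rw [map_pow, map_one, ← hy]; exact h3)⟩
  obtain ⟨y1, e1, c1⟩ := hone a ha
  obtain ⟨y2, e2, c2⟩ := hone b hb
  have key : ∀ q r : T, q.g = 0 → g⁻¹ * H.par q * g = H.par r → r ^ 3 = 1 := fun q r hq e => H.inj (by
    rw [map_pow, map_one, ← e, H.conj_cube, cube_q hq, map_one]; group)
  have p1 := key (qT 0 a * qT 0 b) (y1 * y2) (g_zero_mul rfl rfl)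
    (by rw [map_mul, map_mul, ← e1, ← e2]; group)
  have p2 := key (qT 0 a * (qT 0 b * qT 0 b)) (y1 * (y2 * y2)) (g_zero_mul rfl (g_zero_mul rfl rfl))
    (by rw [map_mul, map_mul, map_mul, map_mul, ← e1, ← e2]; group)
  obtain ⟨hgc, hgp⟩ := three_codes y1.g (cube_g c1) y2.g (cube_g c2) (by have e := cube_g p1; rwa [mul_g] at e) (by have e := cube_g p2; rwa [mul_g, mul_g] at e)
  exact ⟨y1, y2, e1, e2, c1, c2, hgc, hgp⟩

/-- The pulled back element is not central. -/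
theorem pull_not_central {g : G} {x x' : T} (hgx : g * H.z * g⁻¹ = H.par x) (hx : x.g = 0) (hv : x.v ≠ v0)
    (hxp : g⁻¹ * H.z * g = H.par x') (hxg : x'.g = 0) : x'.v ≠ v0 := by
  intro h0
  have hqq : x' = qT x'.c v0 := T.ext rfl h0 hxg
  have h3 : ∀ r : ZMod 3, r = 0 ∨ r = 1 ∨ r = 2 := by decide
  rcases h3 x'.c with h | h | h <;> rw [h] at hqq <;> rw [hqq] at hxp
  · rw [qT_zero.2.2, map_one] at hxp
    have e : H.z = 1 := by
      calc H.z = g * (g⁻¹ * H.z * g) * g⁻¹ := by group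
        _ = 1 := by rw [hxp]; group
    have : zT = 1 := H.inj (e.trans (map_one H.par).symm)
    exact absurd (congrArg T.c this) (show (1 : ZMod 3) ≠ 0 by decide)
  · rw [qT_zero.1] at hxp
    have : g * H.z * g⁻¹ = H.z := by
      calc g * H.z * g⁻¹ = g * (g⁻¹ * H.z * g) * g⁻¹ := by rw [hxp]; rfl
        _ = H.z := by group
    exact hv (by rw [H.inj (hgx.symm.trans this)]; rfl)
  · rw [qT_zero.2.1, map_mul] at hxp
    have h2 : H.par (x * x) = H.z := by
      rw [map_mul, ← hgx]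
      calc g * H.z * g⁻¹ * (g * H.z * g⁻¹) = g * (H.z * H.z) * g⁻¹ := by group
        _ = g * (g⁻¹ * H.z * g) * g⁻¹ := by rw [hxp]; rfl
        _ = H.z := by group
    have h4 := congrArg T.v (H.inj h2)
    rw [mul_v, hx, act_zero] at h4
    have e4 : ∀ r : ZMod 3, r + r = 0 → r = 0 := by decide
    exact hv (Vec.ext (e4 _ (congrArg Vec.a h4)) (e4 _ (congrArg Vec.b h4)) (e4 _ (congrArg Vec.m h4))
      (e4 _ (congrArg Vec.n h4)))

theorem qT_double {r : ZMod 3} (hr : r ≠ 0) : qT (r + r) v0 = zT ∨ qT (r + r) v0 = zT⁻¹ := by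
  revert r; decide +kernel

/-- The case split on the two pulled back elements. -/
theorem pair_dtype {y1 y2 e x' : T} (c1 : y1 ^ 3 = 1) (c2 : y2 ^ 3 = 1)
    (hgp : y1.g ≠ 0 → y2.g = 0 ∨ y2.g = y1.g ∨ y2.g = sm y1.g y1.g) (heg : e.g = 0)
    (hecm : y1 * y2 = e * (y2 * y1)) (hxe : x' = e ∨ x' = e⁻¹) (hxg : x'.g = 0) (hxv : x'.v ≠ v0)
    (hc1 : y1 * x' = x' * y1) (hc2 : y2 * x' = x' * y2) : DType x'.v := by
  have hwl : ∀ h w : T, h * w = e * (w * h) ∨ h * w = e⁻¹ * (w * h) →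
      h * w = x' * (w * h) ∨ h * w = x'⁻¹ * (w * h) := by
    intro h w hh
    rcases hxe with hh' | hh' <;> rw [hh']
    · exact hh
    · rw [inv_inv]; exact hh.symm
  by_cases hg1 : y1.g = 0
  · by_cases hg2 : y2.g = 0
    · exfalso
      refine hxv ?_
      have hev : e.v = v0 := by
        rw [← comm_v hg2 heg hecm, hg1, act_zero]
        simp [va, vn, v0]
      rcases hxe with h | h <;> rw [h]
      · exact hev
      · rw [(inv_v heg).1, hev, vn_v0]
    · refine dtype_of c2 hg2 hg1 hxg hxv hc2 hc1 (hwl _ _ (Or.inr ?_))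
      rw [hecm]; group
  · have hw : ∃ w : T, w.g = 0 ∧ w * x' = x' * w ∧ y1 * w = e * (w * y1) := by
      have h0 : sm y1.g (sm y1.g y1.g) = 0 := by rw [← PSpFourInvol.sm_assoc]; exact cube_g c1
      rcases hgp hg1 with h | h | h
      · exact ⟨y2, h, hc2, hecm⟩
      · refine ⟨y2 * (y1 * y1), by rw [mul_g, mul_g, h]; exact h0,
          ((show Commute y2 x' from hc2).mul_left ((show Commute y1 x' from hc1).mul_left hc1)).eq, ?_⟩
        calc y1 * (y2 * (y1 * y1)) = y1 * y2 * (y1 * y1) := by group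
          _ = _ := by rw [hecm]; group
      · refine ⟨y2 * y1, by rw [mul_g, h]; exact cube_g c1,
          ((show Commute y2 x' from hc2).mul_left hc1).eq, ?_⟩
        calc y1 * (y2 * y1) = y1 * y2 * y1 := by group
          _ = _ := by rw [hecm]; group
    obtain ⟨w, hw1, hw2, hw3⟩ := hw
    exact dtype_of c1 hg1 hw1 hxg hxv hc1 hw2 (hwl _ _ (Or.inl hw3))

/-- From a conjugate of `z` in `Q` one gets one by the inverse element, of diagonal type. -/
theorem back {g : G} {x : T} (hgx : g * H.z * g⁻¹ = H.par x) (hx : x.g = 0) (hv : x.v ≠ v0) :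
    ∃ x' : T, g⁻¹ * H.z * g = H.par x' ∧ x'.g = 0 ∧ x'.v ≠ v0 ∧ DType x'.v := by
  obtain ⟨a, b, ha, hb, hab⟩ := perp_pair x.v hv
  obtain ⟨y1, y2, e1, e2, c1, c2, hgc, hgp⟩ := H.pull_pair hgx hx ha hb
  obtain ⟨e, he⟩ : ∃ e, e = y1 * y2 * (y2 * y1)⁻¹ := ⟨_, rfl⟩
  have hecm : y1 * y2 = e * (y2 * y1) := by rw [he]; group
  have heg : e.g = 0 := he ▸ g_comm hgc
  have hq : qT (bet a b + bet a b) v0 = qT 0 a * qT 0 b * (qT 0 b * qT 0 a)⁻¹ := by
    rw [qT_comm]; group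
  have hepar : H.par e = g⁻¹ * H.par (qT (bet a b + bet a b) v0) * g := by
    rw [hq, he, map_mul, map_mul, map_inv, map_mul, map_mul, map_mul, map_inv, map_mul, ← e1, ← e2]
    group
  obtain ⟨x', hxp, hxg, hxe⟩ : ∃ x', g⁻¹ * H.z * g = H.par x' ∧ x'.g = 0 ∧ (x' = e ∨ x' = e⁻¹) := by
    rcases qT_double hab with h | h <;> rw [h] at hepar
    · exact ⟨e, hepar.symm, heg, Or.inl rfl⟩
    · refine ⟨e⁻¹, ?_, (inv_v heg).2, Or.inr rfl⟩
      rw [map_inv, hepar, map_inv, show H.z = H.par zT from rfl]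
      group
  have hxv := H.pull_not_central hgx hx hv hxp hxg
  refine ⟨x', hxp, hxg, hxv, pair_dtype c1 c2 hgp heg hecm hxe hxg hxv ?_ ?_⟩
  · rw [← H.par_comm, ← hxp, ← e1]; exact H.pull_z g _
  · rw [← H.par_comm, ← hxp, ← e2]; exact H.pull_z g _

/-- Every conjugate of `z` in `Q` outside the centre is of diagonal type. -/
theorem dtype {g : G} {x : T} (hgx : g * H.z * g⁻¹ = H.par x) (hx : x.g = 0) (hv : x.v ≠ v0) :
    DType x.v := by
  obtain ⟨x', hx', hg', hv', -⟩ := H.back hgx hx hv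
  obtain ⟨x'', hx'', -, -, hd⟩ := H.back (g := g⁻¹) (by rw [inv_inv]; exact hx') hg' hv'
  rw [inv_inv, hgx] at hx''
  rwa [H.inj hx'']

/-- The chosen singular point other than `z`. -/
def y0 : JV := ⟨0, 1, 1, 0⟩

theorem shift_c : ∀ c a : ZMod 3, a ≠ 0 → ∃ j : ZMod 3,
    qT 0 ⟨0, j, 0, 0⟩ * qT c ⟨a, 0, 1, 0⟩ * (qT 0 ⟨0, j, 0, 0⟩)⁻¹ = jT ⟨0, a, 1, 0⟩ := by decide +kernel

variable [Finite G]

/-- An element normalising `J` which moves `z` to the chosen point. -/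
theorem exists_move : ∃ n : G, H.J.map (MulAut.conj n).toMonoidHom = H.J ∧
    (n * H.z * n⁻¹ = H.emb y0 ∨ n * H.z * n⁻¹ = (H.emb y0)⁻¹) := by
  obtain ⟨g, x, hgx, hx, hv⟩ := H.fus
  change g * H.z * g⁻¹ = H.par x at hgx
  have hD := H.dtype hgx hx hv
  obtain ⟨s, hs1, hs2⟩ := to_first x.v hD
  let l : T := ⟨0, v0, s⟩
  set x1 := l * x * l⁻¹ with hx1
  have hx1v : x1.v = act s x.v := cj_L_v s x
  have hx1g : x1.g = 0 := by
    rw [hx1, cj_L_g, hx]
    have : ∀ s : S, sm (sm s 0) (si s) = 0 := by decide +kernel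
    exact this s
  have hd1 : DType x1.v := by rw [hx1v]; exact dType_act s _ hD
  have hx1' : x1 = qT x1.c ⟨x1.v.a, 0, 1, 0⟩ :=
    T.ext rfl (Vec.ext rfl hd1.1 (by rw [hx1v]; exact hs1) (by rw [hx1v]; exact hs2)) hx1g
  obtain ⟨j, hj⟩ := shift_c x1.c x1.v.a hd1.2.1
  rw [← hx1'] at hj
  have hcase : jT ⟨0, x1.v.a, 1, 0⟩ = jT y0 ∨ tT * jT ⟨0, x1.v.a, 1, 0⟩ * tT⁻¹ = (jT y0)⁻¹ := by
    have : ∀ a : ZMod 3, a ≠ 0 → jT ⟨0, a, 1, 0⟩ = jT y0 ∨ tT * jT ⟨0, a, 1, 0⟩ * tT⁻¹ = (jT y0)⁻¹ := by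
      decide +kernel
    exact this _ hd1.2.1
  have hstep : ∃ c : T, c * x * c⁻¹ = jT y0 ∨ c * x * c⁻¹ = (jT y0)⁻¹ := by
    rcases hcase with h | h
    · exact ⟨qT 0 ⟨0, j, 0, 0⟩ * l, Or.inl (by rw [← h, ← hj, hx1]; group)⟩
    · exact ⟨tT * (qT 0 ⟨0, j, 0, 0⟩ * l), Or.inr (by rw [← h, ← hj, hx1]; group)⟩
  obtain ⟨c, hc⟩ := hstep
  have hm : H.par c * g * H.z * (H.par c * g)⁻¹ = H.emb y0 ∨
      H.par c * g * H.z * (H.par c * g)⁻¹ = (H.emb y0)⁻¹ := by
    have e : H.par c * g * H.z * (H.par c * g)⁻¹ = H.par (c * x * c⁻¹) := by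
      rw [map_mul, map_mul, map_inv, ← hgx]; group
    rw [e]
    rcases hc with h | h <;> rw [h]
    · exact Or.inl rfl
    · exact Or.inr (map_inv _ _)
  set m := H.par c * g with hmdef
  have hmJ : m * H.z * m⁻¹ ∈ H.J := by
    rcases hm with h | h <;> rw [h]
    · exact H.mem_J.2 ⟨_, rfl⟩
    · exact inv_mem (H.mem_J.2 ⟨_, rfl⟩)
  set A := H.J.map (MulAut.conj m⁻¹).toMonoidHom with hA
  have hJc : ∀ u ∈ H.J, ∀ w ∈ H.J, u * w = w * u := by
    intro u hu w hw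
    obtain ⟨a, rfl⟩ := H.mem_J.1 hu
    obtain ⟨b, rfl⟩ := H.mem_J.1 hw
    exact H.emb_comm a b
  obtain ⟨d, hd⟩ := H.abelian_conj A (by
      rintro _ ⟨u, hu, rfl⟩
      simp only [MulEquiv.coe_toMonoidHom, MulAut.conj_apply, inv_inv]
      calc m⁻¹ * u * m * H.z = m⁻¹ * (u * (m * H.z * m⁻¹)) * m := by group
        _ = m⁻¹ * (m * H.z * m⁻¹ * u) * m := by rw [hJc u hu _ hmJ]
        _ = _ := by group)
    (by
      rintro _ ⟨u, hu, rfl⟩ _ ⟨w, hw, rfl⟩
      rw [← map_mul, ← map_mul, hJc u hu w hw])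
    ((Nat.card_congr (Subgroup.equivMapOfInjective _ _ (MulAut.conj m⁻¹).injective).toEquiv).symm.trans H.card_J)
  refine ⟨m * H.par d, ?_, ?_⟩
  · have : H.J.map (MulAut.conj (m * H.par d)).toMonoidHom = A.map (MulAut.conj m).toMonoidHom := by
      rw [hd, Subgroup.map_map]
      congr 1
      ext u
      simp [mul_assoc]
    rw [this, hA, Subgroup.map_map]
    convert Subgroup.map_id _
    ext u
    simp [mul_assoc]
  · have : m * H.par d * H.z * (m * H.par d)⁻¹ = m * H.z * m⁻¹ := by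
      rw [mul_assoc m, H.par_z]; group
    rw [this]; exact hm

end Base

end CfsgLib.O8Three
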