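import Cfsg.Agent.O8Three.JCode

/-!
# Computed facts used to locate the conjugates of the central element
-/

set_option autoImplicit false
set_option maxRecDepth 100000

namespace CfsgLib.O8Three

open CfsgLib.PSpFourInvol (S sm si)

/-- The form on codes of vectors. -/
def betN (u w : ℕ) : ℕ :=
  (u / 27 * (w / 9 % 3) + 2 * (u / 9 % 3 * (w / 27)) + 2 * (u / 3 % 3 * (w % 3)) + u % 3 * (w / 3 % 3)) % 3

theorem exists_dv (v : Vec) : ∃ u, u < 81 ∧ dv u = v := by
  refine ⟨vN v.a.val v.b.val v.m.val v.n.val, vN_lt _ _ _ _, ?_⟩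
  rw [dv_vN]
  exact Vec.ext (ZMod.natCast_zmod_val _) (ZMod.natCast_zmod_val _) (ZMod.natCast_zmod_val _)
    (ZMod.natCast_zmod_val _)

theorem dv_inj {u w : ℕ} (hu : u < 81) (hw : w < 81) (h : dv u = dv w) : u = w := by
  simp only [dv, Vec.mk.injEq, ZMod.natCast_eq_natCast_iff'] at h
  omega

theorem bet_dv {u w : ℕ} (hu : u < 81) (hw : w < 81) : bet (dv u) (dv w) = (betN u w : ℕ) := by
  have two : (2 : ZMod 3) = -1 := rfl
  simp only [betN, ZMod.natCast_mod, bet, dv, Nat.cast_add, Nat.cast_mul, Nat.cast_ofNat, two]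
  rw [show ((u / 27 : ℕ) : ZMod 3) = ((u / 27 % 3 : ℕ) : ZMod 3) from (ZMod.natCast_mod _ _).symm,
    show ((w / 27 : ℕ) : ZMod 3) = ((w / 27 % 3 : ℕ) : ZMod 3) from (ZMod.natCast_mod _ _).symm]
  simp only [ZMod.natCast_mod]
  ring

theorem bet_eq_zero {u w : ℕ} (hu : u < 81) (hw : w < 81) (h : bet (dv u) (dv w) = 0) : betN u w = 0 := by
  rw [bet_dv hu hw, ZMod.natCast_eq_zero_iff] at h
  have : betN u w < 3 := Nat.mod_lt _ (by norm_num)
  omega

/-- The conjugates' type: both components non-zero and fixed by a common transvection. -/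
def DType (v : Vec) : Prop := v.b = 0 ∧ v.a ≠ 0 ∧ (v.m ≠ 0 ∨ v.n ≠ 0)

instance (v : Vec) : Decidable (DType v) := inferInstanceAs (Decidable (_ ∧ _))

/-- The same on codes. -/
def dTypeN (u : ℕ) : Bool := u / 9 % 3 == 0 && u / 27 != 0 && u % 9 != 0

theorem vecD_check : allN 81 (fun u => allN 81 fun w => [10, 13].all fun g =>
    u == 0 || betN u w != 0 || actN g u != u ||
      !(vN (actN g w / 27 + 2 * (w / 27)) (actN g w / 9 + 2 * (w / 9)) (actN g w / 3 + 2 * (w / 3))
          (actN g w + 2 * w) == u ||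
        vN (actN g w / 27 + 2 * (w / 27)) (actN g w / 9 + 2 * (w / 9)) (actN g w / 3 + 2 * (w / 3))
          (actN g w + 2 * w) == vN (2 * (u / 27)) (2 * (u / 9)) (2 * (u / 3)) (2 * u)) ||
      dTypeN u) = true := by decide +kernel

theorem act_dv {g u : ℕ} (hg : g < 24) (hu : u < 81) :
    actN g u < 81 ∧ dv (actN g u) = act ⟨g, hg⟩ (dv u) := by
  have h := allN_spec (allN_spec actN_check g hg) u hu
  simp only [Bool.and_eq_true, decide_eq_true_eq, Nat.mod_eq_of_lt hg] at h
  exact h

theorem dType_check : allN 81 (fun u => !dTypeN u || decide (DType (dv u))) = true := by decide +kernel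

theorem vecD (g : S) (hg : g = 10 ∨ g = 13) (v w : Vec) (hv : v ≠ v0) (hf : act g v = v)
    (ho : bet v w = 0) (hd : va (act g w) (vn w) = v ∨ va (act g w) (vn w) = vn v) : DType v := by
  obtain ⟨u, hu, rfl⟩ := exists_dv v
  obtain ⟨x, hx, rfl⟩ := exists_dv w
  have h := allN_spec (allN_spec vecD_check u hu) x hx
  have hgm : g.val ∈ ([10, 13] : List ℕ) := by rcases hg with rfl | rfl <;> simp
  have h := List.all_eq_true.1 h g.val hgm
  obtain ⟨ha, ea⟩ := act_dv g.isLt hx
  obtain ⟨hb, eb⟩ := act_dv g.isLt hu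
  have h1 : (u == 0) = false := by
    rw [beq_eq_false_iff_ne]; rintro rfl; exact hv (by decide)
  have h2 : (betN u x != 0) = false := by simp [bet_eq_zero hu hx ho]
  have h3 : (actN g.val u != u) = false := by
    simp [dv_inj hb hu (eb.trans hf)]
  have hneg : dv (vN (2 * (u / 27)) (2 * (u / 9)) (2 * (u / 3)) (2 * u)) = vn (dv u) := by
    have two : (2 : ZMod 3) = -1 := rfl
    rw [dv_vN]
    simp only [vn, dv, Nat.cast_mul, Nat.cast_ofNat, ZMod.natCast_mod, two, neg_one_mul]
  have hdiff : dv (vN (actN g.val x / 27 + 2 * (x / 27)) (actN g.val x / 9 + 2 * (x / 9))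
      (actN g.val x / 3 + 2 * (x / 3)) (actN g.val x + 2 * x)) = va (act g (dv x)) (vn (dv x)) := by
    have two : (2 : ZMod 3) = -1 := rfl
    rw [dv_vN, ← ea]
    simp only [va, vn, dv, Nat.cast_add, Nat.cast_mul, Nat.cast_ofNat, ZMod.natCast_mod, two, neg_one_mul]
  rw [← hdiff] at hd
  rw [← hneg] at hd
  simp only [h1, h2, h3, Bool.false_or, Bool.or_eq_true, Bool.not_eq_true', Bool.or_eq_false_iff,
    beq_eq_false_iff_ne] at h
  rcases h with h | h
  · rcases hd with e | e
    · exact absurd (dv_inj (vN_lt _ _ _ _) hu e) h.1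
    · exact absurd (dv_inj (vN_lt _ _ _ _) (vN_lt _ _ _ _) e) h.2
  · have := allN_spec dType_check u hu
    rw [h] at this
    simpa using this

theorem perp_pair_check : allN 81 (fun u => u == 0 ||
    (List.range 81).any fun a => betN u a == 0 && (List.range 81).any fun b =>
      betN u b == 0 && betN a b != 0) = true := by decide +kernel

theorem perp_pair (v : Vec) (hv : v ≠ v0) :
    ∃ a b : Vec, bet v a = 0 ∧ bet v b = 0 ∧ bet a b ≠ 0 := by
  obtain ⟨u, hu, rfl⟩ := exists_dv v
  have h := allN_spec perp_pair_check u hu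
  have h1 : (u == 0) = false := by
    rw [beq_eq_false_iff_ne]; rintro rfl; exact hv (by decide)
  rw [h1, Bool.false_or, List.any_eq_true] at h
  obtain ⟨a, ha, h⟩ := h
  rw [Bool.and_eq_true, List.any_eq_true] at h
  obtain ⟨h2, b, hb, h⟩ := h
  simp only [Bool.and_eq_true, beq_iff_eq, bne_iff_ne] at h h2
  rw [List.mem_range] at ha hb
  refine ⟨dv a, dv b, by rw [bet_dv hu ha, h2, Nat.cast_zero], by rw [bet_dv hu hb, h.1, Nat.cast_zero],
    fun e => h.2 (bet_eq_zero ha hb e)⟩

theorem iso_count_check : allN 81 (fun u => allN 81 fun w => u == 0 || betN u w != 0 ||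
    w == 0 || w == u || w == vN (2 * (u / 27)) (2 * (u / 9)) (2 * (u / 3)) (2 * u) ||
      ((List.range 81).filter fun r => betN u r == 0 && betN w r == 0).length == 9) = true := by
  decide +kernel

theorem iso_bound (X : Finset Vec) (h : ∀ v ∈ X, ∀ w ∈ X, bet v w = 0) : X.card ≤ 9 := by
  classical
  by_contra hc
  rw [not_le] at hc
  obtain ⟨v, hv, hv0⟩ := Finset.exists_mem_ne (by omega : 1 < X.card) v0
  have : ¬ X ⊆ ({v0, v, vn v} : Finset Vec) := fun e => by
    have := (Finset.card_le_card e).trans Finset.card_le_three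
    omega
  obtain ⟨w, hw, hwn⟩ := Finset.not_subset.1 this
  simp only [Finset.mem_insert, Finset.mem_singleton, not_or] at hwn
  obtain ⟨hw0, hw1, hw2⟩ := hwn
  obtain ⟨u, hu, rfl⟩ := exists_dv v
  obtain ⟨x, hx, rfl⟩ := exists_dv w
  have hk := allN_spec (allN_spec iso_count_check u hu) x hx
  have hz : dv 0 = v0 := by decide
  have two : (2 : ZMod 3) = -1 := rfl
  have hneg : dv (vN (2 * (u / 27)) (2 * (u / 9)) (2 * (u / 3)) (2 * u)) = vn (dv u) := by
    rw [dv_vN]
    simp only [vn, dv, Nat.cast_mul, Nat.cast_ofNat, ZMod.natCast_mod, two, neg_one_mul]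
  have a1 : (u == 0) = false := by rw [beq_eq_false_iff_ne]; rintro rfl; exact hv0 hz
  have a2 : (betN u x != 0) = false := by simp [bet_eq_zero hu hx (h _ hv _ hw)]
  have a3 : (x == 0) = false := by rw [beq_eq_false_iff_ne]; rintro rfl; exact hw0 hz
  have a4 : (x == u) = false := by rw [beq_eq_false_iff_ne]; rintro rfl; exact hw1 rfl
  have a5 : (x == vN (2 * (u / 27)) (2 * (u / 9)) (2 * (u / 3)) (2 * u)) = false := by
    rw [beq_eq_false_iff_ne]; rintro rfl; exact hw2 hneg
  simp only [a1, a2, a3, a4, a5, Bool.false_or, beq_iff_eq] at hk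
  have hsub : X ⊆ ((((List.range 81).filter fun r => betN u r == 0 && betN x r == 0)).map dv).toFinset := by
    intro r hr
    obtain ⟨k, hk', rfl⟩ := exists_dv r
    rw [List.mem_toFinset]
    refine List.mem_map_of_mem (List.mem_filter.2 ⟨List.mem_range.2 hk', ?_⟩)
    simp [bet_eq_zero hu hk' (h _ hv _ hr), bet_eq_zero hx hk' (h _ hw _ hr)]
  have := (Finset.card_le_card hsub).trans (List.toFinset_card_le _)
  rw [List.length_map, hk] at this
  omega

theorem fix_outside : ∀ g ∈ ([10, 13] : List S), ∀ w : Vec, act g w = w → w.b = 0 ∧ w.n = 0 := by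
  decide +kernel

theorem dType_act : ∀ (g : S) (v : Vec), DType v → DType (act g v) := by decide +kernel

theorem three_codes : ∀ g : S, sm (sm g g) g = 0 → ∀ h : S, sm (sm h h) h = 0 →
    sm (sm (sm g h) (sm g h)) (sm g h) = 0 → sm (sm (sm g (sm h h)) (sm g (sm h h))) (sm g (sm h h)) = 0 →
      sm g h = sm h g ∧ (g ≠ 0 → h = 0 ∨ h = g ∨ h = sm g g) := by decide +kernel

theorem to_transvection : ∀ g : S, sm (sm g g) g = 0 → g ≠ 0 →
    ∃ h : S, sm (sm h g) (si h) = 10 ∨ sm (sm h g) (si h) = 13 := by decide +kernel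

theorem to_first : ∀ (v : Vec), DType v → ∃ h : S, (act h v).m = 1 ∧ (act h v).n = 0 := by decide +kernel

end CfsgLib.O8Three
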