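import Cfsg.Agent.O8Three.Quat

/-!
# The centralizer of the involution when the centralizer of `z` is larger: basic relations
-/

set_option autoImplicit false
set_option maxRecDepth 100000
set_option linter.style.haveILetI false
set_option linter.unusedSectionVars false

namespace CfsgLib.O8Three

open CfsgLib.PSpFourInvol (S sm si)
open Subgroup

universe u

/-- The outer involution on `J`. -/
def outJ (v : JV) : JV := ⟨v.c, -v.a, v.b, v.k⟩

theorem sigB_gens : (∀ v : JV, sigB true (jT v) = jT (outJ v)) ∧ sigB true p2T = p2T * p2T ∧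
    sigB true tT = tT ∧ ∀ g : S, sigB true (⟨0, v0, g⟩ : T) = ⟨0, v0, g⟩ := by decide +kernel

theorem outJ_facts : ∀ v : JV, outJ (R1J v) = R1J (outJ v) ∧ (outJ v = jn v → R1J v = v) := by decide +kernel

namespace Base

variable {G : Type u} [Group G] {H : Base G}

/-- The centralizer of the involution. -/
def Wt (H : Base G) : Subgroup G := centralizer ({H.t} : Set G)

theorem mem_Wt {g : G} : g ∈ H.Wt ↔ g * H.t = H.t * g := mem_centralizer_singleton_iff

theorem out_inv : H.out⁻¹ = H.out := inv_eq_of_mul_eq_one_right H.out_sq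

theorem out_par (he : H.ext = true) (x : T) : H.out * H.par x * H.out⁻¹ = H.par (sigB true x) := by
  rw [out_inv, H.out_act, he]

theorem nrm_out (he : H.ext = true) : H.Nrm H.out outJ := fun v => by
  rw [emb, out_par he, sigB_gens.1]
  rfl

theorem out_comm_t (he : H.ext = true) : H.out * H.t = H.t * H.out := by
  refine mul_inv_eq_iff_eq_mul.1 ?_
  rw [t, out_par he, sigB_gens.2.2.1]

theorem out_Qsub (he : H.ext = true) {q : G} (hq : q ∈ H.Qsub) : H.out * q = q * H.out := by
  obtain ⟨g, -, rfl⟩ := Qsub_rep hq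
  refine mul_inv_eq_iff_eq_mul.1 ?_
  rw [out_par he, sigB_gens.2.2.2]

variable [Finite G]

theorem out_r1 (he : H.ext = true) (R : Refl H) : H.out * R.r1 = R.r1 * H.out :=
  refl_comm (nrm_out he) R.nrm1 H.out_sq R.sq1 (fun v => (outJ_facts v).1) fun v => (outJ_facts v).2

theorem out_r2 (he : H.ext = true) (R : Refl H) : H.out * R.r2 * H.out⁻¹ = R.r3 := by
  have hP : H.out * H.par p2T * H.out⁻¹ = (H.par p2T)⁻¹ := by
    rw [out_par he, sigB_gens.2.1, ← map_inv]
    exact congrArg H.par (eq_inv_of_mul_eq_one_left (by rw [t_p2.2.1]))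
  calc H.out * R.r2 * H.out⁻¹
      = (H.out * H.par p2T * H.out⁻¹) * (H.out * R.r1 * H.out⁻¹) * (H.out * H.par p2T * H.out⁻¹)⁻¹ := by
        rw [← R.cyc1]; group
    _ = (H.par p2T)⁻¹ * R.r1 * H.par p2T := by rw [hP, out_r1 he R, mul_inv_cancel_right, inv_inv]
    _ = R.r3 := by rw [← R.cyc3]; group

theorem out_r3 (he : H.ext = true) (R : Refl H) : H.out * R.r3 * H.out⁻¹ = R.r2 := by
  rw [← out_r2 he R, out_inv]
  calc H.out * (H.out * R.r2 * H.out) * H.out = (H.out * H.out) * R.r2 * (H.out * H.out) := by group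
    _ = R.r2 := by rw [H.out_sq, one_mul, mul_one]

theorem out_U (he : H.ext = true) (R : Refl H) {o : Fin 4} {x : G} (hx : x ∈ R.U o) :
    H.out * x * H.out⁻¹ ∈ R.U (![0, 1, 3, 2] o) := by
  obtain ⟨q, hq, rfl⟩ := R.mem_U.1 hx
  refine R.mem_U.2 ⟨q, hq, ?_⟩
  have e : H.out * R.cc o * H.out⁻¹ = R.cc (![0, 1, 3, 2] o) := by
    match o with
    | 0 => show H.out * 1 * H.out⁻¹ = 1; group
    | 1 => show H.out * R.r1 * H.out⁻¹ = R.r1; rw [out_r1 he R, mul_inv_cancel_right]
    | 2 => exact out_r2 he R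
    | 3 => exact out_r3 he R
  rw [← e]
  have hq' : H.out * q * H.out⁻¹ = q := by rw [out_Qsub he hq, mul_inv_cancel_right]
  conv_lhs => rw [← hq']
  group

theorem K_out (he : H.ext = true) (R : Refl H) {x : G} (hx : x ∈ R.K) :
    H.out * x * H.out⁻¹ ∈ R.K :=
  R.K_conj_mem (fun _ _ hy => R.U_le _ (out_U he R hy)) hx

/-- The complement `⟨r₁, r₂, r₃, out⟩`. -/
def Refl.DD (R : Refl H) : Subgroup G := closure {R.r1, R.r2, R.r3, H.out}

/-- The 2-subgroup `K⟨r₁, r₂, r₃, out⟩` of the centralizer of the involution. -/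
def Refl.TT (R : Refl H) : Subgroup G := R.K ⊔ R.DD

end Base

end CfsgLib.O8Three
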