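import Cfsg.Agent.O8Three.IndexThree
import Cfsg.Agent.ThreeSymNine.Setup

/-!
# The centralizer of three three-cycles inside `S₉` and the coordinates of `J/⟨m₁⟩`
-/

set_option autoImplicit false
set_option maxRecDepth 100000

namespace CfsgLib.O8Three

open CfsgLib.ThreeSymNine CfsgLib.AltNine
open CfsgLib.PSpFourInvol (S sm si)

/-- The reflection in `p₁` on `J`. -/
def oJ (v : JV) : JV := ⟨v.c, -v.a, v.b, v.k⟩

/-- The translation attached to an element of `J`. -/
def nineV (v : JV) : Fin 27 :=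
  vec ⟨(v.c + v.k).val, ZMod.val_lt _⟩ ⟨(v.c + 2 * v.k + 2 * v.a).val, ZMod.val_lt _⟩
    ⟨(v.c + 2 * v.k + v.a).val, ZMod.val_lt _⟩

/-- The block permutation attached to a power of `p₂` and of the outer involution. -/
def nineB (b : ZMod 3) (ε : Bool) : Fin 6 :=
  pm ((![0, 4, 5] : Fin 3 → Fin 6) b) (cond ε 2 0)

/-- The powers of `alJ`. -/
def alP (b : ZMod 3) (v : JV) : JV := if b = 0 then v else if b = 1 then alJ v else alJ (alJ v)

/-- The action of a pair on `J`. -/
def nineAct (b : ZMod 3) (ε : Bool) (v : JV) : JV := alP b (cond ε (oJ v) v)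

/-- The combination of exponents. -/
def nineAdd (b : ZMod 3) (ε : Bool) (c : ZMod 3) : ZMod 3 := b + cond ε (-c) c

/-- The product law of the coordinates. -/
def nineMul (p q : JV × ZMod 3 × Bool) : JV × ZMod 3 × Bool :=
  (ja p.1 (nineAct p.2.1 p.2.2 q.1), nineAdd p.2.1 p.2.2 q.2.1, xor p.2.2 q.2.2)

theorem nineV_ja : ∀ v w : JV, nineV (ja v w) = av (nineV v) (nineV w) := by decide +kernel

theorem nineV_act : ∀ (b : ZMod 3) (ε : Bool) (v : JV), nineV (nineAct b ε v) = pa (nineB b ε) (nineV v) := by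
  decide +kernel

theorem nineB_add : ∀ (b : ZMod 3) (ε : Bool) (c : ZMod 3) (δ : Bool),
    pm (nineB b ε) (nineB c δ) = nineB (nineAdd b ε c) (xor ε δ) := by decide +kernel

theorem nine_ker : ∀ (v : JV) (b : ZMod 3) (ε : Bool), nineV v = 0 ∧ nineB b ε = 0 ↔
    v.c = 0 ∧ v.a = 0 ∧ v.k = 0 ∧ b = 0 ∧ ε = false := by decide +kernel

theorem nine_surj : (∀ u : Fin 27, ∃ v : JV, nineV v = u) ∧
    ∀ a : Fin 6, ∃ (b : ZMod 3) (ε : Bool), nineB b ε = a := by decide +kernel

theorem nineV_z : nineV ⟨1, 0, 0, 0⟩ = 13 := by decide +kernel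

/-- The powers of `p₂`. -/
def p2P (b : ZMod 3) : T := qT 0 ⟨0, b, 0, 0⟩

theorem p2P_add : ∀ b c : ZMod 3, p2P (b + c) = p2P b * p2P c := by decide +kernel

theorem sigB_p2P : ∀ b : ZMod 3, sigB true (p2P b) = p2P (-b) := by decide +kernel

theorem sigB_jT : ∀ v : JV, sigB true (jT v) = jT (oJ v) := by decide +kernel

theorem p2P_jT_check : ∀ v : JV, p2T * jT v = jT (alJ v) * p2T := by decide +kernel

theorem p2P_jT (b : ZMod 3) (v : JV) : p2P b * jT v = jT (alP b v) * p2P b := by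
  have h3 : ∀ b : ZMod 3, b = 0 ∨ b = 1 ∨ b = 1 + 1 := by decide
  rcases h3 b with rfl | rfl | rfl
  · rw [show p2P 0 = 1 from qT_zero.2.2, one_mul, mul_one]; rfl
  · exact p2P_jT_check v
  · rw [p2P_add, mul_assoc, show p2P 1 = p2T from rfl, p2P_jT_check, ← mul_assoc, p2P_jT_check,
      mul_assoc]
    rfl

/-- The elements of the model commuting with `m₁`. -/
theorem tm_split {x : T} (h : x * m1T = m1T * x) : ∃ (v : JV) (b : ZMod 3), x = jT v * p2P b := by
  have hg : m1T.g = 0 := rfl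
  have h0 := va_cancel (comm_vec hg h)
  have hm := congrArg Vec.m h0
  have hn := congrArg Vec.n h0
  simp only [act, m1T, qT, mul_one, mul_zero, add_zero] at hm hn
  have hS := upper_inS _ hm hn
  have hbet := congrArg T.c h
  rw [mul_def, mul_def] at hbet
  simp only [tm, show act x.g m1T.v = m1T.v from h0, hg, act_zero] at hbet
  have hvn : x.v.n = 0 := by
    have hd : ∀ r : ZMod 3, r = -r → r = 0 := by decide
    refine hd _ ?_
    rw [bet_swap x.v m1T.v] at hbet
    simp [bet, m1T, qT] at hbet ⊢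
    linear_combination hbet
  refine ⟨jC (x * p2P (-x.v.b)), x.v.b, ?_⟩
  rw [jT_jC]
  · rw [mul_assoc, ← p2P_add, neg_add_cancel, show p2P 0 = 1 from qT_zero.2.2, mul_one]
  · have e1 : (x * p2P (-x.v.b)).v.b = 0 := by simp [mul_v, va, act, p2P, qT]
    have e2 : (x * p2P (-x.v.b)).v.n = 0 := by simp [mul_v, va, act, p2P, qT, hvn]
    have e3 : (x * p2P (-x.v.b)).g = x.g := by
      show sm x.g 0 = x.g
      exact (PSpFourInvol.sm_one x.g).2.1
    simp only [inJ, inS, e1, e2, e3, hS, beq_self_eq_true, Bool.and_self]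

theorem p2P_split {v w : JV} {b c : ZMod 3} (h : jT v * p2P b = jT w * p2P c) : v = w ∧ b = c := by
  have hb : b = c := by
    have := congrArg (fun x : T => x.v.b) h
    simpa [mul_v, va, act, p2P, qT, jT] using this
  subst hb
  exact ⟨jT_inj (mul_right_cancel h), rfl⟩

theorem m1_comm : (∀ v : JV, jT v * m1T = m1T * jT v) ∧ ∀ b : ZMod 3, p2P b * m1T = m1T * p2P b := by
  decide +kernel

end CfsgLib.O8Three
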