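import Cfsg.Agent.O8Three.CentW
import Cfsg.Agent.O8Three.ExtNineModel
import Cfsg.Agent.U62Cent.AutReduce

/-!
# The centralizer of `p₁` when it is `3.Aut(PSp₄(3))`

The computations run inside the subgroup of index two of the factor group.
-/

set_option autoImplicit false
set_option maxRecDepth 100000
set_option linter.style.haveILetI false
set_option linter.unusedSectionVars false

namespace CfsgLib.O8Three

open CfsgLib.PSpFourInvol (S sm si)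
open Subgroup
open scoped Pointwise

universe u v

theorem sigB_tT : sigB true tT = tT := by decide +kernel

theorem w_words : oJ (R2J (R3J ⟨0, 1, 0, 0⟩)) = ⟨0, 1, 0, 0⟩ ∧
    oJ (R2J (R3J (R1J ⟨1, 0, 0, 0⟩))) = jn ⟨1, 0, 0, 0⟩ ∧
    R1J ⟨1, 0, 0, 0⟩ ≠ jn ⟨1, 0, 0, 0⟩ := by decide +kernel

theorem R1J_b : ∀ v : JV, v.b = 0 → (R1J v).b = 0 := by decide +kernel

namespace Base

variable {G : Type u} [Group G] {H : Base G} [Finite G]

/-- A pair inside a subgroup of index two. -/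
theorem pair_sub {X : Type*} [Group X] [Finite X] {t z1 z2 : X} (h : PSpModel.Pair t z1 z2)
    (M : Subgroup X) (hi : M.index = 2) (ht : t ∈ M) (h1 : z1 ∈ M) (h2 : z2 ∈ M) :
    PSpModel.Pair (⟨t, ht⟩ : M) ⟨z1, h1⟩ ⟨z2, h2⟩ := by
  haveI := Subgroup.normal_of_index_eq_two hi
  have hcen : ∀ {z : X} (hz : z ∈ M), PSpModel.Central3 z → PSpModel.Central3 (⟨z, hz⟩ : M) := by
    intro z hz h3
    refine ⟨(Subgroup.orderOf_mk z hz).trans h3.1, ?_⟩
    set K := centralizer ({z} : Set X)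
    have e : centralizer ({(⟨z, hz⟩ : M)} : Set M) = K.subgroupOf M := by
      ext x
      rw [mem_subgroupOf, mem_centralizer_singleton_iff, mem_centralizer_singleton_iff,
        Subtype.ext_iff, Subgroup.coe_mul, Subgroup.coe_mul]
    have he : Nat.card (K.subgroupOf M) = Nat.card (M.subgroupOf K) :=
      Nat.card_congr
        { toFun := fun x => ⟨⟨x.1.1, x.2⟩, x.1.2⟩
          invFun := fun x => ⟨⟨x.1.1, x.2⟩, x.1.2⟩
          left_inv := fun _ => rfl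
          right_inv := fun _ => rfl }
    have hd : (M.subgroupOf K).index ∣ 2 := hi ▸ Subgroup.relIndex_dvd_index_of_normal M _
    have h81 := h3.2
    rw [← (M.subgroupOf K).card_mul_index] at h81
    rw [e, he]
    exact (Nat.Coprime.coprime_dvd_right hd (by norm_num : Nat.Coprime 81 2)).dvd_of_dvd_mul_right h81
  refine ⟨(Subgroup.orderOf_mk t ht).trans h.ord_t, hcen h1 h.central1, hcen h2 h.central2,
    Subtype.ext h.comm_t1, Subtype.ext h.comm_t2, Subtype.ext h.comm, fun hm => h.not_mem ?_⟩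
  obtain ⟨k, hk⟩ := mem_zpowers_iff.1 hm
  exact mem_zpowers_iff.2 ⟨k, by simpa using congrArg Subtype.val hk⟩

/-- The subgroup of index two of the factor group. -/
theorem exists_inner {F : Type v} [Field F] [Fintype F] (hF : Fintype.card F = 3)
    (e : H.XA ≃* MulAut (Cfsg.PSp 2 F)) :
    ∃ M : Subgroup H.XA, M.index = 2 ∧ Nonempty (Cfsg.PSp 2 F ≃* M) ∧
      ∀ x : H.XA, x ^ 3 = 1 → x ∈ M := by
  haveI := CfsgLib.U62Cent.psp_simple hF
  set f : Cfsg.PSp 2 F →* MulAut (Cfsg.PSp 2 F) := MulAut.conj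
  have h2 := CfsgLib.U62Cent.inn_index_two hF
  have hf : Function.Injective f := by
    refine (MonoidHom.ker_eq_bot_iff f).1
      ((IsSimpleGroup.eq_bot_or_eq_top_of_normal _ inferInstance).resolve_right fun h => ?_)
    have hb : Cfsg.Inn (Cfsg.PSp 2 F) = ⊥ := by
      rw [eq_bot_iff]
      rintro _ ⟨a, rfl⟩
      exact mem_bot.2 (MonoidHom.mem_ker.1 (h.ge (mem_top a)))
    rw [hb, index_bot, ← Nat.card_congr e.toEquiv] at h2
    have h3 : (3 : ℕ) ∣ Nat.card H.XA := H.zA_three ▸ orderOf_dvd_natCard H.zA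
    rw [h2] at h3
    norm_num at h3
  have hM : ((Cfsg.Inn (Cfsg.PSp 2 F)).map e.symm.toMonoidHom).index = 2 :=
    (Subgroup.index_map_equiv _ e.symm).trans h2
  refine ⟨_, hM,
    ⟨(MonoidHom.ofInjective hf).trans (equivMapOfInjective _ e.symm.toMonoidHom e.symm.injective)⟩,
    fun x hx => ?_⟩
  have h := mul_mem (mul_self_mem_of_index_two hM x) (mul_self_mem_of_index_two hM x)
  rwa [show x * x * (x * x) = x ^ 3 * x by simp only [pow_succ, pow_zero, one_mul, mul_assoc],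
    hx, one_mul] at h

/-- The image of the quaternion group lies in every subgroup containing the elements of order three. -/
theorem Qsub_mem {M : Subgroup H.XA} (hM : ∀ x : H.XA, x ^ 3 = 1 → x ∈ M) {g : H.Ca}
    (hg : (g : G) ∈ H.Qsub) : QuotientGroup.mk' H.aSub g ∈ M := by
  obtain ⟨s, -, hs⟩ := Qsub_rep hg
  rw [show g = ⟨H.par ⟨0, v0, s⟩, H.par_mem_Ca.2 rfl⟩ from Subtype.ext hs.symm]
  show H.psi ⟨⟨0, v0, s⟩, mem_Tb.2 rfl⟩ ∈ M
  obtain ⟨a, b, d, ha, hb, hd, e⟩ := three_gen s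
  have hL : ∀ s : S, sm (sm s s) s = 0 → H.psi ⟨⟨0, v0, s⟩, mem_Tb.2 rfl⟩ ∈ M := fun s h3 => by
    refine hM _ ?_
    rw [← map_pow, show (⟨⟨0, v0, s⟩, mem_Tb.2 rfl⟩ : Tb) ^ 3 = 1 from Subtype.ext (by
      rw [Subgroup.coe_pow, pow_succ, pow_two, L_mul, L_mul, h3]; rfl), map_one]
  have h := mul_mem (mul_mem (hL a ha) (hL b hb)) (hL d hd)
  rw [← map_mul, ← map_mul] at h
  convert h using 2
  refine Subtype.ext ?_
  rw [Subgroup.coe_mul, Subgroup.coe_mul, L_mul, L_mul, ← e]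

theorem Qsub_mem_Ca {x : G} (hx : x ∈ H.Qsub) : x ∈ H.Ca := by
  obtain ⟨_, ⟨s, -, rfl⟩, rfl⟩ := hx
  exact H.par_mem_Ca.2 rfl

variable (R : Refl H)

theorem Refl.r1_mem_Ca : R.r1 ∈ H.Ca := by
  rw [mem_centralizer_singleton_iff, ← mul_inv_eq_iff_eq_mul, aEl, R.nrm1]
  exact congrArg H.emb (by decide)

/-- The data inside the subgroup of index two. -/
theorem Refl.inner_data (hG : H.Good) {F : Type v} [Field F] [Fintype F] (hF : Fintype.card F = 3)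
    (e : H.XA ≃* MulAut (Cfsg.PSp 2 F)) :
    ∃ (M : Subgroup H.XA) (_ : Cfsg.PSp 2 F ≃* M)
      (ht : QuotientGroup.mk' H.aSub ⟨H.t, H.par_mem_Ca.2 rfl⟩ ∈ M)
      (hz : H.zA ∈ M) (hk : QuotientGroup.mk' H.aSub ⟨R.r1, R.r1_mem_Ca⟩ * H.zA *
        (QuotientGroup.mk' H.aSub ⟨R.r1, R.r1_mem_Ca⟩)⁻¹ ∈ M),
      M.index = 2 ∧ (∀ g : H.Ca, (g : G) ∈ H.Qsub → QuotientGroup.mk' H.aSub g ∈ M) ∧
      PSpModel.Pair (⟨_, ht⟩ : M) ⟨_, hz⟩ ⟨_, hk⟩ := by
  obtain ⟨M, hi, ⟨φ⟩, h3⟩ := exists_inner hF e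
  haveI := Subgroup.normal_of_index_eq_two hi
  have hz : H.zA ∈ M := h3 _ (by rw [← H.zA_three]; exact pow_orderOf_eq_one _)
  have hQ : ∀ g : H.Ca, (g : G) ∈ H.Qsub → QuotientGroup.mk' H.aSub g ∈ M :=
    fun g hg => Qsub_mem h3 hg
  obtain ⟨hP⟩ := H.pair_gen hG R.nrm1 R.comm1
  have ht := hQ ⟨H.t, H.par_mem_Ca.2 rfl⟩ t_mem_Qsub
  have hk := (inferInstance : M.Normal).conj_mem _ hz (QuotientGroup.mk' H.aSub ⟨R.r1, R.r1_mem_Ca⟩)
  exact ⟨M, φ, ht, hz, hk, hi, hQ, pair_sub hP M hi ht hz hk⟩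

/-- The image of an element of the quaternion group, and of its conjugate. -/
theorem Refl.two_mem {M : Subgroup H.XA}
    (ht : QuotientGroup.mk' H.aSub ⟨H.t, H.par_mem_Ca.2 rfl⟩ ∈ M) (hz : H.zA ∈ M)
    (hk : QuotientGroup.mk' H.aSub ⟨R.r1, R.r1_mem_Ca⟩ * H.zA *
      (QuotientGroup.mk' H.aSub ⟨R.r1, R.r1_mem_Ca⟩)⁻¹ ∈ M)
    {g : H.Ca} (hg : (g : G) ∈ H.Qsub) (hgM : QuotientGroup.mk' H.aSub g ∈ M) :
    (⟨_, hgM⟩ : M) ∈ PSpModel.two (⟨_, ht⟩ : M) ⟨_, hz⟩ ∧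
      ∀ h : QuotientGroup.mk' H.aSub (⟨R.r1, R.r1_mem_Ca⟩ * g * ⟨R.r1, R.r1_mem_Ca⟩⁻¹) ∈ M,
        (⟨_, h⟩ : M) ∈ PSpModel.two (⟨_, ht⟩ : M) ⟨_, hk⟩ := by
  set mkA := QuotientGroup.mk' H.aSub
  obtain ⟨-, h1, h8, h2⟩ := H.mem_Qsub_iff.1 hg
  have hmap : ∀ {x y : H.Ca}, (x : G) * y = y * x → mkA x * mkA y = mkA y * mkA x := fun {x y} h => by
    rw [← map_mul, ← map_mul]; exact congrArg mkA (Subtype.ext h)
  have e8 : mkA g ^ 2 ^ 3 = 1 := by
    rw [← map_pow]; exact (congrArg mkA (Subtype.ext h8)).trans (map_one mkA)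
  have et : Commute (mkA g) (mkA ⟨H.t, H.par_mem_Ca.2 rfl⟩) := hmap h1
  have ez : Commute (mkA g) H.zA := hmap (y := ⟨H.z, H.z_mem_Ca⟩) h2
  refine ⟨⟨⟨3, Subtype.ext e8⟩, Subtype.ext et, Subtype.ext ez⟩, fun h => ?_⟩
  have hr : mkA ⟨R.r1, R.r1_mem_Ca⟩ * mkA ⟨H.t, H.par_mem_Ca.2 rfl⟩ =
      mkA ⟨H.t, H.par_mem_Ca.2 rfl⟩ * mkA ⟨R.r1, R.r1_mem_Ca⟩ := hmap R.comm1
  set c := MulAut.conj (mkA ⟨R.r1, R.r1_mem_Ca⟩)
  have hc : mkA (⟨R.r1, R.r1_mem_Ca⟩ * g * ⟨R.r1, R.r1_mem_Ca⟩⁻¹) = c (mkA g) := by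
    rw [map_mul, map_mul, map_inv]; rfl
  have hct : c (mkA ⟨H.t, H.par_mem_Ca.2 rfl⟩) = mkA ⟨H.t, H.par_mem_Ca.2 rfl⟩ := by
    rw [MulAut.conj_apply, hr, mul_inv_cancel_right]
  have et' : Commute (c (mkA g)) (c (mkA ⟨H.t, H.par_mem_Ca.2 rfl⟩)) := et.map c
  have ez' : Commute (c (mkA g)) (c H.zA) := ez.map c
  rw [hct, ← hc] at et'
  rw [← hc] at ez'
  refine ⟨⟨3, Subtype.ext ?_⟩, Subtype.ext et', Subtype.ext ez'⟩
  show mkA _ ^ 2 ^ 3 = 1
  rw [hc, ← map_pow, e8, map_one]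

/-- The quaternion groups commute. -/
theorem Refl.comm_ext (hG : H.Good) {F : Type v} [Field F] [Fintype F] (hF : Fintype.card F = 3)
    (e : H.XA ≃* MulAut (Cfsg.PSp 2 F)) : R.Comm := by
  obtain ⟨M, φ, ht, hz, hk, hi, hQ, hP⟩ := R.inner_data hG hF e
  haveI := Subgroup.normal_of_index_eq_two hi
  intro i p hp q hq
  refine R.quat_comm_of (fun p q hp hq => ?_) i hp hq
  refine H.pk_comm_of R.r1_mem_Ca hp hq (Qsub_mem_Ca hp) (Qsub_mem_Ca hq) ?_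
  have h1 := R.two_mem ht hz hk (g := ⟨p, Qsub_mem_Ca hp⟩) hp (hQ _ hp)
  have h2 := R.two_mem ht hz hk (g := ⟨q, Qsub_mem_Ca hq⟩) hq (hQ _ hq)
  have hM : QuotientGroup.mk' H.aSub
      (⟨R.r1, R.r1_mem_Ca⟩ * ⟨q, Qsub_mem_Ca hq⟩ * ⟨R.r1, R.r1_mem_Ca⟩⁻¹) ∈ M := by
    rw [map_mul, map_mul, map_inv]
    exact (inferInstance : M.Normal).conj_mem _ (hQ _ hq) _
  exact congrArg Subtype.val (hP.two_comm hF φ h1.1 (h2.2 hM))

variable {R}

/-- An element inverting `z` is outside `Q₀Q₁.A.⟨r₁⟩`. -/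
theorem Refl.Comm.not_inverts (hR : R.Comm) {v : G}
    (hv : v ∈ R.U 0 ⊔ R.U 1 ⊔ H.AA ⊔ zpowers R.r1) : v * H.z * v⁻¹ ≠ H.z⁻¹ := by
  set E : Subgroup G := R.U 0 ⊔ R.U 1
  set L0 : Subgroup G := E ⊔ H.AA
  have hn01 : R.U 1 ≤ normalizer (R.U 0 : Set G) := by
    refine le_trans ?_ (centralizer_le_normalizer _)
    exact fun y hy => mem_centralizer_iff.2 fun x hx => hR.U_comm (by decide) hx hy
  have hAE : H.AA ≤ normalizer (E : Set G) := by
    rintro _ ⟨u, hu, rfl⟩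
    have k1 : ∀ w : JV, w.b = 0 → ∀ y ∈ E, H.emb w * y * (H.emb w)⁻¹ ∈ E := by
      intro w hw y hy
      exact (sup_le (fun z hz => mem_sup_left (R.U_norm hw hz)) (fun z hz => mem_sup_right (R.U_norm hw hz)) :
        E ≤ E.comap (MulAut.conj (H.emb w)).toMonoidHom) hy
    rw [mem_normalizer_iff]
    refine fun y => ⟨k1 u hu y, fun h => ?_⟩
    have := k1 (jn u) (by show -u.b = 0; rw [hu, neg_zero]) _ h
    rwa [H.emb_jn, inv_inv, show (H.emb u)⁻¹ * (H.emb u * y * (H.emb u)⁻¹) * H.emb u = y by group] at this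
  have hnorm : zpowers R.r1 ≤ normalizer (L0 : Set G) := by
    rw [zpowers_le]
    have hr : R.r1⁻¹ = R.r1 := R.inv_eq 0
    have key : L0 ≤ L0.comap (MulAut.conj R.r1).toMonoidHom := by
      refine sup_le (sup_le (fun y hy => ?_) fun y hy => ?_) ?_
      · obtain ⟨q, hq, rfl⟩ := R.mem_U.1 hy
        refine mem_sup_left (mem_sup_right (R.mem_U.2 ⟨q, hq, ?_⟩))
        show R.r1 * q * R.r1⁻¹ = R.r1 * ((1 : G) * q * (1 : G)⁻¹) * R.r1⁻¹
        group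
      · obtain ⟨q, hq, rfl⟩ := R.mem_U.1 hy
        refine mem_sup_left (mem_sup_left (R.mem_U.2 ⟨q, hq, ?_⟩))
        show (1 : G) * q * (1 : G)⁻¹ = R.r1 * (R.r1 * q * R.r1⁻¹) * R.r1⁻¹
        rw [hr, show R.r1 * (R.r1 * q * R.r1) * R.r1 = R.r1 * R.r1 * q * (R.r1 * R.r1) by group, R.sq1]
        group
      · rintro _ ⟨u, hu, rfl⟩
        refine mem_sup_right ?_
        show R.r1 * H.emb u * R.r1⁻¹ ∈ H.AA
        rw [R.nrm1]
        exact ⟨_, R1J_b u hu, rfl⟩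
    rw [mem_normalizer_iff]
    refine fun x => ⟨fun h => key h, fun h => ?_⟩
    have : R.r1 * (R.r1 * x * R.r1⁻¹) * R.r1⁻¹ ∈ L0 := key h
    rwa [hr, show R.r1 * (R.r1 * x * R.r1) * R.r1 = R.r1 * R.r1 * x * (R.r1 * R.r1) by group, R.sq1,
      one_mul, mul_one] at this
  intro hvz
  obtain ⟨l, hl, r, hrp, hlr⟩ := Set.mem_mul.1 (show v ∈ (L0 : Set G) * (zpowers R.r1 : Set G) by
    rw [← coe_mul_of_right_le_normalizer_left L0 _ hnorm]; exact hv)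
  obtain ⟨x, hx, _, ⟨u, -, rfl⟩, hxu⟩ := Set.mem_mul.1 (show l ∈ (E : Set G) * (H.AA : Set G) by
    rw [← coe_mul_of_right_le_normalizer_left E _ hAE]; exact hl)
  obtain ⟨p, hp, y, hy, hpy⟩ := Set.mem_mul.1 (show x ∈ (R.U 0 : Set G) * (R.U 1 : Set G) by
    rw [← coe_mul_of_right_le_normalizer_left _ _ hn01]; exact hx)
  have hpz : Commute p H.z := by
    obtain ⟨p', hp', rfl⟩ := R.mem_U.1 hp
    rw [show R.cc 0 * p' * (R.cc 0)⁻¹ = p' by show (1 : G) * p' * (1 : G)⁻¹ = p'; group]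
    exact (H.mem_Qsub_iff.1 hp').2.2.2
  obtain ⟨k, ⟨a, hak⟩, hk⟩ : ∃ k, (∃ a, H.emb a = k ∧ (a = ⟨1, 0, 0, 0⟩ ∨ a = R1J ⟨1, 0, 0, 0⟩)) ∧
      r * H.z * r⁻¹ = k := by
    obtain ⟨n, rfl⟩ := mem_zpowers_iff.1 (show r ∈ zpowers R.r1 from hrp)
    have h2 : R.r1 ^ (2 : ℤ) = 1 := by rw [zpow_two, R.sq1]
    rcases Int.even_or_odd' n with ⟨k, rfl | rfl⟩
    · exact ⟨_, ⟨⟨1, 0, 0, 0⟩, H.emb_zT.symm, Or.inl rfl⟩, by rw [zpow_mul, h2, one_zpow]; group⟩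
    · refine ⟨_, ⟨R1J ⟨1, 0, 0, 0⟩, rfl, Or.inr rfl⟩, ?_⟩
      rw [zpow_add_one, zpow_mul, h2, one_zpow, one_mul, H.emb_zT, R.nrm1]
  have huk : H.emb u * k * (H.emb u)⁻¹ = k := by rw [← hak.1, H.emb_comm, mul_inv_cancel_right]
  have h1 : p * (y * k * y⁻¹) * p⁻¹ = H.z⁻¹ := by
    rw [← hvz, ← hlr, ← hxu, ← hpy]
    calc p * (y * k * y⁻¹) * p⁻¹ = p * y * (H.emb u * k * (H.emb u)⁻¹) * y⁻¹ * p⁻¹ := by rw [huk]; group
      _ = _ := by rw [← hk]; group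
  have h2 : y * k * y⁻¹ = H.z⁻¹ := by
    calc y * k * y⁻¹ = p⁻¹ * (p * (y * k * y⁻¹) * p⁻¹) * p := by group
      _ = p⁻¹ * H.z⁻¹ * p := by rw [h1]
      _ = _ := by rw [mul_assoc, ← hpz.inv_right.eq, inv_mul_cancel_left]
  obtain ⟨ha1, rfl | rfl⟩ := hak
  · rw [← ha1, ← H.emb_zT] at h2
    have h3 : H.z * y * H.z⁻¹ * y⁻¹ ∈ R.U 1 := by
      refine mul_mem ?_ (inv_mem hy)
      rw [H.emb_zT]
      exact R.U_norm rfl hy
    rw [show H.z * y * H.z⁻¹ * y⁻¹ = H.z * (y * H.z * y⁻¹)⁻¹ by group, h2, inv_inv] at h3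
    obtain ⟨q, hq, e⟩ := R.mem_U.1 h3
    have h8 : (H.z * H.z) ^ 8 = 1 := by
      rw [← e, conj_pow, (H.mem_Qsub_iff.1 hq).2.2.1, mul_one, mul_inv_cancel]
    have h3' : H.z ^ 3 = 1 := by rw [H.emb_zT]; exact H.J_cube (H.mem_J.2 ⟨_, rfl⟩)
    have hz1 : H.z = 1 := by
      calc H.z = (H.z ^ 2) ^ 8 * (H.z ^ 3) ^ (-5 : ℤ) := by group
        _ = (H.z * H.z) ^ 8 * (H.z ^ 3) ^ (-5 : ℤ) := by rw [pow_two]
        _ = 1 := by rw [h8, h3', one_zpow, mul_one]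
    rw [H.emb_zT, ← H.emb_j0] at hz1
    exact absurd (H.emb_inj hz1) (by decide)
  · obtain ⟨q, hq, rfl⟩ := R.mem_U.1 hy
    rw [← ha1, ← R.nrm1, ← H.emb_zT] at h2
    have h3 : R.r1 * H.z * R.r1⁻¹ = H.z⁻¹ := by
      rw [← h2]
      show _ = R.r1 * q * R.r1⁻¹ * (R.r1 * H.z * R.r1⁻¹) * (R.r1 * q * R.r1⁻¹)⁻¹
      calc R.r1 * H.z * R.r1⁻¹ = R.r1 * (q * H.z * q⁻¹) * R.r1⁻¹ := by
            rw [(H.mem_Qsub_iff.1 hq).2.2.2, mul_inv_cancel_right]
        _ = _ := by group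
    rw [H.emb_zT, R.nrm1, ← H.emb_jn] at h3
    exact w_words.2.2 (H.emb_inj h3)

/-- The extended subgroup of the centralizer of `p₁` and `t`. -/
theorem Refl.Comm.cent_a_facts (hR : R.Comm) (he : H.ext = true) :
    3456 ≤ Nat.card ((R.U 0 ⊔ R.U 1) ⊔ (H.AA ⊔ closure {R.r1, H.out * R.r2 * R.r3}) : Subgroup G) ∧
      (R.U 0 ⊔ R.U 1) ⊔ (H.AA ⊔ closure {R.r1, H.out * R.r2 * R.r3}) ≤
        H.Ca ⊓ centralizer ({H.t} : Set G) := by
  classical
  obtain ⟨h1728, hLC⟩ := hR.cent_a_lower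
  set E : Subgroup G := R.U 0 ⊔ R.U 1 with hE
  set L0 : Subgroup G := E ⊔ H.AA
  set L : Subgroup G := L0 ⊔ zpowers R.r1
  set w := H.out * R.r2 * R.r3 with hw
  set L' : Subgroup G := E ⊔ (H.AA ⊔ closure {R.r1, w}) with hL'
  have hout : H.Nrm H.out oJ := fun u => by
    rw [inv_eq_of_mul_eq_one_right H.out_sq]
    show H.out * H.par (jT u) * H.out = _
    rw [H.out_act, he, sigB_jT]
    rfl
  have hot : H.out * H.t = H.t * H.out := by
    have h := H.out_act tT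
    rw [he, sigB_tT] at h
    calc H.out * H.t = H.out * H.par tT * H.out * H.out := by
          rw [mul_assoc (H.out * _), H.out_sq, mul_one]; rfl
      _ = _ := by rw [h]; rfl
  have hwn : H.Nrm w _ := (hout.mul R.nrm2).mul R.nrm3
  have hwC : w ∈ H.Ca ⊓ centralizer ({H.t} : Set G) := by
    refine ⟨mem_centralizer_singleton_iff.2 (mul_inv_eq_iff_eq_mul.1 ?_),
      mem_centralizer_singleton_iff.2 ?_⟩
    · rw [aEl, hwn]
      exact congrArg H.emb w_words.1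
    · exact (((show Commute H.out H.t from hot).mul_left R.comm2).mul_left R.comm3).eq
  have hle : L' ≤ H.Ca ⊓ centralizer ({H.t} : Set G) := by
    refine sup_le ((le_sup_left.trans le_sup_left).trans hLC)
      (sup_le ((le_sup_right.trans le_sup_left).trans hLC) ((closure_le _).2 ?_))
    rintro x (rfl | rfl)
    · exact hLC (mem_sup_right (mem_zpowers _))
    · exact hwC
  refine ⟨?_, hle⟩
  have hLL : L ≤ L' := sup_le (sup_le le_sup_left (le_sup_left.trans le_sup_right))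
    (zpowers_le.2 (mem_sup_right (mem_sup_right (subset_closure (Set.mem_insert _ _)))))
  have hwL' : w ∈ L' := mem_sup_right (mem_sup_right (subset_closure (Or.inr rfl)))
  have hwL : w ∉ L := by
    intro hwL
    refine hR.not_inverts (mul_mem hwL (mem_sup_right (mem_zpowers R.r1))) ?_
    rw [H.emb_zT, ← H.emb_jn, hwn.mul R.nrm1]
    exact congrArg H.emb w_words.2.1
  obtain ⟨m, hm⟩ := card_dvd_of_le hLL
  have hne : Nat.card L ≠ Nat.card L' := fun h =>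
    hwL ((eq_of_le_of_card_ge hLL h.ge).ge hwL')
  have hpos : 0 < Nat.card L' := Nat.card_pos
  rcases m with _ | _ | m
  · rw [hm] at hpos; omega
  · exact absurd (by rw [hm]; ring) hne
  · rw [hm]; nlinarith

/-- Bounds on the centralizers in the factor group. -/
theorem card_cent_ext (R : Refl H) (hG : H.Good) {F : Type v} [Field F] [Fintype F]
    (hF : Fintype.card F = 3) (e : H.XA ≃* MulAut (Cfsg.PSp 2 F)) :
    Nat.card (centralizer ({QuotientGroup.mk' H.aSub ⟨H.t, H.par_mem_Ca.2 rfl⟩} : Set H.XA)) ≤ 1152 ∧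
    Nat.card (H.Ca ⊓ centralizer ({H.t} : Set G) : Subgroup G) ≤
      3 * Nat.card (centralizer ({QuotientGroup.mk' H.aSub ⟨H.t, H.par_mem_Ca.2 rfl⟩} : Set H.XA)) := by
  obtain ⟨M, φ, ht, hz, hk, hi, -, hP⟩ := R.inner_data hG hF e
  haveI := Subgroup.normal_of_index_eq_two hi
  set tA : H.XA := QuotientGroup.mk' H.aSub ⟨H.t, H.par_mem_Ca.2 rfl⟩ with htA
  refine ⟨?_, ?_⟩
  · set K := centralizer ({tA} : Set H.XA)
    have h576 := hP.card_cent hF φ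
    have hm := (M.subgroupOf K).card_mul_index
    have hd : (M.subgroupOf K).index ≤ 2 :=
      Nat.le_of_dvd two_pos (hi ▸ Subgroup.relIndex_dvd_index_of_normal M K)
    have he : Nat.card (M.subgroupOf K) ≤ 576 := by
      rw [← h576]
      refine Nat.card_le_card_of_injective (fun x => ⟨⟨x.1.1, x.2⟩, mem_centralizer_singleton_iff.2
        (Subtype.ext (mem_centralizer_singleton_iff.1 x.1.2))⟩) fun a b h => ?_
      exact Subtype.ext (Subtype.ext (congrArg (fun y : centralizer ({(⟨tA, ht⟩ : M)} : Set M) =>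
        ((y : M) : H.XA)) h))
    rw [← hm]
    exact (Nat.mul_le_mul he hd).trans (by norm_num)
  · set C : Subgroup G := H.Ca ⊓ centralizer ({H.t} : Set G)
    let ψ : C →* H.XA := (QuotientGroup.mk' H.aSub).comp
      ((C.subtype).codRestrict H.Ca fun x => x.2.1)
    have hrange : ψ.range ≤ centralizer ({tA} : Set H.XA) := by
      rintro _ ⟨x, rfl⟩
      rw [mem_centralizer_singleton_iff, htA]
      show QuotientGroup.mk' _ _ * _ = _ * QuotientGroup.mk' _ _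
      rw [← map_mul, ← map_mul]
      exact congrArg _ (Subtype.ext (mem_centralizer_singleton_iff.1 x.2.2))
    have hker : Nat.card ψ.ker ≤ 3 := by
      let j : ψ.ker → H.aSub := fun x => ⟨⟨(x.1 : G), x.1.2.1⟩, (QuotientGroup.eq_one_iff _).1 x.2⟩
      have hj : Function.Injective j := fun a b h =>
        Subtype.ext (Subtype.ext (congrArg (fun y : H.aSub => ((y : H.Ca) : G)) h))
      exact (Nat.card_le_card_of_injective j hj).trans (le_of_eq H.card_aSub)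
    have h1 := ψ.ker.card_mul_index
    rw [index_ker] at h1
    calc Nat.card C = Nat.card ψ.ker * Nat.card ψ.range := h1.symm
      _ ≤ _ := Nat.mul_le_mul hker (Nat.le_of_dvd Nat.card_pos (card_dvd_of_le hrange))

/-- The centralizer of `p₁` in the centralizer of the involution. -/
theorem Refl.Comm.cent_a_ext (hR : R.Comm) (hG : H.Good) (he : H.ext = true) {F : Type v} [Field F]
    [Fintype F] (hF : Fintype.card F = 3) (e : H.XA ≃* MulAut (Cfsg.PSp 2 F)) {g : G}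
    (ht : g * H.t = H.t * g) (ha : g * H.aEl = H.aEl * g) :
    g ∈ (R.U 0 ⊔ R.U 1) ⊔ (H.AA ⊔ closure {R.r1, H.out * R.r2 * R.r3}) := by
  obtain ⟨h1, h2⟩ := card_cent_ext R hG hF e
  obtain ⟨h3, hle⟩ := hR.cent_a_facts he
  exact (eq_of_le_of_card_ge hle (by omega)).ge
    ⟨mem_centralizer_singleton_iff.2 ha, mem_centralizer_singleton_iff.2 ht⟩

/-- Products from the two quaternion groups are not conjugate to the involution. -/
theorem Refl.Comm.prod_not_conj_ext (hR : R.Comm) (hG : H.Good) (he : H.ext = true) {F : Type v}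
    [Field F] [Fintype F] (hF : Fintype.card F = 3) (e : H.XA ≃* MulAut (Cfsg.PSp 2 F))
    (q1 q : G) (hq1 : q1 ∈ H.Qsub) (hq : q ∈ H.Qsub) (hq11 : q1 ≠ 1) (hq1t : q1 ≠ H.t) (hq11' : q ≠ 1)
    (hqt : q ≠ H.t) (hmem : q1 * (R.r1 * q * R.r1⁻¹) ∈ H.Ca) :
    ¬ IsConj (QuotientGroup.mk' H.aSub ⟨H.t, H.par_mem_Ca.2 rfl⟩)
      (QuotientGroup.mk' H.aSub ⟨q1 * (R.r1 * q * R.r1⁻¹), hmem⟩) := by
  classical
  obtain ⟨M, φ, ht, hz, hk, hi, hQ, hP⟩ := R.inner_data hG hF e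
  haveI := Subgroup.normal_of_index_eq_two hi
  obtain ⟨-, hCX⟩ := card_cent_ext R hG hF e
  obtain ⟨hL3, hle⟩ := hR.cent_a_facts he
  set mkA := QuotientGroup.mk' H.aSub with hmk
  set tA := mkA ⟨H.t, H.par_mem_Ca.2 rfl⟩ with htA
  set g1 : H.Ca := ⟨q1, Qsub_mem_Ca hq1⟩
  set g2 : H.Ca := ⟨R.r1, R.r1_mem_Ca⟩ * ⟨q, Qsub_mem_Ca hq⟩ * ⟨R.r1, R.r1_mem_Ca⟩⁻¹
  have hM2 : mkA g2 ∈ M := by
    simp only [g2, map_mul, map_inv]
    exact (inferInstance : M.Normal).conj_mem _ (hQ _ hq) _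
  -- non-trivial images
  have hker : ∀ x : H.Ca, mkA x = 1 → (x : G) ^ 8 = 1 → (x : G) = 1 := fun x hx h8 => by
    have hx' : x ∈ H.aSub := (QuotientGroup.eq_one_iff x).1 hx
    have h3 : (x : G) ^ 3 = 1 := by
      have := pow_card_eq_one' (x := (⟨x, hx'⟩ : H.aSub))
      rw [H.card_aSub] at this
      exact congrArg (fun y : H.aSub => ((y : H.Ca) : G)) this
    have h := pow_gcd_eq_one.2 ⟨h8, h3⟩
    norm_num at h
    rw [h]; rfl
  have hne : ∀ x : G, ∀ hx : x ∈ H.Qsub, x ≠ 1 ∧ x ≠ H.t →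
      mkA ⟨x, Qsub_mem_Ca hx⟩ ≠ 1 ∧ mkA ⟨x, Qsub_mem_Ca hx⟩ ≠ tA := by
    intro x hx hxne
    obtain ⟨-, hxt, hx8, -⟩ := H.mem_Qsub_iff.1 hx
    refine ⟨fun h => hxne.1 (hker _ h hx8), fun h => hxne.2 ?_⟩
    have hm : mkA (⟨x, Qsub_mem_Ca hx⟩ * ⟨H.t, H.par_mem_Ca.2 rfl⟩) = 1 := by
      rw [map_mul, h, htA, ← map_mul]
      exact (congrArg mkA (Subtype.ext H.t_mul_self)).trans (map_one mkA)
    have h2 := hker _ hm (by
      show (x * H.t) ^ 8 = 1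
      rw [(show Commute x H.t from hxt).mul_pow, hx8, one_mul, show (8 : ℕ) = 2 * 4 from rfl, pow_mul,
        pow_two, H.t_mul_self, one_pow])
    change x * H.t = 1 at h2
    calc x = x * (H.t * H.t) := by rw [H.t_mul_self, mul_one]
      _ = H.t := by rw [← mul_assoc, h2, one_mul]
  obtain ⟨a1, a2⟩ := hne q1 hq1 ⟨hq11, hq1t⟩
  obtain ⟨b1, b2⟩ := hne q hq ⟨hq11', hqt⟩
  set c := MulAut.conj (mkA ⟨R.r1, R.r1_mem_Ca⟩)
  have hrt : c tA = tA := by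
    rw [MulAut.conj_apply, htA, ← map_inv, ← map_mul, ← map_mul]
    exact congrArg mkA (Subtype.ext (show R.r1 * H.t * R.r1⁻¹ = H.t by rw [R.comm1, mul_inv_cancel_right]))
  have hc2 : mkA g2 = c (mkA ⟨q, Qsub_mem_Ca hq⟩) := by
    simp only [g2, map_mul, map_inv]; rfl
  have c1 : mkA g2 ≠ 1 := fun h => b1 (c.injective ((hc2.symm.trans h).trans (map_one c).symm))
  have c2 : mkA g2 ≠ tA := fun h => b2 (c.injective ((hc2.symm.trans h).trans hrt.symm))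
  have hp : mkA ⟨q1 * (R.r1 * q * R.r1⁻¹), hmem⟩ = mkA g1 * mkA g2 := by
    rw [← map_mul]; exact congrArg mkA (Subtype.ext rfl)
  have hnot := hP.prod_not_conj hF φ (R.two_mem ht hz hk (g := g1) hq1 (hQ _ hq1)).1
    ((R.two_mem ht hz hk (g := ⟨q, Qsub_mem_Ca hq⟩) hq (hQ _ hq)).2 hM2)
    ⟨fun h => a1 (congrArg Subtype.val h), fun h => a2 (congrArg Subtype.val h)⟩
    ⟨fun h => c1 (congrArg Subtype.val h), fun h => c2 (congrArg Subtype.val h)⟩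
  -- an outer element centralises the involution
  obtain ⟨d, hd, hdM⟩ : ∃ d, d * tA * d⁻¹ = tA ∧ d ∉ M := by
    by_contra hcon
    push Not at hcon
    have h4 := Nat.le_of_dvd Nat.card_pos (card_dvd_of_le hle)
    have h576 := hP.card_cent hF φ
    have h5 : Nat.card (centralizer ({tA} : Set H.XA)) ≤ 576 := by
      rw [← h576]
      refine Nat.card_le_card_of_injective (fun x => ⟨⟨x.1, hcon x.1 (mul_inv_eq_iff_eq_mul.2
          (mem_centralizer_singleton_iff.1 x.2))⟩, mem_centralizer_singleton_iff.2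
          (Subtype.ext (mem_centralizer_singleton_iff.1 x.2))⟩) fun a b h => ?_
      exact Subtype.ext (congrArg (fun y : centralizer ({(⟨tA, ht⟩ : M)} : Set M) =>
        ((y : M) : H.XA)) h)
    omega
  intro hconj
  obtain ⟨g, hg⟩ := isConj_iff.1 hconj
  obtain ⟨g', hg'M, hg'⟩ : ∃ g' ∈ M, g' * tA * g'⁻¹ = mkA g1 * mkA g2 := by
    by_cases hgM : g ∈ M
    · exact ⟨g, hgM, hg.trans hp⟩
    · refine ⟨g * d, (Subgroup.mul_mem_iff_of_index_two hi).2 (iff_of_false hgM hdM), ?_⟩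
      calc g * d * tA * (g * d)⁻¹ = g * (d * tA * d⁻¹) * g⁻¹ := by group
        _ = _ := by rw [hd]; exact hg.trans hp
  exact hnot (isConj_iff.2 ⟨⟨g', hg'M⟩, Subtype.ext hg'⟩)

end Base

end CfsgLib.O8Three
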