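import Cfsg.Agent.O8Three.ExtNineModel
import Cfsg.Agent.O8Three.CentA
import Cfsg.Agent.O8Three.Classes
import Cfsg.Agent.S3343

/-!
# The centralizer of an element of type `m₁`: it normalises `J` or is `3 × S₉`
-/

set_option autoImplicit false
set_option maxRecDepth 100000
set_option linter.style.haveILetI false
set_option linter.unusedSectionVars false

namespace CfsgLib.O8Three

open CfsgLib.ThreeSymNine CfsgLib.AltNine

universe u

theorem oJ_facts : ∀ v : JV, oJ (oJ v) = v ∧ alP 0 v = v ∧ v.c = v.c ∧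
    (v.a = 0 ∧ v.c = 0 ∧ v.k = 0 → oJ v = v) := by decide +kernel

theorem qJ_mline : ∀ j : ZMod 3, qJ ⟨1, 0, j, 0⟩ = 0 → j = 0 := by decide

namespace Base

attribute [local instance] fact_three

variable {G : Type u} [Group G] (H : Base G)

/-- The element `m₁`. -/
def mEl : G := H.emb ⟨0, 0, 1, 0⟩

/-- Its centralizer. -/
abbrev Cm : Subgroup G := Subgroup.centralizer ({H.mEl} : Set G)

/-- The group it generates, inside the centralizer. -/
def mSub : Subgroup H.Cm := (Subgroup.zpowers H.mEl).subgroupOf H.Cm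

theorem mEl_eq : H.mEl = H.par m1T := congrArg H.par jT_gens.2

theorem mEl_cube : H.mEl ^ 3 = 1 := H.J_cube (H.mem_J.2 ⟨_, rfl⟩)

theorem mem_mzp {g : G} : g ∈ Subgroup.zpowers H.mEl ↔ ∃ j : ZMod 3, g = H.emb ⟨0, 0, j, 0⟩ := by
  let L : Subgroup G :=
    { carrier := {g | ∃ j : ZMod 3, g = H.emb ⟨0, 0, j, 0⟩}
      mul_mem' := by
        rintro _ _ ⟨i, rfl⟩ ⟨j, rfl⟩
        exact ⟨i + j, by rw [← H.emb_ja]; simp [ja]⟩
      one_mem' := ⟨0, H.emb_j0.symm⟩
      inv_mem' := by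
        rintro _ ⟨i, rfl⟩
        exact ⟨-i, by rw [← H.emb_jn]; simp [jn]⟩ }
  refine ⟨fun h => (Subgroup.zpowers_le.2 (show H.mEl ∈ L from ⟨1, rfl⟩)) h, ?_⟩
  rintro ⟨j, rfl⟩
  have h3 : ∀ j : ZMod 3, j = 0 ∨ j = 1 ∨ j = -1 := by decide
  rcases h3 j with rfl | rfl | rfl
  · exact H.emb_j0.symm ▸ one_mem _
  · exact Subgroup.mem_zpowers _
  · have e : H.emb ⟨0, 0, -1, 0⟩ = H.mEl⁻¹ := by rw [mEl, ← H.emb_jn]; rfl
    rw [e]; exact inv_mem (Subgroup.mem_zpowers _)

instance mSub_normal : H.mSub.Normal := by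
  constructor
  intro n hn g
  have h : Commute (g : G) (n : G) := by
    obtain ⟨k, hk⟩ := Subgroup.mem_zpowers_iff.1 (show (n : G) ∈ Subgroup.zpowers H.mEl from hn)
    rw [← hk]
    exact (show Commute (g : G) H.mEl from Subgroup.mem_centralizer_singleton_iff.1 g.2).zpow_right k
  rw [show g * n * g⁻¹ = n from Subtype.ext (by
    show (g : G) * n * (g : G)⁻¹ = n
    rw [h.eq, mul_inv_cancel_right])]
  exact hn

/-- The factor group. -/
abbrev XM : Type u := H.Cm ⧸ H.mSub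

theorem emb_mem_Cm (v : JV) : H.emb v ∈ H.Cm :=
  Subgroup.mem_centralizer_singleton_iff.2 (H.emb_comm _ _)

theorem z_mem_Cm : H.z ∈ H.Cm := H.emb_zT ▸ H.emb_mem_Cm _

/-- The image of `z`. -/
def zM : H.XM := QuotientGroup.mk' H.mSub ⟨H.z, H.z_mem_Cm⟩

/-- The image of `J`. -/
def JM : Subgroup H.XM := (H.J.subgroupOf H.Cm).map (QuotientGroup.mk' H.mSub)

/-- The part commuting with `z`. -/
abbrev DM : Subgroup G := Subgroup.centralizer ({H.z} : Set G) ⊓ H.Cm

/-- The coordinates of `DM`. -/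
def fM (p : JV × ZMod 3 × Bool) : G := H.emb p.1 * H.par (p2P p.2.1) * cond p.2.2 H.out 1

variable {H}

theorem out_act_true (he : H.ext = true) (x : T) : H.out * H.par x = H.par (sigB true x) * H.out := by
  rw [← he, ← H.out_act, mul_assoc, H.out_sq, mul_one]

theorem out_emb (he : H.ext = true) (v : JV) : H.out * H.emb v = H.emb (oJ v) * H.out := by
  rw [emb, out_act_true he, sigB_jT]; rfl

theorem out_p2P (he : H.ext = true) (b : ZMod 3) :
    H.out * H.par (p2P b) = H.par (p2P (-b)) * H.out := by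
  rw [out_act_true he, sigB_p2P]

theorem p2P_emb (b : ZMod 3) (v : JV) : H.par (p2P b) * H.emb v = H.emb (alP b v) * H.par (p2P b) := by
  rw [emb, emb, ← map_mul, ← map_mul, p2P_jT]

theorem fM_mul (he : H.ext = true) (p q : JV × ZMod 3 × Bool) :
    H.fM p * H.fM q = H.fM (nineMul p q) := by
  obtain ⟨v, b, ε⟩ := p
  obtain ⟨w, c, δ⟩ := q
  have key : ∀ c', H.emb v * H.par (p2P b) * (H.emb w * H.par (p2P c')) =
      H.emb (ja v (alP b w)) * H.par (p2P (b + c')) := fun c' => by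
    rw [show H.emb v * H.par (p2P b) * (H.emb w * H.par (p2P c')) =
      H.emb v * (H.par (p2P b) * H.emb w) * H.par (p2P c') by group, p2P_emb, p2P_add, map_mul, H.emb_ja]
    group
  cases ε
  · simp only [fM, nineMul, nineAct, nineAdd, cond_false, mul_one, Bool.false_xor]
    rw [← mul_assoc, key]
  · simp only [fM, nineMul, nineAct, nineAdd, cond_true]
    have e : H.emb v * H.par (p2P b) * H.out * (H.emb w * H.par (p2P c) * cond δ H.out 1) =
        H.emb v * H.par (p2P b) * (H.emb (oJ w) * H.par (p2P (-c))) * (H.out * cond δ H.out 1) := by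
      rw [show H.emb v * H.par (p2P b) * H.out * (H.emb w * H.par (p2P c) * cond δ H.out 1) =
        H.emb v * H.par (p2P b) * (H.out * H.emb w) * H.par (p2P c) * cond δ H.out 1 by group, out_emb he,
        show H.emb v * H.par (p2P b) * (H.emb (oJ w) * H.out) * H.par (p2P c) * cond δ H.out 1 =
          H.emb v * H.par (p2P b) * H.emb (oJ w) * (H.out * H.par (p2P c)) * cond δ H.out 1 by group,
        out_p2P he]
      group
    rw [e]
    have key2 : H.emb v * H.par (p2P b) * (H.emb (oJ w) * H.par (p2P (-c))) =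
        H.emb (ja v (alP b (oJ w))) * H.par (p2P (b + -c)) := by
      rw [show H.emb v * H.par (p2P b) * (H.emb (oJ w) * H.par (p2P (-c))) =
        H.emb v * (H.par (p2P b) * H.emb (oJ w)) * H.par (p2P (-c)) by group, p2P_emb, p2P_add, map_mul,
        H.emb_ja]
      group
    rw [key2]
    cases δ <;> simp [H.out_sq]

theorem fM_inj (he : H.ext = true) : Function.Injective H.fM := by
  rintro ⟨v, b, ε⟩ ⟨w, c, δ⟩ h
  simp only [fM, emb, ← map_mul] at h
  cases ε <;> cases δ <;> simp only [cond_true, cond_false, mul_one] at h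
  · obtain ⟨rfl, rfl⟩ := p2P_split (H.inj h); rfl
  · exact absurd (by rw [map_mul, map_inv, h]; group : H.par ((jT w * p2P c)⁻¹ * (jT v * p2P b)) = H.out)
      (H.out_not he _)
  · exact absurd (by rw [map_mul, map_inv, ← h]; group : H.par ((jT v * p2P b)⁻¹ * (jT w * p2P c)) = H.out)
      (H.out_not he _)
  · obtain ⟨rfl, rfl⟩ := p2P_split (H.inj (mul_right_cancel h)); rfl

theorem fM_mem (he : H.ext = true) (p : JV × ZMod 3 × Bool) : H.fM p ∈ H.DM := by
  have ho : H.out * H.par m1T = H.par m1T * H.out := by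
    rw [out_act_true he, show sigB true m1T = m1T by decide +kernel]
  refine mul_mem (mul_mem ?_ ?_) ?_
  · exact ⟨Subgroup.mem_centralizer_singleton_iff.2 (H.par_z _), H.emb_mem_Cm _⟩
  · refine ⟨Subgroup.mem_centralizer_singleton_iff.2 (H.par_z _),
      Subgroup.mem_centralizer_singleton_iff.2 ?_⟩
    rw [mEl_eq, H.par_comm]
    exact m1_comm.2 _
  · cases p.2.2
    · exact one_mem _
    · exact ⟨Subgroup.mem_centralizer_singleton_iff.2 H.out_z,
        Subgroup.mem_centralizer_singleton_iff.2 (by rw [mEl_eq]; exact ho)⟩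

theorem fM_surj (he : H.ext = true) {g : G} (hg : g ∈ H.DM) : ∃ p, H.fM p = g := by
  have hz := Subgroup.mem_centralizer_singleton_iff.1 hg.1
  have hm := Subgroup.mem_centralizer_singleton_iff.1 hg.2
  rw [H.mEl_eq] at hm
  obtain ⟨x, rfl | rfl⟩ := H.mem_cent.1 hz
  · obtain ⟨v, b, rfl⟩ := tm_split (H.par_comm.1 hm)
    exact ⟨(v, b, false), by simp [fM, emb]⟩
  · have ho : H.out * H.par m1T = H.par m1T * H.out := by
      rw [out_act_true he, show sigB true m1T = m1T by decide +kernel]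
    rw [mul_assoc, ho, ← mul_assoc, ← mul_assoc, mul_left_inj] at hm
    obtain ⟨v, b, rfl⟩ := tm_split (H.par_comm.1 hm)
    exact ⟨(v, b, true), by simp [fM, emb]⟩

/-- The coordinates as an equivalence. -/
noncomputable def eqM (he : H.ext = true) : JV × ZMod 3 × Bool ≃ H.DM :=
  Equiv.ofBijective (fun p => ⟨H.fM p, fM_mem he p⟩)
    ⟨fun _ _ h => fM_inj he (congrArg Subtype.val h), fun g => (fM_surj he g.2).imp fun _ h => Subtype.ext h⟩

/-- The map to the centralizer of three three-cycles. -/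
noncomputable def nineHom (he : H.ext = true) :
    H.DM →* Subgroup.centralizer ({trn 13} : Set (Equiv.Perm (Fin 9))) :=
  MonoidHom.mk' (fun g => inC (nineV ((eqM he).symm g).1) (nineB ((eqM he).symm g).2.1 ((eqM he).symm g).2.2))
    fun x y => by
      obtain ⟨p, rfl⟩ := (eqM he).surjective x
      obtain ⟨q, rfl⟩ := (eqM he).surjective y
      have e : eqM he p * eqM he q = eqM he (nineMul p q) := Subtype.ext (fM_mul he p q)
      rw [e]
      simp only [Equiv.symm_apply_apply]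
      rw [inC_mul, ← nineV_act, nineB_add, ← nineV_ja]
      rfl

theorem nineHom_apply (he : H.ext = true) (p : JV × ZMod 3 × Bool) :
    nineHom he (eqM he p) = inC (nineV p.1) (nineB p.2.1 p.2.2) := by
  show inC (nineV ((eqM he).symm (eqM he p)).1) _ = _
  rw [Equiv.symm_apply_apply]

theorem nineHom_surj (he : H.ext = true) : Function.Surjective (nineHom he) := by
  rintro ⟨g, hg⟩
  obtain ⟨u, a, rfl⟩ := exists_mdl (Subgroup.mem_centralizer_singleton_iff.1 hg)
  obtain ⟨v, rfl⟩ := nine_surj.1 u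
  obtain ⟨b, ε, rfl⟩ := nine_surj.2 a
  exact ⟨eqM he (v, b, ε), (nineHom_apply he _).trans rfl⟩

theorem nineHom_eq_one (he : H.ext = true) (g : H.DM) :
    nineHom he g = 1 ↔ (g : G) ∈ Subgroup.zpowers H.mEl := by
  obtain ⟨⟨v, b, ε⟩, rfl⟩ := (eqM he).surjective g
  rw [nineHom_apply]
  constructor
  · intro h
    obtain ⟨h1, h2⟩ := mdl_eq_one (congrArg Subtype.val h :)
    obtain ⟨hc, ha, hk, hb, hε⟩ := (nine_ker v b ε).1 ⟨h1, h2⟩
    subst hb hε
    refine H.mem_mzp.2 ⟨v.b, ?_⟩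
    show H.fM _ = _
    simp only [fM, show p2P 0 = 1 from qT_zero.2.2, map_one, cond_false, mul_one]
    exact congrArg H.emb (JV.ext hc ha rfl hk)
  · intro h
    obtain ⟨j, hj⟩ := H.mem_mzp.1 h
    have hp : H.fM (⟨0, 0, j, 0⟩, 0, false) = H.emb ⟨0, 0, j, 0⟩ := by
      simp [fM, show p2P 0 = 1 from qT_zero.2.2]
    obtain ⟨e1, e2, e3⟩ : v = ⟨0, 0, j, 0⟩ ∧ b = 0 ∧ ε = false := by
      have := fM_inj he ((show H.fM (v, b, ε) = H.emb ⟨0, 0, j, 0⟩ from hj).trans hp.symm)
      simpa using this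
    obtain ⟨h1, h2⟩ := (nine_ker v b ε).2 ⟨by rw [e1], by rw [e1], by rw [e1], e2, e3⟩
    refine Subtype.ext ?_
    show mdl _ _ = 1
    rw [h1, h2, mdl_zero]

/-- Conjugates of `z` on the line through `z` and `m₁`. -/
theorem Good.mline (hG : H.Good) {g : G}
    (h : ∃ a ∈ Subgroup.zpowers H.mEl, g * H.z * g⁻¹ = H.z * a) : g * H.z * g⁻¹ = H.z := by
  obtain ⟨a, ha, e⟩ := h
  obtain ⟨j, rfl⟩ := H.mem_mzp.1 ha
  rw [H.emb_zT, ← H.emb_ja] at e
  have e' : g * H.z * g⁻¹ = H.emb ⟨1, 0, j, 0⟩ := by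
    rw [H.emb_zT, e]; simp [ja]
  have hq := ((hG _).1 ⟨g, Or.inl e'⟩).2
  rw [e', qJ_mline j hq, H.emb_zT]

/-- The part commuting with `z` maps onto the centralizer of its image. -/
noncomputable def psiM : H.DM →* Subgroup.centralizer ({H.zM} : Set H.XM) :=
  ((QuotientGroup.mk' H.mSub).comp (Subgroup.inclusion inf_le_right)).codRestrict _ fun g => by
    rw [Subgroup.mem_centralizer_singleton_iff, zM, MonoidHom.comp_apply, ← map_mul, ← map_mul]
    exact congrArg _ (Subtype.ext (Subgroup.mem_centralizer_singleton_iff.1 g.2.1))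

theorem psiM_surj (hG : H.Good) : Function.Surjective (psiM (H := H)) := by
  rintro ⟨q, hq⟩
  obtain ⟨g, rfl⟩ := QuotientGroup.mk'_surjective H.mSub q
  rw [Subgroup.mem_centralizer_singleton_iff, ← mul_inv_eq_iff_eq_mul, zM, ← map_mul, ← map_inv,
    ← map_mul, eq_comm, QuotientGroup.mk'_eq_mk'] at hq
  obtain ⟨a, ha, e⟩ := hq
  have e' : (g : G) * H.z * (g : G)⁻¹ = H.z * (a : G) := (congrArg Subtype.val e).symm
  have hz := hG.mline ⟨_, ha, e'⟩
  exact ⟨⟨g, Subgroup.mem_centralizer_singleton_iff.2 (mul_inv_eq_iff_eq_mul.1 hz), g.2⟩, rfl⟩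

theorem psiM_eq_one (g : H.DM) : psiM g = 1 ↔ (g : G) ∈ Subgroup.zpowers H.mEl := by
  rw [Subtype.ext_iff]
  show QuotientGroup.mk' H.mSub ⟨(g : G), g.2.2⟩ = 1 ↔ _
  rw [QuotientGroup.mk'_apply, QuotientGroup.eq_one_iff]
  rfl

theorem exists_eC (hG : H.Good) (he : H.ext = true) :
    Nonempty (Subgroup.centralizer ({H.zM} : Set H.XM) ≃*
      Subgroup.centralizer ({trn 13} : Set (Equiv.Perm (Fin 9)))) :=
  ⟨(QuotientGroup.quotientKerEquivOfSurjective _ (psiM_surj hG)).symm.trans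
    ((QuotientGroup.quotientMulEquivOfEq (by
      ext g
      rw [MonoidHom.mem_ker, MonoidHom.mem_ker, psiM_eq_one, nineHom_eq_one he])).trans
      (QuotientGroup.quotientKerEquivOfSurjective _ (nineHom_surj he)))⟩

theorem JM_le : H.JM ≤ Subgroup.centralizer ({H.zM} : Set H.XM) := by
  rintro _ ⟨g, hg, rfl⟩
  rw [Subgroup.mem_centralizer_singleton_iff, zM, ← map_mul, ← map_mul]
  obtain ⟨v, hv⟩ := H.mem_J.1 (show (g : G) ∈ H.J from hg)
  refine congrArg _ (Subtype.ext ?_)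
  show (g : G) * H.z = H.z * g
  rw [← hv, H.emb_zT]; exact H.emb_comm _ _

theorem JM_comm : IsMulCommutative H.JM := ⟨⟨by
  rintro ⟨_, x, hx, rfl⟩ ⟨_, y, hy, rfl⟩
  refine Subtype.ext ?_
  show QuotientGroup.mk' H.mSub x * QuotientGroup.mk' H.mSub y =
    QuotientGroup.mk' H.mSub y * QuotientGroup.mk' H.mSub x
  rw [← map_mul, ← map_mul]
  obtain ⟨v, hv⟩ := H.mem_J.1 (show (x : G) ∈ H.J from hx)
  obtain ⟨w, hw⟩ := H.mem_J.1 (show (y : G) ∈ H.J from hy)
  refine congrArg _ (Subtype.ext ?_)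
  show (x : G) * y = y * x
  rw [← hv, ← hw]; exact H.emb_comm _ _⟩⟩

theorem JM_exp : ∀ j ∈ H.JM, j ^ 3 = 1 := by
  rintro _ ⟨x, hx, rfl⟩
  rw [← map_pow, show x ^ 3 = 1 from Subtype.ext (H.J_cube hx), map_one]

variable [Finite G]

theorem card_mSub : Nat.card H.mSub = 3 := by
  rw [mSub, Nat.card_congr (Subgroup.subgroupOfEquivOfLe (Subgroup.zpowers_le.2
    (Subgroup.mem_centralizer_singleton_iff.2 rfl))).toEquiv, Nat.card_zpowers]
  refine orderOf_eq_prime H.mEl_cube fun e => ?_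
  rw [mEl, ← H.emb_j0] at e
  exact absurd (congrArg JV.b (H.emb_inj e)) (show (1 : ZMod 3) ≠ 0 by decide)

theorem JM_card : Nat.card H.JM = 27 := by
  have h1 : Nat.card ((H.JM).comap (QuotientGroup.mk' H.mSub)) = 81 := by
    rw [JM, Subgroup.comap_map_eq_self, Nat.card_congr (Subgroup.subgroupOfEquivOfLe
      (show H.J ≤ H.Cm from fun g hg => by
        obtain ⟨v, rfl⟩ := H.mem_J.1 hg; exact H.emb_mem_Cm v)).toEquiv, H.card_J]
    rw [QuotientGroup.ker_mk']
    intro g hg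
    obtain ⟨j, hj⟩ := H.mem_mzp.1 (show (g : G) ∈ Subgroup.zpowers H.mEl from hg)
    exact H.mem_J.2 ⟨_, hj.symm⟩
  rw [card_comap_mk', card_mSub] at h1
  exact Nat.eq_of_mul_eq_mul_left (by norm_num : 0 < 3) (h1.trans (by norm_num))

theorem JM_signalizer (hG : H.Good) (K : Subgroup H.XM) (hK : (Nat.card K).Coprime 3)
    (hn : ∀ j ∈ H.JM, K.map (MulAut.conj j).toMonoidHom = K) : K = ⊥ := by
  set π := QuotientGroup.mk' H.mSub with hπ
  set K' := K.comap π with hK'
  have hAK : H.mSub ≤ K' := fun a ha => by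
    rw [hK', Subgroup.mem_comap, hπ, QuotientGroup.mk'_apply, (QuotientGroup.eq_one_iff a).2 ha]
    exact one_mem K
  set N := H.mSub.subgroupOf K'
  have hNcard : Nat.card N = 3 := by
    rw [Nat.card_congr (Subgroup.subgroupOfEquivOfLe hAK).toEquiv, card_mSub]
  have hKcard : Nat.card K' = 3 * Nat.card K := by
    rw [← card_mSub (H := H)]
    exact CfsgLib.O8Three.card_comap_mk' H.mSub K
  have hidx : N.index = Nat.card K := by
    have := N.card_mul_index
    rw [hNcard, hKcard] at this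
    omega
  obtain ⟨L, hL⟩ := Subgroup.exists_right_complement'_of_coprime (N := N)
    (by rw [hNcard, hidx]; exact hK.symm)
  have hLcard : Nat.card L = Nat.card K := hL.symm.index_eq_card.symm.trans hidx
  have hLset : ∀ x : K', x ^ Nat.card K = 1 → x ∈ L := by
    intro x hx
    obtain ⟨⟨a, l⟩, e⟩ := hL.2 x
    dsimp only at e
    have hc : Commute (a : K') l := by
      refine Subtype.ext (Subtype.ext ?_)
      show ((a : K') : H.Cm) * (((l : K') : H.Cm) : G) = (((l : K') : H.Cm) : G) * ((a : K') : H.Cm)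
      obtain ⟨k, hk⟩ := Subgroup.mem_zpowers_iff.1
        (show ((((a : N) : K') : H.Cm) : G) ∈ Subgroup.zpowers H.mEl from a.2)
      rw [← hk]
      exact ((show Commute _ H.mEl from
        Subgroup.mem_centralizer_singleton_iff.1 (l : K').1.2).zpow_right k).symm.eq
    have hl1 : (l : K') ^ Nat.card K = 1 := by
      rw [← hLcard]; exact congrArg Subtype.val (pow_card_eq_one' (x := l))
    rw [← e, hc.mul_pow, hl1, mul_one] at hx
    have h3 : (a : K') ^ 3 = 1 := by rw [← hNcard]; exact congrArg Subtype.val (pow_card_eq_one' (x := a))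
    have ha1 : (a : K') = 1 := by
      have := pow_gcd_eq_one.2 ⟨hx, h3⟩
      rwa [hK.gcd_eq_one, pow_one] at this
    rw [← e, ha1, one_mul]
    exact l.2
  set ι : K' →* G := H.Cm.subtype.comp K'.subtype
  have hιinj : Function.Injective ι := H.Cm.subtype_injective.comp K'.subtype_injective
  have hM : L.map ι = ⊥ := by
    refine hG.signalizer_free _ (by rw [Subgroup.card_map_of_injective hιinj, hLcard]; exact hK) ?_
    rintro v _ ⟨l, hl, rfl⟩
    let j : H.Cm := ⟨H.emb v, H.emb_mem_Cm v⟩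
    have hjJ : π j ∈ H.JM := ⟨j, H.mem_J.2 ⟨v, rfl⟩, rfl⟩
    have hmem : j * (l : H.Cm) * j⁻¹ ∈ K' := by
      show π (j * (l : H.Cm) * j⁻¹) ∈ K
      rw [map_mul, map_mul, map_inv, ← hn _ hjJ]
      exact ⟨_, (show π (l : H.Cm) ∈ K from l.2), rfl⟩
    refine ⟨⟨_, hmem⟩, hLset _ (Subtype.ext ?_), rfl⟩
    have hl1 : l ^ Nat.card K = 1 := by
      rw [← hLcard]; exact congrArg Subtype.val (pow_card_eq_one' (x := (⟨l, hl⟩ : L)))
    show (j * (l : H.Cm) * j⁻¹) ^ Nat.card K = 1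
    rw [conj_pow, ← SubgroupClass.coe_pow, hl1]
    simp
  rw [Subgroup.map_eq_bot_iff_of_injective _ hιinj] at hM
  rw [← Subgroup.card_eq_one, ← hLcard, hM, Subgroup.card_bot]

theorem zM_three : orderOf H.zM = 3 := by
  refine orderOf_eq_prime (JM_exp _ ⟨⟨H.z, H.z_mem_Cm⟩, H.mem_J.2 ⟨_, H.emb_zT.symm⟩, rfl⟩) fun e => ?_
  obtain ⟨j, hj⟩ := H.mem_mzp.1 (show H.z ∈ Subgroup.zpowers H.mEl from
    (QuotientGroup.eq_one_iff (⟨H.z, H.z_mem_Cm⟩ : H.Cm)).1 e)
  rw [H.emb_zT] at hj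
  exact absurd (congrArg JV.c (H.emb_inj hj)) (show (1 : ZMod 3) ≠ 0 by decide)

/-- The centralizer of `m₁` normalises `J` or has factor group `S₉`. -/
theorem Good.centC (hG : H.Good) (he : H.ext = true) :
    (∀ g : G, g * H.mEl = H.mEl * g → H.J.map (MulAut.conj g).toMonoidHom = H.J) ∨
      Nonempty (H.XM ≃* Equiv.Perm (Fin 9)) := by
  obtain ⟨e⟩ := exists_eC hG he
  have ht : (Equiv.swap (0 : Fin 9) 1 * Equiv.swap 1 2 * Equiv.swap 3 4 * Equiv.swap 4 5 *
      Equiv.swap 6 7 * Equiv.swap 7 8 : Equiv.Perm (Fin 9)) = trn 13 :=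
    Equiv.ext fun i => by rw [trn_table]; exact x_eq i
  rcases Cfsg.Agent.S3343.result H.zM zM_three (e.trans (MulEquiv.subgroupCongr (by rw [ht])))
    H.JM JM_le JM_comm JM_exp JM_card (JM_signalizer hG) with h | h
  · refine Or.inl fun g hg => ?_
    refine Subgroup.eq_of_le_of_card_ge ?_
      (le_of_eq (Subgroup.card_map_of_injective (MulAut.conj g).injective).symm)
    rintro _ ⟨y, hy, rfl⟩
    obtain ⟨v, rfl⟩ := H.mem_J.1 hy
    let g' : H.Cm := ⟨g, Subgroup.mem_centralizer_singleton_iff.2 hg⟩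
    obtain ⟨u, hu, e'⟩ := h.conj_mem _ ⟨⟨H.emb v, H.emb_mem_Cm v⟩, H.mem_J.2 ⟨v, rfl⟩, rfl⟩
      (QuotientGroup.mk' H.mSub g')
    rw [← map_inv, ← map_mul, ← map_mul, QuotientGroup.mk'_eq_mk'] at e'
    obtain ⟨a, ha, e''⟩ := e'
    have e3 : (u : G) * a = g * H.emb v * g⁻¹ := congrArg Subtype.val e''
    show g * H.emb v * g⁻¹ ∈ H.J
    rw [← e3]
    obtain ⟨j, hj⟩ := H.mem_mzp.1 (show (a : G) ∈ Subgroup.zpowers H.mEl from ha)
    exact mul_mem hu (H.mem_J.2 ⟨_, hj.symm⟩)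
  · exact Or.inr h

end Base

end CfsgLib.O8Three
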