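import Cfsg.Agent.O8Three.WSys
import Cfsg.Agent.Solvable.PGroupBasic
import Cfsg.Agent.Solvable.Basics
import Mathlib.GroupTheory.Sylow
import Mathlib.GroupTheory.SpecificGroups.KleinFour

/-!
# The abstract centralizer of the involution: normal forms

Elements of the normalizer of `A` are `a v * sg e * t ^ d`; the sign changes act on the elementary group
`K / ⟨t⟩` of order 256 with 16 fixed points each.
-/

set_option autoImplicit false
set_option linter.style.haveILetI false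
set_option linter.unusedSectionVars false

namespace CfsgLib.O8Three

open Subgroup
open scoped commutatorElement

universe u

/-- Sign vectors. -/
abbrev Sg : Type := Fin 3 → Bool

/-- The action of a sign vector. -/
def eflip (e : Sg) (v : V3) : V3 := fun j => if e j then -v j else v j

/-- The sum of sign vectors. -/
def exor (e f : Sg) : Sg := fun j => xor (e j) (f j)

/-- No sign. -/
def e0 : Sg := fun _ => false

/-- All signs. -/
def eall : Sg := fun _ => true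

/-- One sign. -/
def e1 (i : Fin 3) : Sg := fun j => decide (j = i)

/-- Sign vectors of weight one or two. -/
def Small (e : Sg) : Prop := e ≠ e0 ∧ e ≠ eall

theorem eflip_facts : (∀ v, eflip e0 v = v) ∧ (∀ e v, eflip e (eflip e v) = v) ∧
    (∀ i v, eflip (e1 i) v = vflip i v) ∧ (∀ e i, eflip e (ax i) = if e i then -ax i else ax i) ∧
    (∀ e f v, eflip e (eflip f v) = eflip (exor e f) v) ∧ (∀ e v w, eflip e (v + w) = eflip e v + eflip e w) := by
  decide +kernel

theorem exor_facts : (∀ e, exor e e0 = e) ∧ (∀ e, exor e e = e0) ∧ (∀ e f, exor e f = exor f e) ∧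
    (∀ e f g, exor (exor e f) g = exor e (exor f g)) ∧ (∀ e, exor e0 e = e) := by decide +kernel

theorem eflip_eq_self : ∀ e : Sg, (∀ v, eflip e v = v) → e = e0 := by decide +kernel

/-- Negation is injective on the axes. -/
theorem ax_ne_zero : ∀ i : Fin 3, ax i ≠ 0 ∧ -ax i ≠ 0 ∧ ax i ≠ -ax i := by decide +kernel

namespace WSys

variable {W : Type u} [Group W] (D : WSys W)

theorem a_zero : D.a 0 = 1 := by
  have h := D.a_add 0 0
  rw [add_zero] at h
  exact (mul_eq_left.1 h.symm)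

theorem a_neg (v : V3) : D.a (-v) = (D.a v)⁻¹ :=
  eq_inv_of_mul_eq_one_left (by rw [← D.a_add, neg_add_cancel, D.a_zero])

theorem a_sub (v w : V3) : D.a (v - w) = D.a v * (D.a w)⁻¹ := by
  rw [sub_eq_add_neg, D.a_add, D.a_neg]

theorem a_comm (v w : V3) : D.a v * D.a w = D.a w * D.a v := by rw [← D.a_add, add_comm, D.a_add]

theorem a_cube (v : V3) : D.a v ^ 3 = 1 := by
  have h : ∀ v : V3, v + v + v = 0 := by decide +kernel
  rw [pow_succ, sq, ← D.a_add, ← D.a_add, h, D.a_zero]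

theorem a_eq_one {v : V3} (h : D.a v = 1) : v = 0 := D.a_inj (h.trans D.a_zero.symm)

theorem t_pow_comm (g : W) : g * D.t = D.t * g := D.t_central g

/-- The factor of a sign. -/
def sf (b : Bool) (i : Fin 3) : W := if b then D.s i else 1

/-- The element of a sign vector. -/
def sg (e : Sg) : W := D.sf (e 0) 0 * D.sf (e 1) 1 * D.sf (e 2) 2

/-- The power of `t`. -/
def tp (d : Bool) : W := if d then D.t else 1

theorem sf_comm (b c : Bool) (i j : Fin 3) : Commute (D.sf b i) (D.sf c j) := by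
  cases b <;> cases c <;> simp [sf, Commute, SemiconjBy, D.s_comm i j]

theorem sf_mul (b c : Bool) (i : Fin 3) : D.sf b i * D.sf c i = D.sf (xor b c) i := by
  cases b <;> cases c <;> simp [sf, D.s_sq]

theorem sg_mul (e f : Sg) : D.sg e * D.sg f = D.sg (exor e f) := by
  simp only [sg, exor]
  calc D.sf (e 0) 0 * D.sf (e 1) 1 * D.sf (e 2) 2 * (D.sf (f 0) 0 * D.sf (f 1) 1 * D.sf (f 2) 2)
      = D.sf (e 0) 0 * (D.sf (e 1) 1 * D.sf (e 2) 2 * D.sf (f 0) 0) * D.sf (f 1) 1 * D.sf (f 2) 2 := by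
        simp only [mul_assoc]
    _ = D.sf (e 0) 0 * (D.sf (f 0) 0 * (D.sf (e 1) 1 * D.sf (e 2) 2)) * D.sf (f 1) 1 * D.sf (f 2) 2 := by
        rw [((D.sf_comm (e 1) (f 0) 1 0).mul_left (D.sf_comm (e 2) (f 0) 2 0)).eq]
    _ = D.sf (e 0) 0 * D.sf (f 0) 0 * (D.sf (e 1) 1 * (D.sf (e 2) 2 * D.sf (f 1) 1)) * D.sf (f 2) 2 := by
        simp only [mul_assoc]
    _ = D.sf (e 0) 0 * D.sf (f 0) 0 * (D.sf (e 1) 1 * (D.sf (f 1) 1 * D.sf (e 2) 2)) * D.sf (f 2) 2 := by
        rw [(D.sf_comm (e 2) (f 1) 2 1).eq]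
    _ = D.sf (e 0) 0 * D.sf (f 0) 0 * (D.sf (e 1) 1 * D.sf (f 1) 1) * (D.sf (e 2) 2 * D.sf (f 2) 2) := by
        simp only [mul_assoc]
    _ = _ := by rw [D.sf_mul, D.sf_mul, D.sf_mul]

theorem sg_e0 : D.sg e0 = 1 := by simp [sg, sf, e0]

theorem sg_e1 (i : Fin 3) : D.sg (e1 i) = D.s i := by
  fin_cases i <;> simp [sg, sf, e1]

theorem sg_sq (e : Sg) : D.sg e * D.sg e = 1 := by rw [D.sg_mul, exor_facts.2.1, D.sg_e0]

theorem sg_inv (e : Sg) : (D.sg e)⁻¹ = D.sg e := inv_eq_of_mul_eq_one_right (D.sg_sq e)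

theorem sg_act (e : Sg) (v : V3) : D.sg e * D.a v * (D.sg e)⁻¹ = D.a (eflip e v) := by
  have h : ∀ b i v, D.sf b i * D.a v * (D.sf b i)⁻¹ = D.a (if b then vflip i v else v) := by
    intro b i v; cases b <;> simp [sf, D.s_act]
  have e3 : ∀ e : Sg, ∀ v : V3, (if e 0 then vflip 0 (if e 1 then vflip 1 (if e 2 then vflip 2 v else v)
      else (if e 2 then vflip 2 v else v)) else (if e 1 then vflip 1 (if e 2 then vflip 2 v else v)
      else (if e 2 then vflip 2 v else v))) = eflip e v := by decide +kernel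
  rw [← e3, ← h, ← h, ← h]
  simp only [sg]
  group

theorem sg_a (e : Sg) (v : V3) : D.sg e * D.a v = D.a (eflip e v) * D.sg e :=
  mul_inv_eq_iff_eq_mul.1 (D.sg_act e v)

theorem tp_central (d : Bool) (g : W) : g * D.tp d = D.tp d * g := by
  cases d <;> simp [tp, D.t_central g]

theorem tp_mul (c d : Bool) : D.tp c * D.tp d = D.tp (xor c d) := by
  cases c <;> cases d <;> simp [tp, D.t_sq]

/-- The normal form. -/
def nf (v : V3) (e : Sg) (d : Bool) : W := D.a v * D.sg e * D.tp d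

theorem nf_mul (v w : V3) (e f : Sg) (c d : Bool) :
    D.nf v e c * D.nf w f d = D.nf (v + eflip e w) (exor e f) (xor c d) := by
  simp only [nf, D.a_add, ← D.sg_mul, ← D.tp_mul]
  calc D.a v * D.sg e * D.tp c * (D.a w * D.sg f * D.tp d)
      = D.a v * D.sg e * (D.tp c * (D.a w * D.sg f)) * D.tp d := by simp only [mul_assoc]
    _ = D.a v * D.sg e * (D.a w * D.sg f * D.tp c) * D.tp d := by rw [D.tp_central c (D.a w * D.sg f)]
    _ = D.a v * (D.sg e * D.a w) * D.sg f * (D.tp c * D.tp d) := by simp only [mul_assoc]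
    _ = D.a v * (D.a (eflip e w) * D.sg e) * D.sg f * (D.tp c * D.tp d) := by rw [D.sg_a]
    _ = _ := by simp only [mul_assoc]

theorem nf_zero : D.nf 0 e0 false = 1 := by simp [nf, D.a_zero, D.sg_e0, tp]

theorem nf_conj (v : V3) (e : Sg) (d : Bool) (w : V3) :
    D.nf v e d * D.a w * (D.nf v e d)⁻¹ = D.a (eflip e w) := by
  have h : D.a v * D.sg e * D.tp d * D.a w = D.a (eflip e w) * (D.a v * D.sg e * D.tp d) := by
    calc D.a v * D.sg e * D.tp d * D.a w = D.a v * D.sg e * (D.tp d * D.a w) := by simp only [mul_assoc]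
      _ = D.a v * D.sg e * (D.a w * D.tp d) := by rw [D.tp_central]
      _ = D.a v * (D.sg e * D.a w) * D.tp d := by simp only [mul_assoc]
      _ = D.a v * (D.a (eflip e w) * D.sg e) * D.tp d := by rw [D.sg_a]
      _ = D.a v * D.a (eflip e w) * D.sg e * D.tp d := by simp only [mul_assoc]
      _ = _ := by rw [D.a_comm]; simp only [mul_assoc]
  exact mul_inv_eq_iff_eq_mul.2 h

theorem mem_NA {g : W} : g ∈ D.NA ↔ ∃ v e d, g = D.nf v e d := by
  constructor
  · intro hg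
    induction hg using closure_induction with
    | mem x hx =>
      rcases hx with rfl | ⟨v, rfl⟩ | ⟨i, rfl⟩
      · exact ⟨0, e0, true, by simp [nf, D.a_zero, D.sg_e0, tp]⟩
      · exact ⟨v, e0, false, by simp [nf, D.sg_e0, tp]⟩
      · exact ⟨0, e1 i, false, by simp [nf, D.a_zero, D.sg_e1, tp]⟩
    | one => exact ⟨0, e0, false, D.nf_zero.symm⟩
    | mul x y _ _ hx hy =>
      obtain ⟨v, e, c, rfl⟩ := hx
      obtain ⟨w, f, d, rfl⟩ := hy
      exact ⟨_, _, _, D.nf_mul ..⟩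
    | inv x _ hx =>
      obtain ⟨v, e, c, rfl⟩ := hx
      refine ⟨-eflip e v, e, c, inv_eq_of_mul_eq_one_right ?_⟩
      have h : ∀ (e : Sg) (v : V3), v + eflip e (-eflip e v) = 0 := by decide +kernel
      rw [D.nf_mul, h, exor_facts.2.1, Bool.xor_self, D.nf_zero]
  · rintro ⟨v, e, d, rfl⟩
    have hs : ∀ b i, D.sf b i ∈ D.NA := fun b i => by
      cases b
      · exact one_mem _
      · exact subset_closure (Or.inr (Or.inr ⟨i, rfl⟩))
    refine mul_mem (mul_mem (subset_closure (Or.inr (Or.inl ⟨v, rfl⟩)))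
      (mul_mem (mul_mem (hs _ _) (hs _ _)) (hs _ _))) ?_
    cases d
    · exact one_mem _
    · exact subset_closure (Or.inl rfl)

theorem nf_mem (v : V3) (e : Sg) (d : Bool) : D.nf v e d ∈ D.NA := D.mem_NA.2 ⟨v, e, d, rfl⟩

theorem sg_mem (e : Sg) : D.sg e ∈ D.NA := by
  simpa [nf, D.a_zero, tp] using D.nf_mem 0 e false

theorem a_mem (v : V3) : D.a v ∈ D.NA := by simpa [nf, D.sg_e0, tp] using D.nf_mem v e0 false

theorem t_mem_NA : D.t ∈ D.NA := by simpa [nf, D.a_zero, D.sg_e0, tp] using D.nf_mem 0 e0 true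

/-- `A` as a subgroup. -/
def Asub : Subgroup W where
  carrier := Set.range D.a
  one_mem' := ⟨0, D.a_zero⟩
  mul_mem' := by rintro _ _ ⟨v, rfl⟩ ⟨w, rfl⟩; exact ⟨v + w, D.a_add v w⟩
  inv_mem' := by rintro _ ⟨v, rfl⟩; exact ⟨-v, D.a_neg v⟩

theorem mem_Asub {g : W} : g ∈ D.Asub ↔ ∃ v, D.a v = g := Iff.rfl

theorem card_Asub : Nat.card D.Asub = 27 := by
  show Nat.card (Set.range D.a) = 27
  rw [← Nat.card_congr (Equiv.ofInjective D.a D.a_inj)]
  simp

theorem isPGroup_Asub : IsPGroup 3 D.Asub := IsPGroup.of_card (n := 3) (by rw [D.card_Asub]; norm_num)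

variable [Finite W]

theorem isPGroup_K : IsPGroup 2 D.K := D.K_ext.1.1

theorem eq_one_of_K_of_cube {g : W} (hg : g ∈ D.K) (h3 : g ^ 3 = 1) : g = 1 := by
  obtain ⟨k, hk⟩ := D.isPGroup_K ⟨g, hg⟩
  rw [← orderOf_eq_one_iff]
  exact Nat.eq_one_of_dvd_coprimes (Nat.Coprime.pow_right k (by norm_num : Nat.Coprime 3 2))
    (orderOf_dvd_of_pow_eq_one h3) (orderOf_dvd_of_pow_eq_one (by simpa using congrArg Subtype.val hk))

theorem a_mem_K {v : V3} (h : D.a v ∈ D.K) : v = 0 :=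
  D.a_eq_one (D.eq_one_of_K_of_cube h (D.a_cube v))

theorem tp_mem_K (d : Bool) : D.tp d ∈ D.K := by
  cases d
  · exact one_mem _
  · exact D.t_mem

/-- Conjugation by `k` and `A` differ by an element of `K`. -/
theorem comm_mem_K {k : W} (hk : k ∈ D.K) (v : V3) : k * D.a v * k⁻¹ * (D.a v)⁻¹ ∈ D.K := by
  have := mul_mem hk (D.K_a v k⁻¹ (inv_mem hk))
  simpa [mul_assoc] using this

theorem K_inter_NA {v : V3} {e : Sg} {d : Bool} (h : D.nf v e d ∈ D.K) : v = 0 ∧ e = e0 := by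
  have he : e = e0 := eflip_eq_self e fun w => by
    have h1 := D.comm_mem_K h w
    rw [D.nf_conj, ← D.a_sub] at h1
    exact sub_eq_zero.1 (D.a_mem_K h1)
  subst he
  refine ⟨D.a_mem_K ?_, rfl⟩
  have := mul_mem h (inv_mem (D.tp_mem_K d))
  simpa [nf, D.sg_e0] using this

theorem nf_inj {v w : V3} {e f : Sg} {c d : Bool} (h : D.nf v e c = D.nf w f d) :
    v = w ∧ e = f ∧ c = d := by
  have he : e = f := by
    have h1 : ∀ u, eflip e u = eflip f u := fun u => D.a_inj (by rw [← D.nf_conj v e c, h, D.nf_conj])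
    have : ∀ e f : Sg, (∀ u, eflip e u = eflip f u) → e = f := by decide +kernel
    exact this e f h1
  subst he
  have h2 : D.nf (v - w) e0 (xor c d) = 1 := by
    have : D.nf (v - w) e0 (xor c d) * D.nf w e d = D.nf v e c := by
      rw [D.nf_mul, eflip_facts.1, exor_facts.2.2.2.2, sub_add_cancel]
      cases c <;> cases d <;> rfl
    rw [h] at this
    exact mul_eq_right.1 this
  have hv := (D.K_inter_NA (h2 ▸ one_mem _)).1
  refine ⟨sub_eq_zero.1 hv, rfl, ?_⟩
  rw [hv] at h2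
  cases c <;> cases d <;> simp_all [nf, D.a_zero, D.sg_e0, tp, D.t_ne]

/-- The elements of `NA` of 3-power order lie in `A`. -/
theorem three_mem_A {g : W} (hg : g ∈ D.NA) {k : ℕ} (h : g ^ 3 ^ k = 1) : g ∈ D.Asub := by
  obtain ⟨v, e, d, rfl⟩ := D.mem_NA.1 hg
  have hp : ∀ m : ℕ, Odd m → ∃ w, D.nf v e d ^ m = D.nf w e d := by
    rintro m ⟨j, rfl⟩
    induction j with
    | zero => exact ⟨v, by simp⟩
    | succ j ih =>
      obtain ⟨w, hw⟩ := ih
      refine ⟨w + eflip e v + v, ?_⟩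
      rw [show 2 * (j + 1) + 1 = 2 * j + 1 + 1 + 1 by ring, pow_succ, pow_succ, hw, D.nf_mul, D.nf_mul,
        exor_facts.2.1, eflip_facts.1, exor_facts.2.2.2.2]
      cases d <;> rfl
  obtain ⟨w, hw⟩ := hp _ (Odd.pow (by decide : Odd 3))
  rw [h, ← D.nf_zero] at hw
  obtain ⟨-, he, hd⟩ := D.nf_inj hw
  subst he hd
  exact ⟨v, by simp [nf, D.sg_e0, tp]⟩

theorem norm_mem_NA {g : W} (h : ∀ v, ∃ w, g * D.a v * g⁻¹ = D.a w) : g ∈ D.NA := D.norm_A g h

theorem sylow_A : ∃ P : Sylow 3 W, (P : Subgroup W) = D.Asub := by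
  haveI : Fact (Nat.Prime 3) := ⟨Nat.prime_three⟩
  obtain ⟨P, hP⟩ := D.isPGroup_Asub.exists_le_sylow
  refine ⟨P, le_antisymm (fun x hx => ?_) hP⟩
  by_contra hne
  haveI : Group.IsNilpotent P := P.isPGroup'.isNilpotent
  have hlt : D.Asub.subgroupOf P < ⊤ := lt_top_iff_ne_top.2 fun e =>
    hne ((e ▸ mem_top (⟨x, hx⟩ : P) : (⟨x, hx⟩ : P) ∈ D.Asub.subgroupOf P))
  obtain ⟨y, hy, hyA⟩ := SetLike.exists_of_lt (Group.normalizerCondition_of_isNilpotent _ hlt)
  have hyN : (y : W) ∈ D.NA := D.norm_mem_NA fun v => by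
    obtain ⟨w, hw⟩ := (mem_normalizer_iff.1 hy ⟨D.a v, hP ⟨v, rfl⟩⟩).1 ⟨v, rfl⟩
    exact ⟨w, hw.symm⟩
  obtain ⟨k, hk⟩ := P.isPGroup' y
  exact hyA (D.three_mem_A hyN (by simpa using congrArg Subtype.val hk))

include D in
theorem not_81_dvd : ¬ 81 ∣ Nat.card W := by
  haveI : Fact (Nat.Prime 3) := ⟨Nat.prime_three⟩
  obtain ⟨P, hP⟩ := D.sylow_A
  intro h
  have h2 := P.not_dvd_index
  have h3 := (P : Subgroup W).card_mul_index
  rw [hP] at h2 h3
  rw [D.card_Asub] at h3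
  exact h2 (by omega)

include D in
/-- A 3-subgroup is abelian. -/
theorem three_group_comm {Q : Subgroup W} (hQ : IsPGroup 3 Q) {x y : W} (hx : x ∈ Q) (hy : y ∈ Q) :
    x * y = y * x := by
  haveI : Fact (Nat.Prime 3) := ⟨Nat.prime_three⟩
  obtain ⟨P, hP⟩ := D.sylow_A
  obtain ⟨R, hR⟩ := hQ.exists_le_sylow
  obtain ⟨g, hg⟩ := MulAction.exists_smul_eq W P R
  have hmem : ∀ z ∈ Q, ∃ v, MulAut.conj g (D.a v) = z := fun z hz => by
    have h1 : z ∈ ((g • P : Sylow 3 W) : Subgroup W) := hg.symm ▸ hR hz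
    rw [Sylow.coe_subgroup_smul] at h1
    obtain ⟨w, hw, rfl⟩ := h1
    rw [SetLike.mem_coe, hP] at hw
    obtain ⟨v, rfl⟩ := hw
    exact ⟨v, rfl⟩
  obtain ⟨v, rfl⟩ := hmem x hx
  obtain ⟨w, rfl⟩ := hmem y hy
  rw [← map_mul, ← map_mul, D.a_comm]

/-! ### `M` -/

theorem NA_normalizes : D.NA ≤ normalizer (D.K : Set W) := by
  refine (closure_le _).2 fun x hx => ?_
  have key : ∀ y : W, (∀ k ∈ D.K, y * k * y⁻¹ ∈ D.K) → y ∈ normalizer (D.K : Set W) := fun y hy => by
    have hle : D.K.map (MulAut.conj y).toMonoidHom ≤ D.K := by rintro _ ⟨k, hk, rfl⟩; exact hy k hk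
    have heq := CfsgLib.Solvable.eq_of_le_of_card_le hle
      (Nat.card_congr (D.K.equivMapOfInjective _ (MulAut.conj y).injective).toEquiv).le
    refine mem_normalizer_iff.2 fun k => ⟨hy k, fun hk => ?_⟩
    have hk' : y * k * y⁻¹ ∈ D.K.map (MulAut.conj y).toMonoidHom := heq.symm ▸ hk
    obtain ⟨m, hm, e⟩ := hk'
    rwa [(MulAut.conj y).injective e] at hm
  rcases hx with rfl | ⟨v, rfl⟩ | ⟨i, rfl⟩
  · exact key _ fun k hk => by rw [← D.t_central, mul_inv_cancel_right]; exact hk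
  · exact key _ (D.K_a v)
  · exact key _ (D.K_s i)

theorem mem_M {g : W} : g ∈ D.M ↔ ∃ k ∈ D.K, ∃ v e d, g = k * D.nf v e d := by
  constructor
  · intro hg
    rw [M, sup_comm, ← SetLike.mem_coe, coe_mul_of_left_le_normalizer_right _ _ D.NA_normalizes] at hg
    obtain ⟨n, hn, k, hk, rfl⟩ := hg
    obtain ⟨v, e, d, rfl⟩ := D.mem_NA.1 hn
    exact ⟨_, (mem_normalizer_iff.1 (D.NA_normalizes hn) k).1 hk, v, e, d, by group⟩
  · rintro ⟨k, hk, v, e, d, rfl⟩
    exact mul_mem (mem_sup_left hk) (mem_sup_right (D.nf_mem v e d))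

theorem K_le_M : D.K ≤ D.M := le_sup_left

theorem NA_le_M : D.NA ≤ D.M := le_sup_right

/-- An element of `M` sending `a w` into `A`. -/
theorem conj_a_of_M {k : W} (hk : k ∈ D.K) {v w w' : V3} {e : Sg} {d : Bool}
    (h : k * D.nf v e d * D.a w * (k * D.nf v e d)⁻¹ = D.a w') :
    w' = eflip e w ∧ k * D.a w' = D.a w' * k := by
  have h1 : k * D.a (eflip e w) * k⁻¹ = D.a w' := by
    rw [← h, ← D.nf_conj v e d w]; group
  have h2 := D.comm_mem_K hk (eflip e w)
  rw [h1, ← D.a_sub] at h2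
  have h3 : w' = eflip e w := sub_eq_zero.1 (D.a_mem_K h2)
  exact ⟨h3, by rw [← h3] at h1; exact mul_inv_eq_iff_eq_mul.1 h1⟩

theorem M_cent_ax {g : W} (hg : g ∈ D.M) {i : Fin 3} (h : g * D.a (ax i) = D.a (ax i) * g) :
    g ∈ D.NA := by
  obtain ⟨k, hk, v, e, d, rfl⟩ := D.mem_M.1 hg
  obtain ⟨-, hc⟩ := D.conj_a_of_M hk (mul_inv_eq_iff_eq_mul.2 h)
  rcases D.fix_ax i k hk hc with rfl | rfl
  · rw [one_mul]; exact D.nf_mem v e d
  · exact mul_mem D.t_mem_NA (D.nf_mem v e d)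

/-! ### `K` modulo `t` -/

/-- The centre of `K`. -/
def Z2 : Subgroup W := zpowers D.t

theorem mem_Z2 {g : W} : g ∈ D.Z2 ↔ g = 1 ∨ g = D.t := by
  constructor
  · intro hg
    obtain ⟨j, rfl⟩ := mem_zpowers_iff.1 hg
    rcases Int.even_or_odd' j with ⟨l, rfl | rfl⟩
    · left; rw [zpow_mul, zpow_two, D.t_sq, one_zpow]
    · right; rw [zpow_add, zpow_mul, zpow_two, D.t_sq, one_zpow, one_mul, zpow_one]
  · rintro (rfl | rfl)
    · exact one_mem _
    · exact mem_zpowers _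

theorem Z2_le : D.Z2 ≤ D.K := zpowers_le.2 D.t_mem

theorem center_K {k : D.K} : k ∈ center D.K ↔ (k : W) ∈ D.Z2 := by
  have hle : zpowers (⟨D.t, D.t_mem⟩ : D.K) ≤ center D.K :=
    zpowers_le.2 (mem_center_iff.2 fun g => Subtype.ext (D.t_central g))
  have heq := CfsgLib.Solvable.eq_of_le_of_card_le hle (by
    rw [D.K_ext.2, Nat.card_zpowers, ← orderOf_coe]
    haveI : Fact (Nat.Prime 2) := ⟨Nat.prime_two⟩
    exact (orderOf_eq_prime (by rw [sq, D.t_sq]) D.t_ne).ge)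
  rw [← heq]
  constructor
  · rintro ⟨j, rfl⟩; exact ⟨j, by simp⟩
  · rintro ⟨j, hj⟩; exact ⟨j, Subtype.ext (by simpa using hj)⟩

/-- `K` modulo its centre. -/
abbrev Q : Type u := ↥D.K ⧸ center D.K

theorem card_Q : Nat.card D.Q = 256 := by
  have h := card_eq_card_quotient_mul_card_subgroup (center D.K)
  rw [D.K_ext.2, D.K_card] at h
  show Nat.card (↥D.K ⧸ center D.K) = 256
  omega

theorem Q_comm (p q : D.Q) : p * q = q * p := by
  induction p using QuotientGroup.induction_on with | H x => ?_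
  induction q using QuotientGroup.induction_on with | H y => ?_
  rw [← QuotientGroup.mk_mul, ← QuotientGroup.mk_mul, QuotientGroup.eq, ← D.K_ext.1.2.2]
  rw [show (x * y)⁻¹ * (y * x) = ⁅y⁻¹, x⁻¹⁆ by simp [commutatorElement_def, mul_assoc]]
  exact commutator_mem_commutator (mem_top _) (mem_top _)

theorem Q_sq (p : D.Q) : p * p = 1 := by
  haveI : Fact (Nat.Prime 2) := ⟨Nat.prime_two⟩
  induction p using QuotientGroup.induction_on with | H x => ?_
  rw [← QuotientGroup.mk_mul, QuotientGroup.eq_one_iff, ← D.K_ext.1.2.1, ← sq]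
  exact (CfsgLib.PGroupBasic.commutator_pow_le_frattini D.isPGroup_K).2 x

theorem Q_inv (p : D.Q) : p⁻¹ = p := inv_eq_of_mul_eq_one_right (D.Q_sq p)

/-- The class of an element of `K`. -/
def cl (k : W) (hk : k ∈ D.K) : D.Q := (⟨k, hk⟩ : D.K)

theorem cl_eq {k l : W} (hk : k ∈ D.K) (hl : l ∈ D.K) : D.cl k hk = D.cl l hl ↔ k⁻¹ * l ∈ D.Z2 := by
  rw [cl, cl, QuotientGroup.eq, D.center_K]; rfl

theorem cl_one {k : W} (hk : k ∈ D.K) : D.cl k hk = 1 ↔ k ∈ D.Z2 := by
  rw [cl, QuotientGroup.eq_one_iff, D.center_K]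

theorem cl_surj (p : D.Q) : ∃ k hk, D.cl k hk = p := by
  induction p using QuotientGroup.induction_on with | H x => ?_
  exact ⟨x, x.2, rfl⟩

/-- The action on `Q`. -/
noncomputable def act (g : W) (hg : g ∈ normalizer (D.K : Set W)) : D.Q →* D.Q :=
  QuotientGroup.map _ _
    ({ toFun := fun k => ⟨g * k * g⁻¹, (mem_normalizer_iff.1 hg k).1 k.2⟩
       map_one' := Subtype.ext (by simp)
       map_mul' := fun k l => Subtype.ext (by simp [mul_assoc]) } : D.K →* D.K)
    fun k hk => by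
      rw [mem_comap, D.center_K]
      rw [D.center_K, D.mem_Z2] at hk
      show g * k * g⁻¹ ∈ D.Z2
      rcases hk with e | e <;> rw [e]
      · simp
      · rw [D.t_central, mul_inv_cancel_right]; exact mem_zpowers _

theorem act_cl {g : W} (hg : g ∈ normalizer (D.K : Set W)) {k : W} (hk : k ∈ D.K) :
    D.act g hg (D.cl k hk) = D.cl (g * k * g⁻¹) ((mem_normalizer_iff.1 hg k).1 hk) := rfl

theorem act_congr {g g' : W} (e : g = g') (hg : g ∈ normalizer (D.K : Set W))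
    (hg' : g' ∈ normalizer (D.K : Set W)) (p : D.Q) : D.act g hg p = D.act g' hg' p := by
  subst e; rfl

theorem act_act {g g' : W} (hg : g ∈ normalizer (D.K : Set W)) (hg' : g' ∈ normalizer (D.K : Set W))
    (p : D.Q) : D.act g hg (D.act g' hg' p) = D.act (g * g') (mul_mem hg hg') p := by
  obtain ⟨k, hk, rfl⟩ := D.cl_surj p
  rw [D.act_cl, D.act_cl, D.act_cl]
  simp only [cl]
  congr 2
  group

theorem act_one (p : D.Q) : D.act 1 (one_mem _) p = p := by
  obtain ⟨k, hk, rfl⟩ := D.cl_surj p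
  rw [D.act_cl]
  simp [cl]

/-- The action of an element of the normalizer of `A`. -/
noncomputable def na (g : W) (hg : g ∈ D.NA) : D.Q →* D.Q := D.act g (D.NA_normalizes hg)

/-- Only the identity is fixed by an axis. -/
theorem fix_Q {i : Fin 3} {p : D.Q} (h : D.na _ (D.a_mem (ax i)) p = p) : p = 1 := by
  obtain ⟨k, hk, rfl⟩ := D.cl_surj p
  rw [na, act_cl, D.cl_eq, D.mem_Z2] at h
  refine (D.cl_one hk).2 (D.mem_Z2.2 ?_)
  rcases h with e | e
  · exact D.fix_ax i k hk (by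
      have h2 := inv_mul_eq_one.1 e
      rw [mul_inv_eq_iff_eq_mul] at h2
      exact h2.symm)
  · exfalso
    have hz : D.a (ax i) * k * (D.a (ax i))⁻¹ = k * D.t := by
      have h2 := (inv_mul_eq_iff_eq_mul.1 e)
      calc D.a (ax i) * k * (D.a (ax i))⁻¹ = D.a (ax i) * k * (D.a (ax i))⁻¹ * (D.t * D.t) := by
            rw [D.t_sq, mul_one]
        _ = (D.a (ax i) * k * (D.a (ax i))⁻¹ * D.t) * D.t := by rw [mul_assoc]; simp only [mul_assoc]
        _ = k * D.t := by rw [← h2]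
    have hz3 : ∀ c : W, D.a (ax i) * (c * D.t) * (D.a (ax i))⁻¹ =
        D.a (ax i) * c * (D.a (ax i))⁻¹ * D.t := fun c => by
      rw [mul_assoc (D.a (ax i)), mul_assoc c, ← D.t_central (D.a (ax i))⁻¹]; simp only [mul_assoc]
    have : k * D.t * D.t * D.t = k := by
      calc k * D.t * D.t * D.t
          = D.a (ax i) * (D.a (ax i) * (D.a (ax i) * k * (D.a (ax i))⁻¹) * (D.a (ax i))⁻¹) * (D.a (ax i))⁻¹ := by
            rw [hz, hz3, hz, hz3, hz3, hz]
        _ = D.a (ax i) ^ 3 * k * (D.a (ax i) ^ 3)⁻¹ := by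
            simp only [pow_succ, pow_zero, one_mul, mul_inv_rev, mul_assoc]
        _ = k := by rw [D.a_cube]; group
    rw [mul_assoc (k * D.t), D.t_sq, mul_one, mul_eq_left] at this
    exact D.t_ne this

/-- The fixed classes of a sign change. -/
noncomputable def fixQ (e : Sg) : Subgroup D.Q := (D.na _ (D.sg_mem e)).eqLocus (MonoidHom.id D.Q)

/-- The commutation with a sign change. -/
noncomputable def dQ (e : Sg) : D.Q →* D.Q where
  toFun p := p * D.na _ (D.sg_mem e) p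
  map_one' := by simp
  map_mul' p q := by
    rw [map_mul, mul_assoc, ← mul_assoc q, D.Q_comm q, mul_assoc, mul_assoc]

theorem dQ_ker (e : Sg) : (D.dQ e).ker = D.fixQ e := by
  ext p
  show p * D.na _ (D.sg_mem e) p = 1 ↔ D.na _ (D.sg_mem e) p = p
  rw [mul_eq_one_iff_inv_eq, D.Q_inv, eq_comm]

theorem dQ_range_le (e : Sg) : (D.dQ e).range ≤ D.fixQ e := by
  rintro _ ⟨p, rfl⟩
  show D.na _ (D.sg_mem e) (p * D.na _ (D.sg_mem e) p) = p * D.na _ (D.sg_mem e) p
  rw [map_mul, na, D.act_act, D.act_congr (D.sg_sq e) _ (one_mem _), D.act_one, D.Q_comm]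

theorem fixQ_inf {e : Sg} {i : Fin 3} (hi : e i = true) {p : D.Q} (h1 : p ∈ D.fixQ e)
    (h2 : D.na _ (mul_mem (mul_mem (D.a_mem (ax i)) (D.sg_mem e)) (inv_mem (D.a_mem (ax i)))) p = p) :
    p = 1 := by
  have hax : ∀ j : Fin 3, ax j + ax j = -ax j := by decide +kernel
  refine D.fix_Q (i := i) ?_
  have e2 : D.a (ax i) * D.sg e * (D.a (ax i))⁻¹ * D.sg e = D.a (-ax i) := by
    have h := D.sg_act e (ax i)
    rw [eflip_facts.2.2.2.1, if_pos hi, D.a_neg, D.sg_inv] at h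
    have h' := congrArg Inv.inv h
    simp only [mul_inv_rev, inv_inv, D.sg_inv] at h'
    rw [← hax, D.a_add, mul_assoc, mul_assoc]
    congr 1
  have h3 : D.na _ (D.a_mem (-ax i)) p = p := by
    have h1' : D.na _ (D.sg_mem e) p = p := h1
    rw [na] at h1' h2 ⊢
    have m1 := D.NA_normalizes (mul_mem (mul_mem (D.a_mem (ax i)) (D.sg_mem e))
      (inv_mem (D.a_mem (ax i))))
    rw [← D.act_congr e2 (mul_mem m1 (D.NA_normalizes (D.sg_mem e))),
      ← D.act_act m1 (D.NA_normalizes (D.sg_mem e)), h1', h2]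
  rw [na] at h3 ⊢
  conv_lhs => rw [← h3]
  rw [D.act_act, D.act_congr (by rw [← D.a_add, add_neg_cancel, D.a_zero]) _ (one_mem _), D.act_one]

theorem card_fixQ {e : Sg} (he : e ≠ e0) : Nat.card (D.fixQ e) = 16 := by
  obtain ⟨i, hi⟩ : ∃ i, e i = true := by revert he; revert e; decide +kernel
  set A := D.na _ (D.a_mem (ax i)) with hA
  set B := D.na _ (inv_mem (D.a_mem (ax i))) with hB
  have hAB : ∀ p, A (B p) = p := fun p => by
    rw [hA, hB, na, na, D.act_act, D.act_congr (mul_inv_cancel _) _ (one_mem _), D.act_one]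
  have hBA : ∀ p, B (A p) = p := fun p => by
    rw [hA, hB, na, na, D.act_act, D.act_congr (inv_mul_cancel _) _ (one_mem _), D.act_one]
  let f : D.fixQ e × D.fixQ e → D.Q := fun x => x.1 * A x.2
  have hf : Function.Injective f := by
    rintro ⟨⟨p, hp⟩, q, hq⟩ ⟨⟨p', hp'⟩, q', hq'⟩ h
    have h' : p * A q = p' * A q' := h
    have key : p'⁻¹ * p = A (q' * q⁻¹) := by
      rw [map_mul, map_inv, eq_mul_inv_iff_mul_eq, mul_assoc, h', inv_mul_cancel_left]
    have h1 : p'⁻¹ * p = 1 := by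
      refine D.fixQ_inf hi (mul_mem (inv_mem hp') hp) ?_
      rw [key]
      have hm : D.na _ (D.sg_mem e) (q' * q⁻¹) = q' * q⁻¹ := mul_mem hq' (inv_mem hq)
      conv_rhs => rw [← hm]
      simp only [hA, na, D.act_act]
      exact D.act_congr (by group) _ _ _
    have e1 : p = p' := (inv_mul_eq_one.1 h1).symm
    subst e1
    have e2 : q = q' := by rw [← hBA q, ← hBA q', mul_left_cancel h']
    subst e2
    rfl
  have h1 := Nat.card_le_card_of_injective f hf
  rw [Nat.card_prod, D.card_Q] at h1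
  have h2 := Subgroup.card_dvd_of_le (D.dQ_range_le e)
  have h3 := (D.dQ e).ker.card_mul_index
  rw [index_ker, D.dQ_ker, D.card_Q] at h3
  have h4 : Nat.card (D.dQ e).range ≤ Nat.card (D.fixQ e) := Nat.le_of_dvd Nat.card_pos h2
  nlinarith

theorem range_dQ {e : Sg} (he : e ≠ e0) : (D.dQ e).range = D.fixQ e := by
  refine CfsgLib.Solvable.eq_of_le_of_card_le (D.dQ_range_le e) ?_
  have h3 := (D.dQ e).ker.card_mul_index
  rw [index_ker, D.dQ_ker, D.card_Q, D.card_fixQ he] at h3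
  rw [D.card_fixQ he]
  omega

/-- An involution of a coset of `K` is conjugate in `K` to the sign change or to its product with `t`. -/
theorem invol_coset {e : Sg} (he : e ≠ e0) {k : W} (hk : k ∈ D.K)
    (hu : (k * D.sg e) * (k * D.sg e) = 1) :
    ∃ x ∈ D.K, ∃ d, k * D.sg e = x * (D.sg e * D.tp d) * x⁻¹ := by
  have hn := D.NA_normalizes (D.sg_mem e)
  have hk' : D.cl k hk ∈ D.fixQ e := by
    show D.act _ hn (D.cl k hk) = D.cl k hk
    have h1 : D.sg e * k * (D.sg e)⁻¹ = k⁻¹ := by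
      rw [D.sg_inv]
      exact eq_inv_of_mul_eq_one_right (by simpa [mul_assoc] using hu)
    rw [act_cl, D.cl_eq, h1, inv_inv]
    have : D.cl k hk * D.cl k hk = 1 := D.Q_sq _
    rw [cl, ← QuotientGroup.mk_mul, QuotientGroup.eq_one_iff, D.center_K] at this
    simpa using this
  rw [← D.range_dQ he] at hk'
  obtain ⟨q, hq⟩ := hk'
  obtain ⟨x, hx, rfl⟩ := D.cl_surj q
  have hxs : D.sg e * x⁻¹ * (D.sg e)⁻¹ ∈ D.K := (mem_normalizer_iff.1 hn x⁻¹).1 (inv_mem hx)
  have hq' : D.cl (x * (D.sg e * x⁻¹ * (D.sg e)⁻¹)) (mul_mem hx hxs) = D.cl k hk := by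
    rw [← hq]
    show _ = D.cl x hx * D.act _ hn (D.cl x hx)
    conv_rhs => rw [show D.cl x hx * D.act _ hn (D.cl x hx) = D.cl x hx * (D.act _ hn (D.cl x hx))⁻¹ by
      rw [D.Q_inv]]
    rw [act_cl]
    simp only [cl, ← QuotientGroup.mk_mul, ← QuotientGroup.mk_inv]
    congr 1
    exact Subtype.ext (by simp [mul_assoc])
  rw [D.cl_eq] at hq'
  have key : ∀ d, (x * (D.sg e * x⁻¹ * (D.sg e)⁻¹))⁻¹ * k = D.tp d →
      k * D.sg e = x * (D.sg e * D.tp d) * x⁻¹ := fun d hd => by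
    rw [inv_mul_eq_iff_eq_mul] at hd
    calc k * D.sg e = x * (D.sg e * x⁻¹ * (D.sg e)⁻¹) * (D.tp d * D.sg e) := by rw [hd, mul_assoc]
      _ = x * (D.sg e * x⁻¹ * (D.sg e)⁻¹) * (D.sg e * D.tp d) := by rw [D.tp_central]
      _ = x * (D.sg e * (x⁻¹ * D.tp d)) := by group
      _ = x * (D.sg e * (D.tp d * x⁻¹)) := by rw [D.tp_central]
      _ = _ := by group
  rcases D.mem_Z2.1 hq' with h | h
  · exact ⟨x, hx, false, key false h⟩
  · exact ⟨x, hx, true, key true h⟩

theorem center_or_conj_t {k : W} (hk : k ∈ D.K) (h : k ∉ D.Z2) :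
    ∃ x ∈ D.K, x * k * x⁻¹ = k * D.t := by
  have hc : (⟨k, hk⟩ : D.K) ∉ center D.K := fun e => h (D.center_K.1 e)
  rw [mem_center_iff] at hc
  push Not at hc
  obtain ⟨g, hg⟩ := hc
  refine ⟨g, g.2, ?_⟩
  have hm : ⁅g, (⟨k, hk⟩ : D.K)⁆ ∈ center D.K :=
    D.K_ext.1.2.2 ▸ commutator_mem_commutator (mem_top _) (mem_top _)
  rw [D.center_K, D.mem_Z2] at hm
  rcases hm with e | e
  · exact absurd (commutatorElement_eq_one_iff_mul_comm.1 (Subtype.ext e)) hg
  · simp only [commutatorElement_def, coe_mul, coe_inv] at e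
    rw [D.t_central, ← e]; group

end WSys

end CfsgLib.O8Three
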