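import Cfsg.Agent.O8Three.ExtLocal
import Cfsg.Agent.O8Three.WMainBase

/-!
# The complement `⟨r₁, r₂, r₃, out⟩` and its fixed points on `K` modulo `⟨t⟩`
-/

set_option autoImplicit false
set_option maxRecDepth 100000
set_option linter.style.haveILetI false
set_option linter.unusedSectionVars false

namespace CfsgLib.O8Three

open CfsgLib.PSpFourInvol (S sm si)
open Subgroup
open scoped Pointwise

universe u

/-- The signs moved by the outer involution. -/
def swE (δ : Bool) (f : Sg) : Sg := fun j => cond δ (f (![0, 2, 1] j)) (f j)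

/-- The product of the complement. -/
def ddMul (x y : Sg × Bool) : Sg × Bool := (exor x.1 (swE x.2 y.1), xor x.2 y.2)

/-- The action on `J`. -/
def dJ (x : Sg × Bool) (v : JV) : JV :=
  cond (x.1 0) R1J id (cond (x.1 1) R2J id (cond (x.1 2) R3J id (cond x.2 outJ id v)))

theorem dd_alg : (∀ x y z, ddMul (ddMul x y) z = ddMul x (ddMul y z)) ∧
    (∀ x, ddMul x (e0, false) = x) ∧ (∀ x, ∃ y, ddMul x y = (e0, false)) := by decide +kernel

theorem dJ_id : ∀ x : Sg × Bool,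
    (∀ i : Fin 3, dJ x (nineE i) = nineE i) → x = (e0, false) := by decide +kernel

/-- The outer class of the complement. -/
def OutCl (x : Sg × Bool) : Prop := x = (e0, true) ∨ x = (![false, true, true], true)

theorem dJ_kinds : ∀ x : Sg × Bool, x ≠ (e0, false) → x = (e0, true) ∨ x = (![false, true, true], true) ∨
    ∃ i : Fin 3, dJ x (nineE i) = jn (nineE i) ∨ dJ x (dJ x (nineE i)) = jn (nineE i) := by decide +kernel

theorem dJ_axis : ∀ (x : Sg × Bool) (i : Fin 3), (dJ x (nineE i)).b = 0 ∧ (nineE i).b = 0 := by decide +kernel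

theorem dJ_outcl : dJ (e0, true) ⟨0, 1, 0, 0⟩ = jn ⟨0, 1, 0, 0⟩ ∧
    dJ (![false, true, true], true) ⟨2, 0, 0, 1⟩ = jn ⟨2, 0, 0, 1⟩ ∧ R2J ⟨2, 0, 0, 1⟩ = ⟨0, 1, 0, 0⟩ := by
  decide +kernel

namespace Base

variable {G : Type u} [Group G] {H : Base G}

/-- `1` or `t`. -/
def Pm (H : Base G) (g : G) : Prop := g = 1 ∨ g = H.t

theorem Pm.mul {p q : G} (hp : H.Pm p) (hq : H.Pm q) : H.Pm (p * q) := by
  rcases hp with rfl | rfl <;> rcases hq with rfl | rfl <;> simp [Pm, H.t_mul_self]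

theorem Pm.inv {p : G} (hp : H.Pm p) : H.Pm p⁻¹ := by
  rcases hp with rfl | rfl
  · exact Or.inl inv_one
  · exact Or.inr (inv_eq_of_mul_eq_one_right H.t_mul_self)

theorem Pm.comm {p g : G} (hp : H.Pm p) (hg : g * H.t = H.t * g) : g * p = p * g := by
  rcases hp with rfl | rfl
  · rw [mul_one, one_mul]
  · exact hg

theorem Pm.conj {p g : G} (hp : H.Pm p) (hg : g * H.t = H.t * g) : g * p * g⁻¹ = p := by
  rw [hp.comm hg, mul_inv_cancel_right]

theorem Pm.cube {p : G} (hp : H.Pm p) (h : p * p * p = 1) : p = 1 := by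
  rcases hp with rfl | rfl
  · rfl
  · rwa [H.t_mul_self, one_mul] at h

/-- An element of the complement. -/
def Refl.dd (R : Refl H) (x : Sg × Bool) : G :=
  cond (x.1 0) R.r1 1 * cond (x.1 1) R.r2 1 * cond (x.1 2) R.r3 1 * cond x.2 H.out 1

/-- The elements of `K` fixed modulo `⟨t⟩`. -/
def Refl.FixK (R : Refl H) (d : G) : Set G := {k | k ∈ R.K ∧ H.Pm (d * k * d⁻¹ * k⁻¹)}

variable [Finite G]

theorem Refl.dd_mul (R : Refl H) (he : H.ext = true) (x y : Sg × Bool) :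
    R.dd x * R.dd y = R.dd (ddMul x y) := by
  obtain ⟨e, δ⟩ := x
  obtain ⟨f, ε⟩ := y
  let g : Fin 3 → G := ![R.r1, R.r2, R.r3]
  let p : Sg → G := fun e => cond (e 0) (g 0) 1 * cond (e 1) (g 1) 1 * cond (e 2) (g 2) 1
  have hg : ∀ (b c : Bool) (i j : Fin 3), Commute (cond b (g i) 1) (cond c (g j) 1) := by
    intro b c i j
    cases b <;> cases c <;> first
      | exact Commute.one_left _
      | exact Commute.one_right _
      | exact R.comm i j
  have hsq : ∀ (b c : Bool) (i : Fin 3), cond b (g i) 1 * cond c (g i) 1 = cond (xor b c) (g i) 1 := by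
    intro b c i
    cases b <;> cases c <;> simp [show g i * g i = 1 from R.sq i]
  have hp : ∀ e f : Sg, p e * p f = p (exor e f) := by
    intro e f
    show cond (e 0) (g 0) 1 * cond (e 1) (g 1) 1 * cond (e 2) (g 2) 1 *
      (cond (f 0) (g 0) 1 * cond (f 1) (g 1) 1 * cond (f 2) (g 2) 1) = _
    rw [((hg _ _ 2 0).mul_right (hg _ _ 2 1)).mul_mul_mul_comm, (hg _ _ 1 0).mul_mul_mul_comm, hsq, hsq, hsq]
    rfl
  have hsw : ∀ f : Sg, H.out * p f = p (swE true f) * H.out := by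
    intro f
    have h1 : ∀ (b : Bool) (i : Fin 3), H.out * cond b (g i) 1 = cond b (g (![0, 2, 1] i)) 1 * H.out := by
      intro b i
      cases b
      · simp
      · match i with
        | 0 => exact out_r1 he R
        | 1 => exact mul_inv_eq_iff_eq_mul.1 (out_r2 he R)
        | 2 => exact mul_inv_eq_iff_eq_mul.1 (out_r3 he R)
    show H.out * (cond (f 0) (g 0) 1 * cond (f 1) (g 1) 1 * cond (f 2) (g 2) 1) =
      cond (f 0) (g 0) 1 * cond (f 2) (g 1) 1 * cond (f 1) (g 2) 1 * H.out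
    rw [← mul_assoc, ← mul_assoc, h1, mul_assoc _ H.out, h1, ← mul_assoc, mul_assoc _ H.out, h1, ← mul_assoc]
    show cond (f 0) (g 0) 1 * cond (f 1) (g 2) 1 * cond (f 2) (g 1) 1 * H.out = _
    rw [mul_assoc (cond (f 0) (g 0) 1), (hg (f 1) (f 2) 2 1).eq, ← mul_assoc]
  have hdd : ∀ e δ, R.dd (e, δ) = p e * cond δ H.out 1 := fun _ _ => rfl
  have hs0 : swE false f = f := rfl
  cases δ
  · simp only [hdd, ddMul, cond_false, mul_one, Bool.false_xor, hs0]
    rw [← mul_assoc, hp]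
  · simp only [hdd, ddMul, cond_true]
    rw [mul_assoc, ← mul_assoc H.out, hsw, ← mul_assoc, ← mul_assoc, hp, mul_assoc]
    refine congrArg _ ?_
    cases ε <;> simp [H.out_sq]

theorem Refl.dd_one (R : Refl H) : R.dd (e0, false) = 1 := by simp [Refl.dd, e0]

theorem Refl.dd_nrm (R : Refl H) (he : H.ext = true) (x : Sg × Bool) : H.Nrm (R.dd x) (dJ x) := by
  have hc : ∀ (b : Bool) {r : G} {f : JV → JV}, H.Nrm r f → H.Nrm (cond b r 1) (cond b f id) := by
    intro b r f h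
    cases b
    · exact Nrm.one
    · exact h
  exact (((hc (x.1 0) R.nrm1).mul (hc (x.1 1) R.nrm2)).mul (hc (x.1 2) R.nrm3)).mul (hc x.2 (nrm_out he))

theorem Refl.dd_t (R : Refl H) (he : H.ext = true) (x : Sg × Bool) : R.dd x * H.t = H.t * R.dd x := by
  have hc : ∀ (b : Bool) {r : G}, r * H.t = H.t * r → Commute (cond b r 1) H.t := by
    intro b r h
    cases b
    · exact Commute.one_left _
    · exact h
  exact ((((hc (x.1 0) R.comm1).mul_left (hc (x.1 1) R.comm2)).mul_left (hc (x.1 2) R.comm3)).mul_left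
    (hc x.2 (out_comm_t he))).eq

theorem Refl.dd_K (R : Refl H) (he : H.ext = true) (x : Sg × Bool) {k : G} (hk : k ∈ R.K) :
    R.dd x * k * (R.dd x)⁻¹ ∈ R.K := by
  have hc : ∀ (b : Bool) {r : G}, (∀ y ∈ R.K, r * y * r⁻¹ ∈ R.K) →
      ∀ y ∈ R.K, cond b r 1 * y * (cond b r 1)⁻¹ ∈ R.K := by
    intro b r h y hy
    cases b
    · simpa using hy
    · exact h y hy
  have hm : ∀ {a b : G}, (∀ y ∈ R.K, a * y * a⁻¹ ∈ R.K) → (∀ y ∈ R.K, b * y * b⁻¹ ∈ R.K) →
      ∀ y ∈ R.K, a * b * y * (a * b)⁻¹ ∈ R.K := by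
    intro a b ha hb y hy
    rw [show a * b * y * (a * b)⁻¹ = a * (b * y * b⁻¹) * a⁻¹ by group]
    exact ha _ (hb y hy)
  exact hm (hm (hm (hc _ fun y hy => R.K_rr 0 hy) (hc _ fun y hy => R.K_rr 1 hy))
    (hc _ fun y hy => R.K_rr 2 hy)) (hc _ fun y hy => K_out he R hy) k hk

theorem Refl.mem_DD (R : Refl H) (he : H.ext = true) {g : G} : g ∈ R.DD ↔ ∃ x, g = R.dd x := by
  constructor
  · intro hg
    induction hg using closure_induction with
    | mem g hg =>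
      rcases hg with rfl | rfl | rfl | rfl
      · exact ⟨(![true, false, false], false), by simp [Refl.dd]⟩
      · exact ⟨(![false, true, false], false), by simp [Refl.dd]⟩
      · exact ⟨(![false, false, true], false), by simp [Refl.dd]⟩
      · exact ⟨(e0, true), by simp [Refl.dd, e0]⟩
    | one => exact ⟨(e0, false), R.dd_one.symm⟩
    | mul a b _ _ ha hb =>
      obtain ⟨x, rfl⟩ := ha
      obtain ⟨y, rfl⟩ := hb
      exact ⟨_, R.dd_mul he x y⟩
    | inv a _ ha =>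
      obtain ⟨x, rfl⟩ := ha
      obtain ⟨y, hy⟩ := dd_alg.2.2 x
      exact ⟨y, inv_eq_of_mul_eq_one_right (by rw [R.dd_mul he, hy, R.dd_one])⟩
  · rintro ⟨x, rfl⟩
    have hc : ∀ (b : Bool) {r : G}, r ∈ R.DD → cond b r 1 ∈ R.DD := by
      intro b r h
      cases b
      · exact one_mem _
      · exact h
    exact mul_mem (mul_mem (mul_mem (hc _ (subset_closure (by simp))) (hc _ (subset_closure (by simp))))
      (hc _ (subset_closure (by simp)))) (hc _ (subset_closure (by simp)))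

theorem Refl.Comm.AA_inter (R : Refl H) (hR : R.Comm) {u : JV} (h : H.emb u ∈ R.K) : u = j0 := by
  have h4 := coprime_cube (L := R.K) (by rw [hR.card_K]; norm_num) h (H.J_cube (H.mem_J.2 ⟨_, rfl⟩))
  exact H.emb_inj (h4.trans H.emb_j0.symm)

theorem Refl.Comm.dd_mem_K (R : Refl H) (hR : R.Comm) (he : H.ext = true) {x : Sg × Bool}
    (h : R.dd x ∈ R.K) : x = (e0, false) := by
  refine dJ_id x fun i => ?_
  have h1 : H.emb (ja (dJ x (nineE i)) (jn (nineE i))) ∈ R.K := by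
    rw [H.emb_ja, H.emb_jn, ← R.dd_nrm he x, mul_assoc, mul_assoc]
    refine mul_mem h ?_
    rw [← mul_assoc]
    exact R.K_emb (nineE_b i).1 (inv_mem h)
  have h2 := hR.AA_inter R h1
  rw [ja_eq_zero _ _ h2, jn_jn]

/-- The elements of `K⟨r₁, r₂, r₃, out⟩`. -/
theorem Refl.mem_TT (R : Refl H) (he : H.ext = true) {g : G} :
    g ∈ R.TT ↔ ∃ k ∈ R.K, ∃ x, g = k * R.dd x := by
  have hn : R.DD ≤ normalizer (R.K : Set G) := by
    intro d hd
    obtain ⟨x, rfl⟩ := (R.mem_DD he).1 hd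
    have hle : R.K.map (MulAut.conj (R.dd x)).toMonoidHom ≤ R.K := by
      rintro _ ⟨y, hy, rfl⟩
      exact R.dd_K he x hy
    have heq := eq_of_le_of_card_ge hle (le_of_eq (card_map_of_injective (MulAut.conj _).injective).symm)
    refine mem_normalizer_iff.2 fun y => ⟨fun hy => heq.le ⟨y, hy, rfl⟩, fun hy => ?_⟩
    obtain ⟨z, hz, e⟩ := heq.ge hy
    rwa [← (MulAut.conj (R.dd x)).injective e]
  rw [Refl.TT, ← SetLike.mem_coe, coe_mul_of_right_le_normalizer_left _ _ hn, Set.mem_mul]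
  constructor
  · rintro ⟨k, hk, d, hd, rfl⟩
    obtain ⟨x, rfl⟩ := (R.mem_DD he).1 hd
    exact ⟨k, hk, x, rfl⟩
  · rintro ⟨k, hk, x, rfl⟩
    exact ⟨k, hk, _, (R.mem_DD he).2 ⟨x, rfl⟩, rfl⟩

theorem Refl.Comm.TT_unique {R : Refl H} (hR : R.Comm) (he : H.ext = true) {k l : G} {x y : Sg × Bool}
    (hk : k ∈ R.K) (hl : l ∈ R.K) (h : k * R.dd x = l * R.dd y) : k = l ∧ x = y := by
  obtain ⟨x', hx'⟩ := dd_alg.2.2 x
  have h1 : R.dd (ddMul y x') ∈ R.K := by
    rw [← R.dd_mul he, show R.dd y = l⁻¹ * (k * R.dd x) by rw [h]; group, mul_assoc, mul_assoc, R.dd_mul he,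
      hx', R.dd_one, mul_one]
    exact mul_mem (inv_mem hl) hk
  have h2 := hR.dd_mem_K R he h1
  have hxy : y = x := by
    have hu : ∀ x x' y : Sg × Bool, ddMul x x' = (e0, false) → ddMul y x' = (e0, false) → y = x := by
      decide +kernel
    exact hu x x' y hx' h2
  subst hxy
  exact ⟨mul_right_cancel h, rfl⟩

theorem Refl.Comm.card_TT {R : Refl H} (hR : R.Comm) (he : H.ext = true) : Nat.card R.TT = 2 ^ 13 := by
  let f : R.K × (Sg × Bool) → R.TT := fun p =>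
    ⟨p.1 * R.dd p.2, (R.mem_TT he).2 ⟨p.1, p.1.2, p.2, rfl⟩⟩
  have hf : Function.Bijective f := by
    refine ⟨fun p q h => ?_, ?_⟩
    · obtain ⟨h1, h2⟩ := hR.TT_unique he p.1.2 q.1.2 (congrArg Subtype.val h)
      exact Prod.ext (Subtype.ext h1) h2
    · rintro ⟨g, hg⟩
      obtain ⟨k, hk, x, rfl⟩ := (R.mem_TT he).1 hg
      exact ⟨(⟨k, hk⟩, x), rfl⟩
  rw [← Nat.card_congr (Equiv.ofBijective f hf), Nat.card_prod, hR.card_K]
  simp

theorem Refl.Comm.K_pm {R : Refl H} (hR : R.Comm) {a b : G} (ha : a ∈ R.K) (hb : b ∈ R.K) :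
    H.Pm (a * b * a⁻¹ * b⁻¹) := by
  rw [← hR.range_phi] at ha hb
  obtain ⟨p, rfl⟩ := ha
  obtain ⟨q, rfl⟩ := hb
  rw [← map_inv, ← map_inv, ← map_mul, ← map_mul, ← map_mul]
  refine hR.phi_sign fun o => ?_
  have := (Qsub_pair (p o).2 (q o).2).1
  simpa [Pi.mul_apply, Pi.inv_apply, mul_assoc] using this

theorem Refl.FixK_mul {R : Refl H} {d a b : G} (hd : d * H.t = H.t * d) (ha : a ∈ R.FixK d)
    (hb : b ∈ R.FixK d) (hab : a * H.t = H.t * a) : a * b ∈ R.FixK d := by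
  refine ⟨mul_mem ha.1 hb.1, ?_⟩
  have e : d * (a * b) * d⁻¹ * (a * b)⁻¹ =
      (d * a * d⁻¹ * a⁻¹) * (a * (d * b * d⁻¹ * b⁻¹) * a⁻¹) := by group
  rw [e, hb.2.conj hab]
  exact ha.2.mul hb.2

theorem Refl.Comm.FixK_inv {R : Refl H} (hR : R.Comm) {d a : G} (ha : a ∈ R.FixK d) : a⁻¹ ∈ R.FixK d := by
  refine ⟨inv_mem ha.1, ?_⟩
  have e : d * a⁻¹ * d⁻¹ * a⁻¹⁻¹ = a⁻¹ * (d * a * d⁻¹ * a⁻¹)⁻¹ * a⁻¹⁻¹ := by group
  rw [e, ha.2.inv.conj (hR.K_cent (inv_mem ha.1))]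
  exact ha.2.inv

/-- The fixed points do not change along a coset of `K`. -/
theorem Refl.Comm.FixK_coset {R : Refl H} (hR : R.Comm) {d k : G} (hk : k ∈ R.K)
    (hn : ∀ y ∈ R.K, d * y * d⁻¹ ∈ R.K) : R.FixK (k * d) = R.FixK d := by
  ext y
  have key : y ∈ R.K → k * d * y * (k * d)⁻¹ * y⁻¹ =
      (k * (d * y * d⁻¹) * k⁻¹ * (d * y * d⁻¹)⁻¹) * (d * y * d⁻¹ * y⁻¹) := fun _ => by group
  constructor <;> rintro ⟨hy, h⟩ <;> refine ⟨hy, ?_⟩ <;> have hp := hR.K_pm hk (hn y hy)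
  · rw [key hy] at h
    have := hp.inv.mul h
    rwa [inv_mul_cancel_left] at this
  · rw [key hy]; exact hp.mul h

theorem Refl.FixK_sq {R : Refl H} {d : G} (hd : d * H.t = H.t * d) : R.FixK d ⊆ R.FixK (d * d) := by
  rintro y ⟨hy, h⟩
  refine ⟨hy, ?_⟩
  have e : d * d * y * (d * d)⁻¹ * y⁻¹ = (d * (d * y * d⁻¹ * y⁻¹) * d⁻¹) * (d * y * d⁻¹ * y⁻¹) := by group
  rw [e, h.conj hd]
  exact h.mul h

/-- Bound from an element of order three inverted by `d`. -/
theorem Refl.Comm.FixK_bound {R : Refl H} (hR : R.Comm) {d : G} (hd : d * H.t = H.t * d) {u : JV}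
    (hu : u.b = 0) (hinv : d * H.emb u * d⁻¹ = H.emb (jn u)) :
    (Set.ncard (R.FixK d)) ^ 2 ≤ 512 * Set.ncard {k : G | k ∈ R.K ∧ k * H.emb u = H.emb u * k} := by
  classical
  haveI := Fintype.ofFinite G
  set e := H.emb u with he
  have het : e * H.t = H.t * e := emb_comm_t (JV.ext rfl rfl (by show -u.b = _; rw [hu, neg_zero]) rfl)
  have he3 : e * e * e = 1 := by
    have := H.J_cube (H.mem_J.2 ⟨u, rfl⟩ : e ∈ H.J)
    rwa [pow_succ, pow_two] at this
  rw [H.emb_jn] at hinv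
  set F := (R.FixK d).toFinset
  set C := {k : G | k ∈ R.K ∧ k * e = e * k}
  have hmap : ∀ p ∈ F ×ˢ F, p.1 * (e * p.2 * e⁻¹) ∈ (R.K : Set G).toFinset := by
    intro p hp
    simp only [Finset.mem_product, F, Set.mem_toFinset] at hp
    exact Set.mem_toFinset.2 (mul_mem hp.1.1 (R.K_emb hu hp.2.1))
  have hfib : ∀ y ∈ (R.K : Set G).toFinset,
      ((F ×ˢ F).filter fun p => p.1 * (e * p.2 * e⁻¹) = y).card ≤ C.ncard := by
    intro y _
    rcases Finset.eq_empty_or_nonempty ((F ×ˢ F).filter fun p => p.1 * (e * p.2 * e⁻¹) = y) with h0 | ⟨q, hq⟩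
    · rw [h0]; simp
    rw [Set.ncard_eq_toFinset_card']
    refine Finset.card_le_card_of_injOn (fun p => q.2 * p.2⁻¹) (fun p hp => ?_) (fun a ha b hb h => ?_)
    · simp only [Finset.mem_coe, Finset.mem_filter, Finset.mem_product, F, Set.mem_toFinset] at hp hq ⊢
      obtain ⟨⟨ha, hb⟩, hab⟩ := hp
      obtain ⟨⟨ha', hb'⟩, hab'⟩ := hq
      set c := q.2 * p.2⁻¹ with hc
      have hcF : c ∈ R.FixK d := R.FixK_mul hd hb' (hR.FixK_inv hb) (hR.K_cent hb'.1)
      have e1 : q.1⁻¹ * p.1 = e * c * e⁻¹ := by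
        calc q.1⁻¹ * p.1 = q.1⁻¹ * (p.1 * (e * p.2 * e⁻¹)) * (e * p.2⁻¹ * e⁻¹) := by group
          _ = _ := by rw [hab, ← hab', hc]; group
      have hcF' : e * c * e⁻¹ ∈ R.FixK d :=
        e1 ▸ R.FixK_mul hd (hR.FixK_inv ha') ha (hR.K_cent (inv_mem ha'.1))
      -- `e` fixes `c` modulo `t`
      set p1 := d * c * d⁻¹ * c⁻¹ with hp1
      set p2 := d * (e * c * e⁻¹) * d⁻¹ * (e * c * e⁻¹)⁻¹ with hp2
      have e2 : d * (e * c * e⁻¹) * d⁻¹ = e⁻¹ * (p1 * c) * e := by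
        have hinv' : d * e * d⁻¹ = e⁻¹ := hinv
        have hdc : d * c * d⁻¹ = p1 * c := by rw [hp1]; group
        calc d * (e * c * e⁻¹) * d⁻¹ = (d * e * d⁻¹) * (d * c * d⁻¹) * (d * e * d⁻¹)⁻¹ := by group
          _ = _ := by rw [hinv', hdc, inv_inv]
      have e3 : e⁻¹ * (p1 * c) * e = p2 * (e * c * e⁻¹) := by rw [← e2, hp2]; group
      have e4 : e * (p1 * c) * e⁻¹ = p2 * c := by
        calc e * (p1 * c) * e⁻¹ = e * (e * (e⁻¹ * (p1 * c) * e) * e⁻¹) * e⁻¹ := by group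
          _ = e * (e * (p2 * (e * c * e⁻¹)) * e⁻¹) * e⁻¹ := by rw [e3]
          _ = (e * (e * p2 * e⁻¹) * e⁻¹) * (e * e * e * c * (e * e * e)⁻¹) := by group
          _ = p2 * c := by
            rw [(hcF'.2 : H.Pm p2).conj het, (hcF'.2 : H.Pm p2).conj het, he3, one_mul, inv_one, mul_one]
      have e5 : e * c * e⁻¹ = p1⁻¹ * p2 * c := by
        have hp : e * p1 * e⁻¹ = p1 := (hcF.2 : H.Pm p1).conj het
        calc e * c * e⁻¹ = (e * p1 * e⁻¹)⁻¹ * (e * (p1 * c) * e⁻¹) := by group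
          _ = p1⁻¹ * p2 * c := by rw [hp, e4]; exact (mul_assoc _ _ _).symm
      set p := p1⁻¹ * p2
      have hp : H.Pm p := hcF.2.inv.mul hcF'.2
      have e6 : e * e * e * c * (e * e * e)⁻¹ = p * p * p * c := by
        calc e * e * e * c * (e * e * e)⁻¹ = e * (e * (e * c * e⁻¹) * e⁻¹) * e⁻¹ := by group
          _ = e * (e * (p * c) * e⁻¹) * e⁻¹ := by rw [e5]
          _ = e * ((e * p * e⁻¹) * (e * c * e⁻¹)) * e⁻¹ := by group
          _ = e * (p * (p * c)) * e⁻¹ := by rw [hp.conj het, e5]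
          _ = (e * p * e⁻¹) * (e * p * e⁻¹) * (e * c * e⁻¹) := by group
          _ = _ := by rw [hp.conj het, e5]; group
      rw [he3, one_mul, inv_one, mul_one] at e6
      rw [hp.cube (mul_eq_right.1 e6.symm), one_mul] at e5
      exact ⟨hcF.1, (mul_inv_eq_iff_eq_mul.1 e5).symm⟩
    · simp only [Finset.mem_coe, Finset.mem_filter] at ha hb
      have h2 : a.2 = b.2 := inv_injective (mul_left_cancel h)
      refine Prod.ext ?_ h2
      have := ha.2.trans hb.2.symm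
      rwa [h2, mul_left_inj] at this
  have h1 := Finset.card_le_mul_card_image_of_maps_to hmap C.ncard hfib
  rw [Finset.card_product, ← Set.ncard_eq_toFinset_card', ← Set.ncard_eq_toFinset_card',
    ← Nat.card_coe_set_eq (R.K : Set G)] at h1
  have hK : Nat.card (R.K : Set G) = 512 := by
    show Nat.card R.K = 512
    rw [hR.card_K]; norm_num
  rw [hK, mul_comm C.ncard] at h1
  rwa [pow_two]

theorem Refl.Comm.cent_axis_le {R : Refl H} (hR : R.Comm) (i : Fin 3) :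
    Set.ncard {k : G | k ∈ R.K ∧ k * H.emb (nineE i) = H.emb (nineE i) * k} ≤ 2 := by
  refine (Set.ncard_le_ncard (t := {1, H.t}) ?_ (Set.toFinite _)).trans ((Set.ncard_insert_le _ _).trans (by simp))
  rintro k ⟨hk, hc⟩
  exact hR.fix_axis (nineE_b i).1 (nine_axis i).2 hk hc

theorem Refl.Comm.cent_aEl_le {R : Refl H} (hR : R.Comm) :
    Set.ncard {k : G | k ∈ R.K ∧ k * H.emb ⟨0, 1, 0, 0⟩ = H.emb ⟨0, 1, 0, 0⟩ * k} ≤ 64 := by
  classical
  let f : H.Qsub × H.Qsub → G := fun p => R.fU 0 p.1 * R.fU 1 p.2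
  refine (Set.ncard_le_ncard (t := Set.range f) ?_ (Set.toFinite _)).trans ?_
  · rintro x ⟨hx, hc⟩
    set v : JV := ⟨0, 1, 0, 0⟩
    have hb : v.b = 0 := rfl
    rw [← hR.range_phi] at hx
    obtain ⟨q, rfl⟩ := hx
    have hmem : ∀ o, ∃ q' : H.Qsub, R.fU o q' = H.emb v * R.fU o (q o) * (H.emb v)⁻¹ := fun o => by
      obtain ⟨y, hy, e⟩ := R.mem_U.1 (R.U_norm (o := o) hb (R.fU_mem o (q o)))
      exact ⟨⟨y, hy⟩, e⟩
    choose q' hq' using hmem
    have hphi : hR.phi q' = hR.phi q := by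
      rw [hR.phi_apply, hq', hq', hq', hq']
      calc _ = H.emb v * hR.phi q * (H.emb v)⁻¹ := by rw [hR.phi_apply]; group
        _ = _ := by rw [← hc]; group
    have hall := hR.inj (q := q' * q⁻¹) (Or.inl (by rw [map_mul, map_inv, hphi, mul_inv_cancel]))
    have hpm : ∀ o, (cJ o v).k ≠ 0 → H.Pm (R.fU o (q o)) := by
      intro o hk
      have h := hall o
      simp only [Pi.mul_apply, Pi.inv_apply, map_mul, map_inv, hq'] at h
      exact R.U_free hb hk (R.fU_mem o (q o)) h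
    obtain ⟨τ, hτ⟩ : ∃ τ : H.Qsub, R.fU 2 (q 2) * R.fU 3 (q 3) = R.fU 0 τ := by
      rcases (hpm 2 cJ_a.2.2.1).mul (hpm 3 cJ_a.2.2.2) with e | e
      · exact ⟨1, by rw [e, map_one]⟩
      · exact ⟨⟨H.t, t_mem_Qsub⟩, by rw [e]; exact (R.cc_t' 0).symm⟩
    refine ⟨(q 0 * τ, q 1), ?_⟩
    show R.fU 0 (q 0 * τ) * R.fU 1 (q 1) = _
    rw [hR.phi_apply, map_mul, mul_assoc (R.fU 0 (q 0) * R.fU 1 (q 1)), hτ, mul_assoc, mul_assoc]
    exact congrArg _ (hR.U_comm (by decide) (R.fU_mem 0 τ) (R.fU_mem 1 (q 1)))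
  · rw [← Nat.card_coe_set_eq]
    refine (Finite.card_range_le f).trans ?_
    rw [Nat.card_prod, card_Qsub]

/-- The fixed points of the elements of the complement. -/
theorem Refl.Comm.FixK_dd {R : Refl H} (hR : R.Comm) (he : H.ext = true) {x : Sg × Bool}
    (hx : x ≠ (e0, false)) :
    Set.ncard (R.FixK (R.dd x)) ≤ 181 ∧ (¬ OutCl x → Set.ncard (R.FixK (R.dd x)) ≤ 32) := by
  have hax : ∀ {d : G}, d * H.t = H.t * d → ∀ i : Fin 3, d * H.emb (nineE i) * d⁻¹ = H.emb (jn (nineE i)) →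
      Set.ncard (R.FixK d) ≤ 32 := by
    intro d hd i hi
    have h := (hR.FixK_bound hd (nineE_b i).1 hi).trans (Nat.mul_le_mul_left 512 (hR.cent_axis_le i))
    exact (Nat.pow_le_pow_iff_left two_ne_zero).1 (h.trans (by norm_num))
  have hcl' : OutCl x → ∃ u : JV, u.b = 0 ∧ dJ x u = jn u ∧
      Set.ncard {k : G | k ∈ R.K ∧ k * H.emb u = H.emb u * k} ≤ 64 := by
    rintro (rfl | rfl)
    · exact ⟨⟨0, 1, 0, 0⟩, rfl, dJ_outcl.1, hR.cent_aEl_le⟩
    · refine ⟨⟨2, 0, 0, 1⟩, rfl, dJ_outcl.2.1, ?_⟩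
      refine (Set.ncard_le_ncard_of_injOn (fun k => R.r2 * k * R.r2⁻¹) (fun k hk => (⟨R.K_rr 1 hk.1, ?_⟩ : _ ∈ R.K ∧ _))
        (fun a _ b _ h => mul_left_cancel (mul_right_cancel h)) (Set.toFinite _)).trans hR.cent_aEl_le
      exact (comm_transport (m := R.r2) ((R.nrm2 _).trans (congrArg H.emb dJ_outcl.2.2))).2 hk.2
  have hout : OutCl x → Set.ncard (R.FixK (R.dd x)) ≤ 181 := by
    intro hcl
    obtain ⟨u, hub, hui, huc⟩ := hcl' hcl
    have h := (hR.FixK_bound (R.dd_t he x) hub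
      ((R.dd_nrm he x _).trans (congrArg H.emb hui))).trans
      (Nat.mul_le_mul_left 512 huc)
    by_contra hlt
    have := Nat.pow_le_pow_left (show 182 ≤ Set.ncard (R.FixK (R.dd x)) by omega) 2
    omega
  rcases dJ_kinds x hx with h | h | ⟨i, h⟩
  · exact ⟨hout (Or.inl h), fun hn => absurd (Or.inl h) hn⟩
  · exact ⟨hout (Or.inr h), fun hn => absurd (Or.inr h) hn⟩
  · have h32 : Set.ncard (R.FixK (R.dd x)) ≤ 32 := by
      rcases h with h | h
      · exact hax (R.dd_t he x) i ((R.dd_nrm he x _).trans (congrArg H.emb h))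
      · refine (Set.ncard_le_ncard (R.FixK_sq (R.dd_t he x)) (Set.toFinite _)).trans (hax ?_ i
          (((R.dd_nrm he x).mul (R.dd_nrm he x) _).trans (congrArg H.emb h)))
        exact ((show Commute (R.dd x) H.t from R.dd_t he x).mul_left (R.dd_t he x)).eq
    exact ⟨h32.trans (by norm_num), fun _ => h32⟩

end Base

end CfsgLib.O8Three
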