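import Cfsg.Agent.O8Three.CentW
import Cfsg.Agent.O8Three.ExtBase

/-!
# Fusion of `p₁`, `z` and `t` relevant to the centralizer of the involution

`p₁` and `p₂` are not conjugate; elements of `C(t)` conjugate to `p₁`, resp. to `z`, are conjugate to
them inside `C(t)`; so `t` is neither conjugate to `out` nor to `out.t`.
-/

set_option autoImplicit false
set_option maxRecDepth 100000
set_option linter.style.haveILetI false
set_option linter.unusedSectionVars false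

namespace CfsgLib.O8Three

open CfsgLib.PSpFourInvol (S sm si)
open CfsgLib.PSpFourInvol.Concrete (smat)
open Subgroup

universe u

attribute [local instance] fact_three

/-- A group of prime power order grows in its normalizer. -/
theorem exists_norm_outside {X : Type*} [Group X] [Finite X] {p : ℕ} [hp : Fact p.Prime] {n : ℕ}
    {P : Subgroup X} (hP : Nat.card P = p ^ n) (hd : p ^ (n + 1) ∣ Nat.card X) :
    ∃ h, h ∉ P ∧ h ^ p ^ (n + 1) = 1 ∧ ∀ x ∈ P, h * x * h⁻¹ ∈ P := by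
  set M := normalizer (P : Set X)
  set P' := P.comap M.subtype with hP'
  haveI : P'.Normal := normal_in_normalizer
  obtain ⟨q, hq⟩ := exists_prime_orderOf_dvd_card' (G := M ⧸ P') p
    (Sylow.prime_dvd_card_quotient_normalizer hd hP)
  obtain ⟨h, rfl⟩ := QuotientGroup.mk'_surjective P' q
  have hne : (h : X) ∉ P := fun e => hp.out.ne_one (by
    rw [← hq, orderOf_eq_one_iff, QuotientGroup.mk'_apply, QuotientGroup.eq_one_iff]
    exact e)
  have hm : (h : X) ^ p ∈ P := by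
    have := pow_orderOf_eq_one (QuotientGroup.mk' P' h)
    rw [hq, ← map_pow, QuotientGroup.mk'_apply, QuotientGroup.eq_one_iff] at this
    exact this
  refine ⟨h, hne, ?_, fun x hx => ((mem_normalizer_iff.1 h.2) x).1 hx⟩
  have h1 := congrArg Subtype.val (pow_card_eq_one' (x := (⟨_, hm⟩ : P)))
  rw [hP] at h1
  rw [pow_succ', pow_mul]
  simpa using h1

theorem comm_p2_val : ∀ g : S, act g ⟨0, 1, 0, 0⟩ = ⟨0, 1, 0, 0⟩ → sm (sm g g) g = 0 → g = 0 := by
  decide +kernel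

theorem three_pow_g : ∀ g : S, sm (sm (sm (sm g g) g) (sm (sm g g) g)) (sm (sm g g) g) = 0 →
    sm (sm g g) g = 0 := by decide +kernel

theorem cube_lift : ∀ u : JV, u.b = 0 →
    (ja (ja u (alJ u)) (alJ (alJ u)) = j0 → ∃ w : JV, w.b = 0 ∧ ja w u = alJ w) ∧
    (ja (ja u (alJ (alJ u))) (alJ u) = j0 → ∃ w : JV, w.b = 0 ∧ ja w u = alJ (alJ w)) := by
  decide +kernel

theorem T_pow_g {x : T} : ∀ k : ℕ, (x ^ k).g = (fun s => sm s x.g)^[k] 0
  | 0 => rfl
  | k + 1 => by rw [pow_succ, mul_g, T_pow_g k, Function.iterate_succ_apply']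

theorem g_cube_of_pow {x : T} {k : ℕ} (h : x ^ 3 ^ k = 1) : sm (sm x.g x.g) x.g = 0 := by
  induction k generalizing x with
  | zero =>
    rw [pow_zero, pow_one] at h
    subst h; decide
  | succ k ih =>
    rw [pow_succ', pow_mul] at h
    have := ih h
    rw [pow_succ, pow_two, mul_g, mul_g] at this
    exact three_pow_g _ this

theorem cube_inS : ∀ g : S, sm (sm g g) g = 0 →
    (sm (sm g 10) (si g) == 0 || sm (sm g 10) (si g) == 10 || sm (sm g 10) (si g) == sm 10 10) = true →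
      (g == 0 || g == 10 || g == sm 10 10) = true := by decide +kernel

theorem centre_P3 : allN 5832 (fun x =>
    !((x % 24 == 0 || x % 24 == 10 || x % 24 == 13) && x / 72 % 81 % 9 == 0 &&
      commN x (mk 0 27 0) && commN x (mk 0 9 0)) ||
    (x % 24 == 0 && x / 72 % 81 == 0)) = true := by decide +kernel

theorem inS_val : ∀ g : S, (g == 0 || g == 10 || g == sm 10 10) = (g.val == 0 || g.val == 10 || g.val == 13) := by
  decide +kernel

theorem centre_P3' {x : T} (hS : inS x = true) (hm : x.v.m = 0) (hn : x.v.n = 0)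
    (h1 : x * p1T = p1T * x) (h2 : x * p2T = p2T * x) : x = qT x.c v0 := by
  obtain ⟨n, hlt, rfl⟩ := exists_dec x
  obtain ⟨e1, -, e3, -, -, -, -⟩ := gens_dec
  rw [← e1] at h1
  rw [← e3] at h2
  have hS' : (n % 24 == 0 || n % 24 == 10 || n % 24 == 13) = true := (inS_val _).symm.trans hS
  have hm' : (n / 72 % 81 % 9 == 0) = true := by
    have a0 : ((n / 72 % 81 / 3 % 3 : ℕ) : ZMod 3) = 0 := hm
    have b0 : ((n / 72 % 81 % 3 : ℕ) : ZMod 3) = 0 := hn
    rw [ZMod.natCast_eq_zero_iff] at a0 b0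
    refine beq_iff_eq.2 ?_
    omega
  have h := allN_spec centre_P3 n hlt
  simp only [hS', hm', commN_of h1, commN_of h2, Bool.and_self, Bool.not_true, Bool.false_or,
    Bool.and_eq_true, beq_iff_eq] at h
  refine T.ext rfl ?_ (Fin.ext h.1)
  show dv (n / 72 % 81) = v0
  rw [h.2]; decide

namespace Base

variable {G : Type u} [Group G] {H : Base G}

/-- The Sylow 3-subgroup of the centralizer of the involution. -/
def P81 : Subgroup T where
  carrier := {x | inS x = true ∧ x.v.m = 0 ∧ x.v.n = 0}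
  mul_mem' := by
    intro x y hx hy
    refine ⟨Ssub.mul_mem hx.1 hy.1, ?_, ?_⟩ <;> simp [mul_v, va, act, hx.2.1, hx.2.2, hy.2.1, hy.2.2]
  one_mem' := ⟨by decide, rfl, rfl⟩
  inv_mem' := by
    intro x hx
    refine ⟨Ssub.inv_mem hx.1, ?_, ?_⟩ <;> simp [inv_def, ti, act, vn, hx.2.1, hx.2.2]

theorem card_P81 : Nat.card P81 = 81 := by
  let e : P81 ≃ ZMod 3 × ZMod 3 × ZMod 3 × {g : S // (g == 0 || g == 10 || g == sm 10 10) = true} :=
    { toFun := fun x => (x.1.c, x.1.v.a, x.1.v.b, ⟨x.1.g, x.2.1⟩)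
      invFun := fun p => ⟨⟨p.1, ⟨p.2.1, p.2.2.1, 0, 0⟩, p.2.2.2⟩, p.2.2.2.2, rfl, rfl⟩
      left_inv := fun x => Subtype.ext (T.ext rfl (Vec.ext rfl rfl x.2.2.1.symm x.2.2.2.symm) rfl)
      right_inv := fun _ => rfl }
  have h3 : Fintype.card {g : S // (g == 0 || g == 10 || g == sm 10 10) = true} = 3 := by decide +kernel
  rw [Nat.card_congr e, Nat.card_prod, Nat.card_prod, Nat.card_prod, Nat.card_zmod,
    Nat.card_eq_fintype_card (α := {g : S // _}), h3]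

theorem card_Rsub : Nat.card Rsub = 81 := by
  let e : Rsub ≃ ZMod 3 × ZMod 3 × ZMod 3 × ZMod 3 :=
    { toFun := fun x => (x.1.c, x.1.v.b, x.1.v.m, x.1.v.n)
      invFun := fun p => ⟨qT p.1 ⟨0, p.2.1, p.2.2.1, p.2.2.2⟩, rfl, rfl⟩
      left_inv := fun x => Subtype.ext (T.ext rfl (Vec.ext x.2.2.symm rfl rfl rfl) x.2.1.symm)
      right_inv := fun _ => rfl }
  rw [Nat.card_congr e]; simp

/-- The part of the Sylow subgroup centralizing `p₁`. -/
def S243 : Subgroup T := Ssub ⊓ bHom.ker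

theorem card_S243 : Nat.card S243 = 243 := by
  let e : S243 ≃ ZMod 3 × ZMod 3 × ZMod 3 × ZMod 3 × {g : S // (g == 0 || g == 10 || g == sm 10 10) = true} :=
    { toFun := fun x => (x.1.c, x.1.v.a, x.1.v.m, x.1.v.n, ⟨x.1.g, mem_Ssub.1 x.2.1⟩)
      invFun := fun p => ⟨⟨p.1, ⟨p.2.1, 0, p.2.2.1, p.2.2.2.1⟩, p.2.2.2.2⟩,
        mem_Ssub.2 p.2.2.2.2.2, mem_Tb.2 rfl⟩
      left_inv := fun x => Subtype.ext (T.ext rfl (Vec.ext rfl (mem_Tb.1 x.2.2).symm rfl rfl) rfl)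
      right_inv := fun _ => rfl }
  have h3 : Fintype.card {g : S // (g == 0 || g == 10 || g == sm 10 10) = true} = 3 := by decide +kernel
  rw [Nat.card_congr e, Nat.card_prod, Nat.card_prod, Nat.card_prod, Nat.card_prod, Nat.card_zmod,
    Nat.card_eq_fintype_card (α := {g : S // _}), h3]

variable [Finite G]

theorem odd_fix {h : G} {k : ℕ} (hk : h ^ 3 ^ k = 1)
    (hz : h * H.z * h⁻¹ = H.z ∨ h * H.z * h⁻¹ = H.z⁻¹) : h * H.z = H.z * h := by
  rcases hz with e | e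
  · exact mul_inv_eq_iff_eq_mul.1 e
  exfalso
  have h2 : h ^ 2 * H.z * (h ^ 2)⁻¹ = H.z := by
    rw [pow_two]
    calc h * h * H.z * (h * h)⁻¹ = h * (h * H.z * h⁻¹) * h⁻¹ := by group
      _ = (h * H.z * h⁻¹)⁻¹ := by rw [e]; conv_rhs => rw [← e]
                                  group
      _ = H.z := by rw [e, inv_inv]
  have hc : Commute (h ^ 2) H.z := mul_inv_eq_iff_eq_mul.1 h2
  obtain ⟨m, hm⟩ : Odd (3 ^ k) := (by decide : Odd 3).pow
  have h1 : Commute h H.z := by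
    have := hc.pow_left (m + 1)
    rwa [← pow_mul, show 2 * (m + 1) = 3 ^ k + 1 by omega, pow_succ, hk, one_mul] at this
  rw [h1.eq, mul_inv_cancel_right] at e
  have hzz : zT = zT⁻¹ := H.inj (by rw [map_inv]; exact e)
  exact absurd hzz (by decide +kernel)

/-- `p₁` is not conjugate to `p₂` or its inverse. -/
theorem Good.p2_not_conj_a (hG : H.Good) (g : G) :
    g * H.aEl * g⁻¹ ≠ H.par p2T ∧ g * H.aEl * g⁻¹ ≠ (H.par p2T)⁻¹ := by
  suffices main : ∀ g : G, Commute (g * H.aEl * g⁻¹) (H.par p2T) →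
      (∀ y, Commute y (g * H.aEl * g⁻¹) → Commute y (H.par p2T)) → False by
    exact ⟨fun e => main g (by rw [e]) (fun y hy => e ▸ hy),
      fun e => main g (by rw [e]; exact (Commute.refl _).inv_left)
        (fun y hy => Commute.inv_right_iff.1 (e ▸ hy))⟩
  intro g _ hsub
  set P := H.par p2T
  set C := centralizer ({P} : Set G) with hC
  have hRC : Rsub.map H.par ≤ C := by
    rintro _ ⟨x, hx, rfl⟩
    exact mem_centralizer_singleton_iff.2 (H.par_comm.2 (Rsub_comm hx))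
  have hEC : (S243.map H.par).map (MulAut.conj g).toMonoidHom ≤ C := by
    rintro _ ⟨_, ⟨x, hx, rfl⟩, rfl⟩
    refine mem_centralizer_singleton_iff.2 (hsub _ ?_).eq
    exact (show Commute (H.par x) H.aEl from mem_centralizer_singleton_iff.1
      (H.par_mem_Ca.2 (mem_Tb.1 hx.2))).map (MulAut.conj g)
  have h243 : 3 ^ (4 + 1) ∣ Nat.card C := by
    refine dvd_trans (dvd_of_eq ?_) (card_dvd_of_le hEC)
    rw [card_map_of_injective (MulAut.conj g).injective, card_map_of_injective H.inj, card_S243]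
    norm_num
  have hR81 : Nat.card ((Rsub.map H.par).subgroupOf C) = 3 ^ 4 := by
    rw [Nat.card_congr (subgroupOfEquivOfLe hRC).toEquiv, card_map_of_injective H.inj, card_Rsub]
    norm_num
  obtain ⟨h, hh, hk, hn⟩ := exists_norm_outside hR81 h243
  have hk' : (h : G) ^ 3 ^ (4 + 1) = 1 := by simpa using congrArg Subtype.val hk
  have hNZ : (h : G)⁻¹ ∈ H.NZ := H.carry_mem_NZ fun r hr => by
    have h' : (h : G) * H.par r * (h : G)⁻¹ ∈ Rsub.map H.par :=
      mem_subgroupOf.1 (hn ⟨H.par r, hRC ⟨r, hr, rfl⟩⟩ (mem_subgroupOf.2 ⟨r, hr, rfl⟩))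
    obtain ⟨r', hr', e⟩ := h'
    rw [inv_inv, ← e]
    exact ⟨r', mem_Ssub.2 (by simp [inS, hr'.1]), rfl⟩
  have hz := odd_fix hk' (inv_mem_iff.1 hNZ : (h : G) ∈ H.NZ)
  obtain ⟨x, hx⟩ := H.three_power_mem hz hk'
  have hx3 : x ^ 3 ^ (4 + 1) = 1 := H.inj (by rw [map_pow, ← hx, hk', map_one])
  have hxP : x * p2T = p2T * x := H.par_comm.1 (hx ▸ mem_centralizer_singleton_iff.1 h.2)
  have hg : x.g = 0 := comm_p2_val _ (va_cancel (comm_vec (q := p2T) rfl hxP)) (g_cube_of_pow hx3)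
  have hxa : x.v.a = 0 := by
    have hb := (qq_comm (y := p2T) hg rfl).1 hxP
    simpa [bet, p2T, qT] using hb
  exact hh (mem_subgroupOf.2 ⟨x, ⟨hg, hxa⟩, hx.symm⟩)

theorem P81_le_Wt : P81.map H.par ≤ H.Wt := by
  rintro _ ⟨x, hx, rfl⟩
  refine mem_Wt.2 (H.par_comm.2 ?_)
  have hs : ∀ g : S, sm g 1 = sm 1 g := by decide +kernel
  have h1 : act 1 x.v = x.v := by
    have hchi : chi (1 : S) = 0 := by decide
    refine Vec.ext ?_ rfl ?_ ?_ <;> simp [act, hchi, hx.2.1, hx.2.2]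
  refine T.ext ?_ ?_ (hs _)
  · simp only [mul_def, tm, tT, act_v0, h1]
    simp [bet, v0]
  · simp only [mul_def, tm, tT, act_v0, h1]
    simp [va, v0]

/-- An element of order dividing three of the centralizer of `t` moves into `A ∪ A p₂ ∪ A p₂⁻¹`. -/
theorem conj_into (hG : H.Good) {x : G} (hx : x * H.t = H.t * x) (h3 : x ^ 3 = 1) :
    ∃ c, c * H.t = H.t * c ∧ ((∃ u : JV, u.b = 0 ∧ c * x * c⁻¹ = H.emb u) ∨
      c * x * c⁻¹ = H.par p2T ∨ c * x * c⁻¹ = (H.par p2T)⁻¹) := by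
  set Q : Subgroup H.Wt := (P81.map H.par).subgroupOf H.Wt with hQdef
  have hQ81 : Nat.card Q = 3 ^ 4 := by
    rw [Nat.card_congr (subgroupOfEquivOfLe P81_le_Wt).toEquiv, card_map_of_injective H.inj, card_P81]
    norm_num
  have h243 : ¬ 3 ^ (4 + 1) ∣ Nat.card H.Wt := by
    intro hd
    obtain ⟨h, hh, hk, hn⟩ := exists_norm_outside hQ81 hd
    have hk' : (h : G) ^ 3 ^ (4 + 1) = 1 := by simpa using congrArg Subtype.val hk
    have hmv : ∀ y ∈ P81, ∃ y' ∈ P81, (h : G) * H.par y * (h : G)⁻¹ = H.par y' := by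
      intro y hy
      obtain ⟨y', hy', e⟩ := mem_subgroupOf.1
        (hn ⟨H.par y, P81_le_Wt ⟨y, hy, rfl⟩⟩ (mem_subgroupOf.2 ⟨y, hy, rfl⟩))
      exact ⟨y', hy', e.symm⟩
    have hgen : ∀ y ∈ P81, ∃ y0 ∈ P81, (h : G) * H.par y0 * (h : G)⁻¹ = H.par y := by
      intro y hy
      choose f hf using fun y : P81 => hmv y.1 y.2
      have hinj : Function.Injective fun y : P81 => (⟨f y, (hf y).1⟩ : P81) := fun a b e => by
        have ha := (hf a).2
        rw [show f a = f b from congrArg Subtype.val e, ← (hf b).2] at ha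
        exact Subtype.ext (H.inj (mul_left_cancel (mul_right_cancel ha)))
      obtain ⟨y0, e0⟩ := (Finite.injective_iff_surjective.1 hinj) ⟨y, hy⟩
      exact ⟨y0, y0.2, (hf y0).2.trans (congrArg H.par (congrArg Subtype.val e0))⟩
    obtain ⟨zc, hzc, hze⟩ := hmv zT ⟨by decide, rfl, rfl⟩
    have hcomm : ∀ y ∈ P81, zc * y = y * zc := by
      intro y hy
      obtain ⟨y0, -, e⟩ := hgen y hy
      refine H.par_comm.1 ?_
      rw [← hze, ← e]
      calc (h : G) * H.par zT * (h : G)⁻¹ * ((h : G) * H.par y0 * (h : G)⁻¹)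
          = (h : G) * (H.par zT * H.par y0) * (h : G)⁻¹ := by group
        _ = (h : G) * (H.par y0 * H.par zT) * (h : G)⁻¹ := by rw [H.par_comm.2 (zT_central y0).symm]
        _ = _ := by group
    have hzc' := centre_P3' hzc.1 hzc.2.1 hzc.2.2 (hcomm p1T ⟨by decide, rfl, rfl⟩)
      (hcomm p2T ⟨by decide, rfl, rfl⟩)
    have hhz : (h : G) * H.z * (h : G)⁻¹ = H.z ∨ (h : G) * H.z * (h : G)⁻¹ = H.z⁻¹ := by
      have hr : ∀ r : ZMod 3, r = 0 ∨ r = 1 ∨ r = 2 := by decide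
      show (h : G) * H.par zT * (h : G)⁻¹ = H.par zT ∨ (h : G) * H.par zT * (h : G)⁻¹ = (H.par zT)⁻¹
      rw [hze, hzc']
      rcases hr zc.c with e | e | e <;> rw [e]
      · exfalso
        rw [hzc', e, qT_zero.2.2, map_one, conj_eq_one_iff] at hze
        exact absurd (congrArg T.c (H.inj (hze.trans (map_one H.par).symm) : zT = 1))
          (show (1 : ZMod 3) ≠ 0 by decide)
      · exact Or.inl (congrArg H.par qT_zero.1)
      · exact Or.inr ((congrArg H.par (show qT 2 v0 = zT⁻¹ by decide +kernel)).trans (map_inv _ _))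
    obtain ⟨w, hw⟩ := H.three_power_mem (odd_fix hk' hhz) hk'
    have hw3 : w ^ 3 ^ (4 + 1) = 1 := H.inj (by rw [map_pow, ← hw, hk', map_one])
    obtain ⟨hwm, hwn⟩ := comm_tT (H.par_comm.1 (hw ▸ mem_Wt.1 h.2 : H.par w * H.t = H.t * H.par w))
    obtain ⟨y', hy', e⟩ := hmv (jT ⟨0, 0, 0, 1⟩) ⟨(show inS (jT ⟨0, 0, 0, 1⟩) = true by decide), rfl, rfl⟩
    rw [hw, ← map_inv, ← map_mul, ← map_mul] at e
    have hwS : inS w = true := cube_inS _ (g_cube_of_pow hw3) (by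
      have h2 : (w * jT ⟨0, 0, 0, 1⟩ * w⁻¹).g = y'.g := congrArg T.g (H.inj e)
      have h4 := hy'.1
      rw [inS, ← h2, mul_g, mul_g] at h4
      exact h4)
    exact hh (mem_subgroupOf.2 ⟨w, ⟨hwS, hwm, hwn⟩, hw.symm⟩)
  have hf : (Nat.card H.Wt).factorization 3 = 4 := by
    refine le_antisymm ?_ ((Nat.prime_three.pow_dvd_iff_le_factorization Nat.card_pos.ne').1
      (hQ81 ▸ card_subgroup_dvd_card Q))
    by_contra hlt
    exact h243 ((Nat.prime_three.pow_dvd_iff_le_factorization Nat.card_pos.ne').2 (by omega))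
  set xW : H.Wt := ⟨x, mem_Wt.2 hx⟩
  have hp : IsPGroup 3 (zpowers xW) := by
    rintro ⟨y, hy⟩
    obtain ⟨i, rfl⟩ := mem_zpowers_iff.1 hy
    refine ⟨1, Subtype.ext ?_⟩
    show (xW ^ i) ^ 3 ^ 1 = 1
    rw [pow_one, ← zpow_natCast, ← zpow_mul, mul_comm, zpow_mul, zpow_natCast,
      show xW ^ 3 = 1 from Subtype.ext h3, one_zpow]
  obtain ⟨Pw, hPw⟩ := hp.exists_le_sylow
  obtain ⟨c, hc⟩ := MulAction.exists_smul_eq H.Wt Pw (Sylow.ofCard Q (by rw [hf, hQ81]))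
  have hmem : c * xW * c⁻¹ ∈ Q := by
    have : c * xW * c⁻¹ ∈ ((c • Pw : Sylow 3 H.Wt) : Subgroup H.Wt) := by
      rw [Sylow.coe_subgroup_smul]
      exact smul_mem_pointwise_smul _ (MulAut.conj c) _ (hPw (mem_zpowers xW))
    rwa [hc, Sylow.coe_ofCard] at this
  obtain ⟨y, hy, hye⟩ := mem_subgroupOf.1 hmem
  have hct : (c : G) * H.t = H.t * c := mem_Wt.1 c.2
  have hye' : (c : G) * x * (c : G)⁻¹ = H.par y := hye.symm
  obtain ⟨u, hu, i, hyu⟩ : ∃ u : JV, u.b = 0 ∧ ∃ i : Fin 3, y = jT u * p2T ^ i.1 := by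
    have hchi : xpow (chi y.g) = y.g := xpow_chi _ hy.1
    have hz3 : ∀ b : ZMod 3, qT 0 ⟨0, b, 0, 0⟩ = p2T ^ b.val := by decide +kernel
    refine ⟨jC (y * (qT 0 ⟨0, y.v.b, 0, 0⟩)⁻¹), ?_, ⟨y.v.b.val, ZMod.val_lt _⟩, ?_⟩
    · show (y * (qT 0 ⟨0, y.v.b, 0, 0⟩)⁻¹).v.m = 0
      simp [mul_v, inv_def, ti, qT, va, act, vn, hy.2.1, si]
    · have hJ : inJ (y * (qT 0 ⟨0, y.v.b, 0, 0⟩)⁻¹) = true := by
        simp only [inJ, Bool.and_eq_true, beq_iff_eq]
        refine ⟨⟨?_, ?_⟩, ?_⟩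
        · simp [mul_v, inv_def, ti, qT, va, act, vn, si]
        · simp [mul_v, inv_def, ti, qT, va, act, vn, hy.2.2, si]
        · exact Ssub.mul_mem hy.1 (Ssub.inv_mem (show inS (qT 0 ⟨0, y.v.b, 0, 0⟩) = true from rfl))
      rw [jT_jC _ hJ, show (⟨y.v.b.val, ZMod.val_lt _⟩ : Fin 3).1 = y.v.b.val from rfl, ← hz3,
        inv_mul_cancel_right]
  set P := H.par p2T
  have hP3 : P * P * P = 1 := by rw [← map_mul, ← map_mul, t_p2.2.1, map_one]
  have hPi : P * P = P⁻¹ := eq_inv_of_mul_eq_one_left hP3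
  have hem : ∀ v : JV, P * H.emb v = H.emb (alJ v) * P := fun v => by
    rw [show H.emb (alJ v) = P * H.emb v * P⁻¹ from (H.nrm_al v).symm, inv_mul_cancel_right]
  have hy3 : (H.par y) ^ 3 = 1 := by
    rw [← hye', conj_pow, h3, mul_one, mul_inv_cancel]
  rw [hyu, map_mul, map_pow] at hye' hy3
  change (c : G) * x * (c : G)⁻¹ = H.emb u * P ^ i.1 at hye'
  change (H.emb u * P ^ i.1) ^ 3 = 1 at hy3
  match i with
  | 0 => exact ⟨c, hct, Or.inl ⟨u, hu, by rw [hye']; simp⟩⟩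
  | 1 =>
    rw [show ((1 : Fin 3) : ℕ) = 1 from rfl, pow_one] at hye' hy3
    have e : H.emb (ja (ja u (alJ u)) (alJ (alJ u))) = H.emb j0 := by
      rw [H.emb_ja, H.emb_ja, H.emb_j0]
      calc H.emb u * H.emb (alJ u) * H.emb (alJ (alJ u))
          = (H.emb u * P) ^ 3 * (P * P * P)⁻¹ := by
            rw [show H.emb (alJ (alJ u)) = P * H.emb (alJ u) * P⁻¹ from (H.nrm_al _).symm,
              show H.emb (alJ u) = P * H.emb u * P⁻¹ from (H.nrm_al _).symm, pow_succ, pow_two]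
            group
        _ = 1 := by rw [hy3, hP3, inv_one, mul_one]
    obtain ⟨w, hwb, hw⟩ := (cube_lift u hu).1 (H.emb_inj e)
    have hwt : H.emb w * H.t = H.t * H.emb w := by
      have hf : tJ w = w := JV.ext rfl rfl (by show -w.b = _; rw [hwb, neg_zero]) rfl
      have h := H.nrm_t w
      rw [hf] at h
      exact (mul_inv_eq_iff_eq_mul.1 h).symm
    refine ⟨H.emb w * c, ((show Commute (H.emb w) H.t from hwt).mul_left hct).eq, Or.inr (Or.inl ?_)⟩
    calc H.emb w * c * x * (H.emb w * c)⁻¹ = H.emb w * ((c : G) * x * (c : G)⁻¹) * (H.emb w)⁻¹ := by group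
      _ = H.emb w * H.emb u * P * (H.emb w)⁻¹ := by rw [hye']; group
      _ = H.emb (alJ w) * P * (H.emb w)⁻¹ := by rw [← H.emb_ja, hw]
      _ = _ := by rw [← hem, mul_inv_cancel_right]
  | 2 =>
    rw [show ((2 : Fin 3) : ℕ) = 2 from rfl, pow_two, hPi] at hye' hy3
    have e : H.emb (ja (ja u (alJ (alJ u))) (alJ u)) = H.emb j0 := by
      rw [H.emb_ja, H.emb_ja, H.emb_j0]
      have h2 : ∀ v, P⁻¹ * H.emb v * P = H.emb (alJ (alJ v)) := fun v => by
        have h3a : ∀ v, alJ (alJ (alJ v)) = v := by decide +kernel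
        have h4 : P * H.emb (alJ (alJ v)) * P⁻¹ = H.emb (alJ (alJ (alJ v))) := H.nrm_al _
        rw [h3a] at h4
        rw [← h4]; group
      have h1 : P⁻¹ * (P⁻¹ * H.emb u * P) * P = H.emb (alJ u) := by
        have h4 : P * H.emb u * P⁻¹ = H.emb (alJ u) := H.nrm_al u
        rw [← h4]
        calc P⁻¹ * (P⁻¹ * H.emb u * P) * P = (P * P * P)⁻¹ * (P * H.emb u * P⁻¹) * (P * P * P) := by group
          _ = _ := by rw [hP3]; group
      calc H.emb u * H.emb (alJ (alJ u)) * H.emb (alJ u)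
          = (H.emb u * P⁻¹) ^ 3 * (P * P * P) := by
            rw [← h2, ← h1, pow_succ, pow_two]; group
        _ = 1 := by rw [hy3, hP3, mul_one]
    obtain ⟨w, hwb, hw⟩ := (cube_lift u hu).2 (H.emb_inj e)
    have hwt : H.emb w * H.t = H.t * H.emb w := by
      have hf : tJ w = w := JV.ext rfl rfl (by show -w.b = _; rw [hwb, neg_zero]) rfl
      have h := H.nrm_t w
      rw [hf] at h
      exact (mul_inv_eq_iff_eq_mul.1 h).symm
    refine ⟨H.emb w * c, ((show Commute (H.emb w) H.t from hwt).mul_left hct).eq, Or.inr (Or.inr ?_)⟩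
    have hem2 : H.emb (alJ (alJ w)) = P⁻¹ * H.emb w * P := by
      have h3a : ∀ v, alJ (alJ (alJ v)) = v := by decide +kernel
      have h4 : P * H.emb (alJ (alJ w)) * P⁻¹ = H.emb (alJ (alJ (alJ w))) := H.nrm_al _
      rw [h3a] at h4
      rw [← h4]; group
    calc H.emb w * c * x * (H.emb w * c)⁻¹ = H.emb w * ((c : G) * x * (c : G)⁻¹) * (H.emb w)⁻¹ := by group
      _ = H.emb w * H.emb u * P⁻¹ * (H.emb w)⁻¹ := by rw [hye']; group
      _ = H.emb (alJ (alJ w)) * P⁻¹ * (H.emb w)⁻¹ := by rw [← H.emb_ja, hw]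
      _ = _ := by rw [hem2]; group

variable (R : Refl H)

theorem Refl.cc_conj_t (o : Fin 4) (i : Fin 3) :
    R.cc o * (H.par p2T) ^ i.1 * H.t = H.t * (R.cc o * (H.par p2T) ^ i.1) :=
  (((show Commute (R.cc o) H.t from R.cc_t o)).mul_left
    ((show Commute (H.par p2T) H.t from H.par_comm.2 t_p2.1).pow_left i.1)).eq

theorem Refl.triple_t : R.r1 * R.r2 * R.r3 * H.t = H.t * (R.r1 * R.r2 * R.r3) :=
  (((show Commute R.r1 H.t from R.comm1).mul_left R.comm2).mul_left R.comm3).eq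

theorem Refl.triple_inv {u : JV} (hu : R1J (R2J (R3J u)) = jn u) :
    R.r1 * R.r2 * R.r3 * (H.emb u)⁻¹ * (R.r1 * R.r2 * R.r3)⁻¹ = H.emb u := by
  rw [← H.emb_jn, ((R.nrm1.mul R.nrm2).mul R.nrm3)]
  refine congrArg H.emb ?_
  show R1J (R2J (R3J (jn u))) = u
  have : ∀ u : JV, R1J (R2J (R3J u)) = jn u → R1J (R2J (R3J (jn u))) = u := by decide +kernel
  exact this u hu

variable {R}

/-- An element of `C(t)` conjugate to `p₁` is conjugate to it there. -/
theorem Good.a_conj_W (hG : H.Good) (R : Refl H) {g x : G} (hg : g * x * g⁻¹ = H.aEl)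
    (hx : x * H.t = H.t * x) : ∃ c, c * H.t = H.t * c ∧ c * x * c⁻¹ = H.aEl := by
  have ha3 : H.aEl ^ 3 = 1 := H.J_cube (H.mem_J.2 ⟨_, rfl⟩)
  have h3 : x ^ 3 = 1 := by
    rw [← hg, conj_pow, conj_eq_one_iff] at ha3
    exact ha3
  obtain ⟨c, hc, ⟨u, hu, e⟩ | e | e⟩ := conj_into hG hx h3
  · have hq : qJ u = -1 := by
      refine (hG.qJ_conj (v := u) (w := ⟨0, 1, 0, 0⟩) (g := g * c⁻¹) ?_).trans (by decide)
      show _ = H.aEl
      rw [← e, ← hg]; group
    obtain ⟨o, i, ho⟩ := weight_two u hu hq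
    have hd : R.cc o * (H.par p2T) ^ i.1 * c * H.t = H.t * (R.cc o * (H.par p2T) ^ i.1 * c) :=
      ((show Commute _ H.t from R.cc_conj_t o i).mul_left hc).eq
    have he : R.cc o * (H.par p2T) ^ i.1 * c * x * (R.cc o * (H.par p2T) ^ i.1 * c)⁻¹ =
        H.emb (cJ o ((alJ^[i.1]) u)) := by
      rw [← (R.cc_nrm o).mul (H.nrm_al.iterate H i.1) u, ← e]; group
    rcases ho with h | h <;> rw [h] at he
    · exact ⟨_, hd, he⟩
    · refine ⟨R.r1 * R.r2 * R.r3 * (R.cc o * (H.par p2T) ^ i.1 * c),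
        ((show Commute _ H.t from R.triple_t).mul_left hd).eq, ?_⟩
      rw [H.emb_jn] at he
      show _ = H.emb ⟨0, 1, 0, 0⟩
      conv_rhs => rw [← R.triple_inv (u := ⟨0, 1, 0, 0⟩) (by decide), ← he]
      group
  · exact absurd (by rw [← e, ← hg]; group) (hG.p2_not_conj_a (c * g⁻¹)).1
  · exact absurd (by rw [← e, ← hg]; group) (hG.p2_not_conj_a (c * g⁻¹)).2

/-- An element of `C(t)` conjugate to `z` is conjugate to it there. -/
theorem Good.z_conj_W (hG : H.Good) (R : Refl H) {g x : G} (hg : g * x * g⁻¹ = H.z)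
    (hx : x * H.t = H.t * x) : ∃ c, c * H.t = H.t * c ∧ c * x * c⁻¹ = H.z := by
  have hz3 : H.z ^ 3 = 1 := by rw [H.emb_zT]; exact H.J_cube (H.mem_J.2 ⟨_, rfl⟩)
  have h3 : x ^ 3 = 1 := by
    rw [← hg, conj_pow, conj_eq_one_iff] at hz3
    exact hz3
  obtain ⟨c, hc, ⟨u, hu, e⟩ | e | e⟩ := conj_into hG hx h3
  · have hq : qJ u = 0 := by
      refine (hG.qJ_conj (v := u) (w := ⟨1, 0, 0, 0⟩) (g := g * c⁻¹) ?_).trans (by decide)
      rw [← H.emb_zT, ← e, ← hg]; group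
    have hne : u ≠ j0 := by
      rintro rfl
      rw [H.emb_j0, conj_eq_one_iff] at e
      rw [e, mul_one, mul_inv_cancel] at hg
      exact absurd (congrArg T.c (H.inj (hg.symm.trans (map_one H.par).symm) : zT = 1))
        (show (1 : ZMod 3) ≠ 0 by decide)
    obtain ⟨o, ho⟩ := weight_three u hu hq hne
    have hd : R.cc o * c * H.t = H.t * (R.cc o * c) :=
      ((show Commute _ H.t from R.cc_t o).mul_left hc).eq
    have he : R.cc o * c * x * (R.cc o * c)⁻¹ = H.emb (cJ o u) := by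
      rw [← R.cc_nrm o u, ← e]; group
    rcases ho with h | h <;> rw [h] at he
    · exact ⟨_, hd, he.trans H.emb_zT.symm⟩
    · refine ⟨R.r1 * R.r2 * R.r3 * (R.cc o * c), ((show Commute _ H.t from R.triple_t).mul_left hd).eq, ?_⟩
      rw [H.emb_jn] at he
      conv_rhs => rw [H.emb_zT, ← R.triple_inv (u := ⟨1, 0, 0, 0⟩) (by decide), ← he]
      group
  · refine (H.not_conj_p2 (g := c * g⁻¹) (x := p2T) rfl rfl rfl (by decide) ?_).elim
    rw [← e, ← hg]; group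
  · refine (H.not_conj_p2 (g := c * g⁻¹) (x := p2T⁻¹) (by decide) (by decide) (by decide) (by decide) ?_).elim
    rw [map_inv, ← e, ← hg]; group

/-- The involution is conjugate to neither `out` nor `out.t`. -/
theorem Good.t_not_conj_out (hG : H.Good) (he : H.ext = true) (R : Refl H) (g : G) :
    g * H.t * g⁻¹ ≠ H.out ∧ g * H.t * g⁻¹ ≠ H.out * H.t := by
  suffices main : ∀ o : G, Commute o H.z → o ∉ H.par.range → ∀ g : G, g * H.t * g⁻¹ ≠ o by
    refine ⟨main _ H.out_z (fun ⟨x, hx⟩ => H.out_not he x hx) g,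
      main _ ((show Commute H.out H.z from H.out_z).mul_left (H.par_z tT)) ?_ g⟩
    rintro ⟨x, hx⟩
    exact H.out_not he (x * tT⁻¹) (by rw [map_mul, map_inv, hx]; exact mul_inv_cancel_right _ _)
  intro o hoz hor g hgo
  have hx : g⁻¹ * H.z * g * H.t = H.t * (g⁻¹ * H.z * g) := by
    calc g⁻¹ * H.z * g * H.t = g⁻¹ * (H.z * (g * H.t * g⁻¹)) * g := by group
      _ = g⁻¹ * (g * H.t * g⁻¹ * H.z) * g := by rw [hgo, hoz.eq]
      _ = _ := by group
  obtain ⟨c, hc, hcz⟩ := hG.z_conj_W R (g := g) (by group) hx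
  have hd : g * c⁻¹ * H.z = H.z * (g * c⁻¹) := by
    refine mul_inv_eq_iff_eq_mul.1 ?_
    conv_lhs => rw [← hcz]
    group
  have hdt : g * c⁻¹ * H.t * (g * c⁻¹)⁻¹ = o := by
    rw [← hgo]
    calc g * c⁻¹ * H.t * (g * c⁻¹)⁻¹ = g * (c⁻¹ * (H.t * c)) * g⁻¹ := by group
      _ = g * H.t * g⁻¹ := by rw [← hc]; group
  obtain ⟨y, hy | hy⟩ := H.mem_cent.1 hd <;> rw [hy] at hdt <;> apply hor
  · exact ⟨y * tT * y⁻¹, by rw [map_mul, map_mul, map_inv]; exact hdt⟩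
  · refine ⟨y * sigB H.ext tT * y⁻¹, ?_⟩
    rw [map_mul, map_mul, map_inv, ← H.out_act, ← hdt, mul_inv_rev, out_inv]
    show _ = H.par y * H.out * H.par tT * (H.out * (H.par y)⁻¹)
    group

/-- The involution is not conjugate to a product from two exchanged quaternion groups. -/
theorem Good.t_not_conj_diag (hG : H.Good) (R : Refl H)
    (hP : ∀ q1 q : G, q1 ∈ H.Qsub → q ∈ H.Qsub → q1 ≠ 1 → q1 ≠ H.t → q ≠ 1 → q ≠ H.t →
      ∀ hm : q1 * (R.r1 * q * R.r1⁻¹) ∈ H.Ca,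
      ¬ IsConj (QuotientGroup.mk' H.aSub ⟨H.t, H.par_mem_Ca.2 rfl⟩)
        (QuotientGroup.mk' H.aSub ⟨q1 * (R.r1 * q * R.r1⁻¹), hm⟩))
    (g : G) {p q : G} (hp : p ∈ H.Qsub) (hq : q ∈ H.Qsub) (hp1 : p ≠ 1) (hpt : p ≠ H.t) (hq1 : q ≠ 1)
    (hqt : q ≠ H.t) : g * H.t * g⁻¹ ≠ R.r2 * p * R.r2⁻¹ * (R.r3 * q * R.r3⁻¹) := by
  intro e
  set n := R.r1 * R.r2 * R.r3 with hn
  set q' := n * q * n⁻¹ with hq'
  have hq'Q : q' ∈ H.Qsub := R.triple_q hq
  have hq'1 : q' ≠ 1 := fun h => hq1 (conj_eq_one_iff.1 h)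
  have hq't : q' ≠ H.t := fun h => hqt (by
    calc q = n⁻¹ * q' * n := by rw [hq']; group
      _ = n⁻¹ * (H.t * n) := by rw [h, mul_assoc]
      _ = H.t := by rw [← R.triple_t, inv_mul_cancel_left])
  have h23 : R.r2 * R.r3 = R.r1 * n := by rw [hn, ← mul_assoc, ← mul_assoc, R.sq1, one_mul]
  have hr2 : R.r2⁻¹ = R.r2 := R.inv_eq 1
  set d := R.r2 * g
  have hdt : d * H.t * d⁻¹ = p * (R.r1 * q' * R.r1⁻¹) := by
    calc d * H.t * d⁻¹ = R.r2 * (g * H.t * g⁻¹) * R.r2⁻¹ := by show R.r2 * g * H.t * (R.r2 * g)⁻¹ = _; group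
      _ = (R.r2 * R.r2) * p * (R.r2 * R.r2)⁻¹ * ((R.r2 * R.r3) * q * (R.r2 * R.r3)⁻¹) := by rw [e]; group
      _ = _ := by rw [R.sq2, h23, hq']; group
  have hCa : ∀ {y : G}, y ∈ H.Qsub → y ∈ H.Ca := by
    rintro y ⟨_, ⟨s, -, rfl⟩, rfl⟩
    exact H.par_mem_Ca.2 rfl
  have hr1 : R.r1 ∈ H.Ca := by
    refine mem_centralizer_singleton_iff.2 (mul_inv_eq_iff_eq_mul.1 ?_)
    rw [aEl, R.nrm1]
    exact congrArg H.emb (by decide)
  have hm : p * (R.r1 * q' * R.r1⁻¹) ∈ H.Ca := mul_mem (hCa hp) (mul_mem (mul_mem hr1 (hCa hq'Q)) (inv_mem hr1))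
  have hwa := mem_centralizer_singleton_iff.1 hm
  have hx : d⁻¹ * H.aEl * d * H.t = H.t * (d⁻¹ * H.aEl * d) := by
    calc d⁻¹ * H.aEl * d * H.t = d⁻¹ * (H.aEl * (d * H.t * d⁻¹)) * d := by group
      _ = d⁻¹ * (d * H.t * d⁻¹ * H.aEl) * d := by rw [hdt, hwa]
      _ = _ := by group
  obtain ⟨c, hc, hca⟩ := hG.a_conj_W R (g := d) (by group) hx
  have hkt : d * c⁻¹ * H.t * (d * c⁻¹)⁻¹ = p * (R.r1 * q' * R.r1⁻¹) := by
    rw [← hdt]
    calc d * c⁻¹ * H.t * (d * c⁻¹)⁻¹ = d * (c⁻¹ * (H.t * c)) * d⁻¹ := by group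
      _ = d * H.t * d⁻¹ := by rw [← hc]; group
  have hka : d * c⁻¹ ∈ H.Ca := by
    refine mem_centralizer_singleton_iff.2 (mul_inv_eq_iff_eq_mul.1 ?_)
    conv_lhs => rw [← hca]
    group
  refine hP p q' hp hq'Q hp1 hpt hq'1 hq't hm (isConj_iff.2 ⟨QuotientGroup.mk' H.aSub ⟨_, hka⟩, ?_⟩)
  rw [← map_inv, ← map_mul, ← map_mul]
  exact congrArg _ (Subtype.ext hkt)

end Base

end CfsgLib.O8Three
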