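import Mathlib.GroupTheory.GroupAction.Defs
import Mathlib.Algebra.GroupWithZero.Action.Defs
import Mathlib.GroupTheory.Coset.Card
import Mathlib.Algebra.Group.Subgroup.Finite
import Mathlib.Data.Fintype.Pi
import Mathlib.Data.Fin.VecNotation
import Mathlib.Tactic.FinCases
import Mathlib.GroupTheory.PGroup
import Mathlib.Data.Set.Card
import Mathlib.Tactic.Abel
import Mathlib.Tactic.Group
import Mathlib.SetTheory.Cardinal.Finite

/-!
# Two commuting elements of order three and an involution on a space of order 64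

The linear algebra excluding `Sp₆(2)` as the factor group of the centralizer of `p₁`.
-/

set_option autoImplicit false
set_option linter.unusedSectionVars false
set_option linter.style.haveILetI false

namespace CfsgLib.O8Three.Lin

universe u v

variable {X : Type u} [Group X] {V : Type v} [AddCommGroup V] [DistribMulAction X V]

/-- The sum over a group of order three: the projection on its fixed points. -/
def pr (b : X) : V →+ V :=
  AddMonoidHom.id V + DistribSMul.toAddMonoidHom V b + DistribSMul.toAddMonoidHom V (b * b)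

theorem pr_apply (b : X) (v : V) : pr b v = v + b • v + b • b • v := by
  simp [pr, mul_smul]

theorem pr_fix {b : X} (hb : b * b * b = 1) (v : V) : b • pr b v = pr b v := by
  simp only [pr_apply, smul_add, ← mul_smul, hb, one_smul, ← mul_assoc]
  abel

theorem pr_of_fix (hV : ∀ v : V, v + v = 0) {b : X} {v : V} (h : b • v = v) : pr b v = v := by
  rw [pr_apply, h, h, hV, zero_add]

theorem pr_comm {b g : X} (h : g * b = b * g) (v : V) : g • pr b v = pr b (g • v) := by
  simp only [pr_apply, smul_add, ← mul_smul, ← mul_assoc, h]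
  rw [show b * g * b = b * b * g by rw [mul_assoc, h, ← mul_assoc]]

theorem pr_pr {b g : X} (h : g * b = b * g) (v : V) : pr g (pr b v) = pr b (pr g v) := by
  simp only [pr_apply g, pr_comm h, map_add]

theorem pr_fpf {b : X} (hb : b * b * b = 1) (hf : ∀ v : V, b • v = v → v = 0) (v : V) : pr b v = 0 :=
  hf _ (pr_fix hb v)

theorem fin_three_check : ∀ p : Fin 3 → Fin 3, (∀ i, p (p i) = i) →
    (∀ i, p (p (i + 2) + 1) = p (p i + 2) + 1) → ∀ i, p i = i := by decide +kernel

/-- An involution commuting with its conjugate under a fixed-point-free element of order three fixes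
pointwise any invariant set of four elements. -/
theorem four_involution {P : Finset V} (h0 : (0 : V) ∈ P) (hc : P.card = 4) {b : X}
    (hb : b * b * b = 1) (hP : ∀ v ∈ P, b • v ∈ P) (hf : ∀ v ∈ P, b • v = v → v = 0)
    (s : V → V) (hsP : ∀ v ∈ P, s v ∈ P) (hs0 : s 0 = 0) (hs : ∀ v ∈ P, s (s v) = v)
    (hsb : ∀ v ∈ P, s (b • s (b • b • v)) = b • s (b • b • s v)) :
    ∀ v ∈ P, s v = v := by
  classical
  obtain ⟨u, hu, hne⟩ := P.exists_mem_ne (a := 0) (by omega)
  have h3 : ∀ v : V, b • b • b • v = v := fun v => by rw [← mul_smul, ← mul_smul, hb, one_smul]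
  let o : Fin 3 → V := ![u, b • u, b • b • u]
  have hoP : ∀ i, o i ∈ P := by
    intro i
    fin_cases i
    exacts [hu, hP _ hu, hP _ (hP _ hu)]
  have ho1 : ∀ i, b • o i = o (i + 1) := by
    intro i
    fin_cases i
    exacts [rfl, rfl, h3 u]
  have ho2 : ∀ i, b • b • o i = o (i + 2) := fun i => by
    rw [ho1, ho1, add_assoc]; rfl
  have hone : ∀ i, o i ≠ 0 := by
    intro i
    fin_cases i <;> simp [o, smul_eq_zero_iff_eq, hne]
  have hinj : Function.Injective o := by
    have n1 : b • u ≠ u := fun e => hne (hf u hu e)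
    have n2 : b • b • u ≠ u := fun e => n1 (by
      have := congrArg (b • ·) e
      simpa [h3] using this.symm)
    have n3 : b • b • u ≠ b • u := fun e => n1 (smul_left_cancel b e)
    intro i j e
    fin_cases i <;> fin_cases j <;> simp [o] at e ⊢ <;>
      first
      | exact absurd e n1 | exact absurd e.symm n1 | exact absurd e n2 | exact absurd e.symm n2
  have hcov : ∀ v ∈ P, v = 0 ∨ ∃ i, o i = v := by
    have e4 : insert 0 (Finset.univ.image o) = P := by
      refine Finset.eq_of_subset_of_card_le ?_ ?_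
      · intro v hv
        rcases Finset.mem_insert.1 hv with rfl | hv
        · exact h0
        · obtain ⟨i, -, rfl⟩ := Finset.mem_image.1 hv; exact hoP i
      · rw [hc, Finset.card_insert_of_notMem (fun h => by
          obtain ⟨i, -, e⟩ := Finset.mem_image.1 h; exact hone i e),
          Finset.card_image_of_injective _ hinj, Finset.card_univ, Fintype.card_fin]
    intro v hv
    rw [← e4, Finset.mem_insert] at hv
    exact hv.imp id fun h => (Finset.mem_image.1 h).imp fun _ hi => hi.2
  have hp : ∀ i, ∃ j, o j = s (o i) := fun i => (hcov _ (hsP _ (hoP i))).resolve_left fun e =>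
    hone i (by rw [← hs _ (hoP i), e, hs0])
  choose p hpo using hp
  have h1 : ∀ i, p (p i) = i := fun i => hinj (by rw [hpo, hpo, hs _ (hoP i)])
  have h2 : ∀ i, p (p (i + 2) + 1) = p (p i + 2) + 1 := fun i => hinj (by
    rw [hpo, ← ho1, hpo, ← ho2, hsb _ (hoP i), ← ho1, hpo, ← ho2, hpo])
  intro v hv
  rcases hcov v hv with rfl | ⟨i, rfl⟩
  · exact hs0
  · rw [← hpo, fin_three_check p h1 h2 i]

/-- The points fixed by an element. -/
def fx (b : X) : AddSubgroup V where
  carrier := {v | b • v = v}
  add_mem' {v w} (hv : b • v = v) (hw : b • w = w) := by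
    show b • (v + w) = v + w
    rw [smul_add, hv, hw]
  zero_mem' := smul_zero b
  neg_mem' {v} (hv : b • v = v) := by
    show b • -v = -v
    rw [smul_neg, hv]

theorem mem_fx {b : X} {v : V} : v ∈ fx b ↔ b • v = v := Iff.rfl

/-- A fixed-point-free element of order three leaves `1` modulo `3` points. -/
theorem card_mod_three [Finite V] (U : AddSubgroup V) {b : X} (hb : b * b * b = 1)
    (hU : ∀ v ∈ U, b • v ∈ U) (hf : ∀ v ∈ U, b • v = v → v = 0) : Nat.card U % 3 = 1 := by
  haveI : Fact (Nat.Prime 3) := ⟨Nat.prime_three⟩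
  let M : SubMulAction (Subgroup.zpowers b) V :=
    { carrier := U
      smul_mem' := by
        rintro ⟨g, k, rfl⟩ v hv
        show b ^ k • v ∈ U
        have hmem : ∀ n : ℕ, b ^ n • v ∈ U := fun n => by
          induction n with
          | zero => simpa using hv
          | succ n ih => rw [pow_succ', mul_smul]; exact hU _ ih
        have e3 : b ^ (3 : ℤ) = 1 := by rw [← hb]; simp [zpow_ofNat, pow_succ]
        rw [← Int.emod_add_mul_ediv k 3, zpow_add, zpow_mul, e3, one_zpow, mul_one,
          ← Int.toNat_of_nonneg (Int.emod_nonneg k (by norm_num : (3 : ℤ) ≠ 0)), zpow_natCast]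
        exact hmem _ }
  have hp : IsPGroup 3 (Subgroup.zpowers b) := fun g => ⟨1, by
    obtain ⟨g, k, rfl⟩ := g
    refine Subtype.ext ?_
    show (b ^ k) ^ (3 ^ 1) = 1
    rw [← zpow_natCast, ← zpow_mul, mul_comm, zpow_mul, show b ^ ((3 ^ 1 : ℕ) : ℤ) = 1 by
      rw [← hb]; simp [pow_succ], one_zpow]⟩
  have h := hp.card_modEq_card_fixedPoints M
  have h1 : Nat.card (MulAction.fixedPoints (Subgroup.zpowers b) M) = 1 := by
    refine Nat.card_eq_one_iff_exists.2 ⟨⟨⟨0, U.zero_mem⟩, fun g => Subtype.ext (smul_zero _)⟩, ?_⟩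
    rintro ⟨⟨v, hv⟩, hfix⟩
    exact Subtype.ext (Subtype.ext (hf v hv
      (congrArg Subtype.val (hfix ⟨b, Subgroup.mem_zpowers b⟩))))
  rw [h1] at h
  exact h

theorem cases64 : ∀ n : Fin 65, n.val ∣ 64 → n.val % 3 = 1 →
    n.val = 1 ∨ n.val = 4 ∨ n.val = 16 ∨ n.val = 64 := by decide +kernel

/-- Two commuting elements of order three with fixed-point-free product and quotient. -/
structure Pair (V : Type v) [AddCommGroup V] [DistribMulAction X V] (b b' : X) : Prop where
  double : ∀ v : V, v + v = 0
  card_eq : Nat.card V = 64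
  cube : b * b * b = 1
  cube' : b' * b' * b' = 1
  comm : b * b' = b' * b
  fpf_z : ∀ v : V, (b * b') • v = v → v = 0
  fpf_x : ∀ v : V, (b * (b' * b')) • v = v → v = 0
  move : ∃ v : V, b • v ≠ v
  move' : ∃ v : V, b' • v ≠ v

theorem flip_eq (hV : ∀ v : V, v + v = 0) {p q r w : V} (e : p + q = r + w) : r + q = p + w := by
  calc r + q = p + q + (p + r) := by rw [show p + q + (p + r) = p + p + (r + q) by abel, hV, zero_add]
    _ = r + w + (p + r) := by rw [e]
    _ = r + r + (p + w) := by abel
    _ = p + w := by rw [hV, zero_add]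

variable {b b' : X}

theorem Pair.symm (h : Pair V b b') : Pair V b' b where
  double := h.double
  card_eq := h.card_eq
  cube := h.cube'
  cube' := h.cube
  comm := h.comm.symm
  fpf_z v hv := h.fpf_z v (by rwa [h.comm])
  fpf_x v hv := h.fpf_x v (by
    have e : b * (b' * b') = (b' * (b * b))⁻¹ := by
      refine eq_inv_of_mul_eq_one_left ?_
      calc b * (b' * b') * (b' * (b * b)) = b * (b' * b' * b') * (b * b) := by group
        _ = b * b * b := by rw [h.cube']; group
        _ = 1 := h.cube
    rw [e, inv_smul_eq_iff, hv])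
  move := h.move'
  move' := h.move

theorem Pair.split (h : Pair V b b') (v : V) : pr b v + pr b' v = v := by
  have hc := h.comm
  have hcube : ∀ {c : X}, b * c = c * b → c * c * c = 1 → (b * c) * (b * c) * (b * c) = 1 := by
    intro c hbc hc3
    have := (show Commute b c from hbc).mul_pow 3
    simp only [pow_succ, pow_zero, one_mul, h.cube, hc3, mul_one] at this
    exact this
  have hz := hcube hc h.cube'
  have hx : (b * (b' * b')) * (b * (b' * b')) * (b * (b' * b')) = 1 := by
    refine hcube (by rw [← mul_assoc, hc, mul_assoc, hc, ← mul_assoc]) ?_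
    calc b' * b' * (b' * b') * (b' * b') = (b' * b' * b') * (b' * b' * b') := by group
      _ = 1 := by rw [h.cube', one_mul]
  have h0 : pr b (pr b' v) = 0 := h.fpf_z _ (by
    have e : b' • pr b (pr b' v) = pr b (pr b' v) := by rw [pr_comm hc.symm, pr_fix h.cube']
    rw [mul_smul, e, pr_fix h.cube])
  have h2 := pr_fpf hz h.fpf_z v
  have h3 := pr_fpf hx h.fpf_x v
  -- the nine terms
  have e : pr b v + pr b' v + pr (b * b') v + pr (b * (b' * b')) v
      = pr b (pr b' v) + (v + v + v) := by
    have c1 : ∀ w : V, b' • b • w = b • b' • w := fun w => by rw [← mul_smul, ← hc, mul_smul]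
    have c2 : ∀ w : V, b' • b' • b' • w = w := fun w => by
      rw [← mul_smul, ← mul_smul, h.cube', one_smul]
    simp only [pr_apply, mul_smul, smul_add, c1, c2]
    abel
  rw [h0, h2, h3, zero_add, add_zero, add_zero, h.double, zero_add] at e
  exact e

theorem Pair.fix_eq (h : Pair V b b') {v : V} : b • v = v ↔ pr b' v = 0 := by
  constructor
  · intro hv
    have := h.split v
    rwa [pr_of_fix h.double hv, add_eq_left] at this
  · intro hv
    have := h.split v
    rw [hv, add_zero] at this
    rw [← this, pr_fix h.cube]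

theorem Pair.meet (h : Pair V b b') {v : V} (hv : b • v = v) (hv' : b' • v = v) : v = 0 :=
  h.fpf_z v (by rw [mul_smul, hv', hv])

variable [Finite V]

theorem Pair.cards (h : Pair V b b') :
    (Nat.card (fx (V := V) b) = 4 ∧ Nat.card (fx (V := V) b') = 16) ∨
      (Nat.card (fx (V := V) b) = 16 ∧ Nat.card (fx (V := V) b') = 4) := by
  let f : fx (V := V) b × fx (V := V) b' → V := fun p => (p.1 : V) + p.2
  have hf : Function.Bijective f := by
    refine ⟨fun p q e => ?_, fun v => ⟨(⟨pr b v, pr_fix h.cube v⟩, ⟨pr b' v, pr_fix h.cube' v⟩),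
      h.split v⟩⟩
    have e' : ((p.1 - q.1 : fx (V := V) b) : V) = ((q.2 - p.2 : fx (V := V) b') : V) := by
      push_cast
      rw [sub_eq_sub_iff_add_eq_add, add_comm (q.2 : V)]
      exact e
    have h2 : b' • ((p.1 - q.1 : fx (V := V) b) : V) = ((p.1 - q.1 : fx (V := V) b) : V) := by
      rw [e']; exact (q.2 - p.2).2
    have h1 := h.meet (p.1 - q.1).2 h2
    rw [h1, eq_comm] at e'
    refine Prod.ext (sub_eq_zero.1 (Subtype.ext h1)) ?_
    exact (sub_eq_zero.1 (Subtype.ext e')).symm
  have hm := Nat.card_congr (Equiv.ofBijective f hf)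
  rw [Nat.card_prod, h.card_eq] at hm
  have k1 := card_mod_three (fx (V := V) b) h.cube'
    (fun v hv => by rw [mem_fx, ← mul_smul, h.comm, mul_smul, mem_fx.1 hv])
    (fun v hv hv' => h.meet hv hv')
  have k2 := card_mod_three (fx (V := V) b') h.cube
    (fun v hv => by rw [mem_fx, ← mul_smul, ← h.comm, mul_smul, mem_fx.1 hv])
    (fun v hv hv' => h.meet hv' hv)
  have hne : ∀ c : X, (∃ v : V, c • v ≠ v) → Nat.card (fx (V := V) c) ≠ 64 := by
    rintro c ⟨v, hv⟩ e
    have := AddSubgroup.eq_top_of_card_eq (fx (V := V) c) (by rw [e, h.card_eq])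
    exact hv (mem_fx.1 (this ▸ AddSubgroup.mem_top v))
  have hd1 : Nat.card (fx (V := V) b) ∣ 64 := hm ▸ Dvd.intro _ rfl
  have hd2 : Nat.card (fx (V := V) b') ∣ 64 := hm ▸ Dvd.intro_left _ rfl
  have n1 := hne b h.move
  have n2 := hne b' h.move'
  rcases cases64 ⟨_, Nat.lt_succ_of_le (Nat.le_of_dvd (by norm_num) hd1)⟩ hd1 k1 with e | e | e | e <;>
    rcases cases64 ⟨_, Nat.lt_succ_of_le (Nat.le_of_dvd (by norm_num) hd2)⟩ hd2 k2 with e' | e' | e' | e' <;>
    simp only at e e' <;> simp only [e, e'] at hm n1 n2 ⊢ <;> simp_all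

/-- The hypotheses on the involution. -/
structure Setting (V : Type v) [AddCommGroup V] [DistribMulAction X V] (b b' τ : X) : Prop where
  pair : Pair V b b'
  big : Nat.card (fx (V := V) b') = 16
  sq : τ * τ = 1
  comm : τ * b = b * τ
  comm' : τ * b' = b' * τ
  move : ∃ v : V, τ • v ≠ v

variable {τ : X}

/-- `[V,τ]`. -/
def tb (τ : X) : AddSubgroup V := (DistribSMul.toAddMonoidHom V τ + AddMonoidHom.id V).range

variable (h : Setting V b b' τ)
include h

theorem Setting.small : Nat.card (fx (V := V) b) = 4 := by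
  rcases h.pair.cards with c | c
  · exact c.1
  · have := h.big; omega

/-- An involution commuting with a conjugate under `b'` fixes the four points of `C(b)`. -/
theorem Setting.fix_small (s : V → V) (hs0 : s 0 = 0) (hsP : ∀ v ∈ fx (V := V) b, s v ∈ fx (V := V) b)
    (hs : ∀ v ∈ fx (V := V) b, s (s v) = v)
    (hsb : ∀ v ∈ fx (V := V) b, s (b' • s (b' • b' • v)) = b' • s (b' • b' • s v)) :
    ∀ v ∈ fx (V := V) b, s v = v := by
  classical
  haveI := Fintype.ofFinite V
  have e : ∀ v, v ∈ Finset.univ.filter (fun v : V => v ∈ fx (V := V) b) ↔ v ∈ fx (V := V) b := by simp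
  intro v hv
  refine four_involution (P := Finset.univ.filter fun v : V => v ∈ fx (V := V) b) (by simp [mem_fx])
    ?_ h.pair.cube' (fun v hv => ?_) (fun v hv hv' => h.pair.meet ((e v).1 hv) hv') s
    (fun v hv => (e _).2 (hsP v ((e v).1 hv))) hs0 (fun v hv => hs v ((e v).1 hv))
    (fun v hv => hsb v ((e v).1 hv)) v ((e v).2 hv)
  · rw [← h.small, Nat.card_eq_fintype_card, Fintype.card_subtype]
  · refine (e _).2 ?_
    rw [mem_fx, ← mul_smul, h.pair.comm, mul_smul, mem_fx.1 ((e v).1 hv)]

theorem Setting.tau_small {v : V} (hv : b • v = v) : τ • v = v := by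
  have hst : ∀ w : V, b' • τ • w = τ • b' • w := fun w => by rw [← mul_smul, ← h.comm', mul_smul]
  have h3 : ∀ w : V, b' • b' • b' • w = w := fun w => by
    rw [← mul_smul, ← mul_smul, h.pair.cube', one_smul]
  refine h.fix_small (τ • ·) (smul_zero τ) (fun w hw => ?_) (fun w _ => ?_) (fun w _ => ?_) v hv
  · rw [mem_fx, ← mul_smul, ← h.comm, mul_smul, mem_fx.1 hw]
  · rw [← mul_smul, h.sq, one_smul]
  · simp only [hst, h3]

theorem Setting.mem_tb {v : V} : v ∈ tb (V := V) τ ↔ ∃ w, τ • w + w = v := Iff.rfl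

theorem Setting.tb_fix {v : V} (hv : v ∈ tb (V := V) τ) : τ • v = v ∧ b' • v = v := by
  obtain ⟨w, rfl⟩ := h.mem_tb.1 hv
  refine ⟨by rw [smul_add, ← mul_smul, h.sq, one_smul, add_comm], ?_⟩
  rw [h.pair.symm.fix_eq, map_add, ← pr_comm h.comm, h.tau_small (pr_fix h.pair.cube w),
    h.pair.double]

theorem Setting.tb_smul {v : V} (hv : v ∈ tb (V := V) τ) : b • v ∈ tb (V := V) τ := by
  obtain ⟨w, rfl⟩ := h.mem_tb.1 hv
  exact h.mem_tb.2 ⟨b • w, by rw [smul_add, ← mul_smul, h.comm, mul_smul]⟩

theorem Setting.tb_fpf {v : V} (hv : v ∈ tb (V := V) τ) (hbv : b • v = v) : v = 0 :=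
  h.pair.meet hbv (h.tb_fix hv).2

theorem Setting.tb_card : Nat.card (tb (V := V) τ) = 4 ∧ ∀ w, b' • w = w → τ • w = w → w ∈ tb (V := V) τ := by
  let φ : fx (V := V) b' →+ V :=
    (DistribSMul.toAddMonoidHom V τ + AddMonoidHom.id V).comp (fx (V := V) b').subtype
  have hr : φ.range = tb (V := V) τ := by
    refine le_antisymm ?_ ?_
    · rintro _ ⟨w, rfl⟩; exact ⟨w.1, rfl⟩
    · intro v hv
      obtain ⟨w, rfl⟩ := h.mem_tb.1 hv
      refine ⟨⟨pr b' w, pr_fix h.pair.cube' w⟩, ?_⟩
      show τ • pr b' w + pr b' w = τ • w + w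
      conv_rhs => rw [← h.pair.split w]
      rw [smul_add, h.tau_small (pr_fix h.pair.cube w)]
      rw [show pr b w + τ • pr b' w + (pr b w + pr b' w) = pr b w + pr b w + (τ • pr b' w + pr b' w) by abel,
        h.pair.double, zero_add]
  have hker : (tb (V := V) τ).addSubgroupOf (fx (V := V) b') ≤ φ.ker := by
    intro w hw
    show τ • (w : V) + w = 0
    have hw1 : τ • (w : V) = w := (h.tb_fix hw).1
    rw [hw1, h.pair.double]
  have h16 : Nat.card φ.range * Nat.card φ.ker = 16 := by
    rw [← h.big, ← AddSubgroup.index_ker, AddSubgroup.index_mul_card]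
  rw [hr] at h16
  have hsub : Nat.card ((tb (V := V) τ).addSubgroupOf (fx (V := V) b')) = Nat.card (tb (V := V) τ) :=
    Nat.card_congr (AddSubgroup.addSubgroupOfEquivOfLe fun v hv => (h.tb_fix hv).2).toEquiv
  have hle : Nat.card (tb (V := V) τ) ≤ Nat.card φ.ker := hsub ▸ AddSubgroup.card_le_of_le hker
  have hd : Nat.card (tb (V := V) τ) ∣ 64 := h.pair.card_eq ▸ AddSubgroup.card_addSubgroup_dvd_card _
  have hne : Nat.card (tb (V := V) τ) ≠ 1 := fun e => by
    obtain ⟨w, hw⟩ := h.move
    have h0 := (AddSubgroup.eq_bot_of_card_eq _ e).le (h.mem_tb.2 ⟨w, rfl⟩)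
    refine hw ?_
    rw [AddSubgroup.mem_bot] at h0
    calc τ • w = τ • w + (w + w) := by rw [h.pair.double, add_zero]
      _ = w := by rw [← add_assoc, h0, zero_add]
  have k := card_mod_three (tb (V := V) τ) h.pair.cube (fun v hv => h.tb_smul hv) (fun v hv => h.tb_fpf hv)
  have h4 : Nat.card (tb (V := V) τ) = 4 := by
    rcases cases64 ⟨_, Nat.lt_succ_of_le (Nat.le_of_dvd (by norm_num) hd)⟩ hd k with e | e | e | e <;>
      simp only at e
    · exact absurd e hne
    · exact e
    all_goals (rw [e] at hle h16; omega)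
  refine ⟨h4, fun w hw hτ => ?_⟩
  have hk : (⟨w, hw⟩ : fx (V := V) b') ∈ φ.ker := by
    show τ • w + w = 0
    rw [hτ, h.pair.double]
  have := AddSubgroup.eq_of_le_of_card_ge hker (by rw [hsub]; rw [h4] at h16 ⊢; omega)
  rw [← this] at hk
  exact hk

/-- An element commuting with the involution moves its fixed points only inside `[V,τ]` on `C(b')`. -/
theorem Setting.split_fix {v : V} (hv : τ • v = v) : pr b' v ∈ tb (V := V) τ := by
  refine h.tb_card.2 _ (pr_fix h.pair.cube' v) ?_
  rw [pr_comm h.comm', hv]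

/-- An involution commuting with a conjugate fixes `[V,τ]`. -/
theorem Setting.fix_tb (s : V → V) (hs0 : s 0 = 0) (hsP : ∀ v ∈ tb (V := V) τ, s v ∈ tb (V := V) τ)
    (hs : ∀ v ∈ tb (V := V) τ, s (s v) = v)
    (hsb : ∀ v ∈ tb (V := V) τ, s (b • s (b • b • v)) = b • s (b • b • s v)) :
    ∀ v ∈ tb (V := V) τ, s v = v := by
  classical
  haveI := Fintype.ofFinite V
  have e : ∀ v, v ∈ Finset.univ.filter (fun v : V => v ∈ tb (V := V) τ) ↔ v ∈ tb (V := V) τ := by simp
  intro v hv
  refine four_involution (P := Finset.univ.filter fun v : V => v ∈ tb (V := V) τ) ((e 0).2 (zero_mem _))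
    ?_ h.pair.cube (fun v hv => (e _).2 (h.tb_smul ((e v).1 hv)))
    (fun v hv hv' => h.tb_fpf ((e v).1 hv) hv') s
    (fun v hv => (e _).2 (hsP v ((e v).1 hv))) hs0 (fun v hv => hs v ((e v).1 hv))
    (fun v hv => hsb v ((e v).1 hv)) v ((e v).2 hv)
  rw [← h.tb_card.1, Nat.card_eq_fintype_card, Fintype.card_subtype]

theorem Setting.smul_tb {g : X} (hg : g * τ = τ * g) {v : V} (hv : v ∈ tb (V := V) τ) : g • v ∈ tb (V := V) τ := by
  obtain ⟨w, rfl⟩ := h.mem_tb.1 hv
  exact h.mem_tb.2 ⟨g • w, by rw [smul_add, ← mul_smul, ← hg, mul_smul]⟩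

/-- An involution commuting with `b'`, `τ` and its conjugate under `b` fixes what `τ` fixes. -/
theorem Setting.fix_of_comm {v : X} (hv2 : v * v = 1) (hvτ : v * τ = τ * v) (hvb : v * b' = b' * v)
    (hvc : v * (b * v * (b * b)) = b * v * (b * b) * v) {x : V} (hx : τ • x = x) : v • x = x := by
  have hb' : ∀ w : V, v • b' • w = b' • v • w := fun w => by rw [← mul_smul, hvb, mul_smul]
  have h3 : ∀ w : V, b' • b' • b' • w = w := fun w => by
    rw [← mul_smul, ← mul_smul, h.pair.cube', one_smul]
  have hvv : ∀ w : V, v • v • w = w := fun w => by rw [← mul_smul, hv2, one_smul]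
  have hP : ∀ w : V, b • w = w → v • w = w := by
    refine h.fix_small (v • ·) (smul_zero v) (fun w hw => ?_) (fun w _ => hvv w) (fun w _ => ?_)
    · rw [mem_fx, h.pair.fix_eq, ← pr_comm hvb, h.pair.fix_eq.1 hw, smul_zero]
    · simp only [hb', hvv, h3]
  have hU : ∀ w ∈ tb (V := V) τ, v • w = w := by
    refine h.fix_tb (v • ·) (smul_zero v) (fun w hw => h.smul_tb hvτ hw) (fun w _ => hvv w)
      (fun w _ => ?_)
    simpa only [mul_smul] using congrArg (· • w) hvc
  rw [← h.pair.split x, smul_add, hP _ (pr_fix h.pair.cube x), hU _ (h.split_fix hx)]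

/-- The two kinds of elements of the 2-core commute. -/
theorem Setting.commute {v q : X} (hv2 : v * v = 1) (hvτ : v * τ = τ * v) (hvb : v * b' = b' * v)
    (hvc : v * (b * v * (b * b)) = b * v * (b * b) * v)
    (hqτ : q * τ = τ * q) (hq2 : q * q = 1 ∨ q * q = τ)
    (hqc : q * (b * q * (b * b)) = b * q * (b * b) * q ∨
      q * (b * q * (b * b)) = τ * (b * q * (b * b) * q))
    (hqc' : q * (b' * q * (b' * b')) = b' * q * (b' * b') * q ∨
      q * (b' * q * (b' * b')) = τ * (b' * q * (b' * b') * q))
    (x : V) : v • q • x = q • v • x := by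
  have hst : ∀ w : V, τ • q • w = q • τ • w := fun w => by rw [← mul_smul, ← hqτ, mul_smul]
  -- `q` squares trivially on the fixed points
  have hqq : ∀ w : V, τ • w = w → q • q • w = w := fun w hw => by
    rw [← mul_smul]
    rcases hq2 with e | e <;> rw [e]
    · rw [one_smul]
    · exact hw
  have hmod : ∀ {A B : X}, (A = B ∨ A = τ * B) → ∀ w : V, τ • (B • w) = B • w → A • w = B • w := by
    rintro A B (rfl | rfl) w hw
    · rfl
    · rw [mul_smul, hw]
  have hτb : ∀ w : V, τ • b • w = b • τ • w := fun w => by rw [← mul_smul, h.comm, mul_smul]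
  have hτb' : ∀ w : V, τ • b' • w = b' • τ • w := fun w => by rw [← mul_smul, h.comm', mul_smul]
  have hqU : ∀ w ∈ tb (V := V) τ, q • w = w := by
    refine h.fix_tb (q • ·) (smul_zero q) (fun w hw => h.smul_tb hqτ hw)
      (fun w hw => hqq w (h.tb_fix hw).1) (fun w hw => ?_)
    have hw' := (h.tb_fix hw).1
    simpa only [mul_smul] using hmod hqc w (by simp only [mul_smul, hst, hτb, hw'])
  have hprU : ∀ w ∈ tb (V := V) τ, pr b w = 0 := fun w hw => h.pair.symm.fix_eq.1 (h.tb_fix hw).2
  -- modulo `[V,τ]`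
  have hpq : ∀ z : V, τ • z = z → pr b (q • pr b z) = pr b (q • z) := fun z hz => by
    conv_rhs => rw [← h.pair.split z]
    rw [smul_add, map_add, hqU _ (h.split_fix hz), hprU _ (h.split_fix hz), add_zero]
  have hb'c : ∀ z : V, b' • pr b z = pr b (b' • z) := fun z => pr_comm h.pair.comm.symm z
  have hqP : ∀ y ∈ fx (V := V) b, pr b (q • y) = y := by
    refine h.fix_small (fun y => pr b (q • y)) (by simp) (fun y _ => pr_fix h.pair.cube _)
      (fun y hy => ?_) (fun y hy => ?_)
    · have hy' := h.tau_small hy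
      rw [hpq _ (by rw [hst, hy']), hqq _ hy', pr_of_fix h.pair.double hy]
    · have hy' := h.tau_small hy
      have hA := hmod hqc' y (by simp only [mul_smul, hst, hτb', hy'])
      simp only [mul_smul] at hA
      simp only [hb'c]
      rw [hpq _ (by simp only [hτb', hst, hy']), hA,
        ← hb'c (q • pr b _), hpq _ (by simp only [hτb', hst, hy']), hb'c]
  -- the displacement of `v` lies in `[V,τ]`, that of `q` is fixed by `τ`
  have hν : v • x + x ∈ tb (V := V) τ := by
    have e : v • x + x = v • pr b' x + pr b' x := by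
      conv_lhs => rw [← h.pair.split x]
      rw [smul_add, h.fix_of_comm hv2 hvτ hvb hvc (h.tau_small (pr_fix h.pair.cube x))]
      rw [show pr b x + v • pr b' x + (pr b x + pr b' x) = pr b x + pr b x + (v • pr b' x + pr b' x) by abel,
        h.pair.double, zero_add]
    rw [e]
    refine h.tb_card.2 _ ?_ ?_
    · rw [smul_add, ← mul_smul, ← hvb, mul_smul, pr_fix h.pair.cube']
    · have h1 : τ • pr b' x + pr b' x ∈ tb (V := V) τ := h.mem_tb.2 ⟨_, rfl⟩
      have h2 := h.fix_of_comm hv2 hvτ hvb hvc (h.tb_fix h1).1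
      rw [smul_add, ← mul_smul, hvτ, mul_smul] at h2
      rw [smul_add]
      rw [add_comm]
      exact flip_eq h.pair.double (by rw [add_comm]; exact h2)
  have hκ : τ • (q • x + x) = q • x + x := by
    have h1 := hqU _ (h.mem_tb.2 ⟨x, rfl⟩)
    rw [smul_add, ← hst] at h1
    rw [smul_add]
    rw [add_comm]
    exact flip_eq h.pair.double (by rw [add_comm]; exact h1)
  have e1 := h.fix_of_comm hv2 hvτ hvb hvc hκ
  have e2 := hqU _ hν
  rw [smul_add] at e1 e2
  calc v • q • x = v • q • x + v • x + v • x := by rw [add_assoc, h.pair.double, add_zero]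
    _ = q • x + x + v • x := by rw [e1]
    _ = v • x + x + q • x := by abel
    _ = q • v • x + q • x + q • x := by rw [e2]
    _ = q • v • x := by rw [add_assoc, h.pair.double, add_zero]

/-- A transvection with centre in `[V,τ]` normalises no power of `b`. -/
theorem Setting.transvection {u : V} (hu : u ∈ tb (V := V) τ) (hu0 : u ≠ 0) {g : X} (hg2 : g * g = 1)
    (hg : ∀ x : V, g • x = x ∨ g • x = x + u) (hgm : ∃ x : V, g • x ≠ x) :
    (¬ ∀ x : V, g • b • g • x = b • x) ∧ ¬ ∀ x : V, g • b • g • x = b • b • x := by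
  classical
  have hgg : ∀ w : V, g • g • w = w := fun w => by rw [← mul_smul, hg2, one_smul]
  have h3 : ∀ w : V, b • b • b • w = w := fun w => by
    rw [← mul_smul, ← mul_smul, h.pair.cube, one_smul]
  constructor
  · intro hall
    obtain ⟨x, hx⟩ := hgm
    have h1 : g • x = x + u := (hg x).resolve_left hx
    have h2 := hall (g • x)
    rw [hgg, h1, smul_add] at h2
    rcases hg (b • x) with e | e <;> rw [e] at h2
    · have h5 : b • u = 0 := add_eq_left.1 h2.symm
      exact hu0 (smul_left_cancel b (h5.trans (smul_zero b).symm))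
    · exact hu0 (h.tb_fpf hu (add_left_cancel h2.symm))
  · intro hall
    have := Fintype.ofFinite V
    let ψ : fx (V := V) b' → Bool × Bool := fun w =>
      (decide (g • (w : V) = w), decide (g • b • b • (w : V) = b • b • (w : V)))
    obtain ⟨w1, w2, hne, heq⟩ := Fintype.exists_ne_map_eq_of_card_lt ψ (by
      rw [← Nat.card_eq_fintype_card, ← Nat.card_eq_fintype_card, h.big, Nat.card_eq_fintype_card]; decide)
    have hadd : ∀ p r : V, (g • p = p ↔ g • r = r) → g • (p - r) = p - r := by
      intro p r hpr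
      rcases hg p with e | e
      · rw [smul_sub, e, hpr.1 e]
      · rcases hg r with e' | e'
        · rw [smul_sub, hpr.2 e', e']
        · rw [smul_sub, e, e']; abel
    obtain ⟨e1, e2⟩ := Prod.ext_iff.1 heq
    simp only [ψ, decide_eq_decide] at e1 e2
    set d := ((w1 : V) - w2)
    have hd1 : g • d = d := hadd _ _ e1
    have hd2 : g • b • b • d = b • b • d := by rw [smul_sub, smul_sub]; exact hadd _ _ e2
    have h1 := hall d
    rw [hd1] at h1
    have h2 : b • d = b • b • d := (hgg (b • d)).symm.trans (by rw [h1, hd2])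
    have h4 : b • d = d := (smul_left_cancel b h2).symm
    exact hne (Subtype.ext (sub_eq_zero.1 (h.pair.meet h4 (w1 - w2).2)))

/-- If `b'` is the element with the larger fixed space, an involution commuting with `b` and with its
conjugate under `b'` commutes with `b'`. -/
theorem Setting.comm_of {v : X} (hv2 : v * v = 1) (hvb : v * b = b * v)
    (hvc : v * (b' * v * (b' * b')) = b' * v * (b' * b') * v) (x : V) : v • b' • x = b' • v • x := by
  have hb : ∀ w : V, b • w = w → v • w = w := by
    refine h.fix_small (v • ·) (smul_zero v) (fun w hw => ?_) (fun w _ => by rw [← mul_smul, hv2, one_smul])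
      (fun w _ => by simpa only [mul_smul] using congrArg (· • w) hvc)
    rw [mem_fx, ← mul_smul, ← hvb, mul_smul, mem_fx.1 hw]
  have hW : b' • v • pr b' x = v • pr b' x := by
    rw [h.pair.symm.fix_eq, ← pr_comm hvb, h.pair.symm.fix_eq.1 (pr_fix h.pair.cube' x), smul_zero]
  have hP : b • b' • pr b x = b' • pr b x := by
    rw [← mul_smul, h.pair.comm, mul_smul, pr_fix h.pair.cube]
  conv_lhs => rw [← h.pair.split x]
  conv_rhs => rw [← h.pair.split x]
  simp only [smul_add, hb _ hP, hb _ (pr_fix h.pair.cube x), pr_fix h.pair.cube' x, hW]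

omit h

/-- The centre of a group `3^{1+2}` acts without fixed points on a space of order 64. -/
theorem fpf_of_heisenberg (hV : ∀ v : V, v + v = 0) (hcard : Nat.card V = 64) {z m n : X}
    (hz : z * z * z = 1) (hm : m * m * m = 1) (hzm : z * m = m * z) (hzn : n * z = z * n)
    (hnm : n * m = m * z * n) (hmove : ∃ v : V, z • v ≠ v) : ∀ v : V, z • v = v → v = 0 := by
  have czm : ∀ w : V, z • m • w = m • z • w := fun w => by rw [← mul_smul, hzm, mul_smul]
  have cube3 : ∀ c : X, c * c * c = 1 → ∀ w : V, c • c • c • w = w := fun c hc w => by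
    rw [← mul_smul, ← mul_smul, hc, one_smul]
  have hcube : ∀ {c : X}, m * c = c * m → c * c * c = 1 → (m * c) * (m * c) * (m * c) = 1 := by
    intro c hmc hc3
    have := (show Commute m c from hmc).mul_pow 3
    simp only [pow_succ, pow_zero, one_mul, hm, hc3, mul_one] at this
    exact this
  have h1 := hcube hzm.symm hz
  have h2 := hcube (c := z * z) (by rw [← mul_assoc, ← hzm, mul_assoc, ← hzm, ← mul_assoc]) (by
    calc z * z * (z * z) * (z * z) = (z * z * z) * (z * z * z) := by group
      _ = 1 := by rw [hz, one_mul])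
  let W : AddSubgroup V := (pr (V := V) z).ker
  have hW : ∀ {w : V}, w ∈ W → z • w = w → w = 0 := fun {w} hw e => by
    have : pr z w = 0 := hw
    rwa [pr_of_fix hV e] at this
  -- a fixed vector of one line in `W` is killed by the projection of another
  have cross : ∀ {c d : X}, c * c * c = 1 → c * z = z * c → c * d = d * c →
      (∀ w : V, c • w = w → d • w = w → z • w = w) →
      ∀ w ∈ W, d • w = w → pr c w = 0 := by
    intro c d hc hcz hcd hcd' w hw hdw
    refine hW ?_ (hcd' _ (pr_fix hc w) ?_)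
    · show pr z (pr c w) = 0
      rw [pr_pr hcz.symm, show pr z w = 0 from hw, map_zero]
    · rw [pr_comm hcd.symm, hdw]
  let L : Fin 3 → X := ![m, m * z, m * (z * z)]
  have hL : ∀ i, L i * L i * L i = 1 ∧ L i * z = z * L i := by
    intro i
    fin_cases i
    exacts [⟨hm, hzm.symm⟩, ⟨h1, (Commute.mul_left (show Commute m z from hzm.symm) (Commute.refl z)).eq⟩,
      ⟨h2, (Commute.mul_left (show Commute m z from hzm.symm)
        ((Commute.refl z).mul_left (Commute.refl z))).eq⟩]
  let F : Fin 3 → AddSubgroup V := fun i => W ⊓ fx (L i)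
  -- the three summands
  have hsum : ∀ w ∈ W, pr (L 0) w + pr (L 1) w + pr (L 2) w = w := by
    intro w hw
    have h0 : pr z w = 0 := hw
    have e : pr (L 0) w + pr z w + pr (L 1) w + pr (L 2) w = pr m (pr z w) + (w + w + w) := by
      simp only [L, Matrix.cons_val_zero, Matrix.cons_val_one, Matrix.cons_val, pr_apply, mul_smul,
        smul_add, czm, cube3 z hz]
      abel
    rwa [h0, map_zero, zero_add, add_zero, hV, zero_add] at e
  have hmemF : ∀ i, ∀ w ∈ W, pr (L i) w ∈ F i := fun i w hw => by
    refine ⟨?_, pr_fix (hL i).1 w⟩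
    show pr z (pr (L i) w) = 0
    rw [pr_pr (hL i).2.symm, show pr z w = 0 from hw, map_zero]
  have hkill : ∀ i j, i ≠ j → ∀ w ∈ F j, pr (L i) w = 0 := by
    intro i j hij w hw
    refine cross (hL i).1 (hL i).2 ?_ (fun y hyi hyj => ?_) w hw.1 hw.2
    · have cz : ∀ k, Commute z (L k) := fun k => ((hL k).2).symm
      have cm : ∀ k, Commute m (L k) := fun k => by
        fin_cases k
        exacts [Commute.refl m, (Commute.refl m).mul_right hzm.symm,
          (Commute.refl m).mul_right ((show Commute m z from hzm.symm).mul_right hzm.symm)]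
      fin_cases i
      exacts [(cm j).eq, ((cm j).mul_left (cz j)).eq, ((cm j).mul_left ((cz j).mul_left (cz j))).eq]
    · -- two lines generate `z`
      have hmz : ∀ y : V, m • y = y → m • z • y = y → z • y = y := fun y a b => by
        rw [← czm, a] at b; exact b
      have hmzz : ∀ y : V, m • y = y → m • z • z • y = y → z • y = y := fun y a b => by
        rw [← czm, ← czm, a] at b
        have := congrArg (z • ·) b
        simp only [cube3 z hz] at this
        exact this.symm
      have hzz : ∀ y : V, m • z • y = y → m • z • z • y = y → z • y = y := fun y a b => by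
        rw [← czm (z • y), ← czm] at b
        rw [← czm] at a
        rw [a] at b; exact b
      fin_cases i <;> fin_cases j <;> simp [L, mul_smul] at hij hyi hyj <;>
        first
          | exact hmz y hyi hyj | exact hmz y hyj hyi | exact hmzz y hyi hyj | exact hmzz y hyj hyi
          | exact hzz y hyi hyj | exact hzz y hyj hyi
  have hWn : ∀ w ∈ W, n • w ∈ W := fun w hw => by
    show pr z (n • w) = 0
    rw [← pr_comm hzn, show pr z w = 0 from hw, smul_zero]
  let f : F 0 × F 1 × F 2 → W := fun p =>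
    ⟨(p.1 : V) + p.2.1 + p.2.2, W.add_mem (W.add_mem p.1.2.1 p.2.1.2.1) p.2.2.2.1⟩
  have hid : ∀ i, ∀ w : F i, pr (L i) (w : V) = w := fun i w => pr_of_fix hV w.2.2
  have hf : Function.Bijective f := by
    refine ⟨fun p q e => ?_, fun w => ⟨(⟨_, hmemF 0 w w.2⟩, ⟨_, hmemF 1 w w.2⟩, ⟨_, hmemF 2 w w.2⟩),
      Subtype.ext (hsum w w.2)⟩⟩
    have e' : (p.1 : V) + p.2.1 + p.2.2 = q.1 + q.2.1 + q.2.2 := congrArg Subtype.val e
    have k := fun i => congrArg (pr (L i)) e'
    simp only [map_add] at k
    have k0 := k 0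
    have k1 := k 1
    have k2 := k 2
    rw [hid 0, hkill 0 1 (by decide) _ p.2.1.2, hkill 0 2 (by decide) _ p.2.2.2, hid 0,
      hkill 0 1 (by decide) _ q.2.1.2, hkill 0 2 (by decide) _ q.2.2.2] at k0
    rw [hid 1, hkill 1 0 (by decide) _ p.1.2, hkill 1 2 (by decide) _ p.2.2.2, hid 1,
      hkill 1 0 (by decide) _ q.1.2, hkill 1 2 (by decide) _ q.2.2.2] at k1
    rw [hid 2, hkill 2 0 (by decide) _ p.1.2, hkill 2 1 (by decide) _ p.2.1.2, hid 2,
      hkill 2 0 (by decide) _ q.1.2, hkill 2 1 (by decide) _ q.2.1.2] at k2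
    simp only [add_zero, zero_add] at k0 k1 k2
    exact Prod.ext (Subtype.ext k0) (Prod.ext (Subtype.ext k1) (Subtype.ext k2))
  have hc := Nat.card_congr (Equiv.ofBijective f hf)
  rw [Nat.card_prod, Nat.card_prod] at hc
  -- `n` permutes the three lines
  have hstep : ∀ i : Fin 3, n * L i = L (i + 1) * n := by
    intro i
    fin_cases i
    · exact hnm
    · show n * (m * z) = m * (z * z) * n
      rw [← mul_assoc, hnm, mul_assoc (m * z), hzn]; group
    · show n * (m * (z * z)) = m * n
      rw [← mul_assoc, hnm, mul_assoc (m * z) n, ← mul_assoc n z, hzn, mul_assoc z n z, hzn]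
      calc m * z * (z * (z * n)) = m * (z * z * z) * n := by group
        _ = m * n := by rw [hz, mul_one]
  have hle : ∀ i : Fin 3, Nat.card (F i) ≤ Nat.card (F (i + 1)) := fun i =>
    Nat.card_le_card_of_injective (fun w : F i => (⟨n • (w : V), hWn _ w.2.1, by
      show L (i + 1) • n • (w : V) = n • (w : V)
      rw [← mul_smul, ← hstep, mul_smul, (show L i • (w : V) = w from w.2.2)]⟩ : F (i + 1)))
      fun a b e => Subtype.ext (smul_left_cancel n (congrArg Subtype.val e))
  have a0 := hle 0
  have a1 := hle 1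
  have a2 := hle 2
  simp only [show (0 : Fin 3) + 1 = 1 from rfl, show (1 : Fin 3) + 1 = 2 from rfl,
    show (2 : Fin 3) + 1 = 0 from rfl] at a0 a1 a2
  have k := card_mod_three (F 0) hz (fun w hw => ⟨by
      show pr z (z • w) = 0
      rw [← pr_comm rfl, show pr z w = 0 from hw.1, smul_zero], by
      show m • z • w = z • w
      rw [← czm, show m • w = w from hw.2]⟩) (fun w hw e => hW hw.1 e)
  have hdim : Nat.card (pr (V := V) z).range * Nat.card W = 64 := by
    rw [← hcard, ← AddSubgroup.index_ker, AddSubgroup.index_mul_card]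
  have hne : Nat.card W ≠ 1 := fun e => by
    obtain ⟨v, hv⟩ := hmove
    have hmem : z • v + v ∈ W := by
      show pr z (z • v + v) = 0
      rw [map_add, ← pr_comm rfl, pr_fix hz, hV]
    have := (AddSubgroup.eq_bot_of_card_eq W e).le hmem
    rw [AddSubgroup.mem_bot] at this
    exact hv (calc z • v = z • v + (v + v) := by rw [hV, add_zero]
      _ = v := by rw [← add_assoc, this, zero_add])
  have heq1 : Nat.card (F 1) = Nat.card (F 0) := by omega
  have heq2 : Nat.card (F 2) = Nat.card (F 0) := by omega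
  rw [heq1, heq2] at hc
  have h64 : Nat.card W = 64 := by
    have hb : Nat.card W ≤ 64 := Nat.le_of_dvd (by norm_num) ⟨_, hdim.symm.trans (mul_comm _ _)⟩
    rcases Nat.lt_or_ge (Nat.card (F 0)) 4 with hlt | hge
    · have : Nat.card (F 0) = 1 := by omega
      rw [this] at hc; omega
    · have := Nat.mul_le_mul hge (Nat.mul_le_mul hge hge)
      omega
  intro v hv
  refine hW ?_ hv
  have := AddSubgroup.eq_top_of_card_eq W (by rw [h64, hcard])
  rw [this]; trivial

end CfsgLib.O8Three.Lin
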