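import Cfsg.Agent.O8Three.ExtCentC
import Mathlib.GroupTheory.Perm.Centralizer

/-!
# Involutions in the centralizer of `m₁` when it is `3 × S₉`
-/

set_option autoImplicit false
set_option maxRecDepth 100000
set_option linter.style.haveILetI false
set_option linter.unusedSectionVars false

namespace CfsgLib.O8Three

open CfsgLib.ThreeSymNine CfsgLib.AltNine Equiv

universe u

attribute [local instance 10000] List.decidableBAll List.decidableBEx

/-- The permutation inverting the cycles chosen. -/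
def negP (s : Bool × Bool × Bool) : Perm (Fin 9) :=
  cond s.1 (swap 1 2) 1 * cond s.2.1 (swap 4 5) 1 * cond s.2.2 (swap 7 8) 1

/-- The translations with the chosen coordinates inverted. -/
def negV (s : Bool × Bool × Bool) (v : Fin 27) : Fin 27 :=
  vec (cond s.1 (dig (nv v) 0) (dig v 0)) (cond s.2.1 (dig (nv v) 1) (dig v 1))
    (cond s.2.2 (dig (nv v) 2) (dig v 2))

theorem negP_trn : ∀ s v i, negP s (shift v i) = shift (negV s v) (negP s i) := by decide +kernel

theorem negP_conj (s : Bool × Bool × Bool) (v : Fin 27) :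
    negP s * trn v * (negP s)⁻¹ = trn (negV s v) := by
  rw [mul_inv_eq_iff_eq_mul]
  refine Equiv.ext fun i => ?_
  simp only [Perm.mul_apply, trn_table]
  exact negP_trn s v i

/-- The frame of the three elements `e₁`, `e₂`, `e₃`. -/
def nineE : Fin 3 → JV := ![⟨1, 0, 0, 1⟩, ⟨1, 1, 0, 2⟩, ⟨1, 2, 0, 2⟩]

theorem nineE_facts : nineV (nineE 0) = vec 2 0 0 ∧ nineV (nineE 1) = vec 0 1 0 ∧
    nineV (nineE 2) = vec 0 0 1 := by decide +kernel

/-- The four combinations. -/
def combo (u1 u2 u3 : Fin 27) : List (Fin 27) :=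
  [av u1 (av u2 u3), av u1 (av u2 (nv u3)), av u1 (av (nv u2) u3), av (nv u1) (av u2 u3)]

/-- The four combinations in `J`. -/
def comboJ : List JV :=
  [ja (nineE 0) (ja (nineE 1) (nineE 2)), ja (nineE 0) (ja (nineE 1) (jn (nineE 2))),
    ja (nineE 0) (ja (jn (nineE 1)) (nineE 2)), ja (jn (nineE 0)) (ja (nineE 1) (nineE 2))]

theorem comboJ_z : ∀ v ∈ comboJ, ∃ o : Fin 4, ∃ j : ZMod 3, ∃ s : Bool,
    ja (![id, R1J, R2J, R3J] o (cond s (jn ⟨1, 0, 0, 0⟩) ⟨1, 0, 0, 0⟩)) ⟨0, 0, j, 0⟩ = v := by decide +kernel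

theorem monomial : ∀ u1 u2 u3 : Fin 27, u1 ≠ 0 → u2 ≠ 0 → u3 ≠ 0 → (combo u1 u2 u3).all (fun w => (w : Fin 27) ∈
      ([13, 14, 16, 17, 22, 23, 25, 26] : List (Fin 27))) = true →
    ∃ (s : Bool × Bool × Bool) (a : Fin 6), pa a (negV s (vec 2 0 0)) = u1 ∧
      pa a (negV s (vec 0 1 0)) = u2 ∧ pa a (negV s (vec 0 0 1)) = u3 := by decide +kernel

theorem free_trn : ∀ v : Fin 27, (∀ i : Fin 9, shift v i ≠ i) →
    v ∈ ([13, 14, 16, 17, 22, 23, 25, 26] : List (Fin 27)) := by decide +kernel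

theorem units_fix : ∀ a : Fin 6, pa a (vec 2 0 0) = vec 2 0 0 → pa a (vec 0 1 0) = vec 0 1 0 → a = 0 := by
  decide +kernel

theorem units_sum : av (nv (vec 2 0 0)) (av (vec 0 1 0) (vec 0 0 1)) = 13 ∧
    negV (true, false, false) (vec 2 0 0) = nv (vec 2 0 0) ∧
    negV (true, false, false) (vec 0 1 0) = vec 0 1 0 ∧ negV (true, false, false) (vec 0 0 1) = vec 0 0 1 := by
  decide +kernel

theorem inv_solve : ∀ v : Fin 27, av v (negV (true, false, false) v) = 0 →
    av v (av v (nv (negV (true, false, false) v))) = 0 := by decide +kernel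

/-- The two involutions and their product. -/
def nineVp : Fin 2 → Perm (Fin 9) := ![swap 0 6 * swap 7 8, swap 0 3 * swap 4 5]

/-- The three translations. -/
def nineT : Fin 3 → Perm (Fin 9) := ![trn (vec 2 0 0), trn (vec 0 1 0), trn (vec 0 0 1)]

theorem nine_perm :
    (∀ i, nineVp i * nineVp i = 1 ∧ nineVp i * swap 1 2 = swap 1 2 * nineVp i) ∧
    nineVp 0 * nineT 1 = nineT 1 * nineVp 0 ∧ nineVp 1 * nineT 2 = nineT 2 * nineVp 1 ∧
    nineVp 0 * nineT 2 ≠ nineT 2 * nineVp 0 ∧ nineVp 1 * nineT 1 ≠ nineT 1 * nineVp 1 ∧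
    nineVp 0 * (nineT 2 * nineVp 0 * (nineT 2)⁻¹) = nineT 2 * nineVp 0 * (nineT 2)⁻¹ * nineVp 0 ∧
    nineVp 1 * (nineT 1 * nineVp 1 * (nineT 1)⁻¹) = nineT 1 * nineVp 1 * (nineT 1)⁻¹ * nineVp 1 ∧
    (nineVp 0 * nineVp 1) ^ 3 * nineT 1 = (nineT 1)⁻¹ * (nineVp 0 * nineVp 1) ^ 3 ∧
    (nineVp 0 * nineVp 1) ^ 3 * nineT 2 = (nineT 2)⁻¹ * (nineVp 0 * nineVp 1) ^ 3 := by decide +kernel

theorem card_cent_trn : Nat.card (Subgroup.centralizer ({trn 13} : Set (Perm (Fin 9)))) = 162 := by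
  rw [← Nat.card_congr (Equiv.ofBijective (fun p : Fin 27 × Fin 6 => inC p.1 p.2)
    ⟨fun p q h => by
      obtain ⟨h1, h2⟩ := mdl_inj (congrArg Subtype.val h :)
      exact Prod.ext h1 h2,
    fun g => by
      obtain ⟨v, a, e⟩ := exists_mdl (Subgroup.mem_centralizer_singleton_iff.1 g.2)
      exact ⟨(v, a), Subtype.ext e.symm⟩⟩)]
  simp

theorem type_of_cent {g : Perm (Fin 9)} (hg : orderOf g = 3)
    (hc : Nat.card (Subgroup.centralizer ({g} : Set (Perm (Fin 9)))) = 162) :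
    g.cycleType = Multiset.replicate 3 3 := by
  obtain ⟨n, hn⟩ := Perm.cycleType_prime_order (σ := g) (by rw [hg]; norm_num)
  rw [hg] at hn
  have hsum := g.sum_cycleType_le
  rw [hn, Multiset.sum_replicate, Fintype.card_fin, smul_eq_mul] at hsum
  rw [Perm.nat_card_centralizer, hn, Multiset.prod_replicate, Multiset.sum_replicate,
    Multiset.toFinset_replicate, Fintype.card_fin, smul_eq_mul] at hc
  rw [hn]
  obtain rfl | rfl | rfl : n = 0 ∨ n = 1 ∨ n = 2 := by omega
  · simp [Nat.factorial] at hc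
  · simp [Nat.factorial] at hc
  · rfl

namespace Base

attribute [local instance] fact_three

variable {G : Type u} [Group G] {H : Base G}

/-- The class of an element of `J` in the factor group. -/
def em (H : Base G) (v : JV) : H.XM := QuotientGroup.mk' H.mSub ⟨H.emb v, H.emb_mem_Cm v⟩

theorem em_ja (v w : JV) : H.em (ja v w) = H.em v * H.em w := by
  rw [em, em, em, ← map_mul]; exact congrArg _ (Subtype.ext (H.emb_ja v w))

theorem em_jn (v : JV) : H.em (jn v) = (H.em v)⁻¹ := by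
  rw [em, em, ← map_inv]; exact congrArg _ (Subtype.ext (H.emb_jn v))

theorem em_mem (v : JV) : H.em v ∈ H.JM :=
  ⟨⟨H.emb v, H.emb_mem_Cm v⟩, H.mem_J.2 ⟨v, rfl⟩, rfl⟩

theorem em_mline (v : JV) (j : ZMod 3) : H.em (ja v ⟨0, 0, j, 0⟩) = H.em v := by
  have h : H.em ⟨0, 0, j, 0⟩ = 1 := (QuotientGroup.eq_one_iff _).2 (H.mem_mzp.2 ⟨j, rfl⟩)
  rw [em_ja, h, mul_one]

/-- An element of `Cm` commuting modulo `⟨m₁⟩` with an involution commutes with it. -/
theorem exact_comm {x y : H.Cm} (hx : x * x = 1)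
    (h : QuotientGroup.mk' H.mSub x * QuotientGroup.mk' H.mSub y =
      QuotientGroup.mk' H.mSub y * QuotientGroup.mk' H.mSub x) : x * y = y * x := by
  rw [← map_mul, ← map_mul, eq_comm, QuotientGroup.mk'_eq_mk'] at h
  obtain ⟨a, ha, e⟩ := h
  have hc : ∀ g : H.Cm, g * a = a * g := fun g => Subtype.ext (by
    obtain ⟨k, hk⟩ := Subgroup.mem_zpowers_iff.1 (show (a : G) ∈ Subgroup.zpowers H.mEl from ha)
    show (g : G) * a = a * g
    rw [← hk]
    exact ((show Commute (g : G) H.mEl from Subgroup.mem_centralizer_singleton_iff.1 g.2).zpow_right k).eq)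
  have h3 : a ^ 3 = 1 := by
    obtain ⟨k, hk⟩ := Subgroup.mem_zpowers_iff.1 (show (a : G) ∈ Subgroup.zpowers H.mEl from ha)
    refine Subtype.ext ?_
    rw [SubgroupClass.coe_pow, ← hk, ← zpow_natCast, ← zpow_mul, mul_comm, zpow_mul, zpow_natCast,
      H.mEl_cube, one_zpow]
    rfl
  -- `x y x = y a`
  have e1 : x * y * x = y * a := by
    rw [← e, mul_assoc (y * x), ← hc x, ← mul_assoc, mul_assoc y x x, hx, mul_one]
  have e2 : y = y * (a * a) := by
    calc y = (x * x) * y * (x * x) := by rw [hx, one_mul, mul_one]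
      _ = x * (x * y * x) * x := by group
      _ = x * (y * a) * x := by rw [e1]
      _ = x * y * (a * x) := by group
      _ = x * y * (x * a) := by rw [hc]
      _ = x * y * x * a := by group
      _ = _ := by rw [e1]; group
  have ha1 : a = 1 := by
    have h2 : a * a = 1 := mul_eq_left.1 e2.symm
    rw [← h3, pow_succ, pow_two, h2, one_mul]
  rw [← e, ha1, mul_one]

variable [Finite G]

theorem emb_eE : H.em ⟨1, 0, 0, 0⟩ = H.zM := by
  rw [em, zM]; exact congrArg _ (Subtype.ext H.emb_zT.symm)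

/-- The normalised identification with `S₉`. -/
theorem Good.nine_map (hG : H.Good) (he : H.ext = true) (R : Refl H)
    (hY : Nonempty (H.XM ≃* Perm (Fin 9))) :
    ∃ θ : H.XM ≃* Perm (Fin 9), (∀ i, θ (H.em (nineE i)) = nineT i) ∧
      ∃ hr : R.r1 ∈ H.Cm, θ (QuotientGroup.mk' H.mSub ⟨R.r1, hr⟩) = swap 1 2 := by
  classical
  obtain ⟨θ0⟩ := hY
  -- the image of `z`
  have hcard : Nat.card (Subgroup.centralizer ({θ0 H.zM} : Set (Perm (Fin 9)))) = 162 := by
    obtain ⟨e⟩ := exists_eC hG he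
    rw [← card_cent_trn, ← Nat.card_congr e.toEquiv]
    refine Nat.card_congr (((Subgroup.centralizer ({H.zM} : Set H.XM)).equivMapOfInjective θ0.toMonoidHom
      θ0.injective).trans (MulEquiv.subgroupCongr ?_)).toEquiv.symm
    ext g
    rw [Subgroup.mem_map_equiv, Subgroup.mem_centralizer_singleton_iff,
      Subgroup.mem_centralizer_singleton_iff]
    constructor <;> intro h
    · simpa using congrArg θ0 h
    · apply θ0.injective; simpa using h
  have h3 : orderOf (θ0 H.zM) = 3 := by rw [MulEquiv.orderOf_eq, zM_three]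
  have htype := type_of_cent h3 hcard
  have h13 : (trn 13).cycleType = Multiset.replicate 3 3 := by
    refine type_of_cent ?_ card_cent_trn
    refine orderOf_eq_prime (Equiv.ext fun i => ?_) fun e => ?_
    · simp only [pow_succ, pow_zero, one_mul, Perm.mul_apply, trn_table, Perm.one_apply]
      revert i; decide +kernel
    · exact absurd ((trn_table 13 0).symm.trans (Equiv.ext_iff.1 e 0)) (by decide +kernel)
  obtain ⟨π0, hπ0⟩ := isConj_iff.1 (Perm.isConj_iff_cycleType_eq.2 (htype.trans h13.symm))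
  set θ1 : H.XM ≃* Perm (Fin 9) := θ0.trans (MulAut.conj π0) with hθ1
  have hz : θ1 H.zM = trn 13 := hπ0
  -- translations
  have hA : ∀ v, ∃ u, trn u = θ1 (H.em v) := fun v => by
    refine (abelian_trn (H.JM.map θ1.toMonoidHom) ?_ ?_ ?_ ?_).1 ⟨_, em_mem v, rfl⟩
    · rintro _ ⟨g, hg, rfl⟩
      rw [← hz, MulEquiv.coe_toMonoidHom, ← map_mul, ← map_mul,
        Subgroup.mem_centralizer_singleton_iff.1 (JM_le hg)]
    · rintro _ ⟨a, ha, rfl⟩ _ ⟨b, hb, rfl⟩
      rw [MulEquiv.coe_toMonoidHom, ← map_mul, ← map_mul]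
      haveI := JM_comm (H := H)
      exact congrArg θ1 (setLike_mul_comm (S := Subgroup H.XM) ha hb)
    · rintro _ ⟨a, ha, rfl⟩
      rw [← map_pow, JM_exp a ha, map_one]
    · rw [Subgroup.card_map_of_injective θ1.injective, JM_card]
  have hrm : ∀ {r : G} {f : JV → JV}, H.Nrm r f → f ⟨0, 0, 1, 0⟩ = ⟨0, 0, 1, 0⟩ → r ∈ H.Cm := by
    intro r f hr hf
    refine Subgroup.mem_centralizer_singleton_iff.2 (mul_inv_eq_iff_eq_mul.1 ?_)
    rw [mEl, hr, hf]
  have hm1 := hrm R.nrm1 (by decide)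
  have hm2 := hrm R.nrm2 (by decide)
  have hm3 := hrm R.nrm3 (by decide)
  have hconj : ∀ {r : G} {f : JV → JV} (hr : H.Nrm r f) (hm : r ∈ H.Cm) (v : JV),
      QuotientGroup.mk' H.mSub ⟨r, hm⟩ * H.em v * (QuotientGroup.mk' H.mSub ⟨r, hm⟩)⁻¹ = H.em (f v) := by
    intro r f hr hm v
    rw [em, em, ← map_inv, ← map_mul, ← map_mul]
    exact congrArg _ (Subtype.ext (hr v))
  choose u hu using hA
  have hcombo : (combo (u (nineE 0)) (u (nineE 1)) (u (nineE 2))).all (fun w => (w : Fin 27) ∈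
      ([13, 14, 16, 17, 22, 23, 25, 26] : List (Fin 27))) = true := by
    have hn : ∀ v : JV, trn (nv (u v)) = θ1 (H.em (jn v)) := fun v => by
      rw [em_jn, map_inv, ← hu]
      refine eq_inv_of_mul_eq_one_left ?_
      rw [← trn_add, (av_zero _).2.2, trn_zero]
    have hj : ∀ v w x : JV, trn (av (u v) (av (u w) (u x))) = θ1 (H.em (ja v (ja w x))) := fun v w x => by
      rw [trn_add, trn_add, hu, hu, hu, em_ja, em_ja, map_mul, map_mul]
    have hn' : ∀ v, trn (nv (u v)) = trn (u (jn v)) := fun v => by rw [hn, hu]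
    have hfree : ∀ v ∈ comboJ, ∀ w : Fin 27, trn w = θ1 (H.em v) →
        w ∈ ([13, 14, 16, 17, 22, 23, 25, 26] : List (Fin 27)) := by
      intro v hv w hw
      refine free_trn w fun i hi => ?_
      obtain ⟨o, j, s, rfl⟩ := comboJ_z v hv
      rw [em_mline] at hw
      have hzp : ∀ s : Bool, ∀ i, θ1 (H.em (cond s (jn ⟨1, 0, 0, 0⟩) ⟨1, 0, 0, 0⟩)) i ≠ i := by
        intro s
        cases s
        · intro i; rw [cond_false, emb_eE, hz, trn_table]; revert i; decide +kernel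
        · intro i e
          rw [cond_true, em_jn, map_inv, emb_eE, hz, Perm.inv_eq_iff_eq, trn_table] at e
          revert e; revert i; decide +kernel
      have hc : ∀ (q : H.XM) (x : H.XM), (∀ i, θ1 x i ≠ i) → ∀ i, θ1 (q * x * q⁻¹) i ≠ i := by
        intro q x hx i e
        rw [map_mul, map_mul, map_inv, Perm.mul_apply, Perm.mul_apply, ← Perm.eq_inv_iff_eq] at e
        exact hx _ e
      have hne : ∀ i, θ1 (H.em (![id, R1J, R2J, R3J] o
          (cond s (jn ⟨1, 0, 0, 0⟩) ⟨1, 0, 0, 0⟩))) i ≠ i := by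
        fin_cases o
        · exact hzp s
        · exact fun i => hconj R.nrm1 hm1 _ ▸ hc _ _ (hzp s) i
        · exact fun i => hconj R.nrm2 hm2 _ ▸ hc _ _ (hzp s) i
        · exact fun i => hconj R.nrm3 hm3 _ ▸ hc _ _ (hzp s) i
      exact hne i (by rw [← hw, trn_table]; exact hi)
    simp only [combo, List.all_cons, List.all_nil, Bool.and_true, Bool.and_eq_true, decide_eq_true_eq]
    refine ⟨hfree (ja (nineE 0) (ja (nineE 1) (nineE 2))) (by simp [comboJ]) _ (hj _ _ _),
      hfree (ja (nineE 0) (ja (nineE 1) (jn (nineE 2)))) (by simp [comboJ]) _ ?_,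
      hfree (ja (nineE 0) (ja (jn (nineE 1)) (nineE 2))) (by simp [comboJ]) _ ?_,
      hfree (ja (jn (nineE 0)) (ja (nineE 1) (nineE 2))) (by simp [comboJ]) _ ?_⟩
    · rw [trn_add, trn_add, hn', ← trn_add, ← trn_add, hj]
    · rw [trn_add, trn_add, hn', ← trn_add, ← trn_add, hj]
    · rw [trn_add, trn_add, hn', ← trn_add, ← trn_add, hj]
  have hune : ∀ i, u (nineE i) ≠ 0 := by
    intro i e0
    have h1 : H.em (nineE i) = 1 := θ1.injective (by rw [← hu, e0, trn_zero, map_one])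
    obtain ⟨j, hj⟩ := H.mem_mzp.1 (show H.emb (nineE i) ∈ Subgroup.zpowers H.mEl from
      (QuotientGroup.eq_one_iff (⟨H.emb (nineE i), H.emb_mem_Cm _⟩ : H.Cm)).1 h1)
    have := congrArg JV.c (H.emb_inj hj)
    fin_cases i <;> exact absurd this (show (1 : ZMod 3) ≠ 0 by decide)
  obtain ⟨s, a, h0, h1, h2⟩ := monomial _ _ _ (hune 0) (hune 1) (hune 2) hcombo
  set μ : Perm (Fin 9) := blk a * negP s
  set θ2 : H.XM ≃* Perm (Fin 9) := θ1.trans (MulAut.conj μ⁻¹) with hθ2
  have hμ : ∀ v w, pa a (negV s w) = u v → θ2 (H.em v) = trn w := by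
    intro v w h
    show μ⁻¹ * θ1 (H.em v) * μ⁻¹⁻¹ = _
    rw [← hu, ← h, ← blk_conj, ← negP_conj, inv_inv]
    simp only [μ]
    group
  have hE : ∀ i, θ2 (H.em (nineE i)) = nineT i := by
    intro i
    fin_cases i
    exacts [hμ _ _ h0, hμ _ _ h1, hμ _ _ h2]
  -- the image of the reflection
  set π := θ2 (QuotientGroup.mk' H.mSub ⟨R.r1, hm1⟩) with hπ
  have hact : ∀ v, π * θ2 (H.em v) * π⁻¹ = θ2 (H.em (R1J v)) := fun v => by
    rw [hπ, ← map_inv, ← map_mul, ← map_mul, hconj R.nrm1 hm1]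
  set N1 := negP (true, false, false)
  obtain ⟨hs13, hf0, hf1, hf2⟩ := units_sum
  have hR1 : R1J (nineE 0) = jn (nineE 0) ∧ R1J (nineE 1) = nineE 1 ∧ R1J (nineE 2) = nineE 2 := by
    decide
  have trn_nv : ∀ v, trn (nv v) = (trn v)⁻¹ := fun v =>
    eq_inv_of_mul_eq_one_left (by rw [← trn_add, (av_zero _).2.2, trn_zero])
  have hN : N1⁻¹ = N1 := by decide +kernel
  have hcu : ∀ i, π * N1 * nineT i = nineT i * (π * N1) := by
    have hc : ∀ i, N1 * nineT i * N1⁻¹ = π * nineT i * π⁻¹ := by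
      intro i
      fin_cases i
      · show N1 * trn (vec 2 0 0) * N1⁻¹ = π * nineT 0 * π⁻¹
        rw [negP_conj, hf0, ← hE, hact, hR1.1, em_jn, map_inv, hE, trn_nv]
        rfl
      · show N1 * trn (vec 0 1 0) * N1⁻¹ = π * nineT 1 * π⁻¹
        rw [negP_conj, hf1, ← hE, hact, hR1.2.1, hE]
        rfl
      · show N1 * trn (vec 0 0 1) * N1⁻¹ = π * nineT 2 * π⁻¹
        rw [negP_conj, hf2, ← hE, hact, hR1.2.2, hE]
        rfl
    intro i
    have hπ2 : π * π = 1 := by
      rw [hπ, ← map_mul, ← map_mul]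
      exact (congrArg (fun x => θ2 (QuotientGroup.mk' H.mSub x)) (Subtype.ext R.sq1 :
        (⟨R.r1, hm1⟩ * ⟨R.r1, hm1⟩ : H.Cm) = 1)).trans (by simp)
    calc π * N1 * nineT i = π * (N1 * nineT i * N1⁻¹) * N1 := by group
      _ = π * π * nineT i * π⁻¹ * N1 := by rw [hc]; group
      _ = nineT i * (π * N1) := by rw [hπ2, inv_eq_of_mul_eq_one_right hπ2]; group
  have hu13 : trn 13 = (nineT 0)⁻¹ * (nineT 1 * nineT 2) := by
    show _ = (trn (vec 2 0 0))⁻¹ * (trn (vec 0 1 0) * trn (vec 0 0 1))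
    rw [← hs13, trn_add, trn_add, trn_nv]
  obtain ⟨v, b, hvb⟩ := exists_mdl (g := π * N1) (by
    rw [hu13]
    exact (((show Commute (π * N1) (nineT 0) from hcu 0).inv_right).mul_right
      ((show Commute (π * N1) (nineT 1) from hcu 1).mul_right (hcu 2))).eq)
  have hfix : ∀ i w, nineT i = trn w → pa b w = w := by
    intro i w hw
    have := hcu i
    rw [hvb, hw, ← mdl_trn w, mdl_mul, mdl_mul, (pa_table.1 v)] at this
    have h' := (mdl_inj this).1
    have hcancel : ∀ x y z : Fin 27, av x y = av z x → y = z := by decide +kernel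
    exact hcancel _ _ _ h'
  obtain rfl : b = 0 := units_fix b (hfix 0 _ rfl) (hfix 1 _ rfl)
  have hπv : π = trn v * N1 := by
    rw [mdl_trn] at hvb
    rw [← hvb, mul_assoc, show N1 * N1 = 1 by decide +kernel, mul_one]
  have hv : av v (negV (true, false, false) v) = 0 := by
    have h1 : π * π = 1 := by
      rw [hπ, ← map_mul, ← map_mul]
      exact (congrArg (fun x => θ2 (QuotientGroup.mk' H.mSub x)) (Subtype.ext R.sq1 :
        (⟨R.r1, hm1⟩ * ⟨R.r1, hm1⟩ : H.Cm) = 1)).trans (by simp)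
    rw [hπv] at h1
    have h2 : trn (av v (negV (true, false, false) v)) = trn 0 := by
      rw [trn_zero, ← h1, trn_add, ← negP_conj, show (negP (true, false, false))⁻¹ = N1 from hN]
      show trn v * (N1 * trn v * N1) = _
      group
    refine (mdl_inj (a := 0) (b := 0) ?_).1
    rw [mdl_trn, mdl_trn, h2]
  set θ3 : H.XM ≃* Perm (Fin 9) := θ2.trans (MulAut.conj (trn v)) with hθ3
  refine ⟨θ3, fun i => ?_, hm1, ?_⟩
  · show trn v * θ2 (H.em (nineE i)) * (trn v)⁻¹ = _
    rw [hE]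
    have hcm : ∀ w, trn v * trn w * (trn v)⁻¹ = trn w := fun w => by
      rw [← trn_add, (show ∀ x y : Fin 27, av x y = av y x by decide +kernel) v w, trn_add,
        mul_inv_cancel_right]
    fin_cases i <;> exact hcm _
  · show trn v * π * (trn v)⁻¹ = swap 1 2
    rw [hπv, ← trn_nv]
    have e : trn v * (trn v * N1) * trn (nv v) =
        trn (av v (av v (negV (true, false, false) (nv v)))) * N1 := by
      rw [trn_add, trn_add, ← negP_conj]; simp only [N1]; group
    rw [e, show negV (true, false, false) (nv v) = nv (negV (true, false, false) v) from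
      (show ∀ x, negV (true, false, false) (nv x) = nv (negV (true, false, false) x) by decide +kernel) v,
      inv_solve v hv, trn_zero, one_mul]
    decide +kernel

/-- The involutions in the centralizer of `m₁` when its factor group is `S₉`. -/
theorem Good.nine_data (hG : H.Good) (he : H.ext = true) (R : Refl H)
    (hY : Nonempty (H.XM ≃* Perm (Fin 9))) :
    ∃ v : Fin 2 → G, (∀ i, v i * v i = 1 ∧ v i * R.r1 = R.r1 * v i ∧ v i * H.mEl = H.mEl * v i) ∧
      v 0 * H.emb (nineE 1) = H.emb (nineE 1) * v 0 ∧ v 1 * H.emb (nineE 2) = H.emb (nineE 2) * v 1 ∧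
      v 0 * H.emb (nineE 2) ≠ H.emb (nineE 2) * v 0 ∧ v 1 * H.emb (nineE 1) ≠ H.emb (nineE 1) * v 1 ∧
      v 0 * (H.emb (nineE 2) * v 0 * (H.emb (nineE 2))⁻¹) =
        H.emb (nineE 2) * v 0 * (H.emb (nineE 2))⁻¹ * v 0 ∧
      v 1 * (H.emb (nineE 1) * v 1 * (H.emb (nineE 1))⁻¹) =
        H.emb (nineE 1) * v 1 * (H.emb (nineE 1))⁻¹ * v 1 ∧
      ∀ k : Fin 2, ∃ j : ZMod 3, (v 0 * v 1) ^ 3 * H.emb (nineE k.succ) * ((v 0 * v 1) ^ 3)⁻¹ =
        H.emb (ja (jn (nineE k.succ)) ⟨0, 0, j, 0⟩) := by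
  obtain ⟨θ, hE, hm1, hr⟩ := hG.nine_map he R hY
  obtain ⟨hsq, c0, c1, n0, n1, k0, k1, y1, y2⟩ := nine_perm
  set π := QuotientGroup.mk' H.mSub
  have hlift : ∀ i, ∃ g : H.Cm, g * g = 1 ∧ θ (π g) = nineVp i := by
    intro i
    obtain ⟨g, hg⟩ := QuotientGroup.mk'_surjective H.mSub (θ.symm (nineVp i))
    have hg2 : g * g ∈ H.mSub := (QuotientGroup.eq_one_iff _).1 (by
      show π (g * g) = 1
      rw [map_mul, hg, ← map_mul, (hsq i).1, map_one])
    refine ⟨g ^ 3, ?_, ?_⟩
    · have h3 : (g * g) ^ 3 = 1 := by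
        obtain ⟨k, hk⟩ := Subgroup.mem_zpowers_iff.1 (show ((g * g : H.Cm) : G) ∈ Subgroup.zpowers H.mEl from hg2)
        refine Subtype.ext ?_
        rw [SubgroupClass.coe_pow, ← hk, ← zpow_natCast, ← zpow_mul, mul_comm, zpow_mul, zpow_natCast,
          H.mEl_cube, one_zpow]
        rfl
      rw [← h3, ← pow_add, ← pow_two, ← pow_mul]
    · rw [map_pow, map_pow, hg, MulEquiv.apply_symm_apply, pow_succ, pow_two, (hsq i).1, one_mul]
  choose g hg2 hgθ using hlift
  set e : Fin 3 → H.Cm := fun i => ⟨H.emb (nineE i), H.emb_mem_Cm _⟩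
  have he' : ∀ i, θ (π (e i)) = nineT i := hE
  have hexact : ∀ i (x : H.Cm), nineVp i * θ (π x) = θ (π x) * nineVp i → g i * x = x * g i := by
    intro i x h
    refine exact_comm (hg2 i) (θ.injective ?_)
    simp only [map_mul]
    rw [hgθ]; exact h
  have hne : ∀ i j, nineVp i * nineT j ≠ nineT j * nineVp i →
      (g i : G) * H.emb (nineE j) ≠ H.emb (nineE j) * g i := by
    intro i j h e'
    refine h ?_
    have := congrArg (fun x => θ (π x)) (Subtype.ext e' : g i * e j = e j * g i)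
    simp only [map_mul] at this
    rwa [hgθ, he'] at this
  refine ⟨fun i => (g i : G), fun i => ⟨congrArg Subtype.val (hg2 i), ?_, ?_⟩, ?_, ?_, hne 0 2 n0, hne 1 1 n1,
    ?_, ?_, fun k => ?_⟩
  · exact congrArg Subtype.val (hexact i ⟨R.r1, hm1⟩ (by rw [hr]; exact (hsq i).2))
  · exact Subgroup.mem_centralizer_singleton_iff.1 (g i).2
  · exact congrArg Subtype.val (hexact 0 (e 1) (by rw [he']; exact c0))
  · exact congrArg Subtype.val (hexact 1 (e 2) (by rw [he']; exact c1))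
  · exact congrArg Subtype.val (hexact 0 (e 2 * g 0 * (e 2)⁻¹) (by
      simp only [map_mul, map_inv, he', hgθ]; exact k0))
  · exact congrArg Subtype.val (hexact 1 (e 1 * g 1 * (e 1)⁻¹) (by
      simp only [map_mul, map_inv, he', hgθ]; exact k1))
  · set y := (g 0 * g 1) ^ 3
    set w := y * e k.succ * y⁻¹
    have hw : θ (π w) = (nineT k.succ)⁻¹ := by
      simp only [w, y, map_mul, map_inv, map_pow, he', hgθ]
      rw [mul_inv_eq_iff_eq_mul]
      fin_cases k
      · exact y1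
      · exact y2
    have h1 : π (e k.succ)⁻¹ = π w := θ.injective (by rw [map_inv, map_inv, he', hw])
    obtain ⟨a, ha, e'⟩ := (QuotientGroup.mk'_eq_mk' H.mSub).1 h1
    obtain ⟨j, hj⟩ := H.mem_mzp.1 (show (a : G) ∈ Subgroup.zpowers H.mEl from ha)
    refine ⟨j, ?_⟩
    rw [H.emb_ja, H.emb_jn, ← hj]
    exact (congrArg Subtype.val e').symm

end Base

end CfsgLib.O8Three
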