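import Cfsg.Agent.O8Three.QuatPair
import Cfsg.Agent.CyclicNormal.Symplectic

/-!
# The extraspecial group of order `2^9`

`K` is the product of the quaternion group of `z` and its three conjugates under the reflections.
Only their commuting (`Refl.Comm`) is assumed, so the file is independent of the extension.
-/

set_option autoImplicit false
set_option maxRecDepth 100000
set_option linter.style.haveILetI false
set_option linter.unusedSectionVars false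

namespace CfsgLib.O8Three

open CfsgLib.PSpFourInvol (S sm si)
open Subgroup

universe u

theorem four_centre_iff : ∀ g : S, four g = true → (∀ h : S, four h = true → sm g h = sm h g) →
    g = 0 ∨ g = 1 := by decide +kernel

theorem four_comm : ∀ g h : S, four g = true → four h = true →
    (sm (sm g h) (si (sm h g)) = 0 ∨ sm (sm g h) (si (sm h g)) = 1) ∧ (sm g g = 0 ∨ sm g g = 1) := by
  decide +kernel

theorem four_noncomm : ∃ g h : S, four g = true ∧ four h = true ∧ sm g h ≠ sm h g := by decide +kernel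

theorem card_four : Fintype.card {g : S // four g = true} = 8 := by decide +kernel

/-- The maps of the four representatives. -/
def cJ : Fin 4 → JV → JV := ![id, R1J, R2J, R3J]

theorem cJ_facts : ∀ o v, cJ o (cJ o v) = v ∧ (v.b = 0 → (cJ o v).b = 0) := by decide +kernel

theorem cJ_two : ∀ o p : Fin 4, o ≠ p →
    (cJ o (cJ p ⟨1, 0, 0, 0⟩)).b = 0 ∧ (cJ o (cJ p ⟨1, 0, 0, 0⟩)).k ≠ 0 := by decide +kernel

theorem cJ_a : (cJ 0 ⟨0, 1, 0, 0⟩).k = 0 ∧ (cJ 1 ⟨0, 1, 0, 0⟩).k = 0 ∧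
    (cJ 2 ⟨0, 1, 0, 0⟩).k ≠ 0 ∧ (cJ 3 ⟨0, 1, 0, 0⟩).k ≠ 0 := by decide +kernel

theorem triple_z : R1J (R2J (R3J ⟨1, 0, 0, 0⟩)) = jn ⟨1, 0, 0, 0⟩ := by decide +kernel

namespace Base

variable {G : Type u} [Group G] {H : Base G}

theorem Qsub_rep {x : G} (hx : x ∈ H.Qsub) : ∃ g : S, four g = true ∧ H.par ⟨0, v0, g⟩ = x := by
  obtain ⟨_, ⟨g, hg, rfl⟩, rfl⟩ := hx
  exact ⟨g, hg, rfl⟩

theorem t_mem_Qsub : H.t ∈ H.Qsub := ⟨tT, ⟨1, rfl, rfl⟩, rfl⟩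

theorem Qsub_pm {g : S} (h : g = 0 ∨ g = 1) :
    H.par ⟨0, v0, g⟩ = 1 ∨ H.par ⟨0, v0, g⟩ = H.t := by
  rcases h with rfl | rfl
  · exact Or.inl (map_one H.par)
  · exact Or.inr rfl

theorem Qsub_fix {x : G} (hx : x ∈ H.Qsub) {v : JV} (hb : v.b = 0) (hk : v.k = 0) :
    H.emb v * x = x * H.emb v := by
  obtain ⟨g, hg, rfl⟩ := Qsub_rep hx
  rw [emb, ← map_mul, ← map_mul, (q_check' g hg v).1 hb hk]

theorem Qsub_free {x : G} (hx : x ∈ H.Qsub) {v : JV} (hb : v.b = 0) (hk : v.k ≠ 0)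
    (h : H.emb v * x * (H.emb v)⁻¹ * x⁻¹ = 1 ∨ H.emb v * x * (H.emb v)⁻¹ * x⁻¹ = H.t) :
    x = 1 ∨ x = H.t := by
  obtain ⟨g, hg, rfl⟩ := Qsub_rep hx
  refine Qsub_pm ((q_check' g hg v).2 hb hk (h.imp (fun e => H.inj ?_) fun e => H.inj ?_))
  · rw [map_mul, map_mul, map_mul, map_inv, map_inv, map_one]; exact e
  · rw [map_mul, map_mul, map_mul, map_inv, map_inv]; exact e

variable (R : Refl H)

/-- The representatives `1, r₁, r₂, r₃`. -/
def Refl.cc : Fin 4 → G := ![1, R.r1, R.r2, R.r3]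

/-- The four quaternion groups. -/
def Refl.U (o : Fin 4) : Subgroup G := H.Qsub.map (MulAut.conj (R.cc o)).toMonoidHom

/-- The extraspecial group. -/
def Refl.K : Subgroup G := R.U 0 ⊔ R.U 1 ⊔ R.U 2 ⊔ R.U 3

/-- The four quaternion groups commute. -/
def Refl.Comm : Prop := ∀ i : Fin 3, ∀ p ∈ H.Qsub, ∀ q ∈ H.Qsub,
  p * (R.rr i * q * (R.rr i)⁻¹) = R.rr i * q * (R.rr i)⁻¹ * p

theorem Refl.cc_nrm : ∀ o, H.Nrm (R.cc o) (cJ o)
  | 0 => Nrm.one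
  | 1 => R.nrm1
  | 2 => R.nrm2
  | 3 => R.nrm3

theorem Refl.cc_t : ∀ o, R.cc o * H.t = H.t * R.cc o
  | 0 => by show 1 * _ = _ * 1; rw [one_mul, mul_one]
  | 1 => R.comm1
  | 2 => R.comm2
  | 3 => R.comm3

theorem Refl.cc_t' (o : Fin 4) : R.cc o * H.t * (R.cc o)⁻¹ = H.t := by
  rw [R.cc_t, mul_inv_cancel_right]

theorem Refl.mem_U {o : Fin 4} {x : G} :
    x ∈ R.U o ↔ ∃ q ∈ H.Qsub, R.cc o * q * (R.cc o)⁻¹ = x := Iff.rfl

theorem Refl.t_mem_U (o : Fin 4) : H.t ∈ R.U o := R.mem_U.2 ⟨H.t, t_mem_Qsub, R.cc_t' o⟩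

theorem Refl.t_mem_K : H.t ∈ R.K :=
  mem_sup_right (R.t_mem_U 3)

theorem Refl.U_le (o : Fin 4) : R.U o ≤ R.K := by
  match o with
  | 0 => exact le_sup_left.trans (le_sup_left.trans le_sup_left)
  | 1 => exact le_sup_right.trans (le_sup_left.trans le_sup_left)
  | 2 => exact le_sup_right.trans le_sup_left
  | 3 => exact le_sup_right

variable [Finite G]

/-- The product of the three reflections inverts `z`. -/
theorem Refl.triple_q {q : G} (hq : q ∈ H.Qsub) :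
    R.r1 * R.r2 * R.r3 * q * (R.r1 * R.r2 * R.r3)⁻¹ ∈ H.Qsub := by
  refine H.Qsub_conj ?_ (Or.inr ?_) hq
  · exact (((show Commute R.r1 H.t from R.comm1).mul_left R.comm2).mul_left R.comm3).eq
  · rw [H.emb_zT, ((R.nrm1.mul R.nrm2).mul R.nrm3), ← H.emb_jn]
    exact congrArg H.emb triple_z

theorem Refl.rr_mul : ∀ i j : Fin 3, i ≠ j →
    ∃ k, R.rr i * R.rr j = R.rr k * (R.r1 * R.r2 * R.r3) := by
  have c12 := R.comm12
  have c23 := R.comm23
  have c31 := R.comm31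
  have h3 : R.r1 * R.r2 = R.r3 * (R.r1 * R.r2 * R.r3) := by
    rw [← mul_assoc, ← mul_assoc, c31, mul_assoc R.r1, ← c23, ← mul_assoc, mul_assoc _ R.r3, R.sq3, mul_one]
  have h1 : R.r2 * R.r3 = R.r1 * (R.r1 * R.r2 * R.r3) := by
    rw [← mul_assoc, ← mul_assoc, R.sq1, one_mul]
  have h2 : R.r1 * R.r3 = R.r2 * (R.r1 * R.r2 * R.r3) := by
    rw [← mul_assoc, ← mul_assoc, ← c12, mul_assoc R.r1, R.sq2, mul_one]
  intro i j hij
  match i, j with
  | 0, 0 => exact absurd rfl hij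
  | 1, 1 => exact absurd rfl hij
  | 2, 2 => exact absurd rfl hij
  | 0, 1 => exact ⟨2, h3⟩
  | 1, 0 => exact ⟨2, c12.symm.trans h3⟩
  | 1, 2 => exact ⟨0, h1⟩
  | 2, 1 => exact ⟨0, c23.symm.trans h1⟩
  | 0, 2 => exact ⟨1, h2⟩
  | 2, 0 => exact ⟨1, c31.trans h2⟩

variable {R}

theorem Refl.Comm.swap (hR : R.Comm) (i : Fin 3) {p q : G} (hp : p ∈ H.Qsub) (hq : q ∈ H.Qsub) :
    R.rr i * p * (R.rr i)⁻¹ * q = q * (R.rr i * p * (R.rr i)⁻¹) := (hR i q hq p hp).symm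

theorem Refl.Comm.pair (hR : R.Comm) {i j : Fin 3} (hij : i ≠ j) {p q : G} (hp : p ∈ H.Qsub)
    (hq : q ∈ H.Qsub) : R.rr i * p * (R.rr i)⁻¹ * (R.rr j * q * (R.rr j)⁻¹) =
      R.rr j * q * (R.rr j)⁻¹ * (R.rr i * p * (R.rr i)⁻¹) := by
  obtain ⟨k, hk⟩ := R.rr_mul i j hij
  set n := R.r1 * R.r2 * R.r3
  have h := hR k p hp _ (R.triple_q hq)
  have e : R.rr i * R.rr j * q * (R.rr i * R.rr j)⁻¹ = R.rr k * (n * q * n⁻¹) * (R.rr k)⁻¹ := by
    rw [hk]; group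
  rw [← e] at h
  have hi := R.inv_eq i
  calc R.rr i * p * (R.rr i)⁻¹ * (R.rr j * q * (R.rr j)⁻¹)
      = R.rr i * (p * (R.rr i * R.rr j * q * (R.rr i * R.rr j)⁻¹)) * (R.rr i)⁻¹ := by
        rw [hi, mul_inv_rev, hi]
        simp only [mul_assoc, R.sq, mul_one]
    _ = R.rr i * (R.rr i * R.rr j * q * (R.rr i * R.rr j)⁻¹ * p) * (R.rr i)⁻¹ := by rw [h]
    _ = _ := by
        rw [mul_inv_rev, hi]
        simp only [← mul_assoc, R.sq, one_mul]

theorem Refl.Comm.U_comm (hR : R.Comm) {o p : Fin 4} (hop : o ≠ p) {x y : G} (hx : x ∈ R.U o)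
    (hy : y ∈ R.U p) : x * y = y * x := by
  obtain ⟨a, ha, rfl⟩ := R.mem_U.1 hx
  obtain ⟨b, hb, rfl⟩ := R.mem_U.1 hy
  have e0 : ∀ q : G, R.cc 0 * q * (R.cc 0)⁻¹ = q := fun q => by
    show (1 : G) * q * (1 : G)⁻¹ = q; group
  match o, p with
  | 0, 0 => exact absurd rfl hop
  | 1, 1 => exact absurd rfl hop
  | 2, 2 => exact absurd rfl hop
  | 3, 3 => exact absurd rfl hop
  | 0, 1 => rw [e0]; exact hR 0 a ha b hb
  | 0, 2 => rw [e0]; exact hR 1 a ha b hb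
  | 0, 3 => rw [e0]; exact hR 2 a ha b hb
  | 1, 0 => rw [e0]; exact hR.swap 0 ha hb
  | 2, 0 => rw [e0]; exact hR.swap 1 ha hb
  | 3, 0 => rw [e0]; exact hR.swap 2 ha hb
  | 1, 2 => exact hR.pair (i := 0) (j := 1) (by decide) ha hb
  | 1, 3 => exact hR.pair (i := 0) (j := 2) (by decide) ha hb
  | 2, 1 => exact hR.pair (i := 1) (j := 0) (by decide) ha hb
  | 2, 3 => exact hR.pair (i := 1) (j := 2) (by decide) ha hb
  | 3, 1 => exact hR.pair (i := 2) (j := 0) (by decide) ha hb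
  | 3, 2 => exact hR.pair (i := 2) (j := 1) (by decide) ha hb

/-- Elements of the four quaternion groups, multiplied. -/
def Refl.fU (R : Refl H) (o : Fin 4) : H.Qsub →* G := (MulAut.conj (R.cc o)).toMonoidHom.comp H.Qsub.subtype

theorem Refl.fU_mem (R : Refl H) (o : Fin 4) (q : H.Qsub) : R.fU o q ∈ R.U o := R.mem_U.2 ⟨q, q.2, rfl⟩

/-- The multiplication map onto `K`. -/
def Refl.Comm.phi (hR : R.Comm) : (Fin 4 → H.Qsub) →* G :=
  MonoidHom.mk' (fun q => R.fU 0 (q 0) * R.fU 1 (q 1) * R.fU 2 (q 2) * R.fU 3 (q 3)) fun p q => by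
    simp only [Pi.mul_apply, map_mul]
    set a0 := R.fU 0 (p 0)
    set a1 := R.fU 1 (p 1)
    set a2 := R.fU 2 (p 2)
    set a3 := R.fU 3 (p 3)
    set b0 := R.fU 0 (q 0)
    set b1 := R.fU 1 (q 1)
    set b2 := R.fU 2 (q 2)
    set b3 := R.fU 3 (q 3)
    have c10 : b0 * a1 = a1 * b0 := hR.U_comm (by decide) (R.fU_mem 0 _) (R.fU_mem 1 _)
    have c20 : b0 * a2 = a2 * b0 := hR.U_comm (by decide) (R.fU_mem 0 _) (R.fU_mem 2 _)
    have c30 : b0 * a3 = a3 * b0 := hR.U_comm (by decide) (R.fU_mem 0 _) (R.fU_mem 3 _)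
    have c21 : b1 * a2 = a2 * b1 := hR.U_comm (by decide) (R.fU_mem 1 _) (R.fU_mem 2 _)
    have c31 : b1 * a3 = a3 * b1 := hR.U_comm (by decide) (R.fU_mem 1 _) (R.fU_mem 3 _)
    have c32 : b2 * a3 = a3 * b2 := hR.U_comm (by decide) (R.fU_mem 2 _) (R.fU_mem 3 _)
    calc a0 * b0 * (a1 * b1) * (a2 * b2) * (a3 * b3)
        = a0 * (b0 * a1) * (b1 * a2) * (b2 * a3) * b3 := by group
      _ = a0 * (a1 * b0) * (a2 * b1) * (a3 * b2) * b3 := by rw [c10, c21, c32]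
      _ = a0 * a1 * (b0 * a2) * (b1 * a3) * b2 * b3 := by group
      _ = a0 * a1 * (a2 * b0) * (a3 * b1) * b2 * b3 := by rw [c20, c31]
      _ = a0 * a1 * a2 * (b0 * a3) * b1 * b2 * b3 := by group
      _ = a0 * a1 * a2 * (a3 * b0) * b1 * b2 * b3 := by rw [c30]
      _ = _ := by group

theorem Refl.Comm.phi_apply (hR : R.Comm) (q : Fin 4 → H.Qsub) :
    hR.phi q = R.fU 0 (q 0) * R.fU 1 (q 1) * R.fU 2 (q 2) * R.fU 3 (q 3) := rfl

theorem Refl.Comm.range_phi (hR : R.Comm) : hR.phi.range = R.K := by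
  classical
  refine le_antisymm ?_ ?_
  · rintro _ ⟨q, rfl⟩
    rw [hR.phi_apply]
    exact mul_mem (mul_mem (mul_mem (R.U_le 0 (R.fU_mem 0 _)) (R.U_le 1 (R.fU_mem 1 _)))
      (R.U_le 2 (R.fU_mem 2 _))) (R.U_le 3 (R.fU_mem 3 _))
  · have h : ∀ o, R.U o ≤ hR.phi.range := by
      intro o x hx
      obtain ⟨q, hq, rfl⟩ := R.mem_U.1 hx
      refine ⟨Pi.mulSingle o ⟨q, hq⟩, ?_⟩
      rw [hR.phi_apply]
      fin_cases o <;> simp [Refl.fU, Pi.mulSingle_apply]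
    exact sup_le (sup_le (sup_le (h 0) (h 1)) (h 2)) (h 3)

theorem Refl.Comm.K_cent (hR : R.Comm) {x : G} (hx : x ∈ R.K) : x * H.t = H.t * x := by
  refine mem_centralizer_singleton_iff.1 ?_
  revert x
  have h : ∀ o, R.U o ≤ centralizer ({H.t} : Set G) := by
    intro o x hx
    obtain ⟨q, hq, rfl⟩ := R.mem_U.1 hx
    rw [mem_centralizer_singleton_iff]
    have h1 := (H.mem_Qsub_iff.1 hq).2.1
    calc R.cc o * q * (R.cc o)⁻¹ * H.t = R.cc o * q * (R.cc o)⁻¹ * (R.cc o * H.t * (R.cc o)⁻¹) := by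
          rw [R.cc_t']
      _ = R.cc o * (q * H.t) * (R.cc o)⁻¹ := by group
      _ = R.cc o * (H.t * q) * (R.cc o)⁻¹ := by rw [h1]
      _ = R.cc o * H.t * (R.cc o)⁻¹ * (R.cc o * q * (R.cc o)⁻¹) := by group
      _ = _ := by rw [R.cc_t']
  exact fun {x} hx => (sup_le (sup_le (sup_le (h 0) (h 1)) (h 2)) (h 3) : R.K ≤ _) hx

variable (R)

theorem Refl.conj_back (o : Fin 4) (v : JV) : (R.cc o)⁻¹ * H.emb v * R.cc o = H.emb (cJ o v) := by
  have := R.cc_nrm o (cJ o v)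
  rw [(cJ_facts o v).1] at this
  rw [← this]; group

/-- `A` normalises each quaternion group. -/
theorem Refl.U_norm {o : Fin 4} {v : JV} (hb : v.b = 0) {x : G} (hx : x ∈ R.U o) :
    H.emb v * x * (H.emb v)⁻¹ ∈ R.U o := by
  obtain ⟨q, hq, rfl⟩ := R.mem_U.1 hx
  have hv := (cJ_facts o v).2 hb
  have ht : H.emb (cJ o v) * H.t = H.t * H.emb (cJ o v) := by
    have hf : tJ (cJ o v) = cJ o v := JV.ext rfl rfl (by show -(cJ o v).b = _; rw [hv, neg_zero]) rfl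
    have h := H.nrm_t (cJ o v)
    rw [hf] at h
    exact (mul_inv_eq_iff_eq_mul.1 h).symm
  have hz : H.emb (cJ o v) * H.z * (H.emb (cJ o v))⁻¹ = H.z := by
    rw [H.emb_zT, H.emb_comm, mul_inv_cancel_right]
  refine R.mem_U.2 ⟨_, H.Qsub_conj ht (Or.inl hz) hq, ?_⟩
  rw [← R.conj_back o v]
  group

theorem Refl.U_inter {o p : Fin 4} (hop : o ≠ p) {x : G} (h1 : x ∈ R.U o) (h2 : x ∈ R.U p) :
    x = 1 ∨ x = H.t := by
  obtain ⟨q, hq, rfl⟩ := R.mem_U.1 h1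
  obtain ⟨q', hq', e⟩ := R.mem_U.1 h2
  obtain ⟨hb, hk⟩ := cJ_two o p hop
  have hz' := (H.mem_Qsub_iff.1 hq').2.2.2
  have hcx : R.cc o * q * (R.cc o)⁻¹ * H.emb (cJ p ⟨1, 0, 0, 0⟩) =
      H.emb (cJ p ⟨1, 0, 0, 0⟩) * (R.cc o * q * (R.cc o)⁻¹) := by
    rw [← e, ← R.cc_nrm p ⟨1, 0, 0, 0⟩, ← H.emb_zT]
    calc R.cc p * q' * (R.cc p)⁻¹ * (R.cc p * H.z * (R.cc p)⁻¹) = R.cc p * (q' * H.z) * (R.cc p)⁻¹ := by group
      _ = R.cc p * (H.z * q') * (R.cc p)⁻¹ := by rw [hz']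
      _ = _ := by group
  have hc : H.emb (cJ o (cJ p ⟨1, 0, 0, 0⟩)) * q = q * H.emb (cJ o (cJ p ⟨1, 0, 0, 0⟩)) := by
    rw [← R.conj_back]
    calc (R.cc o)⁻¹ * H.emb (cJ p ⟨1, 0, 0, 0⟩) * R.cc o * q
        = (R.cc o)⁻¹ * (H.emb (cJ p ⟨1, 0, 0, 0⟩) * (R.cc o * q * (R.cc o)⁻¹)) * R.cc o := by group
      _ = (R.cc o)⁻¹ * (R.cc o * q * (R.cc o)⁻¹ * H.emb (cJ p ⟨1, 0, 0, 0⟩)) * R.cc o := by rw [hcx]
      _ = _ := by group
  rcases Qsub_free hq hb hk (Or.inl (by rw [hc, mul_inv_cancel_right, mul_inv_cancel])) with r | r <;>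
    rw [r]
  · exact Or.inl (by group)
  · exact Or.inr (R.cc_t' o)

theorem Refl.U_fix {o : Fin 4} {v : JV} (hb : v.b = 0) (hk : (cJ o v).k = 0) {x : G} (hx : x ∈ R.U o) :
    H.emb v * x * (H.emb v)⁻¹ = x := by
  obtain ⟨q, hq, rfl⟩ := R.mem_U.1 hx
  have h := Qsub_fix hq ((cJ_facts o v).2 hb) hk
  rw [← R.conj_back] at h
  rw [mul_inv_eq_iff_eq_mul]
  calc H.emb v * (R.cc o * q * (R.cc o)⁻¹) = R.cc o * ((R.cc o)⁻¹ * H.emb v * R.cc o * q) * (R.cc o)⁻¹ := by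
        group
    _ = R.cc o * (q * ((R.cc o)⁻¹ * H.emb v * R.cc o)) * (R.cc o)⁻¹ := by rw [h]
    _ = _ := by group

theorem Refl.U_free {o : Fin 4} {v : JV} (hb : v.b = 0) (hk : (cJ o v).k ≠ 0) {x : G} (hx : x ∈ R.U o)
    (h : H.emb v * x * (H.emb v)⁻¹ * x⁻¹ = 1 ∨ H.emb v * x * (H.emb v)⁻¹ * x⁻¹ = H.t) :
    x = 1 ∨ x = H.t := by
  obtain ⟨q, hq, rfl⟩ := R.mem_U.1 hx
  have e : H.emb (cJ o v) * q * (H.emb (cJ o v))⁻¹ * q⁻¹ = (R.cc o)⁻¹ *
      (H.emb v * (R.cc o * q * (R.cc o)⁻¹) * (H.emb v)⁻¹ * (R.cc o * q * (R.cc o)⁻¹)⁻¹) * R.cc o := by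
    rw [← R.conj_back]; group
  have h' : H.emb (cJ o v) * q * (H.emb (cJ o v))⁻¹ * q⁻¹ = 1 ∨
      H.emb (cJ o v) * q * (H.emb (cJ o v))⁻¹ * q⁻¹ = H.t := by
    rcases h with h | h <;> rw [e, h]
    · exact Or.inl (by group)
    · right
      rw [mul_assoc, ← R.cc_t]; group
  rcases Qsub_free hq ((cJ_facts o v).2 hb) hk h' with r | r <;> rw [r]
  · exact Or.inl (by group)
  · exact Or.inr (R.cc_t' o)

variable {R}

theorem pm_mul {x y : G} (hx : x = 1 ∨ x = H.t) (hy : y = 1 ∨ y = H.t) : x * y = 1 ∨ x * y = H.t := by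
  rcases hx with rfl | rfl <;> rcases hy with rfl | rfl <;> simp [H.t_mul_self]

theorem pm_inv {x : G} (hx : x = 1 ∨ x = H.t) : x⁻¹ = 1 ∨ x⁻¹ = H.t := by
  rcases hx with rfl | rfl
  · exact Or.inl inv_one
  · exact Or.inr (inv_eq_of_mul_eq_one_right H.t_mul_self)

theorem Refl.Comm.inj (hR : R.Comm) {q : Fin 4 → H.Qsub} (h : hR.phi q = 1 ∨ hR.phi q = H.t) :
    ∀ o, R.fU o (q o) = 1 ∨ R.fU o (q o) = H.t := by
  rw [hR.phi_apply] at h
  set a := H.emb ⟨0, 1, 0, 0⟩ with ha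
  obtain ⟨k0, k1, k2, k3⟩ := cJ_a
  set u0 := R.fU 0 (q 0)
  set u1 := R.fU 1 (q 1)
  set u2 := R.fU 2 (q 2)
  set u3 := R.fU 3 (q 3)
  have m0 : u0 ∈ R.U 0 := R.fU_mem 0 _
  have m1 : u1 ∈ R.U 1 := R.fU_mem 1 _
  have m2 : u2 ∈ R.U 2 := R.fU_mem 2 _
  have m3 : u3 ∈ R.U 3 := R.fU_mem 3 _
  have hat : a * H.t * a⁻¹ = H.t :=
    R.U_fix (o := 0) rfl k0 (R.t_mem_U 0)
  have hfix : a * (u0 * u1 * u2 * u3) * a⁻¹ = u0 * u1 * u2 * u3 := by
    rcases h with h | h <;> rw [h]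
    · group
    · exact hat
  have e0 : a * u0 * a⁻¹ = u0 := R.U_fix rfl k0 m0
  have e1 : a * u1 * a⁻¹ = u1 := R.U_fix rfl k1 m1
  have e23 : a * u2 * a⁻¹ * (a * u3 * a⁻¹) = u2 * u3 := by
    have : u0 * u1 * (a * u2 * a⁻¹ * (a * u3 * a⁻¹)) = u0 * u1 * (u2 * u3) := by
      calc u0 * u1 * (a * u2 * a⁻¹ * (a * u3 * a⁻¹))
          = (a * u0 * a⁻¹) * (a * u1 * a⁻¹) * (a * u2 * a⁻¹ * (a * u3 * a⁻¹)) := by rw [e0, e1]
        _ = a * (u0 * u1 * u2 * u3) * a⁻¹ := by group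
        _ = _ := by rw [hfix]; group
    exact mul_left_cancel this
  have w2 : a * u2 * a⁻¹ ∈ R.U 2 := R.U_norm rfl m2
  have w3 : a * u3 * a⁻¹ ∈ R.U 3 := R.U_norm rfl m3
  have hw : u2⁻¹ * (a * u2 * a⁻¹) = u3 * (a * u3 * a⁻¹)⁻¹ := by
    calc u2⁻¹ * (a * u2 * a⁻¹) = u2⁻¹ * (a * u2 * a⁻¹ * (a * u3 * a⁻¹)) * (a * u3 * a⁻¹)⁻¹ := by group
      _ = _ := by rw [e23]; group
  have hi := R.U_inter (o := 2) (p := 3) (by decide) (mul_mem (inv_mem m2) w2)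
    (hw ▸ mul_mem m3 (inv_mem w3))
  have h2 : u2 = 1 ∨ u2 = H.t := by
    refine R.U_free rfl k2 m2 ?_
    have hc : ∀ d : G, (d = 1 ∨ d = H.t) → u2 * d * u2⁻¹ = d := by
      rintro d (rfl | rfl)
      · group
      · rw [hR.K_cent (R.U_le 2 m2), mul_inv_cancel_right]
    have e := hc _ hi
    rw [show u2 * (u2⁻¹ * (a * u2 * a⁻¹)) * u2⁻¹ = a * u2 * a⁻¹ * u2⁻¹ by group] at e
    exact e ▸ hi
  have h3 : u3 = 1 ∨ u3 = H.t := by
    refine R.U_free rfl k3 m3 ?_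
    rw [hw] at hi
    have := pm_inv hi
    rwa [mul_inv_rev, inv_inv] at this
  have h01 : u0 * u1 = 1 ∨ u0 * u1 = H.t := by
    rw [show u0 * u1 = u0 * u1 * u2 * u3 * u3⁻¹ * u2⁻¹ by group]
    exact pm_mul (pm_mul h (pm_inv h3)) (pm_inv h2)
  have h0 : u0 = 1 ∨ u0 = H.t := by
    refine R.U_inter (o := 0) (p := 1) (by decide) m0 ?_
    rw [show u0 = u0 * u1 * u1⁻¹ by group]
    refine mul_mem ?_ (inv_mem m1)
    rcases h01 with r | r <;> rw [r]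
    · exact one_mem _
    · exact R.t_mem_U 1
  have h1 : u1 = 1 ∨ u1 = H.t := by
    rw [show u1 = u0⁻¹ * (u0 * u1) by group]
    exact pm_mul (pm_inv h0) h01
  intro o
  match o with
  | 0 => exact h0
  | 1 => exact h1
  | 2 => exact h2
  | 3 => exact h3

theorem Refl.fU_inj (R : Refl H) (o : Fin 4) : Function.Injective (R.fU o) :=
  (MulAut.conj (R.cc o)).injective.comp H.Qsub.subtype_injective

theorem Refl.fU_pm (R : Refl H) {o : Fin 4} {q : H.Qsub} (h : R.fU o q = 1 ∨ R.fU o q = H.t) :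
    q = 1 ∨ q = ⟨H.t, t_mem_Qsub⟩ :=
  h.imp (fun e => R.fU_inj o (e.trans (map_one _).symm))
    (fun e => R.fU_inj o (e.trans (R.cc_t' o).symm))

theorem card_Qsub : Nat.card H.Qsub = 8 := by
  rw [Qsub, card_map_of_injective H.inj]
  let e : Qm ≃ {g : S // four g = true} :=
    { toFun := fun x => ⟨x.1.g, by obtain ⟨g, hg, e⟩ := x.2; rw [e]; exact hg⟩
      invFun := fun g => ⟨⟨0, v0, g.1⟩, g.1, g.2, rfl⟩
      left_inv := fun x => Subtype.ext (by obtain ⟨g, hg, e⟩ := x.2; simp only [e])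
      right_inv := fun _ => rfl }
  rw [Nat.card_congr e, Nat.card_eq_fintype_card, card_four]

theorem t_ne_one : H.t ≠ 1 := fun e =>
  absurd (congrArg T.g (H.inj (e.trans (map_one H.par).symm) : tT = 1)) (show (1 : S) ≠ 0 by decide)

theorem Refl.Comm.card_K (hR : R.Comm) : Nat.card R.K = 2 ^ 9 := by
  classical
  set τ : H.Qsub := ⟨H.t, t_mem_Qsub⟩ with hτ
  have hτ2 : τ * τ = 1 := Subtype.ext H.t_mul_self
  let pm : Bool → H.Qsub := fun b => cond b τ 1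
  have hpm : ∀ b o, R.fU o (pm b) = cond b H.t 1 := by
    intro b o; cases b
    · exact map_one _
    · exact R.cc_t' o
  let d : Bool × Bool × Bool → hR.phi.ker := fun b =>
    ⟨![pm b.1, pm b.2.1, pm b.2.2, pm (xor (xor b.1 b.2.1) b.2.2)], by
      rw [MonoidHom.mem_ker, hR.phi_apply]
      obtain ⟨b1, b2, b3⟩ := b
      simp only [Matrix.cons_val_zero, Matrix.cons_val_one, Matrix.cons_val, hpm]
      cases b1 <;> cases b2 <;> cases b3 <;> simp [H.t_mul_self]⟩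
  have hinj : Function.Injective pm := by
    intro a b h
    cases a <;> cases b <;> first
      | rfl
      | exact absurd (congrArg Subtype.val h) t_ne_one
      | exact absurd (congrArg Subtype.val h).symm t_ne_one
  have hd : Function.Bijective d := by
    refine ⟨fun a b h => ?_, fun k => ?_⟩
    · have h' := congrArg Subtype.val h
      exact Prod.ext (hinj (congrFun h' 0)) (Prod.ext (hinj (congrFun h' 1)) (hinj (congrFun h' 2)))
    · obtain ⟨q, hq⟩ := k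
      have hall := hR.inj (Or.inl (MonoidHom.mem_ker.1 hq))
      have hb : ∀ o, ∃ b, q o = pm b := fun o => by
        rcases R.fU_pm (hall o) with e | e
        · exact ⟨false, e⟩
        · exact ⟨true, e⟩
      choose b hb using hb
      refine ⟨(b 0, b 1, b 2), Subtype.ext (funext fun o => ?_)⟩
      have h4 : cond (b 3) H.t 1 = cond (xor (xor (b 0) (b 1)) (b 2)) H.t 1 := by
        have h0 := MonoidHom.mem_ker.1 hq
        rw [hR.phi_apply, hb 0, hb 1, hb 2, hb 3, hpm, hpm, hpm, hpm] at h0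
        cases h0' : b 0 <;> cases h1' : b 1 <;> cases h2' : b 2 <;> cases h3' : b 3 <;>
          simp only [h0', h1', h2', h3', cond_true, cond_false, one_mul, mul_one, H.t_mul_self,
            Bool.xor_false, Bool.false_xor, Bool.xor_true, Bool.not_true, Bool.not_false] at h0 ⊢ <;>
          first
          | exact h0
          | exact h0.symm
      match o with
      | 0 => exact (hb 0).symm
      | 1 => exact (hb 1).symm
      | 2 => exact (hb 2).symm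
      | 3 =>
        refine R.fU_inj 3 ?_
        show R.fU 3 (pm (xor (xor (b 0) (b 1)) (b 2))) = R.fU 3 (q 3)
        rw [hb 3, hpm, hpm, h4]
  have h1 := hR.phi.ker.card_mul_index
  rw [index_ker, hR.range_phi, ← Nat.card_congr (Equiv.ofBijective d hd)] at h1
  simp only [Nat.card_prod, Nat.card_eq_fintype_card (α := Bool), Fintype.card_bool, Nat.card_pi,
    Finset.prod_const, Finset.card_univ, Fintype.card_fin, card_Qsub] at h1
  norm_num at h1 ⊢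
  omega

theorem Qsub_pair {p q : G} (hp : p ∈ H.Qsub) (hq : q ∈ H.Qsub) :
    (p * q * (q * p)⁻¹ = 1 ∨ p * q * (q * p)⁻¹ = H.t) ∧ (p * p = 1 ∨ p * p = H.t) := by
  obtain ⟨g, hg, rfl⟩ := Qsub_rep hp
  obtain ⟨h, hh, rfl⟩ := Qsub_rep hq
  obtain ⟨h1, h2⟩ := four_comm g h hg hh
  rw [← map_mul, ← map_mul, ← map_inv, ← map_mul, ← map_mul, L_mul, L_mul, L_mul, L_inv, L_mul]
  exact ⟨Qsub_pm h1, Qsub_pm h2⟩

theorem Refl.fU_sign (R : Refl H) (o : Fin 4) {q : H.Qsub} (h : (q : G) = 1 ∨ (q : G) = H.t) :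
    R.fU o q = 1 ∨ R.fU o q = H.t := by
  show R.cc o * (q : G) * (R.cc o)⁻¹ = 1 ∨ R.cc o * (q : G) * (R.cc o)⁻¹ = H.t
  rcases h with e | e <;> rw [e]
  · exact Or.inl (by group)
  · exact Or.inr (R.cc_t' o)

theorem Refl.Comm.phi_sign (hR : R.Comm) {q : Fin 4 → H.Qsub}
    (h : ∀ o, ((q o : G) = 1 ∨ (q o : G) = H.t)) : hR.phi q = 1 ∨ hR.phi q = H.t := by
  rw [hR.phi_apply]
  exact pm_mul (pm_mul (pm_mul (R.fU_sign 0 (h 0)) (R.fU_sign 1 (h 1))) (R.fU_sign 2 (h 2)))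
    (R.fU_sign 3 (h 3))

theorem Refl.Comm.centre (hR : R.Comm) {x : G} (hx : x ∈ R.K) (hc : ∀ y ∈ R.K, y * x = x * y) :
    x = 1 ∨ x = H.t := by
  classical
  rw [← hR.range_phi] at hx
  obtain ⟨q, rfl⟩ := hx
  refine hR.phi_sign fun o => ?_
  obtain ⟨g, hg, eg⟩ := Qsub_rep (q o).2
  rw [← eg]
  refine Qsub_pm (four_centre_iff g hg fun s hs => ?_)
  set p : Fin 4 → H.Qsub := Pi.mulSingle o ⟨H.par ⟨0, v0, s⟩, ⟨_, ⟨s, hs, rfl⟩, rfl⟩⟩
  have h := hc (hR.phi p) (hR.range_phi ▸ ⟨p, rfl⟩)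
  rw [← map_mul, ← map_mul, ← mul_inv_eq_one, ← map_inv, ← map_mul] at h
  -- the commutator is trivial as it is killed by the product map
  have h0 : R.fU o ((p * q * (q * p)⁻¹) o) = hR.phi (Pi.mulSingle o ((p * q * (q * p)⁻¹) o)) := by
    rw [hR.phi_apply]; fin_cases o <;> simp [Pi.mulSingle_apply]
  have hsingle : p * q * (q * p)⁻¹ = Pi.mulSingle o ((p * q * (q * p)⁻¹) o) := by
    funext j
    by_cases hj : j = o
    · subst hj; simp
    · simp [p, Pi.mulSingle_apply, hj]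
  rw [hsingle, ← h0] at h
  have h3 := congrArg Subtype.val (R.fU_inj o (h.trans (map_one (R.fU o)).symm))
  have h4 : H.par ⟨0, v0, s⟩ * H.par ⟨0, v0, g⟩ = H.par ⟨0, v0, g⟩ * H.par ⟨0, v0, s⟩ := by
    refine mul_inv_eq_one.1 ?_
    rw [eg]
    simpa [p, Pi.mul_apply, Pi.inv_apply] using h3
  rw [← map_mul, ← map_mul, L_mul, L_mul] at h4
  exact (congrArg T.g (H.inj h4)).symm

theorem Refl.Comm.extraspecial (hR : R.Comm) : Cfsg.IsExtraspecial 2 R.K := by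
  classical
  haveI : Fact (Nat.Prime 2) := ⟨Nat.prime_two⟩
  set z : R.K := ⟨H.t, R.t_mem_K⟩
  have hz : orderOf z = 2 := orderOf_eq_prime (by rw [pow_two]; exact Subtype.ext H.t_mul_self)
    fun e => t_ne_one (congrArg Subtype.val e)
  have hmem : ∀ {y : R.K}, ((y : G) = 1 ∨ (y : G) = H.t) → y ∈ zpowers z := by
    rintro y (e | e)
    · rw [show y = 1 from Subtype.ext e]; exact one_mem _
    · rw [show y = z from Subtype.ext e]; exact mem_zpowers _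
  have hrep : ∀ y : R.K, ∃ q, hR.phi q = (y : G) := fun y =>
    MonoidHom.mem_range.1 (hR.range_phi.symm ▸ y.2 : (y : G) ∈ hR.phi.range)
  refine Cfsg.Agent.CyclicNormal.isExtraspecial_of (IsPGroup.of_card hR.card_K) hz (fun c hc => ?_)
    (mem_center_iff.2 fun y => Subtype.ext (hR.K_cent y.2)) (fun a b => ?_) (fun a => ?_) ?_
  · exact hmem (hR.centre c.2 fun y hy => congrArg Subtype.val (mem_center_iff.1 hc ⟨y, hy⟩))
  · obtain ⟨p, hp⟩ := hrep a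
    obtain ⟨q, hq⟩ := hrep b
    refine hmem ?_
    show (a : G) * b * (a : G)⁻¹ * (b : G)⁻¹ = 1 ∨ (a : G) * b * (a : G)⁻¹ * (b : G)⁻¹ = H.t
    rw [← hp, ← hq, ← map_inv, ← map_inv, ← map_mul, ← map_mul, ← map_mul]
    refine hR.phi_sign fun o => ?_
    have := (Qsub_pair (p o).2 (q o).2).1
    simpa [Pi.mul_apply, Pi.inv_apply, mul_assoc] using this
  · obtain ⟨p, hp⟩ := hrep a
    refine hmem ?_
    rw [SubgroupClass.coe_pow, pow_two, ← hp, ← map_mul]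
    exact hR.phi_sign fun o => by
      simpa [Pi.mul_apply] using (Qsub_pair (p o).2 (p o).2).2
  · obtain ⟨g, h, hg, hh, hne⟩ := four_noncomm
    have hU : ∀ {s : S}, four s = true → H.par ⟨0, v0, s⟩ ∈ R.K := fun {s} hs =>
      R.U_le 0 (R.mem_U.2 ⟨_, ⟨_, ⟨s, hs, rfl⟩, rfl⟩, by
        show (1 : G) * _ * (1 : G)⁻¹ = _; group⟩)
    refine ⟨⟨_, hU hg⟩, ⟨_, hU hh⟩, fun e => hne ?_⟩
    have := congrArg Subtype.val e
    simp only [Subgroup.coe_mul, ← map_mul, L_mul] at this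
    exact congrArg T.g (H.inj this)

theorem cJ_axes : ∀ o : Fin 4, ∀ v : JV,
    (v = ⟨1, 0, 0, 1⟩ ∨ v = ⟨1, 1, 0, 2⟩ ∨ v = ⟨1, 2, 0, 2⟩) → (cJ o v).k ≠ 0 := by decide +kernel

/-- The axes act without fixed points modulo `⟨t⟩`. -/
theorem Refl.Comm.fix_axis (hR : R.Comm) {v : JV} (hb : v.b = 0) (hk : ∀ o, (cJ o v).k ≠ 0) {x : G}
    (hx : x ∈ R.K) (hc : x * H.emb v = H.emb v * x) : x = 1 ∨ x = H.t := by
  rw [← hR.range_phi] at hx
  obtain ⟨q, rfl⟩ := hx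
  have hmem : ∀ o, ∃ q' : H.Qsub, R.fU o q' = H.emb v * R.fU o (q o) * (H.emb v)⁻¹ := fun o => by
    obtain ⟨y, hy, e⟩ := R.mem_U.1 (R.U_norm (o := o) hb (R.fU_mem o (q o)))
    exact ⟨⟨y, hy⟩, e⟩
  choose q' hq' using hmem
  have hphi : hR.phi q' = hR.phi q := by
    rw [hR.phi_apply, hq', hq', hq', hq']
    calc _ = H.emb v * hR.phi q * (H.emb v)⁻¹ := by rw [hR.phi_apply]; group
      _ = _ := by rw [← hc]; group
  have hall := hR.inj (q := q' * q⁻¹) (Or.inl (by rw [map_mul, map_inv, hphi, mul_inv_cancel]))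
  refine hR.phi_sign fun o => ?_
  have h := hall o
  simp only [Pi.mul_apply, Pi.inv_apply, map_mul, map_inv, hq'] at h
  have hfree := R.U_free hb (hk o) (R.fU_mem o (q o)) h
  rcases R.fU_pm hfree with e | e <;> rw [e]
  · exact Or.inl rfl
  · exact Or.inr rfl

/-- Conjugation by elements mapping each of the four groups into `K` preserves `K`. -/
theorem Refl.K_conj_mem (R : Refl H) {c : G} (h : ∀ o, ∀ x ∈ R.U o, c * x * c⁻¹ ∈ R.K) {x : G}
    (hx : x ∈ R.K) : c * x * c⁻¹ ∈ R.K := by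
  have : R.K ≤ R.K.comap (MulAut.conj c).toMonoidHom :=
    sup_le (sup_le (sup_le (fun x hx => h 0 x hx) (fun x hx => h 1 x hx)) (fun x hx => h 2 x hx))
      (fun x hx => h 3 x hx)
  exact this hx

theorem Refl.K_emb (R : Refl H) {v : JV} (hb : v.b = 0) {x : G} (hx : x ∈ R.K) :
    H.emb v * x * (H.emb v)⁻¹ ∈ R.K :=
  R.K_conj_mem (fun o _ hy => R.U_le o (R.U_norm hb hy)) hx

theorem Refl.cc_succ (R : Refl H) : ∀ i : Fin 3, R.cc i.succ = R.rr i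
  | 0 => rfl
  | 1 => rfl
  | 2 => rfl

theorem Refl.K_rr (R : Refl H) (i : Fin 3) {x : G} (hx : x ∈ R.K) :
    R.rr i * x * (R.rr i)⁻¹ ∈ R.K := by
  refine R.K_conj_mem (fun o y hy => ?_) hx
  obtain ⟨q, hq, rfl⟩ := R.mem_U.1 hy
  induction o using Fin.cases with
  | zero =>
    rw [show R.cc 0 * q * (R.cc 0)⁻¹ = q by show (1 : G) * q * (1 : G)⁻¹ = q; group]
    exact R.U_le i.succ (R.mem_U.2 ⟨q, hq, by rw [R.cc_succ]⟩)
  | succ j =>
    rw [R.cc_succ, show R.rr i * (R.rr j * q * (R.rr j)⁻¹) * (R.rr i)⁻¹ =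
      R.rr i * R.rr j * q * (R.rr i * R.rr j)⁻¹ by group]
    by_cases hij : i = j
    · subst hij
      refine R.U_le 0 (R.mem_U.2 ⟨q, hq, ?_⟩)
      show (1 : G) * q * (1 : G)⁻¹ = _
      rw [R.sq]
    · obtain ⟨k, hk⟩ := R.rr_mul i j hij
      refine R.U_le k.succ (R.mem_U.2 ⟨_, R.triple_q hq, ?_⟩)
      rw [R.cc_succ, hk]; group

theorem Refl.K_le (R : Refl H) {N : Subgroup G} [hN : N.Normal]
    (hpar : ∀ x : T, x.v.b = 0 → H.par x ∈ N) : R.K ≤ N := by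
  have h : ∀ o, R.U o ≤ N := by
    intro o x hx
    obtain ⟨_, ⟨_, ⟨g, -, rfl⟩, rfl⟩, rfl⟩ := R.mem_U.1 hx
    exact hN.conj_mem _ (hpar _ rfl) _
  exact sup_le (sup_le (sup_le (h 0) (h 1)) (h 2)) (h 3)

end Base

end CfsgLib.O8Three
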