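import Cfsg.Agent.O8Three.ExtLinear
import Cfsg.Agent.O8Three.ExtNine
import Cfsg.Agent.O8Three.Quat
import Cfsg.Agent.SpMult.Blk
import Cfsg.Agent.S3342

/-!
# The centralizer of `p₁` modulo `⟨p₁⟩` is not `Sp₆(2)`

On a natural module of order 64 the images of `e₁` and `e₂` form a pair of elements of order three with
fixed-point-free product and quotient. If the centralizer of `m₁` normalises `J`, a transvection commuting
with `t` and the one element would normalise the other; otherwise involutions of `S₉` would centralise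
the quaternion group of `z`, which their product moves.
-/

set_option autoImplicit false
set_option maxRecDepth 100000
set_option linter.style.haveILetI false
set_option linter.unusedSectionVars false

namespace CfsgLib.O8Three

open CfsgLib.PSpFourInvol (S sm si)
open Subgroup

universe u v

namespace Lin

/-- A natural module of the symplectic group of six variables over two elements. -/
structure Natural (X : Type u) (V : Type v) [Group X] [AddCommGroup V] [DistribMulAction X V] : Prop where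
  double : ∀ v : V, v + v = 0
  card_eq : Nat.card V = 64
  inj : ∀ g h : X, (∀ v : V, g • v = h • v) → g = h
  tvn : ∀ u : V, u ≠ 0 → ∃ g : X, g * g = 1 ∧ (∀ x : V, g • x = x ∨ g • x = x + u) ∧
    (∃ x : V, g • x ≠ x) ∧ ∀ h : X, h • u = u → h * g = g * h

variable {X : Type u} {V : Type v} [Group X] [AddCommGroup V] [DistribMulAction X V]

theorem Natural.move (hN : Natural X V) {g : X} (hg : g ≠ 1) : ∃ v : V, g • v ≠ v := by
  by_contra h
  exact hg (hN.inj g 1 fun v => by rw [one_smul]; exact not_ne_iff.1 fun hne => h ⟨v, hne⟩)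

theorem fpf_inv {g : X} (h : ∀ v : V, g • v = v → v = 0) : ∀ v : V, g⁻¹ • v = v → v = 0 :=
  fun v hv => h v (by conv_lhs => rw [← hv, smul_inv_smul])

theorem fpf_conj {g : X} (c : X) (h : ∀ v : V, g • v = v → v = 0) :
    ∀ v : V, (c * g * c⁻¹) • v = v → v = 0 := fun v hv => by
  have h1 : g • c⁻¹ • v = c⁻¹ • v := by
    conv_rhs => rw [← hv]
    rw [← mul_smul, ← mul_smul]; group
  have h2 := h _ h1
  rw [← smul_inv_smul c v, h2, smul_zero]

end Lin

theorem w5_facts : apW [4, 2, 4, 4, 1] ⟨0, 0, 1, 0⟩ = jn (nineE 0) ∧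
    apW [4, 2, 4, 4, 1] (nineE 0) = ⟨0, 0, 1, 0⟩ ∧ apW [4, 2, 4, 4, 1] (nineE 1) = jn (nineE 2) ∧
    apW [4, 2, 4, 4, 1] (nineE 2) = jn (nineE 1) ∧
    ∀ j : ZMod 3, apW [4, 2, 4, 4, 1] (ja (jn (nineE 2)) ⟨-j, 0, 0, -j⟩) =
      jn (ja (jn (nineE 1)) ⟨0, 0, j, 0⟩) := by decide +kernel

theorem al_step : ∀ i : Fin 3, alJ (nineE i) = nineE (i + 1) ∨ alJ (nineE i) = jn (nineE (i + 1)) := by
  decide +kernel

theorem nineE_b : ∀ i : Fin 3, (nineE i).b = 0 ∧ tJ (nineE i) = nineE i := by decide +kernel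

theorem frame_sums : (∀ c b k a : ZMod 3, ja ⟨c, 0, b, k⟩ ⟨0, a, 0, 0⟩ = ⟨c, a, b, k⟩) ∧
    ja (nineE 0) (nineE 1) = ⟨-1, 1, 0, 0⟩ ∧ ja (nineE 0) (ja (nineE 1) (nineE 1)) = ⟨0, 2, 0, 2⟩ ∧
    R1J ⟨1, 0, 0, 0⟩ = ⟨0, 0, 0, 2⟩ ∧ ja (nineE 2) (jn (nineE 1)) = ⟨0, 1, 0, 0⟩ ∧
    R1J ⟨0, 1, 0, 0⟩ = ⟨0, 1, 0, 0⟩ := by decide +kernel

theorem tJ_fix_b : ∀ w : JV, tJ w = w → w.b = 0 := by decide +kernel

theorem frame_rigid : ∀ i : Fin 2, ∀ w : JV, w.b = 0 → qJ w = qJ (nineE i.castSucc) →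
    qJ (ja w ⟨0, 1, 0, 0⟩) = qJ (ja (nineE i.castSucc) ⟨0, 1, 0, 0⟩) →
    qJ (ja w (nineE (![1, 0] i))) = qJ (ja (nineE i.castSucc) (nineE (![1, 0] i))) →
    (∃ j : ZMod 3, w = ja (nineE i.castSucc) ⟨0, j, 0, 0⟩) ∨
      ∃ j : ZMod 3, w = ja (jn (nineE i.castSucc)) ⟨0, j, 0, 0⟩ := by decide +kernel

theorem last_j : ∀ j : ZMod 3, qJ (ja (jn (nineE 2)) ⟨-j, 0, 0, -j⟩) = qJ (nineE 2) → j = 0 := by
  decide +kernel

theorem last_k : (ja (nineE 0) (nineE 2)).b = 0 ∧ (ja (nineE 0) (nineE 2)).k = 0 ∧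
    (ja (nineE 0) (jn (nineE 2))).b = 0 ∧ (ja (nineE 0) (jn (nineE 2))).k ≠ 0 := by decide +kernel

theorem four_proper : ∃ g : S, four g = true ∧ g ≠ 0 ∧ g ≠ 1 := by decide +kernel

namespace Base

variable {G : Type u} [Group G] (H : Base G)

/-- The projection modulo `⟨p₁⟩`. -/
def mkA : H.Ca →* H.XA := QuotientGroup.mk' H.aSub

theorem emb_mem_Ca (v : JV) : H.emb v ∈ H.Ca := mem_centralizer_singleton_iff.2 (H.emb_comm _ _)

theorem t_mem_Ca : H.t ∈ H.Ca := (H.par_mem_Ca (x := tT)).2 rfl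

/-- The class of an element of `J`. -/
def ea (v : JV) : H.XA := H.mkA ⟨H.emb v, H.emb_mem_Ca v⟩

/-- The class of the involution. -/
def tA : H.XA := H.mkA ⟨H.t, H.t_mem_Ca⟩

theorem ea_ja (v w : JV) : H.ea (ja v w) = H.ea v * H.ea w := by
  rw [ea, ea, ea, ← map_mul]; exact congrArg H.mkA (Subtype.ext (H.emb_ja v w))

theorem ea_jn (v : JV) : H.ea (jn v) = (H.ea v)⁻¹ := by
  rw [ea, ea, ← map_inv]; exact congrArg H.mkA (Subtype.ext (H.emb_jn v))

theorem ea_aline (v : JV) (j : ZMod 3) : H.ea (ja v ⟨0, j, 0, 0⟩) = H.ea v := by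
  have h : H.ea ⟨0, j, 0, 0⟩ = 1 := (QuotientGroup.eq_one_iff _).2 (H.mem_zp.2 ⟨j, rfl⟩)
  rw [ea_ja, h, mul_one]

theorem ea_cube (v : JV) : H.ea v * H.ea v * H.ea v = 1 := by
  rw [← ea_ja, ← ea_ja, show ja (ja v v) v = j0 by
    rw [show ja (ja v v) v = ja v (ja v v) from JV.ext (add_comm _ _) (add_comm _ _) (add_comm _ _) (add_comm _ _)]
    exact ja_triple v]
  exact (congrArg H.mkA (Subtype.ext H.emb_j0 : (⟨H.emb j0, H.emb_mem_Ca j0⟩ : H.Ca) = 1)).trans (map_one _)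

theorem ea_comm (v w : JV) : H.ea v * H.ea w = H.ea w * H.ea v := by
  rw [ea, ea, ← map_mul, ← map_mul]; exact congrArg H.mkA (Subtype.ext (H.emb_comm v w))

theorem ea_inv (v : JV) : (H.ea v)⁻¹ = H.ea v * H.ea v :=
  inv_eq_of_mul_eq_one_left (H.ea_cube v)

theorem mkA_eq_one {x : H.Ca} : H.mkA x = 1 ↔ (x : G) ∈ zpowers H.aEl :=
  QuotientGroup.eq_one_iff x

variable {H}

/-- An involution commuting with `p₁` commutes exactly with what it commutes modulo `⟨p₁⟩`. -/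
theorem exactA {v y : G} (hv : v ∈ H.Ca) (hy : y ∈ H.Ca) (hv2 : v * v = 1)
    (h : H.mkA ⟨v, hv⟩ * H.mkA ⟨y, hy⟩ = H.mkA ⟨y, hy⟩ * H.mkA ⟨v, hv⟩) : v * y = y * v := by
  rw [← map_mul, ← map_mul, eq_comm] at h
  obtain ⟨a, ha, e⟩ := (QuotientGroup.mk'_eq_mk' H.aSub).1 h
  have e' : y * v * (a : G) = v * y := congrArg Subtype.val e
  obtain ⟨j, hj⟩ := H.mem_zp.1 (show (a : G) ∈ zpowers H.aEl from ha)
  have hva : v * H.aEl = H.aEl * v := mem_centralizer_singleton_iff.1 hv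
  have hca : ∀ g : G, g * H.aEl = H.aEl * g → g * (a : G) = a * g := fun g hg => by
    obtain ⟨k, hk⟩ := mem_zpowers_iff.1 (show (a : G) ∈ zpowers H.aEl from ha)
    rw [← hk]
    exact ((show Commute g H.aEl from hg).zpow_right k).eq
  have e1 : v * y * v = y * a := by
    rw [← e', mul_assoc (y * v), ← hca v hva, ← mul_assoc, mul_assoc y v v, hv2, mul_one]
  have e2 : y = y * (a * a : G) := by
    calc y = v * v * y * (v * v) := by rw [hv2, one_mul, mul_one]
      _ = v * (v * y * v) * v := by group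
      _ = v * (y * a) * v := by rw [e1]
      _ = v * y * ((a : G) * v) := by group
      _ = v * y * (v * a) := by rw [hca v hva]
      _ = v * y * v * a := by group
      _ = _ := by rw [e1]; group
  have h2 : (a : G) * a = 1 := mul_eq_left.1 e2.symm
  have h3 : (a : G) * a * a = 1 := by rw [hj, ← H.emb_ja, ← H.emb_ja, ← H.emb_j0]; congr 1; simp [ja, j0]; ring_nf; exact (show ∀ j : ZMod 3, j * 3 = 0 by decide) j
  rw [h2, one_mul] at h3
  rw [← e', h3, mul_one]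

theorem comm_transport {m v : G} {x y : JV} (hm : m * H.emb x * m⁻¹ = H.emb y) :
    m * v * m⁻¹ * H.emb y = H.emb y * (m * v * m⁻¹) ↔ v * H.emb x = H.emb x * v := by
  rw [← hm]
  constructor
  · intro h
    calc v * H.emb x = m⁻¹ * (m * v * m⁻¹ * (m * H.emb x * m⁻¹)) * m := by group
      _ = _ := by rw [h]; group
  · intro h
    calc m * v * m⁻¹ * (m * H.emb x * m⁻¹) = m * (v * H.emb x) * m⁻¹ := by group
      _ = _ := by rw [h]; group

theorem conj_transport {m v : G} {x y : JV} (hm : m * H.emb x * m⁻¹ = H.emb y)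
    (h : v * (H.emb x * v * (H.emb x)⁻¹) = H.emb x * v * (H.emb x)⁻¹ * v) :
    m * v * m⁻¹ * (H.emb y * (m * v * m⁻¹) * (H.emb y)⁻¹) =
      H.emb y * (m * v * m⁻¹) * (H.emb y)⁻¹ * (m * v * m⁻¹) := by
  rw [← hm]
  calc m * v * m⁻¹ * (m * H.emb x * m⁻¹ * (m * v * m⁻¹) * (m * H.emb x * m⁻¹)⁻¹)
      = m * (v * (H.emb x * v * (H.emb x)⁻¹)) * m⁻¹ := by group
    _ = _ := by rw [h]; group

theorem comm_jn {v : G} {x : JV} : v * H.emb (jn x) = H.emb (jn x) * v ↔ v * H.emb x = H.emb x * v := by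
  rw [H.emb_jn]
  exact Commute.inv_right_iff

theorem conj_jn {v : G} {x : JV}
    (h : v * (H.emb (jn x) * v * (H.emb (jn x))⁻¹) = H.emb (jn x) * v * (H.emb (jn x))⁻¹ * v) :
    v * (H.emb x * v * (H.emb x)⁻¹) = H.emb x * v * (H.emb x)⁻¹ * v := by
  rw [H.emb_jn, inv_inv] at h
  calc v * (H.emb x * v * (H.emb x)⁻¹) = H.emb x * ((H.emb x)⁻¹ * v * H.emb x * v) * (H.emb x)⁻¹ := by group
    _ = H.emb x * (v * ((H.emb x)⁻¹ * v * H.emb x)) * (H.emb x)⁻¹ := by rw [h]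
    _ = _ := by group

/-- An involution of the kind given by `S₉`. -/
structure Nine (H : Base G) (v : G) (i : Fin 3) : Prop where
  sq : v * v = 1
  comm_t : v * H.t = H.t * v
  comm : ∀ j, j ≠ i → v * H.emb (nineE j) = H.emb (nineE j) * v
  not_comm : v * H.emb (nineE i) ≠ H.emb (nineE i) * v
  conj_comm : v * (H.emb (nineE i) * v * (H.emb (nineE i))⁻¹) =
    H.emb (nineE i) * v * (H.emb (nineE i))⁻¹ * v

theorem Nine.mem_Ca {v : G} (h : Nine H v 0) : v ∈ H.Ca := by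
  refine mem_centralizer_singleton_iff.2 ?_
  rw [aEl, ← frame_sums.2.2.2.2.1, H.emb_ja]
  exact ((show Commute v _ from h.comm 2 (by decide)).mul_right (comm_jn.2 (h.comm 1 (by decide)))).eq

theorem Nine.step {v : G} {i : Fin 3} (h : Nine H v i) :
    Nine H (H.par p2T * v * (H.par p2T)⁻¹) (i + 1) := by
  set P := H.par p2T
  have hP : ∀ j, P * H.emb (nineE j) * P⁻¹ = H.emb (alJ (nineE j)) := fun j => H.nrm_al _
  have hPt : P * H.t = H.t * P := H.par_comm.2 t_p2.1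
  refine ⟨?_, ?_, fun j hj => ?_, ?_, ?_⟩
  · rw [show P * v * P⁻¹ * (P * v * P⁻¹) = P * (v * v) * P⁻¹ by group, h.sq]; group
  · exact (((show Commute P H.t from hPt).mul_left h.comm_t).mul_left
      (show Commute P H.t from hPt).inv_left).eq
  · have hk := (comm_transport (hP (j - 1))).2 (h.comm (j - 1) (fun e => hj (by rw [← e, sub_add_cancel])))
    rcases al_step (j - 1) with e | e <;> rw [e, sub_add_cancel] at hk
    · exact hk
    · exact comm_jn.1 hk
  · intro e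
    refine h.not_comm ((comm_transport (hP i)).1 ?_)
    rcases al_step i with e' | e' <;> rw [e']
    · exact e
    · exact comm_jn.2 e
  · have hk := conj_transport (hP i) h.conj_comm
    rcases al_step i with e | e <;> rw [e] at hk
    · exact hk
    · exact conj_jn hk

theorem emb_comm_t {v : JV} (hv : tJ v = v) : H.emb v * H.t = H.t * H.emb v := by
  have := H.nrm_t v
  rw [hv] at this
  show H.emb v * H.par tT = H.par tT * H.emb v
  conv_lhs => rw [← this]
  group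

theorem Qsub_le_Ca {q : G} (hq : q ∈ H.Qsub) : q ∈ H.Ca := by
  obtain ⟨g, -, rfl⟩ := Qsub_rep hq
  exact H.par_mem_Ca.2 rfl

variable [Finite G]

theorem Qsub_emb {q : G} (hq : q ∈ H.Qsub) {v : JV} (hv : tJ v = v) :
    H.emb v * q * (H.emb v)⁻¹ ∈ H.Qsub :=
  H.Qsub_conj (emb_comm_t hv) (Or.inl (by rw [H.emb_zT, H.emb_comm, mul_inv_cancel_right])) hq

/-- An element of `N(J)` carrying `t` to `r₁`. -/
theorem Good.exists_n5 (hG : H.Good) (R : Refl H) :
    ∃ n, H.Nrm n (apW [4, 2, 4, 4, 1]) ∧ n * H.t * n⁻¹ = R.r1 := by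
  obtain ⟨n0', hn0⟩ := hG.exists_fix [4, 2, 4, 4, 1]
  set r := n0' * H.t * n0'⁻¹ with hr
  have hnr : H.Nrm r R1J := by
    intro y
    let e := Equiv.ofBijective (apW [4, 2, 4, 4, 1]) (Finite.injective_iff_bijective.1 hn0.inj)
    have hy : apW [4, 2, 4, 4, 1] (e.symm y) = y := e.apply_symm_apply y
    have h1 : n0'⁻¹ * H.emb y * n0' = H.emb (e.symm y) := by
      conv_lhs => rw [← hy, ← hn0]
      group
    rw [show r * H.emb y * r⁻¹ = n0' * (H.t * (n0'⁻¹ * H.emb y * n0') * H.t⁻¹) * n0'⁻¹ by rw [hr]; group,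
      h1, show H.t * H.emb (e.symm y) * H.t⁻¹ = H.emb (tJ (e.symm y)) from H.nrm_t _, hn0,
      (r1_word _).1, hy]
  obtain ⟨u, hu⟩ := H.mem_J.1 (Nrm.diff hnr R.nrm1)
  have hru : r = R.r1 * H.emb u := by rw [hu]; group
  have hr1i : R.r1⁻¹ = R.r1 := inv_eq_of_mul_eq_one_right R.sq1
  have hinv : R1J u = jn u := by
    refine ja_eq_zero _ _ (H.emb_inj ?_)
    rw [H.emb_j0, H.emb_ja, ← R.nrm1 u, hr1i]
    have h2 : r * r = 1 := by
      rw [hr, show n0' * H.t * n0'⁻¹ * (n0' * H.t * n0'⁻¹) = n0' * (H.t * H.t) * n0'⁻¹ by group,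
        H.t_mul_self]; group
    rw [hru] at h2
    rw [← h2]; group
  refine ⟨H.emb (jn u) * n0', ?_, ?_⟩
  · intro y
    rw [show H.emb (jn u) * n0' * H.emb y * (H.emb (jn u) * n0')⁻¹ =
      H.emb (jn u) * (n0' * H.emb y * n0'⁻¹) * (H.emb (jn u))⁻¹ by group, hn0, H.emb_comm,
      mul_inv_cancel_right]
  · rw [show H.emb (jn u) * n0' * H.t * (H.emb (jn u) * n0')⁻¹ =
      H.emb (jn u) * r * (H.emb (jn u))⁻¹ by rw [hr]; group, hru]
    have hc : H.emb (jn u) * R.r1 = R.r1 * H.emb u := by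
      have := R.nrm1 u
      rw [hinv] at this
      rw [← this]; group
    rw [show H.emb (jn u) * (R.r1 * H.emb u) * (H.emb (jn u))⁻¹ =
      (H.emb (jn u) * R.r1) * (H.emb u * (H.emb (jn u))⁻¹) by group, hc, H.emb_jn, inv_inv, mul_assoc]
    have h3 := H.J_cube (H.mem_J.2 ⟨u, rfl⟩)
    rw [pow_succ, pow_two, mul_assoc] at h3
    rw [h3, mul_one]

/-- The involutions of `S₉` moved next to the frame. -/
theorem nine_mk {R : Refl H} {n : G} (hn : H.Nrm n (apW [4, 2, 4, 4, 1]))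
    (hnt : n * H.t * n⁻¹ = R.r1) {v : Fin 2 → G}
    (hv : ∀ i, v i * v i = 1 ∧ v i * R.r1 = R.r1 * v i ∧ v i * H.mEl = H.mEl * v i)
    (c0 : v 0 * H.emb (nineE 1) = H.emb (nineE 1) * v 0)
    (c1 : v 1 * H.emb (nineE 2) = H.emb (nineE 2) * v 1)
    (n0 : v 0 * H.emb (nineE 2) ≠ H.emb (nineE 2) * v 0)
    (n1 : v 1 * H.emb (nineE 1) ≠ H.emb (nineE 1) * v 1)
    (k0 : v 0 * (H.emb (nineE 2) * v 0 * (H.emb (nineE 2))⁻¹) =
      H.emb (nineE 2) * v 0 * (H.emb (nineE 2))⁻¹ * v 0)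
    (k1 : v 1 * (H.emb (nineE 1) * v 1 * (H.emb (nineE 1))⁻¹) =
      H.emb (nineE 1) * v 1 * (H.emb (nineE 1))⁻¹ * v 1) (i : Fin 2) :
    Nine H (n⁻¹ * v i * n⁻¹⁻¹) (![1, 2] i) := by
  obtain ⟨w1, w2, w3, w4, w6⟩ := w5_facts
  have hback : ∀ y, n⁻¹ * H.emb (apW [4, 2, 4, 4, 1] y) * n⁻¹⁻¹ = H.emb y := fun y => by rw [← hn]; group
  have hm1 : H.mEl = H.emb (apW [4, 2, 4, 4, 1] (nineE 0)) := by rw [w2]; rfl
  obtain ⟨hsq, hr, hm⟩ := hv i
  have hct : n⁻¹ * v i * n⁻¹⁻¹ * H.t = H.t * (n⁻¹ * v i * n⁻¹⁻¹) := by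
    rw [show H.t = n⁻¹ * R.r1 * n⁻¹⁻¹ by rw [← hnt]; group]
    calc n⁻¹ * v i * n⁻¹⁻¹ * (n⁻¹ * R.r1 * n⁻¹⁻¹) = n⁻¹ * (v i * R.r1) * n⁻¹⁻¹ := by group
      _ = _ := by rw [hr]; group
  have he0 := (comm_transport (hback (nineE 0))).2 (hm1 ▸ hm)
  have hs : n⁻¹ * v i * n⁻¹⁻¹ * (n⁻¹ * v i * n⁻¹⁻¹) = 1 := by
    rw [show n⁻¹ * v i * n⁻¹⁻¹ * (n⁻¹ * v i * n⁻¹⁻¹) = n⁻¹ * (v i * v i) * n⁻¹⁻¹ by group, hsq]; group
  fin_cases i
  · refine ⟨hs, hct, fun j hj => ?_, fun e => n0 ?_, ?_⟩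
    · fin_cases j
      · exact he0
      · exact absurd rfl hj
      · refine (comm_transport (hback (nineE 2))).2 ?_
        rw [w4]; exact comm_jn.2 c0
    · have := (comm_transport (hback (nineE 1))).1 e
      rw [w3] at this
      exact comm_jn.1 this
    · refine conj_transport (hback (nineE 1)) ?_
      rw [w3]
      exact conj_jn (by rw [jn_jn]; exact k0)
  · refine ⟨hs, hct, fun j hj => ?_, fun e => n1 ?_, ?_⟩
    · fin_cases j
      · exact he0
      · refine (comm_transport (hback (nineE 1))).2 ?_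
        rw [w3]; exact comm_jn.2 c1
      · exact absurd rfl hj
    · have := (comm_transport (hback (nineE 2))).1 e
      rw [w4] at this
      exact comm_jn.1 this
    · refine conj_transport (hback (nineE 2)) ?_
      rw [w4]
      exact conj_jn (by rw [jn_jn]; exact k1)

/-- An involution of the kind given by `S₉` for the first axis. -/
theorem Good.exists_nine (hG : H.Good) (he : H.ext = true) (R : Refl H)
    (hY : Nonempty (H.XM ≃* Equiv.Perm (Fin 9))) : ∃ v, Nine H v 0 := by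
  obtain ⟨v, hv, c0, c1, n0, n1, k0, k1, -⟩ := hG.nine_data he R hY
  obtain ⟨n, hn, hnt⟩ := hG.exists_n5 R
  exact ⟨_, (nine_mk hn hnt hv c0 c1 n0 n1 k0 k1 1).step⟩

variable {V : Type v} [AddCommGroup V] [DistribMulAction H.XA V]

/-- The two elements of order three on a natural module. -/
theorem Good.natural_setting (hG : H.Good) (R : Refl H) (hN : Lin.Natural H.XA V) :
    Lin.Setting V (H.ea (nineE 0)) (H.ea (nineE 1)) H.tA ∨
      Lin.Setting V (H.ea (nineE 1)) (H.ea (nineE 0)) H.tA := by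
  haveI : Finite V := Nat.finite_of_card_ne_zero (by rw [hN.card_eq]; norm_num)
  obtain ⟨hsum, h12, h122, hR1, -, hR1a⟩ := frame_sums
  -- `z` has no fixed points
  have hz3 : H.zA * H.zA * H.zA = 1 := by
    rw [← pow_three', ← H.zA_three]; exact pow_orderOf_eq_one _
  have hzne : H.zA ≠ 1 := fun e => by
    have := H.zA_three
    rw [e, orderOf_one] at this
    norm_num at this
  have hzf : ∀ w : V, H.zA • w = w → w = 0 := by
    refine Lin.fpf_of_heisenberg hN.double hN.card_eq (m := H.psi ⟨m2T, mem_Tb.2 rfl⟩)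
      (n := H.psi ⟨m1T, mem_Tb.2 rfl⟩) hz3 ?_ ?_ ?_ ?_ (hN.move hzne)
    · rw [← map_mul, ← map_mul, ← map_one H.psi]
      exact congrArg H.psi (Subtype.ext (show m2T * m2T * m2T = 1 by decide +kernel))
    · rw [← H.zA_eq, ← map_mul, ← map_mul]
      exact congrArg H.psi (Subtype.ext (zT_central _).symm)
    · rw [← H.zA_eq, ← map_mul, ← map_mul]
      exact congrArg H.psi (Subtype.ext (zT_central _))
    · rw [← H.zA_eq, ← map_mul, ← map_mul, ← map_mul]
      exact congrArg H.psi (Subtype.ext (show m1T * m2T = m2T * zT * m1T by decide +kernel))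
  have hzea : H.zA = H.ea ⟨1, 0, 0, 0⟩ := congrArg H.mkA (Subtype.ext H.emb_zT)
  -- so does the transvection
  have hr1 : R.r1 ∈ H.Ca := mem_centralizer_singleton_iff.2 (mul_inv_eq_iff_eq_mul.1 (by
    rw [aEl, R.nrm1, hR1a]))
  have hxf : ∀ w : V, H.ea ⟨0, 0, 0, 2⟩ • w = w → w = 0 := by
    have e : H.mkA ⟨R.r1, hr1⟩ * H.ea ⟨1, 0, 0, 0⟩ * (H.mkA ⟨R.r1, hr1⟩)⁻¹ = H.ea ⟨0, 0, 0, 2⟩ := by
      rw [ea, ea, ← map_inv, ← map_mul, ← map_mul]
      exact congrArg H.mkA (Subtype.ext ((R.nrm1 _).trans (congrArg H.emb hR1)))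
    rw [← e, ← hzea]
    exact Lin.fpf_conj _ hzf
  have ez : H.ea (nineE 0) * H.ea (nineE 1) = H.zA⁻¹ := by
    rw [← ea_ja, h12, ← hsum, ea_aline, hzea, ← ea_jn]
    rfl
  have ex : H.ea (nineE 0) * (H.ea (nineE 1) * H.ea (nineE 1)) = H.ea ⟨0, 0, 0, 2⟩ := by
    rw [← ea_ja, ← ea_ja, h122, ← hsum, ea_aline]
  have hne : ∀ i : Fin 2, H.ea (nineE i.castSucc) ≠ 1 := by
    intro i e
    obtain ⟨j, hj⟩ := H.mem_zp.1 (H.mkA_eq_one.1 e)
    have := congrArg JV.c (H.emb_inj hj)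
    fin_cases i <;> exact absurd this (show (1 : ZMod 3) ≠ 0 by decide)
  have hP : Lin.Pair V (H.ea (nineE 0)) (H.ea (nineE 1)) :=
    ⟨hN.double, hN.card_eq, H.ea_cube _, H.ea_cube _, H.ea_comm _ _, by rw [ez]; exact Lin.fpf_inv hzf,
      by rw [ex]; exact hxf, hN.move (hne 0), hN.move (hne 1)⟩
  have ht2 : H.tA * H.tA = 1 := by
    rw [tA, ← map_mul, ← map_one H.mkA]; exact congrArg H.mkA (Subtype.ext H.t_mul_self)
  have htc : ∀ i, H.tA * H.ea (nineE i) = H.ea (nineE i) * H.tA := fun i => by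
    rw [tA, ea, ← map_mul, ← map_mul]
    exact congrArg H.mkA (Subtype.ext (emb_comm_t (nineE_b i).2).symm)
  have htne : H.tA ≠ 1 := fun e => by
    obtain ⟨j, hj⟩ := H.mem_zp.1 (H.mkA_eq_one.1 e)
    exact absurd (congrArg T.g (H.inj (hj : H.par tT = H.par (jT _)))) (show tT.g ≠ xpow 0 by decide)
  rcases hP.cards with c | c
  · exact Or.inl ⟨hP, c.2, ht2, htc 0, htc 1, hN.move htne⟩
  · exact Or.inr ⟨hP.symm, c.1, ht2, htc 1, htc 0, hN.move htne⟩

/-- The centralizer of `m₁` cannot normalise `J`. -/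
theorem Good.natural_not_normal (hG : H.Good) (R : Refl H) (hN : Lin.Natural H.XA V)
    (hC : ∀ g : G, g * H.mEl = H.mEl * g → H.J.map (MulAut.conj g).toMonoidHom = H.J) : False := by
  haveI : Finite V := Nat.finite_of_card_ne_zero (by rw [hN.card_eq]; norm_num)
  obtain ⟨n, hn⟩ := hG.exists_fix [4, 2, 4, 4, 1]
  have hnJ : H.J.map (MulAut.conj n).toMonoidHom = H.J := by
    refine eq_of_le_of_card_ge ?_ (le_of_eq (card_map_of_injective (MulAut.conj n).injective).symm)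
    rintro _ ⟨y, hy, rfl⟩
    obtain ⟨v, rfl⟩ := H.mem_J.1 hy
    exact H.mem_J.2 ⟨_, (hn v).symm⟩
  -- the centralizers of `e₁` and `e₂` normalise `J`
  have hE : ∀ i : Fin 2, ∀ g : G, g * H.emb (nineE i.castSucc) = H.emb (nineE i.castSucc) * g →
      H.J.map (MulAut.conj g).toMonoidHom = H.J := by
    have key : ∀ {m : G} {x : JV}, H.J.map (MulAut.conj m).toMonoidHom = H.J →
        (∀ g : G, g * H.emb x = H.emb x * g → H.J.map (MulAut.conj g).toMonoidHom = H.J) →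
        ∀ {y : JV}, m * H.emb x * m⁻¹ = H.emb y →
        ∀ g : G, g * H.emb y = H.emb y * g → H.J.map (MulAut.conj g).toMonoidHom = H.J := by
      intro m x hm hx y hy g hg
      have h1 := hx (m⁻¹ * g * m) ((comm_transport hy).1 (by
        rw [show m * (m⁻¹ * g * m) * m⁻¹ = g by group]; exact hg))
      have e : (MulAut.conj g).toMonoidHom = (MulAut.conj m).toMonoidHom.comp
          ((MulAut.conj (m⁻¹ * g * m)).toMonoidHom.comp (MulAut.conj m⁻¹).toMonoidHom) := by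
        ext y; simp [mul_assoc]
      have hm' : H.J.map (MulAut.conj m⁻¹).toMonoidHom = H.J := by
        conv_lhs => rw [← hm, Subgroup.map_map]
        convert Subgroup.map_id _
        ext y; simp [mul_assoc]
      rw [e, ← Subgroup.map_map, ← Subgroup.map_map, hm', h1, hm]
    have h0 : ∀ g : G, g * H.emb (nineE 0) = H.emb (nineE 0) * g →
        H.J.map (MulAut.conj g).toMonoidHom = H.J := by
      have h := key hnJ (x := ⟨0, 0, 1, 0⟩) hC ((hn _).trans (congrArg H.emb w5_facts.1))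
      exact fun g hg => h g (comm_jn.2 hg)
    intro i
    match i with
    | 0 => exact h0
    | 1 =>
      have hPJ : H.J.map (MulAut.conj (H.par p2T)).toMonoidHom = H.J := by
        refine eq_of_le_of_card_ge ?_ (le_of_eq (card_map_of_injective (MulAut.conj _).injective).symm)
        rintro _ ⟨y, hy, rfl⟩
        obtain ⟨v, rfl⟩ := H.mem_J.1 hy
        exact H.mem_J.2 ⟨_, (H.nrm_al v).symm⟩
      have h := key hPJ (x := nineE 0) h0 ((H.nrm_al _).trans (congrArg H.emb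
        (show alJ (nineE 0) = jn (nineE 1) by decide +kernel)))
      exact fun g hg => h g (comm_jn.2 hg)
  -- the transvection
  have key : ∀ i : Fin 2, Lin.Setting V (H.ea (nineE i.castSucc)) (H.ea (nineE (![1, 0] i))) H.tA → False := by
    intro i hs
    obtain ⟨hc4, -⟩ := hs.tb_card
    obtain ⟨u, hu, hu0⟩ : ∃ u ∈ Lin.tb (V := V) H.tA, u ≠ 0 := by
      by_contra h
      have hb : Lin.tb (V := V) H.tA = ⊥ := (AddSubgroup.eq_bot_iff_forall _).2 fun u hu =>
        not_ne_iff.1 fun hne => h ⟨u, hu, hne⟩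
      rw [hb, AddSubgroup.card_bot] at hc4
      norm_num at hc4
    obtain ⟨hτu, hbu⟩ := hs.tb_fix hu
    obtain ⟨g, hg2, hgx, hgm, hgc⟩ := hN.tvn u hu0
    -- lift
    obtain ⟨x0, hx0⟩ := QuotientGroup.mk'_surjective H.aSub g
    have hx0' : H.mkA x0 = g := hx0
    have hsqA : ((x0 * x0 : H.Ca) : G) ∈ zpowers H.aEl := H.mkA_eq_one.1 (by rw [map_mul, hx0', hg2])
    set x : G := (x0 : G) ^ 3
    have hxC : x ∈ H.Ca := pow_mem x0.2 3
    have hx2 : x * x = 1 := by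
      obtain ⟨j, hj⟩ := H.mem_zp.1 hsqA
      show (x0 : G) ^ 3 * (x0 : G) ^ 3 = 1
      rw [← pow_add, show (3 + 3 : ℕ) = 2 * 3 from rfl, pow_mul, pow_two,
        show (x0 : G) * x0 = H.emb ⟨0, j, 0, 0⟩ from hj]
      exact H.J_cube (H.mem_J.2 ⟨_, rfl⟩)
    have hxg : H.mkA ⟨x, hxC⟩ = g := by
      rw [show (⟨x, hxC⟩ : H.Ca) = x0 ^ 3 from Subtype.ext rfl, map_pow, hx0', pow_succ, pow_two, hg2, one_mul]
    have hxt : x * H.t = H.t * x := exactA hxC H.t_mem_Ca hx2 (by rw [hxg]; exact (hgc _ hτu).symm)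
    have hxe : x * H.emb (nineE (![1, 0] i)) = H.emb (nineE (![1, 0] i)) * x :=
      exactA hxC (H.emb_mem_Ca _) hx2 (by rw [hxg]; exact (hgc _ hbu).symm)
    obtain ⟨f, hf⟩ := H.exists_nrm (by fin_cases i; exacts [hE 1 x hxe, hE 0 x hxe] : H.J.map (MulAut.conj x).toMonoidHom = H.J)
    have hfix : ∀ y, x * H.emb y = H.emb y * x → f y = y := fun y hy =>
      H.emb_inj (by rw [← hf, hy, mul_inv_cancel_right])
    have hfa := hfix ⟨0, 1, 0, 0⟩ (mem_centralizer_singleton_iff.1 hxC)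
    have hfe := hfix _ hxe
    have hft : tJ (f (nineE i.castSucc)) = f (nineE i.castSucc) := by
      refine Eq.trans ?_ (congrArg f (nineE_b i.castSucc).2)
      refine Nrm.unique (n := x * H.t) (f := fun w => tJ (f w)) (g := fun w => f (tJ w)) ?_ (hf.mul H.nrm_t) _
      rw [hxt]; exact H.nrm_t.mul hf
    have hrig := frame_rigid i (f (nineE i.castSucc)) (tJ_fix_b _ hft) (hG.nrm_q hf _)
      (by rw [← hG.nrm_q hf (ja (nineE i.castSucc) ⟨0, 1, 0, 0⟩), hf.add, hfa])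
      (by rw [← hG.nrm_q hf (ja (nineE i.castSucc) (nineE (![1, 0] i))), hf.add, hfe])
    have himg : g * H.ea (nineE i.castSucc) * g⁻¹ = H.ea (f (nineE i.castSucc)) := by
      rw [← hxg, ea, ea, ← map_inv, ← map_mul, ← map_mul]
      exact congrArg H.mkA (Subtype.ext (hf _))
    rw [inv_eq_of_mul_eq_one_right hg2] at himg
    obtain ⟨ht1, ht2⟩ := hs.transvection hu hu0 hg2 hgx hgm
    rcases hrig with ⟨j, e⟩ | ⟨j, e⟩ <;> rw [e, ea_aline] at himg
    · exact ht1 fun w => by rw [← mul_smul, ← mul_smul, himg]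
    · rw [ea_jn, H.ea_inv] at himg
      exact ht2 fun w => by rw [← mul_smul, ← mul_smul, himg, mul_smul]
  rcases hG.natural_setting R hN with hs | hs
  · exact key 0 hs
  · exact key 1 hs

/-- The involutions from `S₉` centralise the quaternion group. -/
theorem Nine.cent_Qsub {v : G} (h : Nine H v 0) (hG : H.Good) (R : Refl H) (hN : Lin.Natural H.XA V)
    {q : G} (hq : q ∈ H.Qsub) : v * q = q * v := by
  haveI : Finite V := Nat.finite_of_card_ne_zero (by rw [hN.card_eq]; norm_num)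
  have hv := h.mem_Ca
  set g := H.mkA ⟨v, hv⟩
  have hg2 : g * g = 1 := by rw [← map_mul, ← map_one H.mkA]; exact congrArg H.mkA (Subtype.ext h.sq)
  have hgt : g * H.tA = H.tA * g := by
    rw [tA, ← map_mul, ← map_mul]; exact congrArg H.mkA (Subtype.ext h.comm_t)
  have hgb : g * H.ea (nineE 1) = H.ea (nineE 1) * g := by
    rw [ea, ← map_mul, ← map_mul]; exact congrArg H.mkA (Subtype.ext (h.comm 1 (by decide)))
  have hgc : g * (H.ea (nineE 0) * g * (H.ea (nineE 0) * H.ea (nineE 0))) =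
      H.ea (nineE 0) * g * (H.ea (nineE 0) * H.ea (nineE 0)) * g := by
    rw [← H.ea_inv, ea, ← map_inv, ← map_mul, ← map_mul, ← map_mul, ← map_mul]
    exact congrArg H.mkA (Subtype.ext h.conj_comm)
  rcases hG.natural_setting R hN with hs | hs
  · set r := H.mkA ⟨q, Qsub_le_Ca hq⟩
    have hmt : ∀ {p s : G} (hp : p ∈ H.Ca) (hs : s ∈ H.Ca), (p * s = s * p ∨ p * s = H.t * (s * p)) →
        H.mkA ⟨p, hp⟩ * H.mkA ⟨s, hs⟩ = H.mkA ⟨s, hs⟩ * H.mkA ⟨p, hp⟩ ∨
          H.mkA ⟨p, hp⟩ * H.mkA ⟨s, hs⟩ = H.tA * (H.mkA ⟨s, hs⟩ * H.mkA ⟨p, hp⟩) := by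
      intro p s hp hs h
      simp only [tA, ← map_mul]
      exact h.imp (fun e => congrArg H.mkA (Subtype.ext e)) fun e => congrArg H.mkA (Subtype.ext e)
    have hrc : ∀ i : Fin 3, r * (H.ea (nineE i) * r * (H.ea (nineE i) * H.ea (nineE i))) =
        H.ea (nineE i) * r * (H.ea (nineE i) * H.ea (nineE i)) * r ∨
        r * (H.ea (nineE i) * r * (H.ea (nineE i) * H.ea (nineE i))) =
          H.tA * (H.ea (nineE i) * r * (H.ea (nineE i) * H.ea (nineE i)) * r) := by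
      intro i
      have hq' := Qsub_emb hq (nineE_b i).2
      have := hmt (Qsub_le_Ca hq) (Qsub_le_Ca hq') ((Qsub_pair hq hq').1.imp mul_inv_eq_one.1
        fun e => mul_inv_eq_iff_eq_mul.1 e)
      have e : H.mkA ⟨_, Qsub_le_Ca hq'⟩ = H.ea (nineE i) * r * (H.ea (nineE i) * H.ea (nineE i)) := by
        rw [← H.ea_inv, ea, ← map_inv, ← map_mul, ← map_mul]; rfl
      rwa [e] at this
    refine exactA hv (Qsub_le_Ca hq) h.sq (hN.inj _ _ fun w => ?_)
    rw [mul_smul, mul_smul]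
    refine hs.commute hg2 hgt hgb hgc ?_ ?_ (hrc 0) (hrc 1) w
    · rw [tA, ← map_mul, ← map_mul]
      refine congrArg H.mkA (Subtype.ext ?_)
      obtain ⟨-, hqt, -, -⟩ := (H.mem_Qsub_iff).1 hq
      exact hqt
    · refine (Qsub_pair hq hq).2.imp (fun e => ?_) fun e => ?_
      · rw [← map_mul, ← map_one H.mkA]; exact congrArg H.mkA (Subtype.ext e)
      · rw [← map_mul]; exact congrArg H.mkA (Subtype.ext e)
  · refine absurd (exactA hv (H.emb_mem_Ca _) h.sq (hN.inj _ _ fun w => ?_)) h.not_comm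
    rw [mul_smul, mul_smul]
    exact hs.comm_of hg2 hgb hgc w

theorem cent_step {v : G} (h : ∀ q ∈ H.Qsub, H.par p2T * v * (H.par p2T)⁻¹ * q =
    q * (H.par p2T * v * (H.par p2T)⁻¹)) : ∀ q ∈ H.Qsub, v * q = q * v := by
  intro q hq
  set P := H.par p2T
  have hq' : P * q * P⁻¹ ∈ H.Qsub := H.Qsub_conj (H.par_comm.2 t_p2.1)
    (Or.inl (by rw [H.par_z]; group)) hq
  calc v * q = P⁻¹ * (P * v * P⁻¹ * (P * q * P⁻¹)) * P := by group
    _ = _ := by rw [h _ hq']; group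

/-- The centralizer of `p₁` modulo it has no natural module of order 64. -/
theorem Good.natural_false (hG : H.Good) (he : H.ext = true) (R : Refl H) (hN : Lin.Natural H.XA V) :
    False := by
  rcases hG.centC he with h | hY
  · exact hG.natural_not_normal R hN h
  obtain ⟨v, hv, c0, c1, n0, n1, k0, k1, hy⟩ := hG.nine_data he R hY
  obtain ⟨n, hn, hnt⟩ := hG.exists_n5 R
  obtain ⟨w1, w2, w3, w4, w6⟩ := w5_facts
  have hback : ∀ y, n⁻¹ * H.emb (apW [4, 2, 4, 4, 1] y) * n⁻¹⁻¹ = H.emb y := fun y => by rw [← hn]; group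
  have hm1 : H.mEl = H.emb (apW [4, 2, 4, 4, 1] (nineE 0)) := by rw [w2]; rfl
  have mk := nine_mk hn hnt hv c0 c1 n0 n1 k0 k1
  have hcent : ∀ i : Fin 2, ∀ q ∈ H.Qsub, n⁻¹ * v i * n⁻¹⁻¹ * q = q * (n⁻¹ * v i * n⁻¹⁻¹) := by
    intro i
    fin_cases i
    · exact cent_step (cent_step fun q hq => ((mk 0).step.step).cent_Qsub hG R hN hq)
    · exact cent_step fun q hq => ((mk 1).step).cent_Qsub hG R hN hq
  set y := n⁻¹ * (v 0 * v 1) ^ 3 * n⁻¹⁻¹ with hydef
  have hyq : ∀ q ∈ H.Qsub, y * q = q * y := by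
    intro q hq
    rw [hydef, ← conj_pow, ← conj_mul]
    exact (((show Commute _ q from hcent 0 q hq).mul_left (hcent 1 q hq)).pow_left 3).eq
  have hy0 : y * H.emb (nineE 0) = H.emb (nineE 0) * y :=
    (comm_transport (hback (nineE 0))).2 (hm1 ▸
      (((show Commute (v 0) H.mEl from (hv 0).2.2).mul_left (hv 1).2.2).pow_left 3).eq)
  obtain ⟨j, hj⟩ := hy 0
  set Y := (v 0 * v 1) ^ 3
  have hy2 : y * H.emb (nineE 2) * y⁻¹ = H.emb (ja (jn (nineE 2)) ⟨-j, 0, 0, -j⟩) := by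
    rw [← hback (ja (jn (nineE 2)) ⟨-j, 0, 0, -j⟩), w6, H.emb_jn, show (nineE 1) = nineE (0 : Fin 2).succ from rfl,
      ← hj, hydef, ← hback (nineE 2), w4, H.emb_jn]
    group
    rfl
  obtain rfl : j = 0 := last_j j (hG.qJ_conj hy2).symm
  rw [neg_zero, show (⟨0, 0, 0, 0⟩ : JV) = j0 from rfl, (ja_j0 _).1] at hy2
  obtain ⟨a1, a2, a3, a4⟩ := last_k
  obtain ⟨g, hg, hg0, hg1⟩ := four_proper
  have hq : H.par ⟨0, v0, g⟩ ∈ H.Qsub := ⟨_, ⟨g, hg, rfl⟩, rfl⟩
  set q := H.par ⟨0, v0, g⟩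
  have hc : H.emb (ja (nineE 0) (jn (nineE 2))) * q = q * H.emb (ja (nineE 0) (jn (nineE 2))) := by
    have e : H.emb (ja (nineE 0) (jn (nineE 2))) = y * H.emb (ja (nineE 0) (nineE 2)) * y⁻¹ := by
      rw [H.emb_ja (nineE 0) (nineE 2), H.emb_ja, ← hy2]
      calc H.emb (nineE 0) * (y * H.emb (nineE 2) * y⁻¹) = H.emb (nineE 0) * y * H.emb (nineE 2) * y⁻¹ := by group
        _ = _ := by rw [← hy0]; group
    rw [e]
    have hyc : Commute y q := hyq q hq
    exact ((hyc.mul_left (Qsub_fix hq a1 a2)).mul_left hyc.inv_left).eq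
  rcases Qsub_free hq a3 a4 (Or.inl (by rw [hc]; group)) with e | e
  · exact hg0 (congrArg T.g (H.inj (e.trans (map_one H.par).symm)) :)
  · exact hg1 (congrArg T.g (H.inj e) :)

/-- The factor group is not `Sp₆(2)`. -/
theorem Good.not_spSix (hG : H.Good) (he : H.ext = true) (R : Refl H) {F₂ : Type v} [Field F₂] [Fintype F₂]
    (hF₂ : Fintype.card F₂ = 2) (e : H.XA ≃* Matrix.symplecticGroup (Fin 3) F₂) : False := by
  classical
  let W : Type v := CfsgLib.SpPres.Vec F₂ 3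
  letI : DistribMulAction H.XA W :=
    DistribMulAction.compHom W ((CfsgLib.SpPres.αSp (F := F₂) (n := 3)).comp e.toMonoidHom)
  have hsm : ∀ (g : H.XA) (w : W), g • w = CfsgLib.SpPres.αSp (e g) w := fun _ _ => rfl
  have h2 : ∀ x : F₂, x = 0 ∨ x = 1 := by
    intro x
    have hu : ({0, 1} : Finset F₂) = Finset.univ := Finset.eq_univ_of_card _ (by
      rw [Finset.card_pair zero_ne_one, hF₂])
    have := hu.ge (Finset.mem_univ x)
    simpa using this
  have htwo : (1 : F₂) + 1 = 0 := by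
    rcases h2 (1 + 1) with h | h
    · exact h
    · exact absurd (add_eq_left.1 h) one_ne_zero
  have hdd : ∀ w : W, w + w = 0 := fun w => funext fun k => by
    show w k + w k = 0
    rw [← two_mul, ← one_add_one_eq_two, htwo, zero_mul]
  refine hG.natural_false (V := W) he R ⟨hdd, ?_, fun g h hgh => e.injective
    (CfsgLib.SpPres.αSp_injective (LinearEquiv.ext hgh)), fun u hu => ?_⟩
  · show Nat.card (Fin 3 ⊕ Fin 3 → F₂) = 64
    rw [Nat.card_eq_fintype_card, Fintype.card_fun, hF₂]; rfl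
  · refine ⟨e.symm (CfsgLib.SpMult.tr u), ?_, fun x => ?_, ?_, fun h hh => ?_⟩
    · refine e.injective (CfsgLib.SpPres.αSp_injective (LinearEquiv.ext fun x => ?_))
      rw [map_mul, e.apply_symm_apply, map_one, map_one, CfsgLib.SpPres.αSp_mul, CfsgLib.SpMult.α_tr,
        CfsgLib.SpMult.α_tr, map_add, map_smul, CfsgLib.SpPres.bl_alt, smul_zero, add_zero, add_assoc, hdd,
        add_zero]
      rfl
    · rw [hsm, e.apply_symm_apply, CfsgLib.SpMult.α_tr]
      rcases h2 (CfsgLib.SpPres.bl u x) with e' | e' <;> rw [e']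
      · exact Or.inl (by rw [zero_smul, add_zero])
      · exact Or.inr (by rw [one_smul])
    · obtain ⟨w, hw⟩ := CfsgLib.SpPres.exists_dual_vec hu
      refine ⟨w, fun e' => ?_⟩
      rw [hsm, e.apply_symm_apply, CfsgLib.SpMult.α_tr, add_eq_left, smul_eq_zero] at e'
      rcases e' with e' | e'
      · refine one_ne_zero (α := F₂) ?_
        rw [← hw]
        rcases h2 (CfsgLib.SpPres.bl w u) with k | k
        · exact k
        · have hk := CfsgLib.SpPres.bl_alt (w + u)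
          simp only [map_add, LinearMap.add_apply, CfsgLib.SpPres.bl_alt, zero_add, add_zero, e', k] at hk
          exact absurd hk one_ne_zero
      · exact hu e'
    · refine e.injective ?_
      rw [map_mul, map_mul, e.apply_symm_apply]
      have := CfsgLib.SpMult.tr_conj (e h) u
      rw [show CfsgLib.SpPres.αSp (e h) u = u from hh] at this
      exact mul_inv_eq_iff_eq_mul.1 this

/-- The centralizer of `p₁` modulo it is the automorphism group of `PSp₄(3)`. -/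
theorem Good.xa_aut (hG : H.Good) (he : H.ext = true) (R : Refl H) :
    Nonempty (H.XA ≃* MulAut (Cfsg.PSp 2 (ZMod 3))) := by
  have h42 : RecogPSp H.XA (ZMod 3) (ZMod 2) := fun a ha C hC h1 h2 h3 e J h4 h5 h6 h7 h8 =>
    Cfsg.Agent.S3342.result a ha C hC h1 h2 h3 e J h4 h5 h6 h7 h8 (ZMod 3) (ZMod.card 3) (ZMod 2) (ZMod.card 2)
  rcases (H.XA_recog h42 hG).2 he with h | ⟨⟨e⟩⟩
  · exact h
  · exact (hG.not_spSix he R (ZMod.card 2) e).elim

end Base

end CfsgLib.O8Three
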