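import Cfsg.Agent.O8Three.ExtBase
import Cfsg.Agent.O8Three.ExtSp
import Cfsg.Agent.O8Three.CentW

/-!
# Centralizers in `C(t)` of `z`, `p₁` and the axes when the centralizer of `z` is larger

They lie in `K.N(A)`. The centralizer of `p₁` enters as a hypothesis.
-/

set_option autoImplicit false
set_option maxRecDepth 100000
set_option linter.style.haveILetI false
set_option linter.unusedSectionVars false

namespace CfsgLib.O8Three

open CfsgLib.PSpFourInvol (S sm si)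
open Subgroup
open scoped Pointwise

universe u

theorem line_kinds : ∀ v : JV, v.a = 0 → v.b = 0 → v ≠ j0 →
    ∃ o : Fin 4, cJ o v = ⟨1, 0, 0, 0⟩ ∨ cJ o v = jn ⟨1, 0, 0, 0⟩ ∨ cJ o v = ⟨0, 1, 0, 0⟩ ∨
      cJ o v = jn ⟨0, 1, 0, 0⟩ ∨ cJ o v = nineE 0 ∨ cJ o v = jn (nineE 0) := by decide +kernel

theorem axis_kinds : ∀ w : JV, w.b = 0 → qJ w = 1 →
    ∃ i : Fin 3, w = nineE i ∨ w = jn (nineE i) := by decide +kernel

theorem nine_axis : ∀ i : Fin 3, qJ (nineE i) = 1 ∧ ∀ o, (cJ o (nineE i)).k ≠ 0 := by decide +kernel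

theorem nineE_inj : ∀ i j : Fin 3, (nineE i = nineE j ∨ nineE i = jn (nineE j)) → i = j := by decide +kernel

namespace Base

variable {G : Type u} [Group G] {H : Base G}

/-- The normalizer of `A` in the centralizer of the involution. -/
def NW (H : Base G) : Subgroup G := H.Wt ⊓ normalizer (H.AA : Set G)

/-- The statement on the centralizer of `p₁`. -/
def Refl.CentA (R : Refl H) : Prop := ∀ g : G, g * H.t = H.t * g → g * H.aEl = H.aEl * g →
  g ∈ (R.U 0 ⊔ R.U 1) ⊔ (H.AA ⊔ closure {R.r1, H.out * R.r2 * R.r3})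

/-- Membership in `K.N(A)`. -/
def Refl.InKN (R : Refl H) (g : G) : Prop := ∃ k ∈ R.K, ∃ n ∈ H.NW, g = k * n

variable [Finite G]

theorem mem_NW {g : G} (ht : g * H.t = H.t * g)
    (h : ∀ u : JV, u.b = 0 → ∃ w : JV, w.b = 0 ∧ g * H.emb u * g⁻¹ = H.emb w) : g ∈ H.NW := by
  refine ⟨mem_Wt.2 ht, ?_⟩
  have hle : H.AA.map (MulAut.conj g).toMonoidHom ≤ H.AA := by
    rintro _ ⟨_, ⟨u, hu, rfl⟩, rfl⟩
    obtain ⟨w, hw, e⟩ := h u hu
    exact ⟨w, hw, e.symm⟩
  have heq := eq_of_le_of_card_ge hle (le_of_eq (card_map_of_injective (MulAut.conj g).injective).symm)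
  refine mem_normalizer_iff.2 fun y => ⟨fun hy => heq.le ⟨y, hy, rfl⟩, fun hy => ?_⟩
  obtain ⟨z, hz, e⟩ := heq.ge hy
  rwa [← (MulAut.conj g).injective e]

theorem NW_conj {g : G} (hg : g ∈ H.NW) {u : JV} (hu : u.b = 0) :
    ∃ w : JV, w.b = 0 ∧ g * H.emb u * g⁻¹ = H.emb w := by
  obtain ⟨w, hw, e⟩ := (mem_normalizer_iff.1 hg.2 _).1 (show H.emb u ∈ H.AA from ⟨u, hu, rfl⟩)
  exact ⟨w, hw, e.symm⟩

theorem t_mem_NW : H.t ∈ H.NW := mem_NW rfl fun u hu => ⟨_, by show -u.b = 0; rw [hu, neg_zero], H.nrm_t u⟩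

theorem emb_mem_NW {v : JV} (hv : v.b = 0) : H.emb v ∈ H.NW :=
  mem_NW (emb_comm_t (JV.ext rfl rfl (by show -v.b = _; rw [hv, neg_zero]) rfl)) fun u hu =>
    ⟨u, hu, by rw [H.emb_comm, mul_inv_cancel_right]⟩

theorem p2_mem_NW : H.par p2T ∈ H.NW :=
  mem_NW (H.par_comm.2 t_p2.1) fun u hu => ⟨_, (alJ_b u).trans hu, H.nrm_al u⟩

theorem Refl.rr_mem_NW (R : Refl H) (i : Fin 3) : R.rr i ∈ H.NW :=
  mem_NW (R.comm_t i) fun u hu => ⟨_, by
    match i with
    | 0 => exact hu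
    | 1 => exact hu
    | 2 => exact hu, R.nrm i u⟩

theorem Refl.cc_mem_NW (R : Refl H) : ∀ o, R.cc o ∈ H.NW
  | 0 => one_mem _
  | 1 => R.rr_mem_NW 0
  | 2 => R.rr_mem_NW 1
  | 3 => R.rr_mem_NW 2

theorem out_mem_NW (he : H.ext = true) : H.out ∈ H.NW :=
  mem_NW (out_comm_t he) fun u hu => ⟨outJ u, hu, nrm_out he u⟩

theorem Qsub_le_U0 (R : Refl H) {q : G} (hq : q ∈ H.Qsub) : q ∈ R.U 0 :=
  R.mem_U.2 ⟨q, hq, by show (1 : G) * q * (1 : G)⁻¹ = q; group⟩

/-- The centralizer of `z`. -/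
theorem Refl.inKN_z (R : Refl H) (he : H.ext = true) {g : G} (ht : g * H.t = H.t * g)
    (hz : g * H.z = H.z * g) : R.InKN g := by
  obtain ⟨x, hx⟩ := H.mem_cent.1 hz
  have key : ∀ x : T, H.par x * H.t = H.t * H.par x → R.InKN (H.par x) := by
    intro x hxt
    obtain ⟨i, hi⟩ : ∃ i : Fin 3, (i.1 : ZMod 3) = x.v.b := ⟨⟨x.v.b.val, ZMod.val_lt x.v.b⟩, ZMod.natCast_zmod_val x.v.b⟩
    have hb : ∀ k : ℕ, (p2T ^ k).v.b = k ∧ (p2T ^ k) * tT = tT * p2T ^ k := fun k => by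
      refine ⟨?_, ((show Commute p2T tT from t_p2.1).pow_left k).eq⟩
      have h1 : bHom (p2T ^ k) = Multiplicative.ofAdd (k : ZMod 3) := by
        rw [map_pow, show bHom p2T = Multiplicative.ofAdd (1 : ZMod 3) from rfl, ← ofAdd_nsmul, nsmul_one]
      exact Multiplicative.ofAdd.injective h1
    set y := x * (p2T ^ i.1)⁻¹ with hy
    have hyb : y.v.b = 0 := by
      have h1 : bHom y = 1 := by
        rw [hy, map_mul, map_inv]
        show Multiplicative.ofAdd x.v.b * (Multiplicative.ofAdd (p2T ^ i.1).v.b)⁻¹ = 1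
        rw [(hb _).1, hi, mul_inv_cancel]
      exact ofAdd_eq_one.1 h1
    have hyt : y * tT = tT * y :=
      ((show Commute x tT from H.par_comm.1 hxt).mul_left (show Commute (p2T ^ i.1) tT from (hb _).2).inv_left).eq
    have hf := comm_tT_form hyt hyb
    obtain ⟨q, hq, hqs⟩ := q_split y.g
    have e : y = ⟨0, v0, q⟩ * jT ⟨y.c, y.v.a, 0, chi y.g⟩ := by
      rw [hf]
      refine T.ext ?_ ?_ hqs.symm
      · simp [mul_def, tm, jT, bet, v0]
      · simp [mul_def, tm, jT, va, v0, act]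
    refine ⟨H.par ⟨0, v0, q⟩, R.U_le 0 (Qsub_le_U0 R ⟨_, ⟨q, hq, rfl⟩, rfl⟩),
      H.emb ⟨y.c, y.v.a, 0, chi y.g⟩ * H.par p2T ^ i.1, mul_mem (emb_mem_NW rfl) (pow_mem p2_mem_NW _), ?_⟩
    rw [emb, ← map_pow, ← map_mul, ← map_mul, ← mul_assoc, ← e, hy, inv_mul_cancel_right]
  rcases hx with rfl | rfl
  · exact key x ht
  · have hxt : H.par x * H.t = H.t * H.par x := by
      have h := ((show Commute (H.par x * H.out) H.t from ht).mul_left
        (show Commute H.out H.t from out_comm_t he)).eq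
      rwa [mul_assoc (H.par x), H.out_sq, mul_one] at h
    obtain ⟨k, hk, n, hn, e⟩ := key x hxt
    exact ⟨k, hk, n * H.out, mul_mem hn (out_mem_NW he), by rw [e, mul_assoc]⟩

set_option maxHeartbeats 800000 in
/-- The centralizer of `p₁`, as a product. -/
theorem Refl.cent_split (R : Refl H) (he : H.ext = true) (hR : R.Comm) (hA : R.CentA) {g : G}
    (ht : g * H.t = H.t * g) (ha : g * H.aEl = H.aEl * g) :
    ∃ k ∈ R.U 0 ⊔ R.U 1, ∃ n ∈ H.NW, g = k * n := by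
  set E := R.U 0 ⊔ R.U 1
  set D := H.AA ⊔ closure {R.r1, H.out * R.r2 * R.r3}
  have hnorm : ∀ {d : G}, (∀ y ∈ R.U 0, d * y * d⁻¹ ∈ E) → (∀ y ∈ R.U 1, d * y * d⁻¹ ∈ E) →
      d ∈ normalizer (E : Set G) := by
    intro d h0 h1
    have hle : E.map (MulAut.conj d).toMonoidHom ≤ E := by
      rw [Subgroup.map_sup]
      exact sup_le (by rintro _ ⟨y, hy, rfl⟩; exact h0 y hy) (by rintro _ ⟨y, hy, rfl⟩; exact h1 y hy)
    have heq := eq_of_le_of_card_ge hle (le_of_eq (card_map_of_injective (MulAut.conj d).injective).symm)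
    refine mem_normalizer_iff.2 fun y => ⟨fun hy => heq.le ⟨y, hy, rfl⟩, fun hy => ?_⟩
    obtain ⟨z, hz, e⟩ := heq.ge hy
    rwa [← (MulAut.conj d).injective e]
  have hr1 : R.r1 ∈ normalizer (E : Set G) := by
    refine hnorm (fun y hy => mem_sup_right ?_) fun y hy => mem_sup_left ?_
    · obtain ⟨q, hq, rfl⟩ := R.mem_U.1 hy
      exact R.mem_U.2 ⟨q, hq, by show R.r1 * q * R.r1⁻¹ = R.r1 * (1 * q * (1 : G)⁻¹) * R.r1⁻¹; group⟩
    · obtain ⟨q, hq, rfl⟩ := R.mem_U.1 hy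
      have e : R.r1 * (R.cc 1 * q * (R.cc 1)⁻¹) * R.r1⁻¹ = R.r1 * R.r1 * q * (R.r1 * R.r1)⁻¹ := by
        show R.r1 * (R.r1 * q * R.r1⁻¹) * R.r1⁻¹ = _; group
      rw [e, R.sq1, one_mul, inv_one, mul_one]
      exact Qsub_le_U0 R hq
  have hout : H.out ∈ normalizer (E : Set G) :=
    hnorm (fun y hy => by
      have h := out_U he R hy
      simp only [Matrix.cons_val_zero] at h
      exact mem_sup_left h) fun y hy => by
      have h := out_U he R hy
      simp only [Matrix.cons_val_one, Matrix.cons_val_zero] at h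
      exact mem_sup_right h
  have htr : R.r1 * R.r2 * R.r3 ∈ normalizer (E : Set G) := by
    set n := R.r1 * R.r2 * R.r3 with hn
    have hc : n * R.r1 = R.r1 * n := by
      exact (((Commute.refl R.r1).mul_left (show Commute R.r2 R.r1 from R.comm12.symm)).mul_left
        (show Commute R.r3 R.r1 from R.comm31)).eq
    refine hnorm (fun y hy => mem_sup_left ?_) fun y hy => mem_sup_right ?_ <;>
      obtain ⟨q, hq, rfl⟩ := R.mem_U.1 hy
    · rw [show R.cc 0 * q * (R.cc 0)⁻¹ = q by show (1 : G) * q * (1 : G)⁻¹ = q; group]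
      exact Qsub_le_U0 R (R.triple_q hq)
    · refine R.mem_U.2 ⟨n * q * n⁻¹, R.triple_q hq, ?_⟩
      show R.r1 * (n * q * n⁻¹) * R.r1⁻¹ = n * (R.r1 * q * R.r1⁻¹) * n⁻¹
      calc R.r1 * (n * q * n⁻¹) * R.r1⁻¹ = (R.r1 * n) * q * (R.r1 * n)⁻¹ := by group
        _ = (n * R.r1) * q * (n * R.r1)⁻¹ := by rw [hc]
        _ = _ := by group
  have hDN : D ≤ normalizer (E : Set G) := by
    refine sup_le ?_ ((closure_le _).2 ?_)
    · rintro _ ⟨u, hu, rfl⟩
      exact hnorm (fun y hy => mem_sup_left (R.U_norm hu hy)) fun y hy => mem_sup_right (R.U_norm hu hy)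
    · rintro d (rfl | rfl)
      · exact hr1
      · rw [show H.out * R.r2 * R.r3 = H.out * (R.r1⁻¹ * (R.r1 * R.r2 * R.r3)) by group]
        exact mul_mem hout (mul_mem (inv_mem hr1) htr)
  have hDW : D ≤ H.NW := by
    refine sup_le ?_ ((closure_le _).2 ?_)
    · rintro _ ⟨u, hu, rfl⟩; exact emb_mem_NW hu
    · rintro d (rfl | rfl)
      · exact R.rr_mem_NW 0
      · exact mul_mem (mul_mem (out_mem_NW he) (R.rr_mem_NW 1)) (R.rr_mem_NW 2)
  have hgm : g ∈ E ⊔ D := hA g ht ha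
  have hg : g ∈ ((E : Set G) * (D : Set G)) := by
    rw [← coe_mul_of_right_le_normalizer_left E D hDN]
    exact hgm
  obtain ⟨k, hk, n, hn, rfl⟩ := Set.mem_mul.1 hg
  exact ⟨k, hk, n, hDW hn, rfl⟩

theorem Refl.inKN_a (R : Refl H) (he : H.ext = true) (hR : R.Comm) (hA : R.CentA) {g : G}
    (ht : g * H.t = H.t * g) (ha : g * H.aEl = H.aEl * g) : R.InKN g := by
  obtain ⟨k, hk, n, hn, e⟩ := R.cent_split he hR hA ht ha
  exact ⟨k, sup_le (R.U_le 0) (R.U_le 1) hk, n, hn, e⟩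

/-- The centralizer of `m₁` is not `3 × S₉` over `⟨m₁⟩`. -/
theorem Refl.not_nine (R : Refl H) (hG : H.Good) (he : H.ext = true) (hR : R.Comm) (hA : R.CentA) :
    ¬ Nonempty (H.XM ≃* Equiv.Perm (Fin 9)) := by
  intro hY
  obtain ⟨v, hv⟩ := hG.exists_nine he R hY
  have hva : v * H.aEl = H.aEl * v := mem_centralizer_singleton_iff.1 hv.mem_Ca
  obtain ⟨k, hk, n, hn, e⟩ := R.cent_split he hR hA hv.comm_t hva
  have hkK : k ∈ R.K := sup_le (R.U_le 0) (R.U_le 1) hk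
  -- `k` centralises the second axis
  obtain ⟨w, hw, hnw⟩ := NW_conj hn (nineE_b 1).1
  have hc2 : v * H.emb (nineE 1) * v⁻¹ = H.emb (nineE 1) := by
    rw [hv.comm 1 (by decide), mul_inv_cancel_right]
  rw [e] at hc2
  have hkw : k * H.emb w * k⁻¹ = H.emb (nineE 1) := by
    rw [← hnw]; refine Eq.trans ?_ hc2; group
  have hww : w = nineE 1 := by
    have h1 : H.emb (nineE 1) * (H.emb w)⁻¹ ∈ R.K := by
      rw [← hkw, show k * H.emb w * k⁻¹ * (H.emb w)⁻¹ = k * (H.emb w * k⁻¹ * (H.emb w)⁻¹) by group]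
      exact mul_mem hkK (R.K_emb hw (inv_mem hkK))
    rw [← H.emb_jn, ← H.emb_ja] at h1
    have h3 : H.emb (ja (nineE 1) (jn w)) ^ 3 = 1 := H.J_cube (H.mem_J.2 ⟨_, rfl⟩)
    have h4 := coprime_cube (L := R.K) (by rw [hR.card_K]; norm_num) h1 h3
    rw [H.emb_ja, H.emb_jn, mul_inv_eq_one] at h4
    exact (H.emb_inj h4).symm
  subst hww
  have hk1 : k = 1 ∨ k = H.t := hR.fix_axis (nineE_b 1).1 (nine_axis 1).2 hkK (mul_inv_eq_iff_eq_mul.1 hkw)
  have hvN : v ∈ H.NW := by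
    rw [e]
    refine mul_mem ?_ hn
    rcases hk1 with rfl | rfl
    · exact one_mem _
    · exact t_mem_NW
  -- `v` inverts the first axis
  obtain ⟨u, hu, hvu⟩ := NW_conj hvN (nineE_b 0).1
  obtain ⟨i, hi⟩ := axis_kinds u hu ((hG.qJ_conj hvu).symm.trans (nine_axis 0).1)
  have hback : ∀ x : JV, v * H.emb x = H.emb x * v → (u = x → nineE 0 = x) := by
    intro x hx e'
    refine H.emb_inj (mul_left_cancel (a := v) (mul_right_cancel (b := v⁻¹) ?_))
    rw [hvu, e', hx, mul_inv_cancel_right]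
  obtain rfl : i = 0 := by
    by_contra hi0
    have hc := hv.comm i hi0
    rcases hi with hi | hi
    · exact hi0 (nineE_inj 0 i (Or.inl (hback _ hc hi))).symm
    · exact hi0 (nineE_inj 0 i (Or.inr (hback _ (comm_jn.2 hc) hi))).symm
  rcases hi with rfl | rfl
  · exact hv.not_comm (mul_inv_eq_iff_eq_mul.1 hvu)
  · set E := H.emb (nineE 0)
    rw [H.emb_jn] at hvu
    have hvi : v⁻¹ = v := inv_eq_of_mul_eq_one_right hv.sq
    have e1 : v * (E * v * E⁻¹) = E⁻¹ * E⁻¹ := by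
      calc v * (E * v * E⁻¹) = (v * E * v⁻¹) * (v * v) * E⁻¹ := by group
        _ = _ := by rw [hvu, hv.sq, mul_one]
    have e2 : E * v * E⁻¹ * v = E * E := by
      calc E * v * E⁻¹ * v = E * (v * E⁻¹ * v⁻¹) := by rw [hvi]; group
        _ = E * (v * E * v⁻¹)⁻¹ := by group
        _ = _ := by rw [hvu, inv_inv]
    have e3 := hv.conj_comm
    rw [e1, e2] at e3
    have h3 : E ^ 3 = 1 := H.J_cube (H.mem_J.2 ⟨_, rfl⟩)
    have h4 : E ^ 4 = 1 := by
      calc E ^ 4 = E * E * (E * E) := by simp only [pow_succ, pow_zero, one_mul, mul_assoc]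
        _ = E⁻¹ * E⁻¹ * (E * E) := by rw [e3]
        _ = 1 := by group
    rw [pow_succ, h3, one_mul] at h4
    exact absurd (H.emb_inj (h4.trans H.emb_j0.symm)) (by decide)

/-- The centralizers of the axes normalise `A`. -/
theorem Refl.axis_NW (R : Refl H) (hG : H.Good) (he : H.ext = true) (hR : R.Comm) (hA : R.CentA)
    (i : Fin 3) {g : G} (ht : g * H.t = H.t * g) (hg : g * H.emb (nineE i) = H.emb (nineE i) * g) :
    g ∈ H.NW := by
  have hC := (hG.centC he).resolve_right (R.not_nine hG he hR hA)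
  have h0 : ∀ g : G, g * H.t = H.t * g → g * H.emb (nineE 0) = H.emb (nineE 0) * g → g ∈ H.NW := by
    intro g ht hg
    obtain ⟨n, hn⟩ := hG.exists_fix [4, 2, 4, 4, 1]
    have hm : n * g * n⁻¹ * H.mEl = H.mEl * (n * g * n⁻¹) :=
      (comm_transport (show n * H.emb (nineE 0) * n⁻¹ = H.mEl from
        (hn _).trans (congrArg H.emb w5_facts.2.1))).2 hg
    have hJ := hC _ hm
    have hgJ : H.J.map (MulAut.conj g).toMonoidHom = H.J := by
      refine eq_of_le_of_card_ge ?_ (le_of_eq (card_map_of_injective (MulAut.conj g).injective).symm)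
      rintro _ ⟨y, hy, rfl⟩
      obtain ⟨v, rfl⟩ := H.mem_J.1 hy
      obtain ⟨w, hw⟩ := H.mem_J.1 (hJ.le ⟨_, H.mem_J.2 ⟨_, (hn v).symm⟩, rfl⟩)
      have hw' : n * g * n⁻¹ * (n * H.emb v * n⁻¹) * (n * g * n⁻¹)⁻¹ = H.emb w := hw.symm
      let e := Equiv.ofBijective (apW [4, 2, 4, 4, 1]) (Finite.injective_iff_bijective.1 hn.inj)
      refine H.mem_J.2 ⟨e.symm w, ?_⟩
      show H.emb (e.symm w) = g * H.emb v * g⁻¹
      have hv' := hn (e.symm w)
      rw [show apW [4, 2, 4, 4, 1] (e.symm w) = w from e.apply_symm_apply w, ← hw'] at hv'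
      calc H.emb (e.symm w) = n⁻¹ * (n * H.emb (e.symm w) * n⁻¹) * n := by group
        _ = _ := by rw [hv']; group
    obtain ⟨f, hf⟩ := H.exists_nrm hgJ
    refine mem_NW ht fun u hu => ⟨f u, ?_, hf u⟩
    have htu : tJ u = u := JV.ext rfl rfl (by show -u.b = _; rw [hu, neg_zero]) rfl
    refine tJ_fix_b _ (Eq.trans ?_ (congrArg f htu))
    refine Nrm.unique (n := g * H.t) (f := fun w => tJ (f w)) (g := fun w => f (tJ w)) ?_ (hf.mul H.nrm_t) _
    rw [ht]; exact H.nrm_t.mul hf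
  set P := H.par p2T
  have hstep : ∀ i : Fin 3, (∀ g : G, g * H.t = H.t * g → g * H.emb (nineE i) = H.emb (nineE i) * g →
      g ∈ H.NW) → ∀ g : G, g * H.t = H.t * g → g * H.emb (nineE (i + 1)) = H.emb (nineE (i + 1)) * g →
      g ∈ H.NW := by
    intro i hi g ht hg
    have hPt : Commute P H.t := H.par_comm.2 t_p2.1
    have h' : P⁻¹ * g * P ∈ H.NW := by
      refine hi _ ((hPt.inv_left.mul_left ht).mul_left hPt).eq
        ((comm_transport (show P * H.emb (nineE i) * P⁻¹ = H.emb (alJ (nineE i)) from H.nrm_al _)).1 ?_)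
      rw [show P * (P⁻¹ * g * P) * P⁻¹ = g by group]
      rcases al_step i with e | e <;> rw [e]
      · exact hg
      · exact comm_jn.2 hg
    have := mul_mem (mul_mem (p2_mem_NW (H := H)) h') (inv_mem p2_mem_NW)
    rwa [show P * (P⁻¹ * g * P) * P⁻¹ = g by group] at this
  match i with
  | 0 => exact h0 g ht hg
  | 1 => exact hstep 0 h0 g ht hg
  | 2 => exact hstep 1 (hstep 0 h0) g ht hg

theorem Refl.cc_K (R : Refl H) (o : Fin 4) {k : G} (hk : k ∈ R.K) : R.cc o * k * (R.cc o)⁻¹ ∈ R.K := by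
  match o with
  | 0 => show (1 : G) * k * (1 : G)⁻¹ ∈ R.K; rwa [one_mul, inv_one, mul_one]
  | 1 => exact R.K_rr 0 hk
  | 2 => exact R.K_rr 1 hk
  | 3 => exact R.K_rr 2 hk

/-- The centralizers of the elements of `⟨z, x⟩` lie in `K.N(A)`. -/
theorem Refl.inKN_line (R : Refl H) (hG : H.Good) (he : H.ext = true) (hR : R.Comm) (hA : R.CentA)
    {v : JV} (ha : v.a = 0) (hb : v.b = 0) (hne : v ≠ j0) {g : G} (ht : g * H.t = H.t * g)
    (hg : g * H.emb v = H.emb v * g) : R.InKN g := by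
  obtain ⟨o, ho⟩ := line_kinds v ha hb hne
  set c := R.cc o with hc
  have hct : Commute c H.t := R.cc_t o
  have ht' : c * g * c⁻¹ * H.t = H.t * (c * g * c⁻¹) := ((hct.mul_left ht).mul_left hct.inv_left).eq
  have hg' := (comm_transport (m := c) (R.cc_nrm o v)).2 hg
  have key : R.InKN (c * g * c⁻¹) := by
    rcases ho with e | e | e | e | e | e <;> rw [e] at hg'
    · exact R.inKN_z he ht' (by rw [H.emb_zT]; exact hg')
    · exact R.inKN_z he ht' (by rw [H.emb_zT]; exact comm_jn.1 hg')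
    · exact R.inKN_a he hR hA ht' hg'
    · exact R.inKN_a he hR hA ht' (comm_jn.1 hg')
    · exact ⟨1, one_mem _, _, R.axis_NW hG he hR hA 0 ht' hg', (one_mul _).symm⟩
    · exact ⟨1, one_mem _, _, R.axis_NW hG he hR hA 0 ht' (comm_jn.1 hg'), (one_mul _).symm⟩
  obtain ⟨k, hk, n, hn, e⟩ := key
  have hci : c⁻¹ = c := R.cc_inv o
  refine ⟨c * k * c⁻¹, R.cc_K o hk, c * n * c, mul_mem (mul_mem (R.cc_mem_NW o) hn) (R.cc_mem_NW o), ?_⟩
  calc g = c⁻¹ * (c * g * c⁻¹) * c := by group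
    _ = c * (k * n) * c := by rw [e, hci]
    _ = _ := by group

end Base

end CfsgLib.O8Three
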