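import Cfsg.Agent.O8Three.ExtDD

/-!
# An element of `C(t)` normalising `K⟨r₁, r₂, r₃, out⟩` normalises `K` and fixes the class of `out`
-/

set_option autoImplicit false
set_option maxRecDepth 100000
set_option linter.style.haveILetI false
set_option linter.unusedSectionVars false

namespace CfsgLib.O8Three

open CfsgLib.PSpFourInvol (S sm si)
open Subgroup
open scoped Pointwise

universe u

theorem dd_nonabelian : ∃ x y : Sg × Bool, ddMul x y ≠ ddMul y x := by decide +kernel

theorem outcl_prod : ddMul (e0, true) (![false, true, true], true) = (![false, true, true], false) ∧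
    (![false, true, true], false) ≠ ((e0, false) : Sg × Bool) ∧
    ¬ OutCl (![false, true, true], false) ∧
    ddMul (ddMul (![false, true, false], false) (![false, true, true], true)) (![false, true, false], false) =
      (e0, true) := by
  unfold OutCl
  decide +kernel

theorem dd_inv_unique : ∀ x y z : Sg × Bool, ddMul z x = ddMul z y → x = y := by decide +kernel

namespace Base

variable {G : Type u} [Group G] {H : Base G}

/-- Conjugation by `g` maps the fixed points of `y` into those of its image. -/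
theorem Refl.FixK_conj {R : Refl H} {g y k : G} (ht : g * H.t = H.t * g)
    (hK : ∀ x ∈ R.K, g * x * g⁻¹ ∈ R.K) (hk : k ∈ R.FixK y) : g * k * g⁻¹ ∈ R.FixK (g * y * g⁻¹) := by
  refine ⟨hK _ hk.1, ?_⟩
  rw [show g * y * g⁻¹ * (g * k * g⁻¹) * (g * y * g⁻¹)⁻¹ * (g * k * g⁻¹)⁻¹ =
    g * (y * k * y⁻¹ * k⁻¹) * g⁻¹ by group, hk.2.conj ht]
  exact hk.2

variable [Finite G]

/-- The normalizer of `T` in `C(t)` normalises `K`. -/
theorem Refl.Comm.normT_K {R : Refl H} (hR : R.Comm) (he : H.ext = true) {g : G}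
    (ht : g * H.t = H.t * g) (hg : ∀ x ∈ R.TT, g * x * g⁻¹ ∈ R.TT) :
    ∀ k ∈ R.K, g * k * g⁻¹ ∈ R.K := by
  classical
  haveI := Fintype.ofFinite G
  have hdec : ∀ k : R.K, ∃ p : R.K × (Sg × Bool), g * (k : G) * g⁻¹ = p.1 * R.dd p.2 := fun k => by
    obtain ⟨l, hl, x, e⟩ := (R.mem_TT he).1 (hg _ ((R.mem_TT he).2 ⟨k, k.2, (e0, false), by
      rw [R.dd_one, mul_one]⟩))
    exact ⟨(⟨l, hl⟩, x), e⟩
  choose p hp using hdec
  let χ : R.K → Sg × Bool := fun k => (p k).2
  have hn : ∀ (x : Sg × Bool), ∀ y ∈ R.K, R.dd x * y * (R.dd x)⁻¹ ∈ R.K := fun x y hy => R.dd_K he x hy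
  -- the projection is multiplicative
  have hmul : ∀ a b : R.K, χ (a * b) = ddMul (χ a) (χ b) := by
    intro a b
    have e : g * ((a * b : R.K) : G) * g⁻¹ =
        (p a).1 * (R.dd (χ a) * (p b).1 * (R.dd (χ a))⁻¹) * R.dd (ddMul (χ a) (χ b)) := by
      rw [← R.dd_mul he]
      calc g * ((a * b : R.K) : G) * g⁻¹ = (g * (a : G) * g⁻¹) * (g * (b : G) * g⁻¹) := by
            rw [Subgroup.coe_mul]; group
        _ = _ := by rw [hp, hp]; group; rfl
    exact (hR.TT_unique he (p (a * b)).1.2 (mul_mem (p a).1.2 (hn _ _ (p b).1.2))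
      ((hp _).symm.trans e)).2
  by_contra hcon
  push Not at hcon
  obtain ⟨k0, hk0, hk0'⟩ := hcon
  have hne : χ ⟨k0, hk0⟩ ≠ (e0, false) := fun e => hk0' (by
    rw [hp ⟨k0, hk0⟩, show (p ⟨k0, hk0⟩).2 = (e0, false) from e, R.dd_one, mul_one]
    exact (p ⟨k0, hk0⟩).1.2)
  -- the part falling into `K` is fixed by every element of the image
  set M := (Finset.univ : Finset R.K).filter fun m => χ m = (e0, false)
  have hfix : ∀ k : R.K, M.card ≤ Set.ncard (R.FixK (R.dd (χ k))) := by
    intro k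
    rw [Set.ncard_eq_toFinset_card']
    refine Finset.card_le_card_of_injOn (fun m : R.K => g * (m : G) * g⁻¹) (fun m hm => ?_)
      (fun a _ b _ h => Subtype.ext (mul_left_cancel (mul_right_cancel h)))
    simp only [Finset.mem_coe, M, Finset.mem_filter] at hm
    rw [Finset.mem_coe, Set.mem_toFinset, ← hR.FixK_coset (p k).1.2 (hn _)]
    rw [show ((p k).1 : G) * R.dd (χ k) = g * (k : G) * g⁻¹ from (hp k).symm]
    refine ⟨?_, ?_⟩
    · show g * (m : G) * g⁻¹ ∈ R.K
      rw [hp m, show (p m).2 = (e0, false) from hm.2, R.dd_one, mul_one]; exact (p m).1.2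
    · show H.Pm (g * (k : G) * g⁻¹ * (g * (m : G) * g⁻¹) * (g * (k : G) * g⁻¹)⁻¹ * (g * (m : G) * g⁻¹)⁻¹)
      have hpm := hR.K_pm k.2 m.2
      rw [show g * (k : G) * g⁻¹ * (g * (m : G) * g⁻¹) * (g * (k : G) * g⁻¹)⁻¹ * (g * (m : G) * g⁻¹)⁻¹ =
        g * ((k : G) * m * (k : G)⁻¹ * (m : G)⁻¹) * g⁻¹ by group, hpm.conj ht]
      exact hpm
  -- all fibres have the size of this part
  have hfib : ∀ x ∈ (Finset.univ : Finset R.K).image χ,
      ((Finset.univ : Finset R.K).filter fun k => χ k = x).card ≤ M.card := by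
    intro x hx
    obtain ⟨a, -, rfl⟩ := Finset.mem_image.1 hx
    refine Finset.card_le_card_of_injOn (fun k => a⁻¹ * k) (fun k hk => ?_)
      (fun _ _ _ _ h => mul_left_cancel h)
    simp only [Finset.mem_coe, M, Finset.mem_filter, Finset.mem_univ, true_and] at hk ⊢
    refine dd_inv_unique _ _ (χ a) ?_
    rw [← hmul, mul_inv_cancel_left, hk, dd_alg.2.1]
  have hcount := Finset.card_le_mul_card_image (Finset.univ : Finset R.K) M.card hfib
  rw [Finset.card_univ, ← Nat.card_eq_fintype_card, hR.card_K] at hcount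
  set Sx := (Finset.univ : Finset R.K).image χ
  by_cases hcl : ∀ x ∈ Sx, x = (e0, false) ∨ OutCl x
  · have h2 : Sx.card ≤ 2 := by
      have hsub : Sx ⊆ {(e0, false), (e0, true), (![false, true, true], true)} := fun x hx => by
        rcases hcl x hx with h | h | h <;> simp [h]
      by_contra h3
      have heq : Sx = {(e0, false), (e0, true), (![false, true, true], true)} :=
        Finset.eq_of_subset_of_card_le hsub (Finset.card_le_three.trans (by omega))
      obtain ⟨a, -, ha⟩ := Finset.mem_image.1 (heq ▸ (by simp) : ((e0, true) : Sg × Bool) ∈ Sx)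
      obtain ⟨b, -, hb⟩ := Finset.mem_image.1
        (heq ▸ (by simp) : ((![false, true, true], true) : Sg × Bool) ∈ Sx)
      have hab : χ (a * b) ∈ Sx := Finset.mem_image_of_mem _ (Finset.mem_univ _)
      rw [hmul, ha, hb, outcl_prod.1] at hab
      rcases hcl _ hab with h | h
      · exact outcl_prod.2.1 h
      · exact outcl_prod.2.2.1 h
    have h181 := (hfix ⟨k0, hk0⟩).trans (hR.FixK_dd he hne).1
    have := Nat.mul_le_mul h181 h2
    omega
  · push Not at hcl
    obtain ⟨x, hx, hx0, hxo⟩ := hcl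
    obtain ⟨a, -, rfl⟩ := Finset.mem_image.1 hx
    have h32 := (hfix a).trans ((hR.FixK_dd he hx0).2 hxo)
    have h15 : Sx.card ≤ 15 := by
      by_contra h16
      have hall : Sx = Finset.univ := Finset.eq_univ_of_card _ (le_antisymm (Finset.card_le_univ _) (by
        rw [show Fintype.card (Sg × Bool) = 16 by simp]; omega))
      obtain ⟨u, v, huv⟩ := dd_nonabelian
      obtain ⟨c, -, hc⟩ := Finset.mem_image.1 (hall ▸ Finset.mem_univ u : u ∈ Sx)
      obtain ⟨d, -, hd⟩ := Finset.mem_image.1 (hall ▸ Finset.mem_univ v : v ∈ Sx)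
      refine huv ?_
      have hpm := hR.K_pm c.2 d.2
      -- the images commute as commutators in `K` lie in `⟨t⟩`
      have hpK : ∀ {q : G}, H.Pm q → q ∈ R.K := fun {q} hq => by
        rcases hq with h | h <;> rw [h]
        · exact one_mem _
        · exact R.t_mem_K
      set z : R.K := ⟨_, hpK hpm⟩
      have hz : χ z = (e0, false) := by
        refine (hR.TT_unique he (p z).1.2 (hpK hpm) (y := (e0, false)) ?_).2
        rw [R.dd_one, mul_one]
        exact (hp z).symm.trans (hpm.conj ht)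
      have hcd : c * d = z * (d * c) := Subtype.ext (by simp only [Subgroup.coe_mul, z]; group)
      have := congrArg χ hcd
      rw [hmul, hmul, hmul, hz, hc, hd] at this
      rwa [(show ∀ w, ddMul (e0, false) w = w by decide +kernel)] at this
    have := Nat.mul_le_mul h32 h15
    omega

theorem Refl.Comm.U01_fix_out {R : Refl H} (hR : R.Comm) (he : H.ext = true) :
    33 ≤ Set.ncard (R.FixK H.out) := by
  classical
  set E := R.U 0 ⊔ R.U 1
  have hfixg : ∀ x ∈ E, H.out * x * H.out⁻¹ = x := by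
    have h : E ≤ centralizer ({H.out} : Set G) := by
      refine sup_le (fun x hx => ?_) fun x hx => ?_ <;> obtain ⟨q, hq, rfl⟩ := R.mem_U.1 hx <;>
        refine mem_centralizer_singleton_iff.2 ?_
      · rw [show R.cc 0 * q * (R.cc 0)⁻¹ = q by show (1 : G) * q * (1 : G)⁻¹ = q; group]
        exact (out_Qsub he hq).symm
      · have h1 : Commute H.out R.r1 := out_r1 he R
        exact ((h1.mul_right (show Commute H.out q from out_Qsub he hq)).mul_right h1.inv_right).symm.eq
    intro x hx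
    rw [← mem_centralizer_singleton_iff.1 (h hx), mul_inv_cancel_right]
  have hsub : (E : Set G) ⊆ R.FixK H.out := fun x hx =>
    ⟨sup_le (R.U_le 0) (R.U_le 1) hx, Or.inl (by rw [hfixg x hx, mul_inv_cancel])⟩
  obtain ⟨g, hg, hg0, hg1⟩ := four_proper
  set q : H.Qsub := ⟨H.par ⟨0, v0, g⟩, ⟨_, ⟨g, hg, rfl⟩, rfl⟩⟩
  set w := R.fU 2 q * R.fU 3 q
  have hwK : w ∈ R.K := mul_mem (R.U_le 2 (R.fU_mem 2 q)) (R.U_le 3 (R.fU_mem 3 q))
  have hw : w ∈ R.FixK H.out := by
    refine ⟨hwK, Or.inl ?_⟩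
    have hq : H.out * (q : G) * H.out⁻¹ = q := by rw [out_Qsub he q.2, mul_inv_cancel_right]
    have e : ∀ {r s : G}, H.out * r * H.out⁻¹ = s →
        H.out * (r * (q : G) * r⁻¹) * H.out⁻¹ = s * q * s⁻¹ := fun {r s} h => by
      calc H.out * (r * (q : G) * r⁻¹) * H.out⁻¹ =
            (H.out * r * H.out⁻¹) * (H.out * (q : G) * H.out⁻¹) * (H.out * r * H.out⁻¹)⁻¹ := by group
        _ = _ := by rw [h, hq]
    have e2 : H.out * R.fU 2 q * H.out⁻¹ = R.fU 3 q := e (out_r2 he R)
    have e3 : H.out * R.fU 3 q * H.out⁻¹ = R.fU 2 q := e (out_r3 he R)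
    rw [mul_inv_eq_one]
    calc H.out * (R.fU 2 q * R.fU 3 q) * H.out⁻¹ =
        (H.out * R.fU 2 q * H.out⁻¹) * (H.out * R.fU 3 q * H.out⁻¹) := by group
      _ = R.fU 3 q * R.fU 2 q := by rw [e2, e3]
      _ = _ := hR.U_comm (by decide) (R.fU_mem 3 q) (R.fU_mem 2 q)
  have hwE : w ∉ (E : Set G) := by
    intro h
    have hn01 : R.U 1 ≤ normalizer (R.U 0 : Set G) :=
      le_trans (fun y hy => mem_centralizer_iff.2 fun x hx => hR.U_comm (by decide) hx hy)
        (centralizer_le_normalizer _)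
    have h' : w ∈ ((R.U 0 : Set G) * (R.U 1 : Set G)) := coe_mul_of_right_le_normalizer_left _ _ hn01 ▸ h
    obtain ⟨a, ha, b, hb, hab⟩ := Set.mem_mul.1 h'
    obtain ⟨p, hp, rfl⟩ := R.mem_U.1 ha
    obtain ⟨p', hp', rfl⟩ := R.mem_U.1 hb
    have h1 := hR.inj (q := ![(⟨p, hp⟩ : H.Qsub)⁻¹, (⟨p', hp'⟩ : H.Qsub)⁻¹, q, q]) (Or.inl (by
      rw [hR.phi_apply]
      simp only [Matrix.cons_val_zero, Matrix.cons_val_one, Matrix.cons_val, map_inv]
      set A := R.fU 0 ⟨p, hp⟩
      set B := R.fU 1 ⟨p', hp'⟩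
      have hAB : A * B = R.fU 2 q * R.fU 3 q := hab
      have hc : A * B = B * A := hR.U_comm (by decide) (R.fU_mem 0 _) (R.fU_mem 1 _)
      calc A⁻¹ * B⁻¹ * R.fU 2 q * R.fU 3 q = (B * A)⁻¹ * (R.fU 2 q * R.fU 3 q) := by group
        _ = 1 := by rw [← hc, hAB, inv_mul_cancel])) 2
    simp only [Matrix.cons_val] at h1
    rcases R.fU_pm h1 with e | e
    · exact hg0 (congrArg T.g (H.inj ((congrArg Subtype.val e).trans (map_one H.par).symm)) :)
    · exact hg1 (congrArg T.g (H.inj (congrArg Subtype.val e :)) :)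
  have h1 : insert w (E : Set G) ⊆ R.FixK H.out := Set.insert_subset hw hsub
  have h2 := Set.ncard_le_ncard h1 (Set.toFinite _)
  rw [Set.ncard_insert_of_notMem hwE (Set.toFinite _)] at h2
  have h32 := hR.card_two
  rw [show Nat.card E = Set.ncard (E : Set G) from (Nat.card_coe_set_eq (E : Set G))] at h32
  omega

/-- After adjusting by `r₂` the class of `out` modulo `K` is fixed. -/
theorem Refl.Comm.normT_out {R : Refl H} (hR : R.Comm) (he : H.ext = true) {g : G}
    (ht : g * H.t = H.t * g) (hg : ∀ x ∈ R.TT, g * x * g⁻¹ ∈ R.TT) :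
    ∃ s ∈ R.TT, ∀ k ∈ R.K, s * g * k * (s * g)⁻¹ ∈ R.K ∧
      (s * g) * H.out * (s * g)⁻¹ * H.out⁻¹ ∈ R.K := by
  have hK := hR.normT_K he ht hg
  have hout : H.out = R.dd (e0, true) := by simp [Refl.dd, e0]
  obtain ⟨l, hl, x, e⟩ := (R.mem_TT he).1 (hg H.out ((R.mem_TT he).2 ⟨1, one_mem _, (e0, true), by
    rw [one_mul, ← hout]⟩))
  have hn : ∀ y ∈ R.K, R.dd x * y * (R.dd x)⁻¹ ∈ R.K := fun y hy => R.dd_K he x hy
  have hx0 : x ≠ (e0, false) := by
    rintro rfl
    rw [R.dd_one, mul_one] at e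
    have hKn : g ∈ normalizer (R.K : Set G) := by
      have hle : R.K.map (MulAut.conj g).toMonoidHom ≤ R.K := by
        rintro _ ⟨y, hy, rfl⟩; exact hK y hy
      have heq := eq_of_le_of_card_ge hle (le_of_eq (card_map_of_injective (MulAut.conj g).injective).symm)
      refine mem_normalizer_iff.2 fun y => ⟨hK y, fun hy => ?_⟩
      obtain ⟨z, hz, e'⟩ := heq.ge hy
      rwa [← (MulAut.conj g).injective e']
    have h1 : R.dd (e0, true) ∈ R.K := hout ▸ (mem_normalizer_iff.1 hKn _).2 (e ▸ hl)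
    exact absurd (hR.dd_mem_K R he h1) (by decide +kernel)
  have hbig : 33 ≤ Set.ncard (R.FixK (R.dd x)) := by
    refine (hR.U01_fix_out he).trans ?_
    rw [← hR.FixK_coset hl hn, ← e]
    exact Set.ncard_le_ncard_of_injOn (fun k => g * k * g⁻¹) (fun k hk => R.FixK_conj ht hK hk)
      (fun a _ b _ h => mul_left_cancel (mul_right_cancel h)) (Set.toFinite _)
  have hcl : OutCl x := by
    by_contra h
    have := (hR.FixK_dd he hx0).2 h
    omega
  rcases hcl with rfl | rfl
  · refine ⟨1, one_mem _, fun k hk => ⟨by rw [one_mul]; exact hK k hk, ?_⟩⟩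
    rw [one_mul, e, hout, mul_inv_cancel_right]
    exact hl
  · set c : Sg × Bool := (![false, true, false], false)
    have hcc : ddMul c c = (e0, false) := by decide +kernel
    have hci : (R.dd c)⁻¹ = R.dd c := inv_eq_of_mul_eq_one_right (by rw [R.dd_mul he, hcc, R.dd_one])
    refine ⟨R.dd c, (R.mem_TT he).2 ⟨1, one_mem _, c, (one_mul _).symm⟩, fun k hk => ⟨?_, ?_⟩⟩
    · rw [show R.dd c * g * k * (R.dd c * g)⁻¹ = R.dd c * (g * k * g⁻¹) * (R.dd c)⁻¹ by group]
      exact R.dd_K he c (hK k hk)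
    · have e' : R.dd c * g * H.out * (R.dd c * g)⁻¹ =
          R.dd c * l * (R.dd c)⁻¹ * R.dd (e0, true) := by
        calc R.dd c * g * H.out * (R.dd c * g)⁻¹ = R.dd c * (g * H.out * g⁻¹) * (R.dd c)⁻¹ := by group
          _ = R.dd c * (l * R.dd (![false, true, true], true)) * (R.dd c)⁻¹ := by rw [e]
          _ = R.dd c * l * (R.dd c)⁻¹ *
              (R.dd c * R.dd (![false, true, true], true) * (R.dd c)⁻¹) := by group
          _ = _ := by rw [hci, R.dd_mul he, R.dd_mul he, outcl_prod.2.2.2]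
      rw [e', hout, mul_inv_cancel_right]
      exact R.dd_K he c hl

end Base

end CfsgLib.O8Three
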