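import Cfsg.Agent.O8Three.WMainBase
import Cfsg.Agent.SmallSylow.KleinNine

/-!
# The abstract centralizer of the involution: centralizers and fusion

The centralizers of the axes lie in the normalizer of `A`, the sign changes of weight one and two are
pairwise non-conjugate, and the centralizers of the single ones normalising `K` lie in `M`.
-/

set_option autoImplicit false
set_option maxRecDepth 100000
set_option linter.style.haveILetI false
set_option linter.unusedSectionVars false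

namespace CfsgLib.O8Three

open Subgroup

universe u

/-- Vectors on one axis. -/
def OnAx (i : Fin 3) (v : V3) : Prop := ∀ j, j ≠ i → v j = 0

theorem onAx_cases : ∀ i v, OnAx i v → v = 0 ∨ v = ax i ∨ v = -ax i := by
  unfold OnAx; decide +kernel

theorem onAx_facts : ∀ i v, OnAx i v → v i = 0 → v = 0 := by
  unfold OnAx; decide +kernel

theorem split_ax : ∀ i (u : V3), ∃ w v, w i = 0 ∧ OnAx i v ∧ u = w + v := by
  unfold OnAx; decide +kernel

theorem heavy_shift : ∀ i (w : V3), w i = 0 → w ≠ 0 → ∃ v, OnAx i v ∧ Heavy (w + v) := by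
  unfold OnAx Heavy; decide +kernel

theorem light_cases : ∀ v : V3, ¬ Heavy v → v = 0 ∨ ∃ l, v = ax l ∨ v = -ax l := by
  unfold Heavy; decide +kernel

theorem ax_other : ∀ i : Fin 3, ∃ j, j ≠ i ∧ ax j i = 0 := by decide +kernel

theorem plane_fix : ∀ i (e : Sg), e i = false → (∀ w : V3, w i = 0 → eflip e w = w) → e = e0 := by
  decide +kernel

theorem plane_card : ∀ i : Fin 3, Fintype.card {w : V3 // w i = 0} = 9 := by decide +kernel

theorem sign_card : ∀ i : Fin 3, Fintype.card {e : Sg // e i = false} = 4 := by decide +kernel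

theorem small_false : ∀ e : Sg, Small e → ∃ j, e j = false ∧ eflip e (ax j) = ax j := by
  unfold Small; decide +kernel

theorem small_e1 : ∀ i, Small (e1 i) := by unfold Small; decide +kernel

theorem e1_self : ∀ i, e1 i i = true := by decide +kernel

theorem e1_fix : ∀ i (v : V3), eflip (e1 i) v = v ↔ v i = 0 := by decide +kernel

theorem e1_split : ∀ i (f : Sg) (v : V3), v + eflip f 0 = 0 + eflip (e1 i) v → v i = 0 := by
  decide +kernel

theorem neg_one_ne : (-1 : ZMod 3) ≠ 1 := by decide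

theorem vflip_fix : ∀ i (v : V3), vflip i v = v → v i = 0 := by decide +kernel

namespace WSys

variable {W : Type u} [Group W] [Finite W] (D : WSys W)

theorem nf_plain (w : V3) (e : Sg) : D.a w * D.sg e = D.nf w e false := by simp [nf, tp]

theorem a_nf (w : V3) : D.a w = D.nf w e0 false := by simp [nf, tp, D.sg_e0]

theorem sg_nf (e : Sg) (d : Bool) : D.sg e * D.tp d = D.nf 0 e d := by simp [nf, D.a_zero]

/-- A 3-subgroup of `P ⊔ Z` is conjugate into `P` by an element of `Z`. -/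
theorem conj_into {P Z Q : Subgroup W} (hP : IsPGroup 3 P) (hPn : P ≤ normalizer (Z : Set W))
    (hZ : ∀ z ∈ Z, ∀ k : ℕ, z ^ 3 ^ k = 1 → z = 1) (hQ : IsPGroup 3 Q) (hle : Q ≤ P ⊔ Z) :
    ∃ z ∈ Z, ∀ q ∈ Q, z * q * z⁻¹ ∈ P := by
  haveI : Fact (Nat.Prime 3) := ⟨Nat.prime_three⟩
  have hmem : ∀ x ∈ P ⊔ Z, ∃ p ∈ P, ∃ z ∈ Z, x = p * z := fun x hx => by
    rw [← SetLike.mem_coe, coe_mul_of_left_le_normalizer_right _ _ hPn] at hx
    obtain ⟨p, hp, z, hz, rfl⟩ := hx
    exact ⟨p, hp, z, hz, rfl⟩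
  set S := P ⊔ Z with hS
  have hP' : IsPGroup 3 (P.subgroupOf S) :=
    hP.of_equiv (subgroupOfEquivOfLe le_sup_left).symm
  have hQ' : IsPGroup 3 (Q.subgroupOf S) := hQ.of_equiv (subgroupOfEquivOfLe hle).symm
  obtain ⟨P1, hP1⟩ := hP'.exists_le_sylow
  obtain ⟨Q1, hQ1⟩ := hQ'.exists_le_sylow
  obtain ⟨y, hy⟩ := MulAction.exists_smul_eq S Q1 P1
  have hP1P : ∀ x ∈ (P1 : Subgroup S), (x : W) ∈ P := fun x hx => by
    obtain ⟨p, hp, z, hz, e⟩ := hmem x x.2
    have hpS : p ∈ S := mem_sup_left hp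
    have hzS : z ∈ S := mem_sup_right hz
    have h1 : (⟨z, hzS⟩ : S) ∈ (P1 : Subgroup S) := by
      have h2 : (⟨z, hzS⟩ : S) = (⟨p, hpS⟩ : S)⁻¹ * x := Subtype.ext (by simp [e])
      rw [h2]
      exact mul_mem (inv_mem (hP1 hp)) hx
    obtain ⟨k, hk⟩ := P1.isPGroup' ⟨_, h1⟩
    rw [e, hZ z hz k (by simpa using congrArg (fun a : P1 => ((a : S) : W)) hk), mul_one]
    exact hp
  obtain ⟨p, hp, z, hz, e⟩ := hmem y y.2
  refine ⟨z, hz, fun q hq => ?_⟩
  have h1 : MulAut.conj y (⟨q, hle hq⟩ : S) ∈ (P1 : Subgroup S) := by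
    rw [← hy, Sylow.coe_subgroup_smul]
    exact smul_mem_pointwise_smul _ _ _ (hQ1 hq)
  have h2 := hP1P _ h1
  simp only [MulAut.conj_apply, coe_mul, coe_inv, e] at h2
  have := mul_mem (mul_mem (inv_mem hp) h2) hp
  simpa [mul_assoc] using this

/-- The common step of the two applications of the recognition of a normal group of order nine. -/
theorem klein_step {i : Fin 3} (H Z : Subgroup W) (hZn : ∀ h ∈ H, ∀ z ∈ Z, h * z * h⁻¹ ∈ Z)
    (hP : ∀ w : V3, w i = 0 → D.a w ∈ H) (hR : ∀ e : Sg, e i = false → D.sg e ∈ H)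
    (h27 : ¬ 27 ∣ Z.relIndex H)
    (hdisj : ∀ w e, w i = 0 → e i = false → D.a w * D.sg e ∈ Z → w = 0 ∧ e = e0)
    (hcent : ∀ c ∈ H, (∀ w : V3, w i = 0 → c * D.a w * c⁻¹ * (D.a w)⁻¹ ∈ Z) →
      ∃ w : V3, w i = 0 ∧ (D.a w)⁻¹ * c ∈ Z)
    (hnorm : ∀ c ∈ H, (∀ w : V3, w i = 0 → ∃ w' : V3, w' i = 0 ∧ c * D.a w * c⁻¹ * (D.a w')⁻¹ ∈ Z) →
      ∃ w e, w i = 0 ∧ e i = false ∧ (D.a w * D.sg e)⁻¹ * c ∈ Z)
    (hloc : ∀ c ∈ H, ∀ w : V3, w i = 0 → w ≠ 0 → c * D.a w * c⁻¹ * (D.a w)⁻¹ ∈ Z →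
      ∀ w1 : V3, w1 i = 0 → ∃ w' : V3, w' i = 0 ∧ c * D.a w1 * c⁻¹ * (D.a w')⁻¹ ∈ Z) :
    ∀ c ∈ H, ∀ w : V3, w i = 0 → ∃ w' : V3, w' i = 0 ∧ c * D.a w * c⁻¹ * (D.a w')⁻¹ ∈ Z := by
  haveI : Fact (Nat.Prime 3) := ⟨Nat.prime_three⟩
  haveI hn : (Z.subgroupOf H).Normal := ⟨fun z hz g => hZn g g.2 z hz⟩
  set π := QuotientGroup.mk' (Z.subgroupOf H) with hπ
  have heq : ∀ x y : H, π x = π y ↔ (x : W) * (y : W)⁻¹ ∈ Z := by
    intro x y
    rw [← mul_inv_eq_one, ← map_inv, ← map_mul, hπ, QuotientGroup.mk'_apply, QuotientGroup.eq_one_iff]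
    rfl
  have heq' : ∀ x y : H, (x : W)⁻¹ * (y : W) ∈ Z → π x = π y := by
    intro x y h
    rw [hπ, QuotientGroup.mk'_apply, QuotientGroup.mk'_apply, QuotientGroup.eq]
    exact h
  -- the group of order nine
  let P0 : Subgroup H :=
    { carrier := {x | ∃ w : V3, w i = 0 ∧ (x : W) = D.a w}
      one_mem' := ⟨0, rfl, D.a_zero.symm⟩
      mul_mem' := by
        rintro x y ⟨w, hw, e⟩ ⟨w', hw', e'⟩
        exact ⟨w + w', by simp [hw, hw'], by simp [e, e', D.a_add]⟩
      inv_mem' := by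
        rintro x ⟨w, hw, e⟩
        exact ⟨-w, by simp [hw], by simp [e, D.a_neg]⟩ }
  set T0 := P0.map π with hT0
  have hT0mem : ∀ {p}, p ∈ T0 ↔ ∃ (w : V3) (hw : w i = 0), π ⟨D.a w, hP w hw⟩ = p := by
    intro p
    constructor
    · rintro ⟨x, ⟨w, hw, e⟩, rfl⟩
      exact ⟨w, hw, congrArg π (Subtype.ext e.symm)⟩
    · rintro ⟨w, hw, rfl⟩
      exact ⟨_, ⟨w, hw, rfl⟩, rfl⟩
  have hcard : Nat.card T0 = 9 := by
    let f : {w : V3 // w i = 0} → T0 := fun w => ⟨π ⟨D.a w, hP w w.2⟩, hT0mem.2 ⟨w, w.2, rfl⟩⟩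
    have hf : Function.Bijective f := by
      refine ⟨fun v w h => ?_, ?_⟩
      · have h1 := (heq _ _).1 (congrArg Subtype.val h)
        simp only [← D.a_sub] at h1
        have h2 := (hdisj ((v : V3) - w) e0 (by simp [v.2, w.2]) rfl (by rwa [D.sg_e0, mul_one])).1
        exact Subtype.ext (sub_eq_zero.1 h2)
      · rintro ⟨p, hp⟩
        obtain ⟨w, hw, rfl⟩ := hT0mem.1 hp
        exact ⟨⟨w, hw⟩, rfl⟩
    rw [← Nat.card_congr (Equiv.ofBijective f hf), Nat.card_eq_fintype_card, plane_card]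
  have h27' : ¬ 27 ∣ Nat.card (H ⧸ Z.subgroupOf H) := h27
  obtain ⟨T, hT⟩ := (IsPGroup.of_card (n := 2) (by rw [hcard]; norm_num) : IsPGroup 3 T0).exists_le_sylow
  have hTeq : (T : Subgroup (H ⧸ Z.subgroupOf H)) = T0 := by
    refine (CfsgLib.Solvable.eq_of_le_of_card_le hT ?_).symm
    rw [hcard]
    obtain ⟨n, hn⟩ := IsPGroup.iff_card.1 T.isPGroup'
    have hn3 : n < 3 := by
      by_contra h
      push Not at h
      have h1 : 3 ^ 3 ∣ Nat.card (T : Subgroup (H ⧸ Z.subgroupOf H)) := hn ▸ Nat.pow_dvd_pow 3 h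
      exact h27' (h1.trans (card_subgroup_dvd_card _))
    rw [hn]
    interval_cases n <;> norm_num
  have hNmem : ∀ c : H, π c ∈ normalizer (T0 : Set (H ⧸ Z.subgroupOf H)) ↔
      ∀ w : V3, w i = 0 → ∃ w' : V3, w' i = 0 ∧ (c : W) * D.a w * (c : W)⁻¹ * (D.a w')⁻¹ ∈ Z := by
    intro c
    constructor
    · intro hc w hw
      obtain ⟨w', hw', e⟩ := hT0mem.1 ((mem_normalizer_iff.1 hc _).1 (hT0mem.2 ⟨w, hw, rfl⟩))
      rw [← map_inv, ← map_mul, ← map_mul] at e
      exact ⟨w', hw', (heq _ _).1 e.symm⟩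
    · intro hc
      have hle : T0.map (MulAut.conj (π c)).toMonoidHom ≤ T0 := by
        rintro _ ⟨p, hp, rfl⟩
        obtain ⟨w, hw, rfl⟩ := hT0mem.1 hp
        obtain ⟨w', hw', h'⟩ := hc w hw
        refine hT0mem.2 ⟨w', hw', ?_⟩
        show _ = π c * π ⟨D.a w, hP w hw⟩ * (π c)⁻¹
        rw [← map_inv, ← map_mul, ← map_mul]
        exact ((heq _ _).2 h').symm
      have he := CfsgLib.Solvable.eq_of_le_of_card_le hle
        (Nat.card_congr (T0.equivMapOfInjective _ (MulAut.conj (π c)).injective).toEquiv).le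
      refine mem_normalizer_iff.2 fun p => ⟨fun hp => hle ⟨p, hp, rfl⟩, fun hp => ?_⟩
      have hp' : π c * p * (π c)⁻¹ ∈ T0.map (MulAut.conj (π c)).toMonoidHom := he.symm ▸ hp
      obtain ⟨m, hm, e⟩ := hp'
      rwa [(MulAut.conj (π c)).injective e] at hm
  have hTel : Cfsg.IsElementaryAbelian 3 (T : Subgroup (H ⧸ Z.subgroupOf H)) := by
    rw [hTeq]
    refine ⟨⟨⟨fun p q => Subtype.ext ?_⟩⟩, fun p hp => ?_⟩
    · obtain ⟨v, hv, e⟩ := hT0mem.1 p.2
      obtain ⟨w, hw, e'⟩ := hT0mem.1 q.2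
      show (p : H ⧸ Z.subgroupOf H) * q = q * p
      rw [← e, ← e', ← map_mul, ← map_mul]
      exact congrArg π (Subtype.ext (D.a_comm v w))
    · obtain ⟨v, hv, rfl⟩ := hT0mem.1 hp
      rw [← map_pow, ← map_one π]
      exact congrArg π (Subtype.ext (by simpa using D.a_cube v))
  have hTcard : Nat.card T = 9 := by rw [← hcard, hTeq]
  have hC : centralizer ((T : Subgroup (H ⧸ Z.subgroupOf H)) : Set (H ⧸ Z.subgroupOf H)) = T := by
    rw [hTeq]
    refine le_antisymm (fun x hx => ?_) fun x hx => mem_centralizer_iff.2 fun y hy => ?_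
    · obtain ⟨c, rfl⟩ := QuotientGroup.mk'_surjective _ x
      obtain ⟨w, hw, h'⟩ := hcent c c.2 fun w hw => by
        have h1 := mem_centralizer_iff.1 hx _ (hT0mem.2 ⟨w, hw, rfl⟩)
        exact (heq (c * ⟨D.a w, hP w hw⟩ * c⁻¹) ⟨D.a w, hP w hw⟩).1
          (by rw [map_mul, map_mul, map_inv, ← h1, mul_inv_cancel_right])
      exact hT0mem.2 ⟨w, hw, heq' _ _ h'⟩
    · exact congrArg Subtype.val (hTel.1.1.comm ⟨y, hTeq ▸ hy⟩ ⟨x, hTeq ▸ hx⟩)
  have hflip : ∀ e : Sg, ∀ w : V3, w i = 0 → eflip e w i = 0 := fun e w hw => by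
    show (if e i then -w i else w i) = 0
    rw [hw]; simp
  haveI hnT : ((T : Subgroup (H ⧸ Z.subgroupOf H)).subgroupOf
      (normalizer ((T : Subgroup (H ⧸ Z.subgroupOf H)) : Set (H ⧸ Z.subgroupOf H)))).Normal :=
    normal_in_normalizer
  let NQ := ↥(normalizer ((T : Subgroup (H ⧸ Z.subgroupOf H)) : Set (H ⧸ Z.subgroupOf H))) ⧸
    (T : Subgroup (H ⧸ Z.subgroupOf H)).subgroupOf
      (normalizer ((T : Subgroup (H ⧸ Z.subgroupOf H)) : Set (H ⧸ Z.subgroupOf H)))
  have hsgN : ∀ e : {e : Sg // e i = false},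
      π ⟨D.sg e, hR e e.2⟩ ∈ normalizer ((T : Subgroup (H ⧸ Z.subgroupOf H)) : Set (H ⧸ Z.subgroupOf H)) := by
    intro e
    rw [hTeq]
    exact (hNmem _).2 fun w hw => ⟨eflip e w, hflip e w hw, by rw [D.sg_act, mul_inv_cancel]; exact one_mem _⟩
  let f : {e : Sg // e i = false} → NQ := fun e => QuotientGroup.mk ⟨_, hsgN e⟩
  have hf : Function.Bijective f := by
    refine ⟨fun e e' h => ?_, fun q => ?_⟩
    · have h1 : (π ⟨D.sg e, hR e e.2⟩)⁻¹ * π ⟨D.sg e', hR e' e'.2⟩ ∈ T0 :=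
        hTeq.le ((QuotientGroup.eq (a := (⟨_, hsgN e⟩ : normalizer _))
          (b := (⟨_, hsgN e'⟩ : normalizer _))).1 h)
      obtain ⟨w, hw, hw2⟩ := hT0mem.1 h1
      rw [← map_inv, ← map_mul, heq] at hw2
      simp only [coe_mul, coe_inv, D.sg_inv, D.sg_mul] at hw2
      have h2 := (hdisj w (exor (e : Sg) e') hw (by simp [exor, e.2, e'.2]) hw2).2
      refine Subtype.ext ?_
      have : ∀ e e' : Sg, exor e e' = e0 → e = e' := by decide +kernel
      exact this _ _ h2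
    · induction q using QuotientGroup.induction_on with | H x => ?_
      obtain ⟨c, hc⟩ := QuotientGroup.mk'_surjective (Z.subgroupOf H) (x : H ⧸ Z.subgroupOf H)
      have hx := x.2
      rw [← hc, hTeq] at hx
      obtain ⟨w, e, hw, he, h'⟩ := hnorm c c.2 ((hNmem c).1 hx)
      refine ⟨⟨e, he⟩, QuotientGroup.eq.2 ?_⟩
      show ((⟨_, hsgN ⟨e, he⟩⟩ : normalizer _)⁻¹ * x : normalizer _).1 ∈ (T : Subgroup _)
      have h1 := heq' (⟨D.a w, hP w hw⟩ * ⟨D.sg e, hR e he⟩) c h'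
      rw [coe_mul, coe_inv, ← hc, ← h1, map_mul, ← mul_assoc]
      refine hTeq.ge (hT0mem.2 ⟨eflip e w, hflip e w hw, ?_⟩)
      rw [← map_inv, ← map_mul, ← map_mul]
      refine congrArg π (Subtype.ext ?_)
      simp only [coe_mul, coe_inv]
      rw [← D.sg_act e w, D.sg_inv]
  have hK : IsKleinFour NQ := by
    have hc4 : Nat.card NQ = 4 := by
      rw [← Nat.card_congr (Equiv.ofBijective f hf), Nat.card_eq_fintype_card, sign_card]
    refine ⟨hc4, ?_⟩
    haveI : Nontrivial NQ := Finite.one_lt_card_iff_nontrivial.1 (by rw [hc4]; norm_num)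
    refine (Monoid.exponent_eq_prime_iff Nat.prime_two).2 fun q hq => ?_
    haveI : Fact (Nat.Prime 2) := ⟨Nat.prime_two⟩
    obtain ⟨e, rfl⟩ := hf.2 q
    refine orderOf_eq_prime ?_ hq
    show (QuotientGroup.mk _ : NQ) ^ 2 = 1
    rw [sq, ← QuotientGroup.mk_mul, ← QuotientGroup.mk_one]
    refine congrArg QuotientGroup.mk (Subtype.ext ?_)
    show π ⟨D.sg e, hR e e.2⟩ * π ⟨D.sg e, hR e e.2⟩ = 1
    rw [← map_mul, ← map_one π]
    exact congrArg π (Subtype.ext (D.sg_sq _))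
  have htop := CfsgLib.KleinNine.normalizer_eq_top T hTel hTcard hC hK fun p hp hp1 => by
    intro x hx
    obtain ⟨c, rfl⟩ := QuotientGroup.mk'_surjective _ x
    rw [hTeq] at hp ⊢
    obtain ⟨w, hw, rfl⟩ := hT0mem.1 hp
    refine (hNmem c).2 (hloc c c.2 w hw (fun e => hp1 ?_) ?_)
    · subst e
      rw [← map_one π]
      exact congrArg π (Subtype.ext D.a_zero)
    · refine (heq (c * ⟨D.a w, hP w hw⟩ * c⁻¹) ⟨D.a w, hP w hw⟩).1 ?_
      rw [map_mul, map_mul, map_inv, mem_centralizer_singleton_iff.1 hx, mul_inv_cancel_right]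
  intro c hc
  refine (hNmem ⟨c, hc⟩).1 ?_
  rw [← hTeq, htop]
  exact mem_top _

/-! ### The centralizer of an axis -/

/-- The centralizer of an axis modulo which `A` has order nine. -/
def ZA (i : Fin 3) : Subgroup W where
  carrier := {g | ∃ v d, OnAx i v ∧ g = D.nf v e0 d}
  one_mem' := ⟨0, false, fun _ _ => rfl, D.nf_zero.symm⟩
  mul_mem' := by
    rintro _ _ ⟨v, c, hv, rfl⟩ ⟨w, d, hw, rfl⟩
    refine ⟨v + w, xor c d, fun j hj => by simp [hv j hj, hw j hj], ?_⟩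
    rw [D.nf_mul, eflip_facts.1, exor_facts.2.1]
  inv_mem' := by
    rintro _ ⟨v, d, hv, rfl⟩
    refine ⟨-v, d, fun j hj => by simp [hv j hj], inv_eq_of_mul_eq_one_right ?_⟩
    rw [D.nf_mul, eflip_facts.1, exor_facts.2.1, add_neg_cancel, Bool.xor_self, D.nf_zero]

theorem comm_onAx {i : Fin 3} {c : W} (hc : c * D.a (ax i) = D.a (ax i) * c) {v : V3} (hv : OnAx i v) :
    c * D.a v = D.a v * c := by
  rcases onAx_cases i v hv with rfl | rfl | rfl
  · rw [D.a_zero, mul_one, one_mul]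
  · exact hc
  · rw [D.a_neg]; exact (show Commute c (D.a (ax i)) from hc).inv_right.eq

theorem conj_of_ZA {i : Fin 3} {c : W} {w w' : V3} (h : c * D.a w * c⁻¹ * (D.a w')⁻¹ ∈ D.ZA i) :
    ∃ v, OnAx i v ∧ c * D.a w * c⁻¹ = D.a (v + w') := by
  obtain ⟨v, d, hv, e⟩ := h
  rw [mul_inv_eq_iff_eq_mul, D.a_nf w', D.nf_mul, eflip_facts.1, exor_facts.2.1, Bool.xor_false] at e
  refine ⟨v, hv, ?_⟩
  cases d
  · rw [e, D.a_nf]
  · exfalso
    have h3 : (c * D.a w * c⁻¹) ^ 3 = 1 := by rw [conj_pow, D.a_cube, mul_one, mul_inv_cancel]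
    rw [e, pow_succ, sq, D.nf_mul, D.nf_mul, exor_facts.2.1, exor_facts.2.1, ← D.nf_zero] at h3
    exact absurd (D.nf_inj h3).2.2 (by decide)

theorem cent_ax {g : W} {i : Fin 3} (hg : g * D.a (ax i) = D.a (ax i) * g) : g ∈ D.NA := by
  classical
  haveI : Fact (Nat.Prime 3) := ⟨Nat.prime_three⟩
  set H : Subgroup W := centralizer {D.a (ax i)} with hH
  have hHm : ∀ {c : W}, c ∈ H ↔ c * D.a (ax i) = D.a (ax i) * c := mem_centralizer_singleton_iff
  have hNAH : ∀ {v : V3} {e : Sg} {d : Bool}, e i = false → D.nf v e d ∈ H := fun {v e d} he => by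
    refine hHm.2 (mul_inv_eq_iff_eq_mul.1 ?_)
    rw [D.nf_conj, eflip_facts.2.2.2.1, he, if_neg Bool.false_ne_true]
  have hNA : ∀ {c : W}, c ∈ H → c ∈ D.NA → ∃ v e d, e i = false ∧ c = D.nf v e d := by
    intro c hc hcn
    obtain ⟨v, e, d, rfl⟩ := D.mem_NA.1 hcn
    refine ⟨v, e, d, ?_, rfl⟩
    have h1 := mul_inv_eq_iff_eq_mul.2 (hHm.1 hc)
    rw [D.nf_conj, eflip_facts.2.2.2.1] at h1
    cases he : e i
    · rfl
    · rw [he, if_pos rfl] at h1
      exact absurd (D.a_inj h1).symm (ax_ne_zero i).2.2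
  have hnormA : ∀ c ∈ H, (∀ w : V3, w i = 0 → ∃ w' : V3, w' i = 0 ∧
      c * D.a w * c⁻¹ * (D.a w')⁻¹ ∈ D.ZA i) → c ∈ D.NA := by
    intro c hc h
    refine D.norm_mem_NA fun u => ?_
    obtain ⟨w, v, hw, hv, rfl⟩ := split_ax i u
    obtain ⟨w', -, h'⟩ := h w hw
    obtain ⟨v', -, e⟩ := D.conj_of_ZA h'
    refine ⟨v' + w' + v, ?_⟩
    rw [D.a_add w v, D.a_add _ v, ← e, show c * (D.a w * D.a v) * c⁻¹ =
      c * D.a w * c⁻¹ * (c * D.a v * c⁻¹) by group, D.comm_onAx (hHm.1 hc) hv, mul_inv_cancel_right]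
  have hnorm : ∀ c ∈ H, (∀ w : V3, w i = 0 → ∃ w' : V3, w' i = 0 ∧
      c * D.a w * c⁻¹ * (D.a w')⁻¹ ∈ D.ZA i) →
      ∃ w e, w i = 0 ∧ e i = false ∧ (D.a w * D.sg e)⁻¹ * c ∈ D.ZA i := by
    intro c hc h
    obtain ⟨u, e, d, he, rfl⟩ := hNA hc (hnormA c hc h)
    obtain ⟨w, v, hw, hv, rfl⟩ := split_ax i u
    refine ⟨w, e, hw, he, v, d, hv, ?_⟩
    have hev : eflip e v = v := by
      rcases onAx_cases i v hv with rfl | rfl | rfl
      · funext j; simp [eflip]
      · simp [eflip_facts.2.2.2.1, he]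
      · funext j
        simp only [eflip, Pi.neg_apply, ax]
        by_cases hj : j = i
        · subst hj; simp [he]
        · simp [hj]
    rw [inv_mul_eq_iff_eq_mul, D.nf_plain, D.nf_mul, hev, exor_facts.1, Bool.false_xor]
  have hmain := D.klein_step (i := i) H (D.ZA i) (fun h hh z hz => by
      obtain ⟨v, d, hv, e⟩ := hz
      refine ⟨v, d, hv, mul_inv_eq_iff_eq_mul.2 ?_⟩
      subst e
      simp only [nf, D.sg_e0, mul_one]
      rw [← mul_assoc, D.comm_onAx (hHm.1 hh) hv, mul_assoc, D.tp_central, ← mul_assoc])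
    (fun w _ => by rw [D.a_nf]; exact hNAH rfl)
    (fun e he => by
      have := hNAH (v := 0) (d := false) he
      simpa [nf, D.a_zero, tp] using this)
    (fun h => by
      have hle : D.ZA i ≤ H := by
        rintro _ ⟨v, d, -, rfl⟩
        exact hNAH rfl
      have h3 : 3 ∣ Nat.card (D.ZA i) := by
        have h1 : orderOf (D.a (ax i)) = 3 :=
          orderOf_eq_prime (D.a_cube _) fun e => (ax_ne_zero i).1 (D.a_eq_one e)
        rw [← h1]
        exact Subgroup.orderOf_dvd_natCard _ ⟨ax i, false, fun j hj => by simp [ax, hj], D.a_nf _⟩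
      refine D.not_81_dvd ((dvd_trans ?_ H.card_subgroup_dvd_card))
      have h4 := Subgroup.relIndex_mul_relIndex ⊥ (D.ZA i) H bot_le hle
      rw [relIndex_bot_left, relIndex_bot_left] at h4
      rw [← h4]
      exact (mul_dvd_mul h3 h : 3 * 27 ∣ _))
    (fun w e hw _ h => by
      obtain ⟨v, d, hv, h⟩ := h
      rw [D.nf_plain] at h
      obtain ⟨rfl, he, -⟩ := D.nf_inj h
      exact ⟨onAx_facts i w hv hw, he⟩)
    (fun c hc h => by
      obtain ⟨w, e, hw, he, h'⟩ := hnorm c hc fun w hw => ⟨w, hw, h w hw⟩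
      have he0 : e = e0 := plane_fix i e he fun u hu => by
        obtain ⟨v, d, hv, e2⟩ := h'
        rw [inv_mul_eq_iff_eq_mul, D.nf_plain, D.nf_mul] at e2
        obtain ⟨v', hv', e3⟩ := D.conj_of_ZA (h u hu)
        rw [e2, D.nf_conj, exor_facts.1] at e3
        have e4 := D.a_inj e3
        have h0 : v' = 0 := onAx_facts i v' hv' (by
          have e5 := congrFun e4 i
          simp only [Pi.add_apply, eflip, hu] at e5
          simpa using e5.symm)
        rw [e4, h0, zero_add]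
      subst he0
      exact ⟨w, hw, by rwa [D.sg_e0, mul_one] at h'⟩)
    hnorm
    (fun c hc w hw hw0 h w1 hw1 => by
      obtain ⟨v0, hv0, hheavy⟩ := heavy_shift i w hw hw0
      obtain ⟨v, hv, e⟩ := D.conj_of_ZA h
      have eu : c * D.a (w + v0) * c⁻¹ = D.a (v + (w + v0)) := by
        rw [show v + (w + v0) = (v + w) + v0 by abel, D.a_add w v0, D.a_add _ v0, ← e,
          show c * (D.a w * D.a v0) * c⁻¹ = c * D.a w * c⁻¹ * (c * D.a v0 * c⁻¹) by group,
          D.comm_onAx (hHm.1 hc) hv0, mul_inv_cancel_right]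
      -- the translation part is trivial
      let C2 : Subgroup W :=
        { carrier := {x | x ∈ H ∧ ∃ v, OnAx i v ∧ x * D.a (w + v0) * x⁻¹ = D.a (v + (w + v0))}
          one_mem' := ⟨one_mem _, 0, fun _ _ => rfl, by simp⟩
          mul_mem' := by
            rintro x y ⟨hx, v, hv, ex⟩ ⟨hy, v', hv', ey⟩
            refine ⟨mul_mem hx hy, v' + v, fun j hj => by simp [hv j hj, hv' j hj], ?_⟩
            rw [show x * y * D.a (w + v0) * (x * y)⁻¹ = x * (y * D.a (w + v0) * y⁻¹) * x⁻¹ by group, ey,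
              D.a_add v', show x * (D.a v' * D.a (w + v0)) * x⁻¹ =
                (x * D.a v' * x⁻¹) * (x * D.a (w + v0) * x⁻¹) by group, ex,
              D.comm_onAx (hHm.1 hx) hv', mul_inv_cancel_right, ← D.a_add, add_assoc]
          inv_mem' := by
            rintro x ⟨hx, v, hv, ex⟩
            refine ⟨inv_mem hx, -v, fun j hj => by simp [hv j hj], ?_⟩
            rw [D.a_add v] at ex
            have hcv : x⁻¹ * D.a v = D.a v * x⁻¹ :=
              (show Commute x (D.a v) from D.comm_onAx (hHm.1 hx) hv).inv_left.eq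
            rw [D.a_add (-v), D.a_neg, eq_inv_mul_iff_mul_eq, inv_inv,
              ← mul_assoc, ← mul_assoc, ← hcv, mul_assoc x⁻¹, ← ex]
            group }
      have hphi : ∀ x : C2, ∃ v, OnAx i v ∧ (x : W) * D.a (w + v0) * (x : W)⁻¹ = D.a (v + (w + v0)) :=
        fun x => x.2.2
      choose φ hφ1 hφ2 using hphi
      let Φ : C2 →* Multiplicative (ZMod 3) :=
        MonoidHom.mk' (fun x => Multiplicative.ofAdd (φ x i)) fun x y => by
          have h1 := hφ2 (x * y)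
          simp only [coe_mul] at h1
          rw [show (x : W) * y * D.a (w + v0) * ((x : W) * y)⁻¹ =
              x * ((y : W) * D.a (w + v0) * (y : W)⁻¹) * (x : W)⁻¹ by group, hφ2 y, D.a_add (φ y),
            show (x : W) * (D.a (φ y) * D.a (w + v0)) * (x : W)⁻¹ =
              ((x : W) * D.a (φ y) * (x : W)⁻¹) * (x * D.a (w + v0) * (x : W)⁻¹) by group, hφ2 x,
            D.comm_onAx (hHm.1 x.2.1) (hφ1 y), mul_inv_cancel_right, ← D.a_add] at h1
          rw [← ofAdd_add]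
          refine congrArg _ ?_
          have h2 := congrFun (D.a_inj h1) i
          simp only [Pi.add_apply] at h2 ⊢
          linear_combination -h2
      have hv0' : v = 0 := by
        by_contra hne
        have hcC : c ∈ C2 := ⟨hc, v, hv, eu⟩
        have hΦc : Φ ⟨c, hcC⟩ ≠ 1 := fun h1 => hne (onAx_facts i v hv (by
          have h2 : φ ⟨c, hcC⟩ i = 0 := h1
          have h3 := congrFun (D.a_inj ((hφ2 ⟨c, hcC⟩).symm.trans eu)) i
          simp only [Pi.add_apply] at h3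
          linear_combination h2 - h3))
        have hr : Nat.card Φ.range = 3 := by
          have hd := Φ.range.card_subgroup_dvd_card
          rw [show Nat.card (Multiplicative (ZMod 3)) = 3 from Nat.card_zmod 3] at hd
          rcases (Nat.dvd_prime Nat.prime_three).1 hd with h1 | h1
          · exfalso
            rw [← eq_bot_iff_card] at h1
            exact hΦc ((eq_bot_iff_forall _).1 h1 _ ⟨_, rfl⟩)
          · exact h1
        have hA : D.Asub ≤ C2 := by
          rintro _ ⟨u, rfl⟩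
          exact ⟨hHm.2 (D.a_comm _ _), 0, fun _ _ => rfl, by
            rw [zero_add, D.a_comm, mul_inv_cancel_right]⟩
        have hAk : D.Asub.subgroupOf C2 ≤ Φ.ker := by
          rintro ⟨x, hx⟩ ⟨u, rfl⟩
          show Multiplicative.ofAdd (φ ⟨D.a u, hx⟩ i) = 1
          have h3 := congrFun (D.a_inj ((hφ2 ⟨D.a u, hx⟩).symm.trans
            (show D.a u * D.a (w + v0) * (D.a u)⁻¹ = D.a (w + v0) by
              rw [D.a_comm, mul_inv_cancel_right]))) i
          simp only [Pi.add_apply] at h3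
          exact congrArg _ (by linear_combination h3 : φ ⟨D.a u, hx⟩ i = 0)
        refine D.not_81_dvd (dvd_trans ?_ C2.card_subgroup_dvd_card)
        rw [← Φ.ker.card_mul_index, index_ker, hr]
        refine (mul_dvd_mul ?_ dvd_rfl : 27 * 3 ∣ _)
        rw [← D.card_Asub, ← Nat.card_congr (subgroupOfEquivOfLe hA).toEquiv]
        exact card_dvd_of_le hAk
      rw [hv0', zero_add] at eu
      obtain ⟨u, e', d, he', rfl⟩ := hNA hc
        (D.M_cent_ax (D.heavy _ hheavy c (mul_inv_eq_iff_eq_mul.1 eu)) (hHm.1 hc))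
      exact ⟨eflip e' w1, by simp [eflip, hw1, he'], by rw [D.nf_conj, mul_inv_cancel]; exact one_mem _⟩)
  exact hnormA g (hHm.2 hg) (hmain g (hHm.2 hg))

/-- An element sending an axis into `A` normalises `A`. -/
theorem axis_normalizes {h : W} {j : Fin 3} {w : V3} (e : h * D.a (ax j) * h⁻¹ = D.a w) : h ∈ D.NA := by
  refine D.norm_mem_NA fun v => ?_
  have hw0 : w ≠ 0 := fun h0 => by
    rw [h0, D.a_zero, conj_eq_one_iff] at e
    exact (ax_ne_zero j).1 (D.a_eq_one e)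
  have hnh : ¬ Heavy w := fun hh => D.light j w hh h e
  have hcomm : h * D.a v * h⁻¹ * D.a w = D.a w * (h * D.a v * h⁻¹) := by
    rw [← e, show h * D.a v * h⁻¹ * (h * D.a (ax j) * h⁻¹) = h * (D.a v * D.a (ax j)) * h⁻¹ by group,
      D.a_comm]
    group
  obtain ⟨l, hl⟩ := (light_cases w hnh).resolve_left hw0
  have hNA : h * D.a v * h⁻¹ ∈ D.NA := by
    rcases hl with rfl | rfl
    · exact D.cent_ax hcomm
    · refine D.cent_ax (i := l) ?_
      rw [D.a_neg] at hcomm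
      have := (show Commute (h * D.a v * h⁻¹) (D.a (ax l))⁻¹ from hcomm).inv_right
      rw [inv_inv] at this
      exact this.eq
  obtain ⟨u, hu⟩ := D.three_mem_A hNA (k := 1) (by
    rw [pow_one, conj_pow, D.a_cube, mul_one, mul_inv_cancel])
  exact ⟨u, hu.symm⟩

/-! ### Fusion of the sign changes -/

/-- The part of `A` fixed by a sign change. -/
def PA (e : Sg) : Subgroup W where
  carrier := {x | ∃ v, eflip e v = v ∧ x = D.a v}
  one_mem' := ⟨0, by funext j; simp [eflip], D.a_zero.symm⟩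
  mul_mem' := by
    rintro _ _ ⟨v, hv, rfl⟩ ⟨w, hw, rfl⟩
    exact ⟨v + w, by rw [eflip_facts.2.2.2.2.2, hv, hw], (D.a_add v w).symm⟩
  inv_mem' := by
    rintro _ ⟨v, hv, rfl⟩
    refine ⟨-v, ?_, (D.a_neg v).symm⟩
    have h : ∀ (e : Sg) (v : V3), eflip e v = v → eflip e (-v) = -v := by decide +kernel
    exact h e v hv

theorem isPGroup_PA (e : Sg) : IsPGroup 3 (D.PA e) :=
  D.isPGroup_Asub.to_le (by rintro _ ⟨v, -, rfl⟩; exact ⟨v, rfl⟩)

theorem PA_le_cent (e : Sg) : D.PA e ≤ centralizer {D.sg e} := by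
  rintro _ ⟨v, hv, rfl⟩
  refine mem_centralizer_singleton_iff.2 ?_
  rw [D.sg_a, hv]

theorem PA_max {e : Sg} (he : Small e) {Q : Subgroup W} (hQ : IsPGroup 3 Q)
    (hle : D.PA e ≤ Q) (hQc : Q ≤ centralizer {D.sg e}) : Q ≤ D.PA e := by
  intro x hx
  obtain ⟨j, -, hj⟩ := small_false e he
  have hN := D.cent_ax (D.three_group_comm hQ hx (hle ⟨ax j, hj, rfl⟩))
  obtain ⟨k, hk⟩ := hQ ⟨x, hx⟩
  obtain ⟨v, rfl⟩ := D.three_mem_A hN (by simpa using congrArg Subtype.val hk)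
  refine ⟨v, D.a_inj ?_, rfl⟩
  rw [← D.sg_act, ← mem_centralizer_singleton_iff.1 (hQc hx), mul_inv_cancel_right]

/-- A 3-subgroup of the centralizer of a small sign change is conjugate there into `A`. -/
theorem conj_into_PA {e : Sg} (he : Small e) {Q : Subgroup W} (hQ : IsPGroup 3 Q)
    (hQc : Q ≤ centralizer {D.sg e}) :
    ∃ c ∈ centralizer {D.sg e}, ∀ q ∈ Q, c * q * c⁻¹ ∈ D.PA e := by
  haveI : Fact (Nat.Prime 3) := ⟨Nat.prime_three⟩
  set H : Subgroup W := centralizer {D.sg e} with hH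
  obtain ⟨P1, hP1⟩ := ((D.isPGroup_PA e).of_equiv (subgroupOfEquivOfLe (D.PA_le_cent e)).symm).exists_le_sylow
  obtain ⟨Q1, hQ1⟩ := (hQ.of_equiv (subgroupOfEquivOfLe hQc).symm).exists_le_sylow
  obtain ⟨c, hc⟩ := MulAction.exists_smul_eq H Q1 P1
  have hmax := D.PA_max he (Q := (P1 : Subgroup H).map H.subtype) (P1.isPGroup'.map _)
    (fun x hx => ⟨⟨x, D.PA_le_cent e hx⟩, hP1 hx, rfl⟩) (by rintro _ ⟨y, -, rfl⟩; exact y.2)
  refine ⟨c, c.2, fun q hq => hmax ⟨MulAut.conj c ⟨q, hQc hq⟩, ?_, rfl⟩⟩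
  rw [← hc, Sylow.coe_subgroup_smul]
  exact smul_mem_pointwise_smul _ _ _ (hQ1 hq)

theorem not_27_dvd {e : Sg} (he : Small e) (hcard : ∀ v, eflip e v = v → ∃ j, e j = true ∧ v j = 0) :
    ¬ 27 ∣ Nat.card (centralizer ({D.sg e} : Set W)) := by
  haveI : Fact (Nat.Prime 3) := ⟨Nat.prime_three⟩
  intro h
  obtain ⟨Q, hQ⟩ := Sylow.exists_subgroup_card_pow_prime 3 (n := 3) h
  obtain ⟨c, -, hc⟩ := D.conj_into_PA he (Q := Q.map (Subgroup.subtype _))
    ((IsPGroup.of_card (n := 3) hQ).map _) (map_subtype_le _)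
  have hle : (Q.map (Subgroup.subtype _)).map (MulAut.conj c).toMonoidHom ≤ D.PA e := by
    rintro _ ⟨q, hq, rfl⟩
    exact hc q hq
  have h1 := card_dvd_of_le hle
  rw [Subgroup.card_map_of_injective (MulAut.conj c).injective,
    Subgroup.card_map_of_injective (Subgroup.subtype_injective _), hQ] at h1
  have h2 : D.PA e < D.Asub := lt_of_le_of_ne (by rintro _ ⟨v, -, rfl⟩; exact ⟨v, rfl⟩) fun heq => by
    obtain ⟨j, hj⟩ : ∃ j, e j = true := by
      obtain ⟨j, hj, -⟩ := hcard 0 (by funext j; simp [eflip])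
      exact ⟨j, hj⟩
    have hm : D.a (fun _ => 1) ∈ D.PA e := heq ▸ ⟨_, rfl⟩
    obtain ⟨v, hv, e'⟩ := hm
    rw [← D.a_inj e'] at hv
    have := congrFun hv j
    simp [eflip, hj] at this
    exact neg_one_ne this
  have h3 := CfsgLib.Solvable.card_lt_of_lt h2
  rw [D.card_Asub] at h3
  have h4 := Nat.le_of_dvd Nat.card_pos h1
  norm_num at h4
  omega

theorem fusion {e e' : Sg} (he : Small e) (he' : Small e') {d d' : Bool} {g : W}
    (h : g * (D.sg e * D.tp d) * g⁻¹ = D.sg e' * D.tp d') : e = e' ∧ d = d' := by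
  have hQc : (D.PA e).map (MulAut.conj g).toMonoidHom ≤ centralizer {D.sg e'} := by
    rintro _ ⟨x, hx, rfl⟩
    refine mem_centralizer_singleton_iff.2 ?_
    have h1 : x * (D.sg e * D.tp d) = D.sg e * D.tp d * x := by
      rw [← mul_assoc, mem_centralizer_singleton_iff.1 (D.PA_le_cent e hx), mul_assoc, D.tp_central,
        ← mul_assoc]
    have h2 : g * x * g⁻¹ * (D.sg e' * D.tp d') = D.sg e' * D.tp d' * (g * x * g⁻¹) := by
      rw [← h, show g * x * g⁻¹ * (g * (D.sg e * D.tp d) * g⁻¹) = g * (x * (D.sg e * D.tp d)) * g⁻¹ by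
        group, h1]
      group
    show g * x * g⁻¹ * D.sg e' = D.sg e' * (g * x * g⁻¹)
    rw [← mul_assoc (g * x * g⁻¹), mul_assoc (D.sg e') (D.tp d'), ← D.tp_central, ← mul_assoc (D.sg e')] at h2
    exact mul_right_cancel h2
  obtain ⟨c, hc, hcm⟩ := D.conj_into_PA he' ((D.isPGroup_PA e).map _) hQc
  obtain ⟨j, -, hj⟩ := small_false e he
  obtain ⟨w, -, hw⟩ := hcm _ ⟨D.a (ax j), ⟨ax j, hj, rfl⟩, rfl⟩
  have hcg : c * g ∈ D.NA := D.axis_normalizes (j := j) (w := w) (by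
    rw [← hw]; simp only [MulEquiv.coe_toMonoidHom, MulAut.conj_apply]; group)
  obtain ⟨v, f, b, hvf⟩ := D.mem_NA.1 hcg
  have hconj : c * g * (D.sg e * D.tp d) = D.sg e' * D.tp d' * (c * g) := by
    have hc' : c * (D.sg e' * D.tp d') = D.sg e' * D.tp d' * c := by
      rw [← mul_assoc, mem_centralizer_singleton_iff.1 hc, mul_assoc, D.tp_central, ← mul_assoc]
    calc c * g * (D.sg e * D.tp d) = c * (g * (D.sg e * D.tp d) * g⁻¹) * g := by group
      _ = _ := by rw [h, hc', mul_assoc]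
  rw [hvf, D.sg_nf, D.sg_nf, D.nf_mul, D.nf_mul] at hconj
  obtain ⟨-, hf, hd⟩ := D.nf_inj hconj
  refine ⟨?_, ?_⟩
  · have : ∀ e e' f : Sg, exor f e = exor e' f → e = e' := by decide +kernel
    exact this e e' f hf
  · revert hd; cases b <;> cases d <;> cases d' <;> decide

theorem not_conj_K {e : Sg} (he : Small e) {d : Bool} (g : W) :
    g * (D.sg e * D.tp d) * g⁻¹ ∉ D.K := by
  intro hk
  by_cases hz : g * (D.sg e * D.tp d) * g⁻¹ ∈ D.Z2
  · have hcen : ∀ z ∈ D.Z2, z = g⁻¹ * z * g := fun z hz => by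
      rcases D.mem_Z2.1 hz with rfl | rfl
      · simp
      · rw [D.t_central]; simp
    have h1 := hcen _ hz
    rw [show g⁻¹ * (g * (D.sg e * D.tp d) * g⁻¹) * g = D.sg e * D.tp d by group] at h1
    rw [h1, D.sg_nf] at hz
    exact he.1 (D.K_inter_NA (D.Z2_le hz)).2
  · obtain ⟨x, -, hx⟩ := D.center_or_conj_t hk hz
    have h1 := D.fusion he he (g := g⁻¹ * x * g) (d := d) (d' := xor d true) (by
      rw [← D.tp_mul, ← mul_assoc (D.sg e),
        show g⁻¹ * x * g * (D.sg e * D.tp d) * (g⁻¹ * x * g)⁻¹ =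
          g⁻¹ * (x * (g * (D.sg e * D.tp d) * g⁻¹) * x⁻¹) * g by group, hx,
        show D.tp true = D.t from rfl,
        show g⁻¹ * (g * (D.sg e * D.tp d) * g⁻¹ * D.t) * g = D.sg e * D.tp d * g⁻¹ * (D.t * g) by group,
        ← D.t_central g]
      group)
    revert h1; cases d <;> simp

/-! ### The centralizer of a single sign change in the normalizer of `K` -/

theorem single_cent {i : Fin 3} {g : W} (hgK : g ∈ normalizer (D.K : Set W))
    (hgs : g * D.s i = D.s i * g) : g ∈ D.M := by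
  haveI : Fact (Nat.Prime 3) := ⟨Nat.prime_three⟩
  set H : Subgroup W := normalizer (D.K : Set W) ⊓ centralizer {D.s i} with hH
  have hHm : ∀ {c : W}, c ∈ H → c * D.s i = D.s i * c := fun h =>
    mem_centralizer_singleton_iff.1 h.2
  set S : Subgroup W := D.K ⊔ zpowers (D.s i) with hS
  have hsn : D.s i ∈ normalizer (D.K : Set W) := by
    rw [← D.sg_e1]; exact D.NA_normalizes (D.sg_mem _)
  have hSm : ∀ x ∈ S, ∃ k ∈ D.K, x = k ∨ x = k * D.s i := by
    intro x hx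
    rw [hS, sup_comm, ← SetLike.mem_coe,
      coe_mul_of_left_le_normalizer_right _ _ (zpowers_le.2 hsn)] at hx
    obtain ⟨y, hy, k, hk, rfl⟩ := hx
    obtain ⟨j, rfl⟩ := mem_zpowers_iff.1 hy
    rcases Int.even_or_odd' j with ⟨l, rfl | rfl⟩
    · exact ⟨k, hk, Or.inl (by simp [zpow_mul, sq, D.s_sq])⟩
    · refine ⟨D.s i * k * (D.s i)⁻¹, D.K_s i k hk, Or.inr ?_⟩
      simp [zpow_add, zpow_mul, sq, D.s_sq, mul_assoc]
  have hS3 : ∀ x ∈ S, ∀ k : ℕ, x ^ 3 ^ k = 1 → x = 1 := by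
    intro x hx k h3
    have hsq : ∀ y ∈ S, y * y ∈ D.K := by
      intro y hy
      obtain ⟨m, hm, rfl | rfl⟩ := hSm y hy
      · exact mul_mem hm hm
      · have := mul_mem hm (D.K_s i m hm)
        rw [inv_eq_of_mul_eq_one_right (D.s_sq i)] at this
        simpa [mul_assoc] using this
    have hodd : Odd (3 ^ k) := Odd.pow (by decide)
    obtain ⟨m, hm⟩ := hodd
    have hx2 : x = (x ^ (m + 1)) * x ^ (m + 1) := by
      rw [← pow_add, show m + 1 + (m + 1) = 3 ^ k + 1 by omega, pow_succ, h3, one_mul]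
    obtain ⟨l, hl⟩ := D.isPGroup_K ⟨x, hx2 ▸ hsq _ (pow_mem hx _)⟩
    rw [← orderOf_eq_one_iff]
    exact Nat.eq_one_of_dvd_coprimes (Nat.Coprime.pow k l (by norm_num : Nat.Coprime 3 2))
      (orderOf_dvd_of_pow_eq_one h3) (orderOf_dvd_of_pow_eq_one (by simpa using congrArg Subtype.val hl))
  set Z : Subgroup W := S ⊓ H with hZ
  have hZn : ∀ h ∈ H, ∀ z ∈ Z, h * z * h⁻¹ ∈ Z := by
    intro h hh z hz
    refine ⟨?_, H.mul_mem (H.mul_mem hh hz.2) (H.inv_mem hh)⟩
    obtain ⟨k, hk, rfl | rfl⟩ := hSm z hz.1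
    · exact mem_sup_left ((mem_normalizer_iff.1 hh.1 _).1 hk)
    · rw [show h * (k * D.s i) * h⁻¹ = h * k * h⁻¹ * (h * D.s i * h⁻¹) by group,
        hHm hh, mul_inv_cancel_right]
      exact mul_mem_sup ((mem_normalizer_iff.1 hh.1 _).1 hk) (mem_zpowers _)
  have hPA : ∀ v : V3, eflip (e1 i) v = v ↔ v i = 0 := e1_fix i
  have hPH : ∀ w : V3, w i = 0 → D.a w ∈ H := fun w hw => by
    refine ⟨D.NA_normalizes (D.a_mem w), mem_centralizer_singleton_iff.2 ?_⟩
    rw [← D.sg_e1, D.sg_a, (hPA w).2 hw]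
  have hsH : ∀ e, D.sg e ∈ H := fun e => by
    refine ⟨D.NA_normalizes (D.sg_mem e), mem_centralizer_singleton_iff.2 ?_⟩
    rw [← D.sg_e1, D.sg_mul, D.sg_mul, exor_facts.2.2.1]
  have htZ : ∀ d, D.tp d ∈ Z := fun d => ⟨mem_sup_left (D.tp_mem_K d),
    le_normalizer (D.tp_mem_K d), mem_centralizer_singleton_iff.2 (D.tp_central d (D.s i)).symm⟩
  have hsZ : D.s i ∈ Z := ⟨mem_sup_right (mem_zpowers _), hsn, mem_centralizer_singleton_iff.2 rfl⟩
  have hPn : ∀ {Q : Subgroup W}, Q ≤ H → Q ≤ normalizer (Z : Set W) := fun hQ q hq => by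
    refine mem_normalizer_iff.2 fun z => ⟨hZn q (hQ hq) z, fun hz => ?_⟩
    have := hZn q⁻¹ (inv_mem (hQ hq)) _ hz
    simpa [mul_assoc] using this
  have hdisj : ∀ w e, w i = 0 → e i = false → D.a w * D.sg e ∈ Z → w = 0 ∧ e = e0 := by
    intro w e _ he h
    obtain ⟨k, hk, e' | e'⟩ := hSm _ h.1
    · exact D.K_inter_NA (d := false) (by rw [← D.nf_plain, e']; exact hk)
    · exfalso
      have h2 : D.nf w (exor e (e1 i)) false ∈ D.K := by
        rw [← D.nf_plain, ← D.sg_mul, D.sg_e1, ← mul_assoc, e', mul_assoc, D.s_sq, mul_one]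
        exact hk
      have := congrFun (D.K_inter_NA h2).2 i
      simp [exor, he, e1_self, e0] at this
  have hnorm : ∀ c ∈ H, (∀ w : V3, w i = 0 → ∃ w' : V3, w' i = 0 ∧
      c * D.a w * c⁻¹ * (D.a w')⁻¹ ∈ Z) →
      ∃ w e, w i = 0 ∧ e i = false ∧ (D.a w * D.sg e)⁻¹ * c ∈ Z := by
    intro c hc h
    obtain ⟨z, hz, hzc⟩ := conj_into (D.isPGroup_PA (e1 i))
      (hPn fun x ⟨v, hv, e⟩ => e ▸ hPH v ((hPA v).1 hv)) (fun z hz => hS3 z hz.1)
      ((D.isPGroup_PA (e1 i)).map (MulAut.conj c).toMonoidHom) (by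
        rintro _ ⟨_, ⟨v, hv, rfl⟩, rfl⟩
        obtain ⟨w', hw', h'⟩ := h v ((hPA v).1 hv)
        show c * D.a v * c⁻¹ ∈ _
        rw [show c * D.a v * c⁻¹ = (c * D.a v * c⁻¹ * (D.a w')⁻¹) * D.a w' by group]
        exact mul_mem (mem_sup_right h') (mem_sup_left ⟨w', (hPA w').2 hw', rfl⟩))
    obtain ⟨j, hji, hj0⟩ := ax_other i
    obtain ⟨w, -, hw⟩ := hzc _ ⟨D.a (ax j), ⟨ax j, (hPA _).2 hj0, rfl⟩, rfl⟩
    obtain ⟨v, f, d, hvf⟩ := D.mem_NA.1 (D.axis_normalizes (h := z * c) (j := j) (w := w) (by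
      rw [← hw]; simp only [MulEquiv.coe_toMonoidHom, MulAut.conj_apply]; group))
    have hvi : v i = 0 := by
      have h1 := hHm (mul_mem hz.2 hc)
      rw [hvf, ← D.sg_e1, show D.sg (e1 i) = D.nf 0 (e1 i) false by simp [nf, D.a_zero, tp], D.nf_mul,
        D.nf_mul] at h1
      have h2 := (D.nf_inj h1).1
      exact e1_split i f v h2
    let f' : Sg := fun j => if j = i then false else f j
    refine ⟨v, f', hvi, by simp [f'], ?_⟩
    have hsplit : ∃ y ∈ Z, D.sg f * D.tp d = D.sg f' * y := by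
      cases hfi : f i
      · refine ⟨D.tp d, htZ d, ?_⟩
        congr 2
        funext j; by_cases hji : j = i
        · subst hji; simp [f', hfi]
        · simp [f', hji]
      · refine ⟨D.s i * D.tp d, mul_mem hsZ (htZ d), ?_⟩
        rw [← mul_assoc, ← D.sg_e1, D.sg_mul]
        congr 2
        funext j; by_cases hji : j = i
        · subst hji; simp [f', hfi, exor, e1]
        · simp [f', hji, exor, e1]
    obtain ⟨y, hy, hy'⟩ := hsplit
    have hzr : (z * c)⁻¹ * z⁻¹ * (z * c) ∈ Z := by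
      have := hZn _ (inv_mem (mul_mem hz.2 hc)) _ (inv_mem hz)
      rwa [inv_inv] at this
    have e1' : (D.a v * D.sg f')⁻¹ * c = y * ((z * c)⁻¹ * z⁻¹ * (z * c)) := by
      rw [show (D.a v * D.sg f')⁻¹ * c =
        (D.a v * D.sg f')⁻¹ * (z * c) * ((z * c)⁻¹ * z⁻¹ * (z * c)) by group]
      congr 1
      rw [hvf, nf, mul_assoc (D.a v), hy']
      group
    rw [e1']
    exact mul_mem hy hzr
  have hmain := D.klein_step (i := i) H Z hZn hPH (fun e _ => hsH e)
    (fun h27 => by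
      refine D.not_27_dvd (small_e1 i) (fun v hv => ⟨i, e1_self i, (hPA v).1 hv⟩) ?_
      rw [D.sg_e1]
      exact (h27.trans (Subgroup.relIndex_dvd_card Z H)).trans (card_dvd_of_le inf_le_right))
    hdisj
    (fun c hc h => by
      obtain ⟨w, e, hw, he, h'⟩ := hnorm c hc fun w hw => ⟨w, hw, h w hw⟩
      have he0 : e = e0 := plane_fix i e he fun u hu => by
        set y := (D.a w * D.sg e)⁻¹ * c with hy
        have hc2 : c = D.a w * D.sg e * y := by rw [hy]; group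
        have hxH : D.a w * D.sg e ∈ H := mul_mem (hPH w hw) (hsH e)
        have h2 := h u hu
        -- `c` moves `a u` by `e` modulo `Z`
        have h3 : c * D.a u * c⁻¹ * (D.a (eflip e u))⁻¹ ∈ Z := by
          have hyu : y * (D.a u * y⁻¹ * (D.a u)⁻¹) ∈ Z :=
            mul_mem h' (hZn _ (hPH u hu) _ (inv_mem h'))
          have h4 := hZn _ hxH _ hyu
          have h5 : D.a w * D.sg e * D.a u * (D.a w * D.sg e)⁻¹ = D.a (eflip e u) := by
            rw [D.nf_plain, D.nf_conj]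
          rw [← h5, hc2]
          convert h4 using 1
          group
        have h6 : D.a (eflip e u - u) ∈ Z := by
          have := mul_mem (inv_mem h3) h2
          have e7 : (c * D.a u * c⁻¹ * (D.a (eflip e u))⁻¹)⁻¹ * (c * D.a u * c⁻¹ * (D.a u)⁻¹) =
              D.a (eflip e u - u) := by rw [D.a_sub]; group
          rwa [e7] at this
        have hfi : eflip e u i = 0 := by simp [eflip, hu]
        exact sub_eq_zero.1 (hdisj _ e0 (by simp [hfi, hu]) rfl (by rwa [D.sg_e0, mul_one])).1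
      subst he0
      exact ⟨w, hw, by rwa [D.sg_e0, mul_one] at h'⟩)
    hnorm
    (fun c hc w hw hw0 h w1 hw1 => by
      have hle : zpowers (D.a w) ≤ H := zpowers_le.2 (hPH w hw)
      have hQ : zpowers (c * D.a w * c⁻¹) ≤ zpowers (D.a w) ⊔ Z := zpowers_le.2 (by
        rw [show c * D.a w * c⁻¹ = (c * D.a w * c⁻¹ * (D.a w)⁻¹) * D.a w by group]
        exact mul_mem (mem_sup_right h) (mem_sup_left (mem_zpowers _)))
      have hord : ∀ x : W, x ^ 3 = 1 → IsPGroup 3 (zpowers x) := fun x hx q => by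
        obtain ⟨j, hj⟩ := mem_zpowers_iff.1 q.2
        refine ⟨1, Subtype.ext ?_⟩
        rw [SubmonoidClass.coe_pow, ← hj, pow_one, ← zpow_natCast (x ^ j), ← zpow_mul, mul_comm,
          zpow_mul, zpow_natCast, hx, one_zpow]
        rfl
      obtain ⟨z, hz, hzc⟩ := conj_into (hord _ (D.a_cube w)) (hPn hle) (fun z hz => hS3 z hz.1)
        (hord _ (by rw [conj_pow, D.a_cube, mul_one, mul_inv_cancel])) hQ
      obtain ⟨m, hm⟩ := mem_zpowers_iff.1 (hzc _ (mem_zpowers _))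
      have hzw : z * (c * D.a w * c⁻¹) * z⁻¹ * (D.a w)⁻¹ ∈ Z := by
        have h1 := hZn _ (hPH w hw) _ (inv_mem hz)
        have h2 := mul_mem (mul_mem hz h) h1
        simpa [mul_assoc] using h2
      have hfix : z * c * D.a w = D.a w * (z * c) := by
        have h1 : z * (c * D.a w * c⁻¹) * z⁻¹ * (D.a w)⁻¹ = 1 := by
          refine hS3 _ hzw.1 1 ?_
          rw [← hm, ← zpow_sub_one, pow_one, ← zpow_natCast, ← zpow_mul, mul_comm, zpow_mul,
            zpow_natCast, D.a_cube, one_zpow]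
        rw [mul_inv_eq_one] at h1
        calc z * c * D.a w = z * (c * D.a w * c⁻¹) * z⁻¹ * (z * c) := by group
          _ = _ := by rw [h1]
      have hM : z * c ∈ D.M := by
        by_cases hh : Heavy w
        · exact D.heavy w hh _ hfix
        · obtain ⟨l, rfl | rfl⟩ := (light_cases w hh).resolve_left hw0
          · exact D.NA_le_M (D.cent_ax hfix)
          · refine D.NA_le_M (D.cent_ax (i := l) ?_)
            rw [D.a_neg] at hfix
            have := (show Commute (z * c) (D.a (ax l))⁻¹ from hfix).inv_right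
            rw [inv_inv] at this
            exact this.eq
      obtain ⟨k, hk, v, f, d, hkv⟩ := D.mem_M.1 hM
      refine ⟨eflip f w1, by simp [eflip, hw1], ?_⟩
      have hzc' : z * c ∈ H := mul_mem hz.2 hc
      have e4 : z * c * D.a w1 * (z * c)⁻¹ * (D.a (eflip f w1))⁻¹ ∈ Z := by
        refine ⟨mem_sup_left ?_, H.mul_mem (H.mul_mem (H.mul_mem hzc' (hPH w1 hw1)) (H.inv_mem hzc'))
          (H.inv_mem (hPH _ (by simp [eflip, hw1])))⟩
        rw [hkv, show k * D.nf v f d * D.a w1 * (k * D.nf v f d)⁻¹ =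
          k * (D.nf v f d * D.a w1 * (D.nf v f d)⁻¹) * k⁻¹ by group, D.nf_conj]
        exact D.comm_mem_K hk _
      have e5 := hZn _ (hPH (eflip f w1) (by simp [eflip, hw1])) _ hz
      have e6 := mul_mem (mul_mem (inv_mem hz) e4) e5
      convert e6 using 1
      group)
  obtain ⟨w, e, -, -, h'⟩ := hnorm g ⟨hgK, mem_centralizer_singleton_iff.2 hgs⟩
    (hmain g ⟨hgK, mem_centralizer_singleton_iff.2 hgs⟩)
  have hSM : S ≤ D.M := sup_le D.K_le_M (zpowers_le.2 (D.NA_le_M (by rw [← D.sg_e1]; exact D.sg_mem _)))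
  have := mul_mem (D.NA_le_M (mul_mem (D.a_mem w) (D.sg_mem e))) (hSM h'.1)
  rwa [mul_inv_cancel_left] at this

end WSys

end CfsgLib.O8Three
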