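import Cfsg.Agent.O8Three.ExtNormT
import Cfsg.Agent.O8Three.WMainCent
import Cfsg.Agent.SmallSylow.KleinNine

/-!
# `K⟨r₁, r₂, r₃, out⟩` is a Sylow 2-subgroup of `C(t)`

In the centralizer of `out` in `N(K)/K`, divided by `⟨out⟩`, the image of `⟨z, x⟩` is a self-centralizing
Sylow 3-subgroup with Klein automizer containing the centralizers of its elements, so it is normal.
-/

set_option autoImplicit false
set_option maxRecDepth 100000
set_option linter.style.haveILetI false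
set_option linter.unusedSectionVars false

namespace CfsgLib.O8Three

open CfsgLib.PSpFourInvol (S sm si)
open Subgroup
open scoped Pointwise

universe u

/-- The elements of the complement permuting the singular vectors of `⟨z, x⟩`. -/
def csgn (o : Bool × Bool) : Sg × Bool := (fun j => xor (decide (j = 0) && o.1) o.2, false)

theorem line_sing : ∀ v : JV, v.a = 0 → v.b = 0 → v ≠ j0 → qJ v = 0 →
    ∃ o, dJ (csgn o) ⟨1, 0, 0, 0⟩ = v := by decide +kernel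

theorem csgn_facts : csgn (false, false) = (e0, false) ∧
    (∀ o o', ddMul (csgn o) (csgn o') = csgn (xor o.1 o'.1, xor o.2 o'.2)) ∧
    (∀ o, ddMul (csgn o) (e0, true) = ddMul (e0, true) (csgn o)) ∧
    (∀ o, dJ (csgn o) ⟨1, 0, 0, 0⟩ = ⟨1, 0, 0, 0⟩ → o = (false, false)) ∧
    (∀ (o : Bool × Bool) (v : JV), v.a = 0 → v.b = 0 → (dJ (csgn o) v).a = 0 ∧ (dJ (csgn o) v).b = 0) := by
  decide +kernel

theorem outJ_fix : ∀ v : JV, outJ v = v ↔ v.a = 0 := by decide +kernel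

theorem R12_fix : ∀ u : JV, u.a = 0 → u.b = 0 → R1J u = u → R2J u = u → u = j0 := by decide +kernel

theorem t_left : ∀ g : S, sm 1 g ≠ g := by decide +kernel

namespace Base

variable {G : Type u} [Group G] {H : Base G}

/-- The group `⟨z, x⟩`. -/
def PPs (H : Base G) : Subgroup G where
  carrier := {g | ∃ u : JV, u.a = 0 ∧ u.b = 0 ∧ H.emb u = g}
  mul_mem' := by
    rintro _ _ ⟨u, hu, hu', rfl⟩ ⟨w, hw, hw', rfl⟩
    exact ⟨ja u w, by show u.a + w.a = 0; rw [hu, hw, add_zero], by show u.b + w.b = 0; rw [hu', hw', add_zero],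
      H.emb_ja u w⟩
  one_mem' := ⟨j0, rfl, rfl, H.emb_j0⟩
  inv_mem' := by
    rintro _ ⟨u, hu, hu', rfl⟩
    exact ⟨jn u, by show -u.a = 0; rw [hu, neg_zero], by show -u.b = 0; rw [hu', neg_zero], H.emb_jn u⟩

/-- The group `K⟨out⟩`. -/
def Refl.N2 (R : Refl H) : Subgroup G := R.K ⊔ zpowers H.out

/-- The stabiliser of `K` and of `K⟨out⟩` in `C(t)`. -/
def Refl.C2 (R : Refl H) : Subgroup G :=
  H.Wt ⊓ normalizer (R.K : Set G) ⊓ normalizer (R.N2 : Set G)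

variable [Finite G] {R : Refl H}

theorem norm_of_map {N : Subgroup G} {g : G} (h : ∀ y ∈ N, g * y * g⁻¹ ∈ N) :
    g ∈ normalizer (N : Set G) := by
  have hle : N.map (MulAut.conj g).toMonoidHom ≤ N := by
    rintro _ ⟨y, hy, rfl⟩; exact h y hy
  have heq := eq_of_le_of_card_ge hle (le_of_eq (card_map_of_injective (MulAut.conj g).injective).symm)
  refine mem_normalizer_iff.2 fun y => ⟨h y, fun hy => ?_⟩
  obtain ⟨z, hz, e⟩ := heq.ge hy
  rwa [← (MulAut.conj g).injective e]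

theorem Refl.mem_N2 (he : H.ext = true) {g : G} : g ∈ R.N2 ↔ ∃ k ∈ R.K, g = k ∨ g = k * H.out := by
  have hn : zpowers H.out ≤ normalizer (R.K : Set G) :=
    zpowers_le.2 (norm_of_map fun y hy => K_out he R hy)
  have hzp : ∀ y ∈ zpowers H.out, y = 1 ∨ y = H.out := by
    intro y hy
    obtain ⟨k, rfl⟩ := mem_zpowers_iff.1 hy
    have h2 : H.out ^ (2 : ℤ) = 1 := by rw [show (2 : ℤ) = ((2 : ℕ) : ℤ) from rfl, zpow_natCast, pow_two, H.out_sq]
    rw [← Int.emod_add_mul_ediv k 2, zpow_add, zpow_mul, h2, one_zpow, mul_one]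
    rcases Int.emod_two_eq k with e | e <;> rw [e]
    · exact Or.inl (zpow_zero _)
    · exact Or.inr (zpow_one _)
  rw [Refl.N2, ← SetLike.mem_coe, coe_mul_of_right_le_normalizer_left _ _ hn, Set.mem_mul]
  constructor
  · rintro ⟨k, hk, y, hy, rfl⟩
    refine ⟨k, hk, ?_⟩
    rcases hzp y hy with rfl | rfl
    · exact Or.inl (mul_one k)
    · exact Or.inr rfl
  · rintro ⟨k, hk, rfl | rfl⟩
    · exact ⟨g, hk, 1, one_mem _, mul_one g⟩
    · exact ⟨k, hk, H.out, mem_zpowers _, rfl⟩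

theorem Refl.K_le_N2 : R.K ≤ R.N2 := le_sup_left

theorem Refl.out_mem_N2 : H.out ∈ R.N2 := mem_sup_right (mem_zpowers _)

theorem dd_out : H.out = R.dd (e0, true) := by simp [Refl.dd, e0]

theorem Refl.N2_le_TT (he : H.ext = true) : R.N2 ≤ R.TT :=
  sup_le le_sup_left (zpowers_le.2 ((R.mem_TT he).2 ⟨1, one_mem _, (e0, true), by rw [one_mul]; exact dd_out⟩))

theorem Refl.Comm.N2_coprime (hR : R.Comm) (he : H.ext = true) : (Nat.card R.N2).Coprime 3 := by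
  refine Nat.Coprime.coprime_dvd_left (card_dvd_of_le (R.N2_le_TT he)) ?_
  rw [hR.card_TT he]; norm_num

theorem Refl.Comm.N2_emb (hR : R.Comm) (he : H.ext = true) {u : JV} (h : H.emb u ∈ R.N2) : u = j0 :=
  H.emb_inj ((coprime_cube (hR.N2_coprime he) h (H.J_cube (H.mem_J.2 ⟨u, rfl⟩))).trans H.emb_j0.symm)

theorem Refl.Comm.out_not_K (hR : R.Comm) (he : H.ext = true) : H.out ∉ R.K := fun h =>
  absurd (hR.dd_mem_K R he (dd_out (R := R) ▸ h)) (by decide +kernel)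

theorem Refl.mem_C2 (he : H.ext = true) {g : G} (ht : g * H.t = H.t * g)
    (hK : ∀ k ∈ R.K, g * k * g⁻¹ ∈ R.K) (ho : g * H.out * g⁻¹ * H.out⁻¹ ∈ R.K) : g ∈ R.C2 := by
  refine ⟨⟨mem_Wt.2 ht, norm_of_map hK⟩, norm_of_map fun y hy => ?_⟩
  obtain ⟨k, hk, rfl | rfl⟩ := (R.mem_N2 he).1 hy
  · exact R.K_le_N2 (hK y hk)
  · rw [show g * (k * H.out) * g⁻¹ = (g * k * g⁻¹) * (g * H.out * g⁻¹ * H.out⁻¹) * H.out by group]
    exact mul_mem (R.K_le_N2 (mul_mem (hK k hk) ho)) R.out_mem_N2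

theorem Refl.C2_t {g : G} (hg : g ∈ R.C2) : g * H.t = H.t * g := mem_Wt.1 hg.1.1

theorem Refl.Comm.C2_out (hR : R.Comm) (he : H.ext = true) {g : G} (hg : g ∈ R.C2) :
    g * H.out * g⁻¹ * H.out⁻¹ ∈ R.K := by
  obtain ⟨k, hk, e | e⟩ := (R.mem_N2 he).1 ((mem_normalizer_iff.1 hg.2 _).1 R.out_mem_N2)
  · exact absurd ((mem_normalizer_iff.1 hg.1.2 _).2 (e ▸ hk)) (hR.out_not_K he)
  · rw [e, mul_inv_cancel_right]; exact hk

theorem Refl.Comm.K_le_C2 (hR : R.Comm) (he : H.ext = true) : R.K ≤ R.C2 := fun k hk =>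
  R.mem_C2 he (hR.K_cent hk) (fun y hy => mul_mem (mul_mem hk hy) (inv_mem hk)) (by
    rw [show k * H.out * k⁻¹ * H.out⁻¹ = k * (H.out * k⁻¹ * H.out⁻¹) by group]
    exact mul_mem hk (K_out he R (inv_mem hk)))

theorem Refl.Comm.N2_le_C2 (hR : R.Comm) (he : H.ext = true) : R.N2 ≤ R.C2 :=
  sup_le (hR.K_le_C2 he) (zpowers_le.2 (R.mem_C2 he (out_comm_t he) (fun _ hk => K_out he R hk) (by
    rw [mul_inv_cancel_right, mul_inv_cancel]; exact one_mem _)))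

theorem out_emb_fix (he : H.ext = true) {u : JV} (hu : u.a = 0) : H.emb u * H.out = H.out * H.emb u := by
  have := nrm_out he u
  rw [(outJ_fix u).2 hu] at this
  conv_lhs => rw [← this]
  group

theorem Refl.PPs_le_C2 (he : H.ext = true) : H.PPs ≤ R.C2 := by
  rintro _ ⟨u, hu, hb, rfl⟩
  refine R.mem_C2 he (emb_comm_t (JV.ext rfl rfl (by show -u.b = _; rw [hb, neg_zero]) rfl))
    (fun k hk => R.K_emb hb hk) ?_
  rw [out_emb_fix he hu, mul_inv_cancel_right, mul_inv_cancel]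
  exact one_mem _

theorem Refl.dd_mem_C2 (he : H.ext = true) (o : Bool × Bool) : R.dd (csgn o) ∈ R.C2 := by
  refine R.mem_C2 he (R.dd_t he _) (fun k hk => R.dd_K he _ hk) ?_
  rw [dd_out (R := R), R.dd_mul he, csgn_facts.2.2.1, ← R.dd_mul he, mul_inv_cancel_right, mul_inv_cancel]
  exact one_mem _

/-- Elements of order three congruent modulo a normalised group of order prime to three are conjugate
in it. -/
theorem lift_conj {N : Subgroup G} (hN : (Nat.card N).Coprime 3) {p q : G} (hp : p ^ 3 = 1)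
    (hq : q ^ 3 = 1) (hqn : q ∈ normalizer (N : Set G)) (h : q⁻¹ * p ∈ N) :
    ∃ n ∈ N, n * p * n⁻¹ = q := by
  haveI : Fact (Nat.Prime 3) := ⟨Nat.prime_three⟩
  have hN1 : ∀ y ∈ N, ∀ k : ℕ, y ^ 3 ^ k = 1 → y = 1 := fun y hy k hk => by
    rw [← orderOf_eq_one_iff]
    exact Nat.eq_one_of_dvd_coprimes (Nat.Coprime.pow_right k hN)
      ((orderOf_coe ⟨y, hy⟩).symm ▸ orderOf_dvd_natCard (⟨y, hy⟩ : N)) (orderOf_dvd_of_pow_eq_one hk)
  have hpg : ∀ {y : G}, y ^ 3 = 1 → IsPGroup 3 (zpowers y) := fun {y} hy g => by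
    obtain ⟨k, hk⟩ := mem_zpowers_iff.1 g.2
    refine ⟨1, Subtype.ext ?_⟩
    rw [pow_one, SubgroupClass.coe_pow, ← hk, ← zpow_natCast, ← zpow_mul, mul_comm, zpow_mul, zpow_natCast, hy,
      one_zpow]
    rfl
  by_cases hq1 : q ∈ N
  · have e1 : q = 1 := hN1 q hq1 1 (by rw [pow_one]; exact hq)
    subst e1
    rw [inv_one, one_mul] at h
    exact ⟨1, one_mem _, by rw [hN1 p h 1 (by rw [pow_one]; exact hp)]; group⟩
  obtain ⟨z, hz, hz'⟩ := WSys.conj_into (hpg hq) (zpowers_le.2 hqn) hN1 (hpg hp) (zpowers_le.2 (by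
    rw [show p = q * (q⁻¹ * p) by group]
    exact mul_mem (mem_sup_left (mem_zpowers q)) (mem_sup_right h)))
  obtain ⟨k, hk⟩ := mem_zpowers_iff.1 (hz' p (mem_zpowers p))
  refine ⟨z, hz, ?_⟩
  have hmem : q⁻¹ * (z * p * z⁻¹) ∈ N := by
    have hqc : q⁻¹ * z * q ∈ N := by
      have := (mem_normalizer_iff.1 (inv_mem hqn) z).1 hz
      rwa [inv_inv] at this
    rw [show q⁻¹ * (z * p * z⁻¹) = (q⁻¹ * z * q) * (q⁻¹ * p) * z⁻¹ by group]
    exact mul_mem (mul_mem hqc h) (inv_mem hz)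
  have h3 : (q⁻¹ * (z * p * z⁻¹)) ^ 3 = 1 := by
    rw [← hk, ← zpow_neg_one, ← zpow_add, ← zpow_natCast, ← zpow_mul, mul_comm, zpow_mul, zpow_natCast, hq,
      one_zpow]
  exact (inv_mul_eq_one.1 (hN1 _ hmem 1 (by rw [pow_one]; exact h3))).symm

/-- An element of `C2` normalising `A` normalises `⟨z, x⟩`. -/
theorem Refl.Comm.norm_PPs (hR : R.Comm) (he : H.ext = true) {n : G} (hn : n ∈ R.C2) (hn' : n ∈ H.NW)
    {u : JV} (ha : u.a = 0) (hb : u.b = 0) :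
    ∃ w : JV, w.a = 0 ∧ w.b = 0 ∧ n * H.emb u * n⁻¹ = H.emb w := by
  set k := n * H.out * n⁻¹ * H.out⁻¹ with hk
  have hkK : k ∈ R.K := hR.C2_out he hn
  have hkN : k ∈ H.NW := mul_mem (mul_mem (mul_mem hn' (out_mem_NW he)) (inv_mem hn')) (inv_mem (out_mem_NW he))
  have hc : ∀ v : JV, v.b = 0 → k * H.emb v = H.emb v * k := by
    intro v hv
    obtain ⟨w, hw, e⟩ := NW_conj hkN hv
    have h1 : H.emb (ja w (jn v)) ∈ R.K := by
      rw [H.emb_ja, H.emb_jn, ← e,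
        show k * H.emb v * k⁻¹ * (H.emb v)⁻¹ = k * (H.emb v * k⁻¹ * (H.emb v)⁻¹) by group]
      exact mul_mem hkK (R.K_emb hv (inv_mem hkK))
    have h2 := ja_eq_zero _ _ (hR.AA_inter R h1)
    rw [jn_jn] at h2
    subst h2
    exact mul_inv_eq_iff_eq_mul.1 e
  have hpm : H.Pm k := hR.fix_axis (nineE_b 0).1 (nine_axis 0).2 hkK (hc _ (nineE_b 0).1)
  obtain ⟨w, hw, e⟩ := NW_conj hn' hb
  refine ⟨w, ?_, hw, e⟩
  refine (outJ_fix w).1 (H.emb_inj ?_)
  have hwt : H.emb w * H.t = H.t * H.emb w :=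
    emb_comm_t (JV.ext rfl rfl (by show -w.b = _; rw [hw, neg_zero]) rfl)
  have hou : H.out * H.emb u * H.out⁻¹ = H.emb u := by rw [← out_emb_fix he ha, mul_inv_cancel_right]
  rw [← nrm_out he w]
  calc H.out * H.emb w * H.out⁻¹ = k⁻¹ * ((n * H.out * n⁻¹) * H.emb w * (n * H.out * n⁻¹)⁻¹) * k := by
        rw [hk]; group
    _ = k⁻¹ * (n * (H.out * H.emb u * H.out⁻¹) * n⁻¹) * k := by rw [← e]; group
    _ = H.emb w := by rw [hou, e, mul_assoc, ← hc w hw, inv_mul_cancel_left]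

/-- Elements of `C2` centralising an element of `⟨z, x⟩` modulo `K⟨out⟩`. -/
theorem Refl.Comm.C2_split (hR : R.Comm) (hG : H.Good) (he : H.ext = true) (hA : R.CentA) {g : G}
    (hg : g ∈ R.C2) {v : JV} (ha : v.a = 0) (hb : v.b = 0) (hne : v ≠ j0)
    (h : (H.emb v)⁻¹ * (g * H.emb v * g⁻¹) ∈ R.N2) :
    ∃ m ∈ R.N2, ∃ n ∈ R.C2, n ∈ H.NW ∧ g = m * n := by
  have h3 : H.emb v ^ 3 = 1 := H.J_cube (H.mem_J.2 ⟨v, rfl⟩)
  obtain ⟨n0, hn0, e⟩ := lift_conj (hR.N2_coprime he) (p := g * H.emb v * g⁻¹) (q := H.emb v)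
    (by rw [conj_pow, h3]; group) h3 (R.PPs_le_C2 he ⟨v, ha, hb, rfl⟩).2 h
  have hng : n0 * g ∈ R.C2 := mul_mem (hR.N2_le_C2 he hn0) hg
  obtain ⟨k, hk, n, hn, e'⟩ := R.inKN_line hG he hR hA ha hb hne (R.C2_t hng) (mul_inv_eq_iff_eq_mul.1 (by
    conv_rhs => rw [← e]
    group))
  refine ⟨n0⁻¹ * k, mul_mem (inv_mem hn0) (R.K_le_N2 hk), n, ?_, hn, ?_⟩
  · rw [show n = k⁻¹ * (n0 * g) by rw [e']; group]
    exact mul_mem (inv_mem (hR.K_le_C2 he hk)) hng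
  · rw [mul_assoc, ← e']; group

/-- Elements of `C2` carrying `z` into `⟨z, x⟩` modulo `K⟨out⟩`. -/
theorem Refl.Comm.C2_form (hR : R.Comm) (hG : H.Good) (he : H.ext = true) {g : G} (hg : g ∈ R.C2)
    {v : JV} (ha : v.a = 0) (hb : v.b = 0) (h : (H.emb v)⁻¹ * (g * H.z * g⁻¹) ∈ R.N2) :
    ∃ m ∈ R.N2, ∃ p ∈ H.PPs, ∃ o, dJ (csgn o) ⟨1, 0, 0, 0⟩ = v ∧ g = m * p * R.dd (csgn o) := by
  have h3 : ∀ w : JV, H.emb w ^ 3 = 1 := fun w => H.J_cube (H.mem_J.2 ⟨w, rfl⟩)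
  obtain ⟨n0, hn0, e⟩ := lift_conj (hR.N2_coprime he) (p := g * H.z * g⁻¹) (q := H.emb v)
    (by rw [H.emb_zT, conj_pow, h3]; group) (h3 v) (R.PPs_le_C2 he ⟨v, ha, hb, rfl⟩).2 h
  have e1 : n0 * g * H.emb ⟨1, 0, 0, 0⟩ * (n0 * g)⁻¹ = H.emb v := by rw [← H.emb_zT, ← e]; group
  have hne : v ≠ j0 := by
    rintro rfl
    rw [H.emb_j0, conj_eq_one_iff, ← H.emb_j0] at e1
    exact absurd (H.emb_inj e1) (by decide)
  obtain ⟨o, ho⟩ := line_sing v ha hb hne ((hG.qJ_conj e1).symm.trans (by decide))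
  set c := R.dd (csgn o) with hc
  have hcC : c ∈ R.C2 := R.dd_mem_C2 he o
  have hcz : c * H.emb ⟨1, 0, 0, 0⟩ * c⁻¹ = H.emb v := (R.dd_nrm he _ _).trans (congrArg H.emb ho)
  set h' := c⁻¹ * (n0 * g) with hh'
  have hhC : h' ∈ R.C2 := mul_mem (inv_mem hcC) (mul_mem (hR.N2_le_C2 he hn0) hg)
  have hhz : h' * H.z = H.z * h' := by
    refine mul_inv_eq_iff_eq_mul.1 ?_
    rw [hh', H.emb_zT]
    calc c⁻¹ * (n0 * g) * H.emb ⟨1, 0, 0, 0⟩ * (c⁻¹ * (n0 * g))⁻¹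
        = c⁻¹ * (n0 * g * H.emb ⟨1, 0, 0, 0⟩ * (n0 * g)⁻¹) * c := by group
      _ = H.emb ⟨1, 0, 0, 0⟩ := by rw [e1, ← hcz]; group
  obtain ⟨k, hk, n, hn, e'⟩ := R.inKN_z he (R.C2_t hhC) hhz
  have hnC : n ∈ R.C2 := by
    rw [show n = k⁻¹ * h' by rw [e']; group]
    exact mul_mem (inv_mem (hR.K_le_C2 he hk)) hhC
  -- `n` centralises `z`
  have hnz : n * H.z = H.z * n := by
    obtain ⟨w, hw, ew⟩ := NW_conj hn (u := ⟨1, 0, 0, 0⟩) rfl
    have h1 : H.emb (ja ⟨1, 0, 0, 0⟩ (jn w)) ∈ R.K := by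
      rw [H.emb_ja, H.emb_jn]
      have : H.emb ⟨1, 0, 0, 0⟩ = k * H.emb w * k⁻¹ := by
        rw [← ew, show k * (n * H.emb ⟨1, 0, 0, 0⟩ * n⁻¹) * k⁻¹ = (k * n) * H.emb ⟨1, 0, 0, 0⟩ * (k * n)⁻¹ by
          group, ← e', ← H.emb_zT, hhz, mul_inv_cancel_right]
      rw [this, show k * H.emb w * k⁻¹ * (H.emb w)⁻¹ = k * (H.emb w * k⁻¹ * (H.emb w)⁻¹) by group]
      exact mul_mem hk (R.K_emb hw (inv_mem hk))
    have h2 := ja_eq_zero _ _ (hR.AA_inter R h1)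
    rw [jn_jn] at h2
    rw [← h2, ← H.emb_zT] at ew
    exact mul_inv_eq_iff_eq_mul.1 ew
  obtain ⟨x, hx⟩ := H.mem_cent.1 hnz
  obtain ⟨d, hd, hnd⟩ : ∃ d, (d = 1 ∨ d = H.out) ∧ n = H.par x * d := by
    rcases hx with hx | hx
    · exact ⟨1, Or.inl rfl, by rw [hx, mul_one]⟩
    · exact ⟨H.out, Or.inr rfl, hx⟩
  have hdN : d ∈ H.NW ∧ d ∈ R.N2 := by
    rcases hd with rfl | rfl
    · exact ⟨one_mem _, one_mem _⟩
    · exact ⟨out_mem_NW he, R.out_mem_N2⟩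
  have hxN : H.par x ∈ H.NW := by
    rw [show H.par x = n * d⁻¹ by rw [hnd]; group]
    exact mul_mem hn (inv_mem hdN.1)
  have hxC : H.par x ∈ R.C2 := by
    rw [show H.par x = n * d⁻¹ by rw [hnd]; group]
    exact mul_mem hnC (inv_mem (hR.N2_le_C2 he hdN.2))
  -- `x` commutes with the outer involution
  have hxσ : sigB true x = x := by
    have hkK := hR.C2_out he hxC
    have hpar : H.par x * H.out * (H.par x)⁻¹ * H.out⁻¹ = H.par (x * (sigB true x)⁻¹) := by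
      rw [map_mul, map_inv, ← out_par he]; group
    rw [hpar] at hkK
    have hxt := H.par_comm.1 (R.C2_t hxC)
    obtain ⟨hm, hn'⟩ := comm_tT hxt
    have hfix : H.Pm (H.par (x * (sigB true x)⁻¹)) := by
      refine hR.fix_axis (nineE_b 0).1 (nine_axis 0).2 hkK ?_
      have hmem : H.par (x * (sigB true x)⁻¹) ∈ H.NW := hpar ▸
        mul_mem (mul_mem (mul_mem hxN (out_mem_NW he)) (inv_mem hxN)) (inv_mem (out_mem_NW he))
      obtain ⟨w, hw, ew⟩ := NW_conj hmem (nineE_b 0).1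
      set y := H.par (x * (sigB true x)⁻¹)
      have h1 : H.emb (ja w (jn (nineE 0))) ∈ R.K := by
        rw [H.emb_ja, H.emb_jn, ← ew,
          show y * H.emb (nineE 0) * y⁻¹ * (H.emb (nineE 0))⁻¹ =
            y * (H.emb (nineE 0) * y⁻¹ * (H.emb (nineE 0))⁻¹) by group]
        exact mul_mem hkK (R.K_emb (nineE_b 0).1 (inv_mem hkK))
      have h2 := ja_eq_zero _ _ (hR.AA_inter R h1)
      rw [jn_jn] at h2
      rw [h2] at ew
      exact mul_inv_eq_iff_eq_mul.1 ew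
    rcases hfix with e2 | e2
    · exact (mul_inv_eq_one.1 (H.inj (e2.trans (map_one H.par).symm))).symm
    · exfalso
      have h4 : x = tT * sigB true x := by rw [← H.inj (e2 : _ = H.par tT), inv_mul_cancel_right]
      exact t_left (sigB true x).g (congrArg T.g h4).symm
  have hva : x.v.a = 0 ∧ x.v.b = 0 := by
    have hd : ∀ r : ZMod 3, -r = r → r = 0 := by decide
    exact ⟨hd _ (congrArg (fun y : T => y.v.a) hxσ), hd _ (congrArg (fun y : T => y.v.b) hxσ)⟩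
  have hf := comm_tT_form (H.par_comm.1 (R.C2_t hxC)) hva.2
  obtain ⟨w, -, -, ew⟩ := hR.norm_PPs he hxC hxN (u := ⟨0, 0, 0, 1⟩) rfl rfl
  rw [emb, emb, ← map_inv, ← map_mul, ← map_mul] at ew
  have hxk := norm_line x.g (by
    have h2 : (x * jT ⟨0, 0, 0, 1⟩ * x⁻¹).g = (jT w).g := congrArg T.g (H.inj ew)
    have h3' := Jsub_le (mem_Jsub.2 (jC_jT w).2)
    rw [mem_Ssub, inS, ← h2, mul_g, mul_g] at h3'
    exact h3')
  obtain ⟨τ, hτ, p, hp, hxp⟩ : ∃ τ ∈ R.K, ∃ p ∈ H.PPs, H.par x = τ * p := by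
    rcases hxk with hk' | hk'
    · refine ⟨1, one_mem _, H.par x, ⟨⟨x.c, 0, 0, chi x.g⟩, rfl, rfl, ?_⟩, (one_mul _).symm⟩
      rw [emb, hf]
      exact congrArg H.par (T.ext rfl (Vec.ext hva.1.symm rfl rfl rfl) hk'.symm)
    · refine ⟨H.t, R.t_mem_K, H.emb ⟨x.c, 0, 0, chi x.g⟩, ⟨_, rfl, rfl, rfl⟩, ?_⟩
      rw [emb, t, ← map_mul]
      refine congrArg H.par ?_
      rw [hf]
      refine T.ext ?_ ?_ hk'
      · simp [mul_def, tm, jT, tT, bet, v0]
      · simp [mul_def, tm, jT, tT, va, v0, act, hva.1]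
  obtain ⟨u, hua, hub, rfl⟩ := hp
  have hud : H.emb u * d = d * H.emb u := by
    rcases hd with rfl | rfl
    · rw [mul_one, one_mul]
    · exact out_emb_fix he hua
  have hu' := csgn_facts.2.2.2.2 o u hua hub
  refine ⟨n0⁻¹ * (c * (k * τ * d) * c⁻¹), mul_mem (inv_mem hn0) ((mem_normalizer_iff.1 hcC.2 _).1
      (mul_mem (R.K_le_N2 (mul_mem hk hτ)) hdN.2)),
    H.emb (dJ (csgn o) u), ⟨_, hu'.1, hu'.2, rfl⟩, o, ho, ?_⟩
  rw [← R.dd_nrm he]
  calc g = n0⁻¹ * (c * (c⁻¹ * (n0 * g))) := by group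
    _ = n0⁻¹ * (c * (k * (τ * H.emb u * d))) := by rw [← hh', e', hnd, hxp]
    _ = n0⁻¹ * (c * (k * (τ * d * H.emb u))) := by rw [mul_assoc τ, hud, ← mul_assoc τ]
    _ = _ := by simp only [hc]; group

/-- The elements of `C2` normalise `⟨z, x⟩` modulo `K⟨out⟩`. -/
theorem Refl.Comm.C2_all (hR : R.Comm) (hG : H.Good) (he : H.ext = true) (hA : R.CentA) {g : G}
    (hg : g ∈ R.C2) : ∃ v : JV, v.a = 0 ∧ v.b = 0 ∧ (H.emb v)⁻¹ * (g * H.z * g⁻¹) ∈ R.N2 := by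
  classical
  haveI : Fact (Nat.Prime 3) := ⟨Nat.prime_three⟩
  haveI hnorm : (R.N2.subgroupOf R.C2).Normal :=
    normal_subgroupOf_of_le_normalizer fun y hy => hy.2
  set π := QuotientGroup.mk' (R.N2.subgroupOf R.C2)
  have hπ : ∀ {a b : R.C2}, π a = π b ↔ (a : G)⁻¹ * b ∈ R.N2 := fun {a b} => QuotientGroup.eq
  let ev : ∀ v : JV, v.a = 0 → v.b = 0 → R.C2 := fun v ha hb => ⟨H.emb v, R.PPs_le_C2 he ⟨v, ha, hb, rfl⟩⟩
  set P := (H.PPs.subgroupOf R.C2).map π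
  have hPmem : ∀ {x : R.C2 ⧸ R.N2.subgroupOf R.C2}, x ∈ P ↔ ∃ v ha hb, π (ev v ha hb) = x := by
    intro x
    constructor
    · rintro ⟨y, hy, rfl⟩
      obtain ⟨v, ha, hb, e⟩ := mem_subgroupOf.1 hy
      exact ⟨v, ha, hb, congrArg π (Subtype.ext e)⟩
    · rintro ⟨v, ha, hb, rfl⟩
      exact ⟨_, mem_subgroupOf.2 ⟨v, ha, hb, rfl⟩, rfl⟩
  -- normalising elements
  have hnormP : ∀ a : R.C2, (∀ v : JV, v.a = 0 → v.b = 0 →
      ∃ w : JV, w.a = 0 ∧ w.b = 0 ∧ (a : G) * H.emb v * (a : G)⁻¹ = H.emb w) →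
      π a ∈ normalizer (P : Set (R.C2 ⧸ R.N2.subgroupOf R.C2)) := by
    intro a ha'
    refine norm_of_map fun y hy => ?_
    obtain ⟨v, ha, hb, rfl⟩ := hPmem.1 hy
    obtain ⟨w, hwa, hwb, e⟩ := ha' v ha hb
    refine hPmem.2 ⟨w, hwa, hwb, ?_⟩
    rw [← map_inv, ← map_mul, ← map_mul]
    exact congrArg π (Subtype.ext e.symm)
  let cd : Bool × Bool → R.C2 := fun o => ⟨R.dd (csgn o), R.dd_mem_C2 he o⟩
  have hcd : ∀ o, π (cd o) ∈ normalizer (P : Set (R.C2 ⧸ R.N2.subgroupOf R.C2)) := fun o =>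
    hnormP _ fun v ha hb => ⟨_, (csgn_facts.2.2.2.2 o v ha hb).1, (csgn_facts.2.2.2.2 o v ha hb).2,
      R.dd_nrm he _ v⟩
  let zc : R.C2 := ev ⟨1, 0, 0, 0⟩ rfl rfl
  have hzc : (zc : G) = H.z := H.emb_zT.symm
  have hform : ∀ y ∈ normalizer (P : Set (R.C2 ⧸ R.N2.subgroupOf R.C2)),
      ∃ p ∈ P, ∃ o, y = p * π (cd o) := by
    intro y hy
    obtain ⟨a, rfl⟩ := QuotientGroup.mk'_surjective _ y
    obtain ⟨v, ha, hb, e⟩ := hPmem.1 ((mem_normalizer_iff.1 hy (π zc)).1 (hPmem.2 ⟨_, rfl, rfl, rfl⟩))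
    rw [← map_inv, ← map_mul, ← map_mul, hπ] at e
    simp only [Subgroup.coe_mul, Subgroup.coe_inv, hzc, ev] at e
    obtain ⟨m, hm, p, hp, o, -, ea⟩ := hR.C2_form hG he a.2 ha hb e
    refine ⟨_, ⟨⟨p, R.PPs_le_C2 he hp⟩, mem_subgroupOf.2 hp, rfl⟩, o, ?_⟩
    rw [← map_mul, hπ]
    simp only [Subgroup.coe_mul, Subgroup.coe_inv, cd]
    rw [ea, show (m * p * R.dd (csgn o))⁻¹ * (p * R.dd (csgn o)) =
      (p * R.dd (csgn o))⁻¹ * m⁻¹ * (p * R.dd (csgn o)) by group]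
    have hq : (p * R.dd (csgn o))⁻¹ ∈ R.C2 := inv_mem (mul_mem (R.PPs_le_C2 he hp) (R.dd_mem_C2 he o))
    have := (mem_normalizer_iff.1 hq.2 _).1 (inv_mem hm)
    rwa [inv_inv] at this
  have hcomm : IsMulCommutative P := ⟨⟨by
    rintro ⟨x, hx⟩ ⟨y, hy⟩
    obtain ⟨v, ha, hb, rfl⟩ := hPmem.1 hx
    obtain ⟨w, hwa, hwb, rfl⟩ := hPmem.1 hy
    refine Subtype.ext ?_
    show π _ * π _ = π _ * π _
    rw [← map_mul, ← map_mul]
    exact congrArg π (Subtype.ext (H.emb_comm v w))⟩⟩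
  have hcube : ∀ x ∈ P, x ^ 3 = 1 := by
    intro x hx
    obtain ⟨v, ha, hb, rfl⟩ := hPmem.1 hx
    rw [← map_pow, ← map_one π]
    exact congrArg π (Subtype.ext (H.J_cube (H.mem_J.2 ⟨v, rfl⟩)))
  have hP9 : Nat.card P = 9 := by
    let f : ZMod 3 × ZMod 3 → P := fun p => ⟨π (ev ⟨p.1, 0, 0, p.2⟩ rfl rfl), hPmem.2 ⟨_, rfl, rfl, rfl⟩⟩
    have hf : Function.Bijective f := by
      refine ⟨fun p q h => ?_, fun x => ?_⟩
      · have h' := hπ.1 (congrArg Subtype.val h :)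
        simp only [ev, ← H.emb_jn, ← H.emb_ja] at h'
        have h'' := ja_eq_zero _ _ (hR.N2_emb he h')
        simp only [jn, JV.mk.injEq, neg_inj] at h''
        exact Prod.ext h''.1 h''.2.2.2
      · obtain ⟨v, ha, hb, e⟩ := hPmem.1 x.2
        refine ⟨(v.c, v.k), Subtype.ext ((congrArg π (Subtype.ext ?_)).trans e)⟩
        exact congrArg H.emb (JV.ext rfl ha.symm hb.symm rfl)
    rw [← Nat.card_congr (Equiv.ofBijective f hf)]
    simp
  have hc2 : ∀ o, π (cd o) * π (cd o) = 1 := fun o => by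
    rw [← map_mul, ← map_one π]
    refine congrArg π (Subtype.ext ?_)
    show R.dd (csgn o) * R.dd (csgn o) = 1
    rw [R.dd_mul he, csgn_facts.2.1, Bool.xor_self, Bool.xor_self, csgn_facts.1, R.dd_one]
  have hcd_mem : ∀ o, π (cd o) ∈ P → π (cd o) = 1 := fun o h => by
    have h3 := hcube _ h
    rwa [pow_succ, pow_two, hc2, one_mul] at h3
  have hcd_one : ∀ o, π (cd o) = 1 → o = (false, false) := by
    intro o h
    have hm : R.dd (csgn o) ∈ R.N2 := mem_subgroupOf.1 ((QuotientGroup.eq_one_iff _).1 h)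
    refine csgn_facts.2.2.2.1 o ?_
    have h2 : H.emb (ja (dJ (csgn o) ⟨1, 0, 0, 0⟩) (jn ⟨1, 0, 0, 0⟩)) ∈ R.N2 := by
      rw [H.emb_ja, H.emb_jn, ← R.dd_nrm he, show ∀ a b : G, a * b * a⁻¹ * b⁻¹ = a * (b * a⁻¹ * b⁻¹) from
        fun a b => by group]
      exact mul_mem hm ((mem_normalizer_iff.1 (R.PPs_le_C2 he ⟨_, rfl, rfl, rfl⟩).2 _).1 (inv_mem hm))
    have h4 := ja_eq_zero _ _ (hR.N2_emb he h2)
    rwa [jn_jn] at h4
  -- a Sylow subgroup
  obtain ⟨Q, hQ⟩ := (IsPGroup.of_card (n := 2) (by rw [hP9]; norm_num) : IsPGroup 3 P).exists_le_sylow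
  have hQP : (Q : Subgroup (R.C2 ⧸ R.N2.subgroupOf R.C2)) = P := by
    refine le_antisymm (fun x hx => ?_) hQ
    by_contra hne
    haveI : Group.IsNilpotent Q := Q.isPGroup'.isNilpotent
    have hlt : P.subgroupOf Q < ⊤ := lt_top_iff_ne_top.2 fun e =>
      hne ((e ▸ mem_top (⟨x, hx⟩ : Q) : (⟨x, hx⟩ : Q) ∈ P.subgroupOf Q))
    obtain ⟨y, hy, hyP⟩ := SetLike.exists_of_lt (Group.normalizerCondition_of_isNilpotent _ hlt)
    obtain ⟨p, hp, o, e⟩ := hform y (norm_of_map fun q hq => (mem_normalizer_iff.1 hy ⟨q, hQ hq⟩).1 hq)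
    refine hyP (mem_subgroupOf.2 ?_)
    have hoQ : π (cd o) ∈ (Q : Subgroup (R.C2 ⧸ R.N2.subgroupOf R.C2)) := by
      rw [show π (cd o) = p⁻¹ * y by rw [e]; group]
      exact mul_mem (inv_mem (hQ hp)) y.2
    obtain ⟨k, hk⟩ := Q.isPGroup' ⟨_, hoQ⟩
    have h1 : π (cd o) = 1 := by
      rw [← orderOf_eq_one_iff]
      exact Nat.eq_one_of_dvd_coprimes (Nat.Coprime.pow_right k (by norm_num : Nat.Coprime 2 3))
        (orderOf_dvd_of_pow_eq_one (by rw [pow_two, hc2]))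
        (orderOf_dvd_of_pow_eq_one (by simpa using congrArg Subtype.val hk))
    rw [e, h1, mul_one]
    exact hp
  have hnormtop : normalizer ((Q : Subgroup (R.C2 ⧸ R.N2.subgroupOf R.C2)) : Set (R.C2 ⧸ R.N2.subgroupOf R.C2)) = ⊤ := by
    haveI : ((Q : Subgroup (R.C2 ⧸ R.N2.subgroupOf R.C2)).subgroupOf
        (normalizer ((Q : Subgroup (R.C2 ⧸ R.N2.subgroupOf R.C2)) : Set (R.C2 ⧸ R.N2.subgroupOf R.C2)))).Normal :=
      normal_subgroupOf_of_le_normalizer le_rfl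
    refine CfsgLib.KleinNine.normalizer_eq_top Q ?_ (hQP ▸ hP9) ?_ ?_ ?_
    · rw [hQP]; exact ⟨hcomm, hcube⟩
    · rw [hQP]
      refine le_antisymm (fun y hy => ?_) ?_
      · obtain ⟨a, rfl⟩ := QuotientGroup.mk'_surjective _ y
        have e0 := mem_centralizer_iff.1 hy (π zc) (hPmem.2 ⟨_, rfl, rfl, rfl⟩)
        have e : π zc = π (a * zc * a⁻¹) := by
          rw [map_mul, map_mul, map_inv, ← e0, mul_inv_cancel_right]
        rw [hπ] at e
        simp only [Subgroup.coe_mul, Subgroup.coe_inv, hzc] at e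
        obtain ⟨m, hm, p, hp, o, ho, ea⟩ := hR.C2_form hG he a.2 (v := ⟨1, 0, 0, 0⟩) rfl rfl
          (by rw [← H.emb_zT]; exact e)
        obtain rfl := csgn_facts.2.2.2.1 o ho
        rw [csgn_facts.1, R.dd_one, mul_one] at ea
        refine ⟨⟨p, R.PPs_le_C2 he hp⟩, mem_subgroupOf.2 hp, hπ.2 ?_⟩
        show p⁻¹ * (a : G) ∈ R.N2
        rw [ea, ← mul_assoc]
        have := (mem_normalizer_iff.1 (inv_mem (R.PPs_le_C2 he hp)).2 _).1 hm
        rwa [inv_inv] at this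
      · intro y hy
        refine mem_centralizer_iff.2 fun w hw => ?_
        exact setLike_mul_comm (S := Subgroup (R.C2 ⧸ R.N2.subgroupOf R.C2)) hw hy
    · -- the automizer is a Klein four group
      set Nn := normalizer ((Q : Subgroup (R.C2 ⧸ R.N2.subgroupOf R.C2)) : Set (R.C2 ⧸ R.N2.subgroupOf R.C2))
      have hmemN : ∀ o, π (cd o) ∈ Nn := fun o => by
        show π (cd o) ∈ normalizer _
        rw [hQP]; exact hcd o
      let f : Bool × Bool → Nn ⧸ (Q : Subgroup (R.C2 ⧸ R.N2.subgroupOf R.C2)).subgroupOf Nn :=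
        fun o => QuotientGroup.mk' _ ⟨_, hmemN o⟩
      have hsurj : Function.Surjective f := by
        intro y
        obtain ⟨a, rfl⟩ := QuotientGroup.mk'_surjective _ y
        obtain ⟨p, hp, o, e⟩ := hform a ((congrArg (fun S : Subgroup (R.C2 ⧸ R.N2.subgroupOf R.C2) => normalizer (S : Set (R.C2 ⧸ R.N2.subgroupOf R.C2))) hQP).le a.2)
        refine ⟨o, QuotientGroup.eq.2 (mem_subgroupOf.2 ?_)⟩
        show (π (cd o))⁻¹ * (a : R.C2 ⧸ R.N2.subgroupOf R.C2) ∈ (Q : Subgroup (R.C2 ⧸ R.N2.subgroupOf R.C2))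
        rw [hQP, e, ← mul_assoc]
        have := (mem_normalizer_iff.1 (inv_mem (hcd o)) p).1 hp
        rwa [inv_inv] at this
      have hprod : ∀ o o', f o * f o' = f (xor o.1 o'.1, xor o.2 o'.2) := by
        intro o o'
        simp only [f, ← map_mul]
        refine congrArg _ (Subtype.ext ?_)
        show π (cd o) * π (cd o') = π (cd _)
        rw [← map_mul]
        refine congrArg π (Subtype.ext ?_)
        show R.dd (csgn o) * R.dd (csgn o') = _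
        rw [R.dd_mul he, csgn_facts.2.1]
      have hf1 : ∀ o, f o = 1 → o = (false, false) := by
        intro o h
        have := mem_subgroupOf.1 ((QuotientGroup.eq_one_iff _).1 h)
        exact hcd_one o (hcd_mem o (hQP ▸ this))
      have hf0 : f (false, false) = 1 := by
        have h := hprod (false, false) (false, false)
        exact mul_eq_left.1 h
      have hinj : Function.Injective f := by
        intro o o' h
        have h1 : f (xor o.1 o'.1, xor o.2 o'.2) = 1 := by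
          rw [← hprod, ← h, hprod, Bool.xor_self, Bool.xor_self, hf0]
        have := Prod.ext_iff.1 (hf1 _ h1)
        obtain ⟨o1, o2⟩ := o
        obtain ⟨o1', o2'⟩ := o'
        have hx : ∀ a b : Bool, xor a b = false → a = b := by decide
        exact Prod.ext (hx _ _ this.1) (hx _ _ this.2)
      have hsq : ∀ y : Nn ⧸ (Q : Subgroup (R.C2 ⧸ R.N2.subgroupOf R.C2)).subgroupOf Nn, y ^ 2 = 1 := by
        intro y
        obtain ⟨o, rfl⟩ := hsurj y
        rw [pow_two, hprod, Bool.xor_self, Bool.xor_self, hf0]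
      have hcard : Nat.card (Nn ⧸ (Q : Subgroup (R.C2 ⧸ R.N2.subgroupOf R.C2)).subgroupOf Nn) = 4 := by
        rw [← Nat.card_congr (Equiv.ofBijective f ⟨hinj, hsurj⟩)]
        simp
      refine ⟨hcard, ?_⟩
      rcases (Nat.dvd_prime Nat.prime_two).1 (Monoid.exponent_dvd_of_forall_pow_eq_one hsq) with h | h
      · haveI := Monoid.exp_eq_one_iff.1 h
        rw [Nat.card_of_subsingleton (f (false, false))] at hcard
        omega
      · exact h
    · intro x hx hx1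
      rw [hQP] at hx ⊢
      intro y hy
      obtain ⟨v, ha, hb, rfl⟩ := hPmem.1 hx
      obtain ⟨a, rfl⟩ := QuotientGroup.mk'_surjective _ y
      have e : π (ev v ha hb) = π (a * ev v ha hb * a⁻¹) := by
        rw [map_mul, map_mul, map_inv, mem_centralizer_singleton_iff.1 hy, mul_inv_cancel_right]
      rw [hπ] at e
      have hv0 : v ≠ j0 := by
        rintro rfl
        exact hx1 ((congrArg π (Subtype.ext H.emb_j0 : ev j0 ha hb = 1)).trans (map_one π))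
      obtain ⟨m, hm, n, hn, hn', ea⟩ := hR.C2_split hG he hA a.2 ha hb hv0 e
      have hπn : π (⟨n, hn⟩ : R.C2) = π a := hπ.2 (by
        rw [ea]
        show n⁻¹ * (m * n) ∈ R.N2
        have := (mem_normalizer_iff.1 (inv_mem hn).2 _).1 hm
        rwa [inv_inv, mul_assoc] at this)
      rw [← hπn]
      exact hnormP _ fun w hwa hwb => hR.norm_PPs he hn hn' hwa hwb
  have hall : π ⟨g, hg⟩ ∈ normalizer (P : Set (R.C2 ⧸ R.N2.subgroupOf R.C2)) := by
    rw [← hQP, hnormtop]; trivial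
  obtain ⟨v, ha, hb, e⟩ := hPmem.1 ((mem_normalizer_iff.1 hall (π zc)).1 (hPmem.2 ⟨_, rfl, rfl, rfl⟩))
  rw [← map_inv, ← map_mul, ← map_mul, hπ] at e
  simp only [Subgroup.coe_mul, Subgroup.coe_inv, hzc, ev] at e
  exact ⟨v, ha, hb, e⟩

/-- The normalizer of `T` in `C(t)` is `T`. -/
theorem Refl.Comm.norm_TT (hR : R.Comm) (hG : H.Good) (he : H.ext = true) (hA : R.CentA) {g : G}
    (ht : g * H.t = H.t * g) (hg : ∀ x ∈ R.TT, g * x * g⁻¹ ∈ R.TT) : g ∈ R.TT := by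
  obtain ⟨s, hs, hsg⟩ := hR.normT_out he ht hg
  have hst : s * H.t = H.t * s := by
    obtain ⟨k, hk, x, rfl⟩ := (R.mem_TT he).1 hs
    exact ((show Commute k H.t from hR.K_cent hk).mul_left (R.dd_t he x)).eq
  have hC : s * g ∈ R.C2 := R.mem_C2 he ((show Commute s H.t from hst).mul_left ht).eq
    (fun k hk => (hsg k hk).1) (hsg 1 (one_mem _)).2
  obtain ⟨v, ha, hb, hv⟩ := hR.C2_all hG he hA hC
  obtain ⟨m, hm, p, hp, o, -, e⟩ := hR.C2_form hG he hC ha hb hv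
  have hmT := R.N2_le_TT he hm
  have hcT : R.dd (csgn o) ∈ R.TT := (R.mem_TT he).2 ⟨1, one_mem _, _, (one_mul _).symm⟩
  have hgn : g ∈ normalizer (R.TT : Set G) := norm_of_map hg
  have hpn : p ∈ normalizer (R.TT : Set G) := by
    rw [show p = m⁻¹ * (s * g) * (R.dd (csgn o))⁻¹ by rw [e]; group]
    exact mul_mem (mul_mem (inv_mem (le_normalizer hmT)) (mul_mem (le_normalizer hs) hgn))
      (inv_mem (le_normalizer hcT))
  obtain ⟨u, hua, hub, rfl⟩ := hp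
  have hfix : ∀ x : Sg × Bool, dJ x u = u := by
    intro x
    have hxT : R.dd x ∈ R.TT := (R.mem_TT he).2 ⟨1, one_mem _, _, (one_mul _).symm⟩
    have h1 : H.emb (ja (dJ x u) (jn u)) ∈ R.TT := by
      rw [H.emb_ja, H.emb_jn, ← R.dd_nrm he x,
        show R.dd x * H.emb u * (R.dd x)⁻¹ * (H.emb u)⁻¹ = R.dd x * (H.emb u * (R.dd x)⁻¹ * (H.emb u)⁻¹) by
          group]
      exact mul_mem hxT ((mem_normalizer_iff.1 hpn _).1 (inv_mem hxT))
    have h2 := coprime_cube (by rw [hR.card_TT he]; norm_num) h1 (H.J_cube (H.mem_J.2 ⟨_, rfl⟩))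
    have h3 := ja_eq_zero _ _ (H.emb_inj (h2.trans H.emb_j0.symm))
    rwa [jn_jn] at h3
  obtain rfl := R12_fix u hua hub (hfix (![true, false, false], false)) (hfix (![false, true, false], false))
  rw [show g = s⁻¹ * (s * g) by group, e, H.emb_j0, mul_one]
  exact mul_mem (inv_mem hs) (mul_mem hmT hcT)

theorem Refl.Comm.TT_le_Wt (hR : R.Comm) (he : H.ext = true) : R.TT ≤ H.Wt := fun g hg => by
  obtain ⟨k, hk, x, rfl⟩ := (R.mem_TT he).1 hg
  exact mem_Wt.2 ((show Commute k H.t from hR.K_cent hk).mul_left (R.dd_t he x)).eq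

/-- `T` is a Sylow 2-subgroup of `C(t)`. -/
theorem Refl.Comm.odd_relIndex (hR : R.Comm) (hG : H.Good) (he : H.ext = true) (hA : R.CentA) :
    Odd (R.TT.relIndex H.Wt) := by
  haveI : Fact (Nat.Prime 2) := ⟨Nat.prime_two⟩
  have hT : IsPGroup 2 (R.TT.subgroupOf H.Wt) :=
    (IsPGroup.of_card (n := 13) (hR.card_TT he) : IsPGroup 2 R.TT).of_equiv
      (subgroupOfEquivOfLe (hR.TT_le_Wt he)).symm
  obtain ⟨P, hP⟩ := hT.exists_le_sylow
  have hPT : (P : Subgroup H.Wt) = R.TT.subgroupOf H.Wt := by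
    refine le_antisymm (fun x hx => ?_) hP
    by_contra hne
    haveI : Group.IsNilpotent P := P.isPGroup'.isNilpotent
    have hlt : (R.TT.subgroupOf H.Wt).subgroupOf P < ⊤ := lt_top_iff_ne_top.2 fun e =>
      hne ((e ▸ mem_top (⟨x, hx⟩ : P) : (⟨x, hx⟩ : P) ∈ (R.TT.subgroupOf H.Wt).subgroupOf P))
    obtain ⟨y, hy, hyT⟩ := SetLike.exists_of_lt (Group.normalizerCondition_of_isNilpotent _ hlt)
    refine hyT (mem_subgroupOf.2 (mem_subgroupOf.2 (hR.norm_TT hG he hA (mem_Wt.1 (y : H.Wt).2) fun z hz => ?_)))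
    exact mem_subgroupOf.1 (mem_subgroupOf.1 ((mem_normalizer_iff.1 hy
      ⟨⟨z, hR.TT_le_Wt he hz⟩, hP (mem_subgroupOf.2 hz)⟩).1 (mem_subgroupOf.2 (mem_subgroupOf.2 hz))))
  rw [Nat.odd_iff, ← Nat.not_even_iff, even_iff_two_dvd]
  show ¬ 2 ∣ (R.TT.subgroupOf H.Wt).index
  rw [← hPT]
  exact P.not_dvd_index' index_ne_zero_of_finite

end Base

end CfsgLib.O8Three
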