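import Cfsg.Agent.CentSixSeven.Count
import Mathlib.GroupTheory.PGroup
import Mathlib.GroupTheory.Transfer

/-!
# Transfer of an element of prime order counted on the cosets fixed by a group of its centralizer

If a `p`-group `R` centralizes `u`, the transfer of `u` into a group of exponent `p` is the product
over the cosets fixed by `u` and by `R`.
-/

set_option autoImplicit false
set_option linter.style.haveILetI false

namespace CfsgLib.O8Three

open Subgroup MulAction CfsgLib.CentSixSeven

universe u v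

variable {G : Type u} [Group G] [Finite G] {S : Subgroup G} {A : Type v} [CommGroup A] {p : ℕ}

theorem transfer_prime (φ : S →* A) {u : G} (hp : p.Prime) (hu : u ^ p = 1)
    [Fintype (fixedBy (G ⧸ S) u)] :
    MonoidHom.transfer φ u = ∏ q : fixedBy (G ⧸ S) u, fixVal φ u q.1 := by
  classical
  haveI : Fintype (Quotient (orbitRel (zpowers u) (G ⧸ S))) := Fintype.ofFinite _
  rw [MonoidHom.transfer_eq_prod_quotient_orbitRel_zpowers_quot φ u]
  have hval : ∀ (q : Quotient (orbitRel (zpowers u) (G ⧸ S))) (m : ℕ),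
      m = Function.minimalPeriod (u • ·) q.out → ∀ h : q.out.out⁻¹ * u ^ m * q.out.out ∈ S,
      φ ⟨_, h⟩ = if u • q.out = q.out then fixVal φ u q.out else 1 := by
    intro q m hm h
    split_ifs with hf
    · have h1 : m = 1 := hm.trans (Function.minimalPeriod_eq_one_iff_isFixedPt.2 hf)
      subst h1
      have h' : q.out.out⁻¹ * u * q.out.out ∈ S := by simpa using h
      rw [fixVal, dif_pos h']
      congr 1; ext; simp
    · have h2 : m ∣ p := hm ▸ MulAction.pow_smul_eq_iff_minimalPeriod_dvd.1 (by rw [hu, one_smul])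
      rcases (Nat.dvd_prime hp).1 h2 with h1 | h1
      · exact absurd (Function.minimalPeriod_eq_one_iff_isFixedPt.1 (hm ▸ h1)) hf
      · subst h1
        have : (⟨_, h⟩ : S) = 1 := Subtype.ext (by simp [hu])
        rw [this, map_one]
  rw [Finset.prod_congr rfl (fun q _ => hval q _ rfl _), Finset.prod_ite, Finset.prod_const_one,
    mul_one]
  refine Finset.prod_bij (fun q hq => ⟨q.out, (Finset.mem_filter.1 hq).2⟩)
    (fun _ _ => Finset.mem_univ _) (fun a _ b _ h => ?_) (fun b _ => ?_) (fun _ _ => rfl)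
  · have := congrArg Subtype.val h
    exact (Quotient.out_eq' a).symm.trans ((congrArg Quotient.mk'' this).trans (Quotient.out_eq' b))
  · have hb : (Quotient.mk'' b.1 : Quotient (orbitRel (zpowers u) (G ⧸ S))).out = b.1 := by
      obtain ⟨⟨g, hg⟩, he⟩ := orbitRel_apply.1 (Quotient.exact'
        (Quotient.out_eq' (Quotient.mk'' b.1 : Quotient (orbitRel (zpowers u) (G ⧸ S)))))
      obtain ⟨n, rfl⟩ := mem_zpowers_iff.1 hg
      exact he.symm.trans (fixedBy_subset_fixedBy_zpow (G ⧸ S) u n b.2)
    refine ⟨Quotient.mk'' b.1, Finset.mem_filter.2 ⟨Finset.mem_univ _, by rw [hb]; exact b.2⟩, ?_⟩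
    exact Subtype.ext hb

/-- The cosets fixed by `u`, as a set on which the centralizer acts. -/
def fixSub (S : Subgroup G) {u : G} (R : Subgroup G) (hR : ∀ r ∈ R, Commute r u) :
    SubMulAction R (G ⧸ S) where
  carrier := fixedBy (G ⧸ S) u
  smul_mem' := fun r q hq => by
    show u • ((r : G) • q) = (r : G) • q
    rw [smul_smul, ← (hR r r.2).eq, ← smul_smul, show u • q = q from hq]

theorem fixVal_smul (φ : S →* A) {u r : G} (hr : Commute r u) {q : G ⧸ S} (hq : u • q = q) :
    fixVal φ u (r • q) = fixVal φ u q := by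
  obtain ⟨g, rfl⟩ := QuotientGroup.mk_surjective q
  have h := (fix_iff S u g).1 hq
  have e : (r * g)⁻¹ * u * (r * g) = g⁻¹ * u * g := by
    rw [show (r * g)⁻¹ * u * (r * g) = g⁻¹ * (r⁻¹ * (u * r)) * g by group, ← hr.eq,
      inv_mul_cancel_left]
  rw [Quotient.smul_coe, smul_eq_mul, fixVal_mk φ u g h, fixVal_mk φ u (r * g) (e.symm ▸ h)]
  exact congrArg φ (Subtype.ext e)

/-- The transfer of `u` when every coset fixed by `u` and `R` lies in `N` and takes the value `c`. -/
theorem transfer_eq_pow_relIndex (φ : S →* A) [Fact p.Prime] (hA : ∀ a : A, a ^ p = 1) {u : G}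
    (hu : u ^ p = 1) (R : Subgroup G) (hR : IsPGroup p R) (hcomm : ∀ r ∈ R, Commute r u)
    (huR : u ∈ R) (N : Subgroup G) (hRN : R ≤ N) (hSN : S ≤ N) (c : A)
    (h : ∀ (g : G), (∀ r ∈ R, g⁻¹ * r * g ∈ S) → g ∈ N ∧ ∀ hg : g⁻¹ * u * g ∈ S, φ ⟨_, hg⟩ = c) :
    MonoidHom.transfer φ u = c ^ S.relIndex N := by
  classical
  haveI : Fintype (fixedBy (G ⧸ S) u) := Fintype.ofFinite _
  rw [transfer_prime φ (Fact.out : p.Prime) hu]
  let X := fixSub S R hcomm
  haveI : Fintype X := Fintype.ofFinite _
  let e0 : fixedBy (G ⧸ S) u ≃ X := Equiv.subtypeEquivRight fun _ => Iff.rfl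
  have step1 : ∏ q : fixedBy (G ⧸ S) u, fixVal φ u q.1 = ∏ q : X, fixVal φ u q.1 :=
    Fintype.prod_equiv e0 _ _ fun _ => rfl
  rw [step1]
  have hmod : ∀ {a : A} {i j : ℕ}, i ≡ j [MOD p] → a ^ i = a ^ j := fun {a} i j hij =>
    pow_eq_pow_iff_modEq.2 (hij.of_dvd (orderOf_dvd_of_pow_eq_one (hA a)))
  have hfix : ∀ q : X, (∀ r : R, r • q = q) → ∃ g ∈ N, (g : G ⧸ S) = q.1 ∧ fixVal φ u q.1 = c := by
    intro q hq
    obtain ⟨g, hg⟩ := QuotientGroup.mk_surjective q.1
    have hall : ∀ r ∈ R, g⁻¹ * r * g ∈ S := fun r hr => (fix_iff S r g).1 (by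
      have := congrArg (fun x : X => (x : G ⧸ S)) (hq ⟨r, hr⟩)
      simp only [SubMulAction.val_smul, ← hg] at this
      exact this)
    obtain ⟨hgN, hv⟩ := h g hall
    refine ⟨g, hgN, hg, ?_⟩
    rw [← hg, fixVal_mk φ u g (hall u huR)]
    exact hv _
  let f : X → A := fun q => fixVal φ u q.1
  -- reduce to the points fixed by `R`, value by value
  have step2 : ∏ q : X, f q = c ^ Nat.card (fixedPoints R X) := by
    rw [← Finset.prod_fiberwise_of_maps_to (t := Finset.univ.image f) (g := f)
      (fun q _ => Finset.mem_image_of_mem f (Finset.mem_univ q))]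
    have hfib : ∀ a : A, ∏ q ∈ Finset.univ.filter (fun q => f q = a), f q =
        a ^ Nat.card {q : X // f q = a ∧ q ∈ fixedPoints R X} := by
      intro a
      rw [Finset.prod_congr rfl (fun q hq => (Finset.mem_filter.1 hq).2), Finset.prod_const]
      refine hmod ?_
      let Y : SubMulAction R X :=
        { carrier := {q | f q = a}
          smul_mem' := fun r q (hq : f q = a) => by
            show fixVal φ u ((r : G) • q.1) = a
            rw [fixVal_smul φ (hcomm r r.2) q.2]
            exact hq }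
      have e1 : (Finset.univ.filter (fun q => f q = a)).card = Nat.card Y := by
        rw [← Fintype.card_subtype, ← Nat.card_eq_fintype_card]
        rfl
      have e2 : Nat.card {q : X // f q = a ∧ q ∈ fixedPoints R X} = Nat.card (fixedPoints R Y) :=
        Nat.card_congr
          { toFun := fun q => ⟨⟨q.1, q.2.1⟩, fun r => Subtype.ext (q.2.2 r)⟩
            invFun := fun q => ⟨q.1.1, q.1.2, fun r => congrArg Subtype.val (q.2 r)⟩
            left_inv := fun _ => rfl
            right_inv := fun _ => rfl }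
      rw [e1, e2]
      exact hR.card_modEq_card_fixedPoints Y
    rw [Finset.prod_congr rfl fun a _ => hfib a, Finset.prod_eq_single c]
    · congr 1
      exact Nat.card_congr (Equiv.subtypeEquivRight fun q =>
        ⟨fun hq => hq.2, fun hq => ⟨(hfix q hq).choose_spec.2.2, hq⟩⟩)
    · intro a _ ha
      haveI : IsEmpty {q : X // f q = a ∧ q ∈ fixedPoints R X} :=
        ⟨fun q => ha (q.2.1.symm.trans (hfix q.1 q.2.2).choose_spec.2.2)⟩
      rw [Nat.card_of_isEmpty, pow_zero]
    · intro hc
      haveI : IsEmpty {q : X // f q = c ∧ q ∈ fixedPoints R X} :=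
        ⟨fun q => hc (Finset.mem_image.2 ⟨q.1, Finset.mem_univ _, q.2.1⟩)⟩
      rw [Nat.card_of_isEmpty, pow_zero]
  refine step2.trans (hmod ?_)
  -- the fixed points are those of `R` on the cosets in `N`
  let Z : SubMulAction R (G ⧸ S) :=
    { carrier := {q | ∃ n ∈ N, (n : G ⧸ S) = q}
      smul_mem' := by
        rintro r q ⟨n, hn, rfl⟩
        exact ⟨(r : G) * n, mul_mem (hRN r.2) hn, rfl⟩ }
  have e3 : Nat.card (fixedPoints R X) = Nat.card (fixedPoints R Z) :=
    Nat.card_congr
      { toFun := fun q => ⟨⟨q.1.1, (hfix q.1 q.2).imp fun g hg => ⟨hg.1, hg.2.1⟩⟩,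
          fun r => Subtype.ext (congrArg (fun x : X => (x : G ⧸ S)) (q.2 r))⟩
        invFun := fun q => ⟨⟨q.1.1, congrArg (fun x : Z => (x : G ⧸ S)) (q.2 ⟨u, huR⟩)⟩,
          fun r => Subtype.ext (congrArg (fun x : Z => (x : G ⧸ S)) (q.2 r))⟩
        left_inv := fun _ => rfl
        right_inv := fun _ => rfl }
  have e4 : Nat.card Z = S.relIndex N := by
    refine Nat.card_congr (Equiv.ofBijective
      (fun q : N ⧸ S.subgroupOf N => (⟨Quotient.liftOn' q (fun n => ((n : G) : G ⧸ S))
        (fun a b hab => QuotientGroup.eq.2 (by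
          rw [QuotientGroup.leftRel_apply, mem_subgroupOf] at hab; exact hab)), ?_⟩ : Z)) ⟨?_, ?_⟩).symm
    · induction q using QuotientGroup.induction_on with
      | _ n => exact ⟨n, n.2, rfl⟩
    · intro a b hab
      induction a using QuotientGroup.induction_on with
      | _ a =>
        induction b using QuotientGroup.induction_on with
        | _ b =>
          refine QuotientGroup.eq.2 ?_
          rw [mem_subgroupOf]
          exact QuotientGroup.eq.1 (congrArg Subtype.val hab)
    · rintro ⟨_, n, hn, rfl⟩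
      exact ⟨((⟨n, hn⟩ : N) : N ⧸ S.subgroupOf N), rfl⟩
  rw [e3, ← e4]
  exact (hR.card_modEq_card_fixedPoints Z).symm

end CfsgLib.O8Three
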