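import Cfsg.Agent.O8Three.ExtDD
import Cfsg.Agent.O8Three.ExtFusion
import Cfsg.Agent.O8Three.TransferCount

/-!
# The subgroup of index two avoiding the outer involution

`T = K⟨r₁, r₂, r₃, out⟩` being a Sylow 2-subgroup of `C(t)`, the elements carrying `C_T(out)` into `T` lie
in `C(t)` and keep `out` outside the subgroup of index two of `T`, so the transfer of `out` does not vanish.
-/

set_option autoImplicit false
set_option maxRecDepth 100000
set_option linter.style.haveILetI false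
set_option linter.unusedSectionVars false

namespace CfsgLib.O8Three

open CfsgLib.PSpFourInvol (S sm si)
open Subgroup
open scoped Pointwise

universe u

attribute [local instance] fact_three

theorem cent_outcl : ∀ x : Sg × Bool, (x = (e0, true) ∨ x = (![false, true, true], true)) →
    Fintype.card {z : Sg × Bool // ddMul z x = ddMul x z} = 8 := by decide +kernel

theorem outcl_dd : ∀ e : Sg, ∀ δ : Bool, e 1 = e 2 →
    ddMul (e, δ) (e0, true) = ddMul (e0, true) (e, δ) := by decide +kernel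

theorem card_diag : Fintype.card {e : Sg // e 1 = e 2} = 4 := by decide +kernel

theorem weight_fix : ∀ v : JV, v.a = 0 → v.b = 0 → qJ v = 0 → v ≠ j0 →
    v = ⟨1, 0, 0, 0⟩ ∨ v = jn ⟨1, 0, 0, 0⟩ ∨ v = ⟨0, 0, 0, 1⟩ ∨ v = jn ⟨0, 0, 0, 1⟩ := by decide +kernel

theorem r1_swap : R1J ⟨1, 0, 0, 0⟩ = jn ⟨0, 0, 0, 1⟩ ∧ R1J ⟨0, 0, 0, 1⟩ = jn ⟨1, 0, 0, 0⟩ := by decide +kernel

theorem sig_fix {x : T} (h : sigB true x = x) : x.v.a = 0 ∧ x.v.b = 0 := by
  have hd : ∀ r : ZMod 3, -r = r → r = 0 := by decide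
  exact ⟨hd _ (congrArg Vec.a (congrArg T.v h)), hd _ (congrArg Vec.b (congrArg T.v h))⟩

theorem zmod_two_facts : (∀ a : Multiplicative (ZMod 2), a ^ 2 = 1) ∧
    (∀ a : Multiplicative (ZMod 2), a = 1 ∨ a = Multiplicative.ofAdd (1 : ZMod 2)) ∧
    Multiplicative.ofAdd (1 : ZMod 2) ≠ 1 := by decide

theorem four_noncentral : ∃ g : S, four g = true ∧ g ≠ 0 ∧ g ≠ 1 := by decide +kernel

namespace Base

variable {G : Type u} [Group G] [Finite G] {H : Base G}

theorem out_par_comm (he : H.ext = true) {x : T} (h : H.par x * H.out = H.out * H.par x) :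
    sigB true x = x := by
  refine H.inj ?_
  rw [← out_par he, ← h, mul_inv_cancel_right]

/-- In `C(t)` the outer involution is not conjugate to its product with `t`. -/
theorem Good.out_not_conj (hG : H.Good) (he : H.ext = true) (R : Refl H) {h : G}
    (ht : h * H.t = H.t * h) : h * H.out * h⁻¹ ≠ H.out * H.t := by
  intro hout
  set C : Subgroup G := H.Wt ⊓ centralizer ({H.out} : Set G) with hC
  have memC : ∀ {y : G}, y ∈ C ↔ y * H.t = H.t * y ∧ y * H.out = H.out * y := fun {y} => by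
    rw [hC, mem_inf, mem_Wt, mem_centralizer_singleton_iff]
  let P : Subgroup G :=
    { carrier := {g | ∃ v : JV, v.a = 0 ∧ v.b = 0 ∧ H.emb v = g}
      mul_mem' := by
        rintro _ _ ⟨u, hu, hu', rfl⟩ ⟨w, hw, hw', rfl⟩
        exact ⟨ja u w, by show u.a + w.a = 0; rw [hu, hw, add_zero],
          by show u.b + w.b = 0; rw [hu', hw', add_zero], H.emb_ja u w⟩
      one_mem' := ⟨j0, rfl, rfl, H.emb_j0⟩
      inv_mem' := by
        rintro _ ⟨u, hu, hu', rfl⟩
        exact ⟨jn u, by show -u.a = 0; rw [hu, neg_zero], by show -u.b = 0; rw [hu', neg_zero], H.emb_jn u⟩ }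
  have hP9 : Nat.card P = 3 ^ 2 := by
    let e : {v : JV // v.a = 0 ∧ v.b = 0} → P := fun u => ⟨H.emb u.1, u.1, u.2.1, u.2.2, rfl⟩
    have he' : Function.Bijective e :=
      ⟨fun a b h => Subtype.ext (H.emb_inj (congrArg Subtype.val h)),
        fun ⟨g, u, hu, hu', e'⟩ => ⟨⟨u, hu, hu'⟩, Subtype.ext e'⟩⟩
    have h9 : Fintype.card {v : JV // v.a = 0 ∧ v.b = 0} = 9 := by decide +kernel
    rw [← Nat.card_congr (Equiv.ofBijective e he'), Nat.card_eq_fintype_card, h9]
    norm_num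
  have hPC : P ≤ C := by
    rintro _ ⟨v, ha, hb, rfl⟩
    refine memC.2 ⟨emb_comm_t (JV.ext rfl rfl (by show -v.b = _; rw [hb, neg_zero]) rfl), ?_⟩
    have h1 := nrm_out he v
    rw [show outJ v = v from JV.ext rfl (by show -v.a = _; rw [ha, neg_zero]) rfl rfl] at h1
    exact (mul_inv_eq_iff_eq_mul.1 h1).symm
  -- an element normalising `P` fixes or exchanges the lines of `z` and `(0,0,0,1)`
  have hline : ∀ y : G, (∀ p ∈ P, y * p * y⁻¹ ∈ P) → y ∈ H.NZ ∨ R.r1 * y ∈ H.NZ := by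
    intro y hy
    obtain ⟨w, ha, hb, hw⟩ := hy H.z ⟨⟨1, 0, 0, 0⟩, rfl, rfl, H.emb_zT.symm⟩
    have hw' : y * H.emb ⟨1, 0, 0, 0⟩ * y⁻¹ = H.emb w := by rw [← H.emb_zT]; exact hw.symm
    have hq : qJ w = 0 := (hG.qJ_conj hw').symm.trans (by decide)
    have hne : w ≠ j0 := by
      rintro rfl
      rw [H.emb_j0, conj_eq_one_iff, ← H.emb_j0] at hw'
      exact absurd (H.emb_inj hw') (by decide)
    have e1 : y * H.z * y⁻¹ = H.emb w := hw.symm
    have e2 : R.r1 * y * H.z * (R.r1 * y)⁻¹ = H.emb (R1J w) := by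
      rw [← R.nrm1 w, ← e1]; group
    rcases weight_fix w ha hb hq hne with e | e | e | e <;> subst e
    · exact Or.inl (Or.inl (e1.trans H.emb_zT.symm))
    · exact Or.inl (Or.inr (e1.trans (by rw [H.emb_jn, ← H.emb_zT])))
    · exact Or.inr (Or.inr (e2.trans (by rw [r1_swap.2, H.emb_jn, ← H.emb_zT])))
    · refine Or.inr (Or.inl (e2.trans ?_))
      rw [show R1J (jn ⟨0, 0, 0, 1⟩) = ⟨1, 0, 0, 0⟩ by decide, ← H.emb_zT]
  have h27 : ¬ 3 ^ (2 + 1) ∣ Nat.card C := by
    intro hd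
    have hP9' : Nat.card (P.subgroupOf C) = 3 ^ 2 := by
      rw [Nat.card_congr (subgroupOfEquivOfLe hPC).toEquiv, hP9]
    obtain ⟨y, hyP, hk, hn⟩ := exists_norm_outside hP9' hd
    have hk' : (y : G) ^ 3 ^ (2 + 1) = 1 := by simpa using congrArg Subtype.val hk
    have hy : ∀ p ∈ P, (y : G) * p * (y : G)⁻¹ ∈ P := fun p hp =>
      mem_subgroupOf.1 (hn ⟨p, hPC hp⟩ (mem_subgroupOf.2 hp))
    have hy2 : (y : G) * y ∈ H.NZ := by
      rcases hline y hy with h1 | h1
      · exact mul_mem h1 h1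
      rcases hline ((y : G) * y) (fun p hp => by
        have := hy _ (hy p hp)
        rwa [show (y : G) * ((y : G) * p * (y : G)⁻¹) * (y : G)⁻¹ = y * y * p * ((y : G) * y)⁻¹ by group] at this)
        with h2 | h2
      · exact h2
      · have h3 := mul_mem (inv_mem h1) h2
        rw [show (R.r1 * (y : G))⁻¹ * (R.r1 * ((y : G) * y)) = y by group] at h3
        exact mul_mem h3 h3
    have hyNZ : (y : G) ∈ H.NZ := by
      obtain ⟨m, hm⟩ : Odd (3 ^ (2 + 1)) := (by decide : Odd 3).pow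
      have := pow_mem hy2 (m + 1)
      rwa [← pow_two, ← pow_mul, show 2 * (m + 1) = 3 ^ (2 + 1) + 1 by omega, pow_succ, hk', one_mul] at this
    obtain ⟨x, hx⟩ := H.three_power_mem (odd_fix hk' hyNZ) hk'
    have hx3 : x ^ 3 ^ (2 + 1) = 1 := H.inj (by rw [map_pow, ← hx, hk', map_one])
    obtain ⟨hyt, hyo⟩ := memC.1 y.2
    rw [hx] at hyt hyo
    obtain ⟨hm, hn'⟩ := comm_tT (H.par_comm.1 hyt)
    obtain ⟨hxa, hxb⟩ := sig_fix (out_par_comm he hyo)
    have hxS : inS x = true := by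
      refine cube_inS _ (g_cube_of_pow hx3) ?_
      obtain ⟨w, -, -, e⟩ := hy (H.emb ⟨0, 0, 0, 1⟩) ⟨_, rfl, rfl, rfl⟩
      rw [hx, emb, emb, ← map_inv, ← map_mul, ← map_mul] at e
      have h2 : (jT w).g = (x * jT ⟨0, 0, 0, 1⟩ * x⁻¹).g := congrArg T.g (H.inj e)
      have h3 := Jsub_le (mem_Jsub.2 (jC_jT w).2)
      rw [mem_Ssub, inS, h2, mul_g, mul_g] at h3
      exact h3
    have hJ : inJ x = true := by simp [inJ, hxb, hn', hxS]
    exact hyP (mem_subgroupOf.2 ⟨jC x, hxa, hm, by rw [emb, jT_jC x hJ, hx]⟩)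
  have hf : (Nat.card C).factorization 3 = 2 := by
    refine le_antisymm ?_ ((Nat.prime_three.pow_dvd_iff_le_factorization Nat.card_pos.ne').1
      (hP9 ▸ card_dvd_of_le hPC))
    by_contra hlt
    exact h27 ((Nat.prime_three.pow_dvd_iff_le_factorization Nat.card_pos.ne').2 (by omega))
  have hto : H.t * H.out = H.out * H.t := (out_comm_t he).symm
  have hP' : P.map (MulAut.conj h).toMonoidHom ≤ C := by
    rintro _ ⟨p, hp, rfl⟩
    obtain ⟨h1, h2⟩ := memC.1 (hPC hp)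
    have c1 : Commute (h * p * h⁻¹) H.t :=
      ((show Commute h H.t from ht).mul_left h1).mul_left (show Commute h H.t from ht).inv_left
    have c2 : Commute (h * p * h⁻¹) (H.out * H.t) := by
      rw [← hout]; exact (show Commute p H.out from h2).map (MulAut.conj h)
    refine memC.2 ⟨c1.eq, ?_⟩
    have := c2.mul_right c1
    rw [show H.out * H.t * H.t = H.out by rw [mul_assoc, H.t_mul_self, mul_one]] at this
    exact this.eq
  have hcardP' : Nat.card (P.map (MulAut.conj h).toMonoidHom) = 3 ^ 2 := by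
    rw [card_map_of_injective (MulAut.conj h).injective, hP9]
  let S1 : Sylow 3 C := Sylow.ofCard (P.subgroupOf C) (by
    rw [hf, Nat.card_congr (subgroupOfEquivOfLe hPC).toEquiv, hP9])
  let S2 : Sylow 3 C := Sylow.ofCard ((P.map (MulAut.conj h).toMonoidHom).subgroupOf C) (by
    rw [hf, Nat.card_congr (subgroupOfEquivOfLe hP').toEquiv, hcardP'])
  obtain ⟨c, hc⟩ := MulAction.exists_smul_eq C S2 S1
  obtain ⟨hct, hco⟩ := memC.1 c.2
  set d := (c : G) * h with hd
  have hdP : ∀ p ∈ P, d * p * d⁻¹ ∈ P := by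
    intro p hp
    have hm : h * p * h⁻¹ ∈ C := hP' ⟨p, hp, rfl⟩
    have h1 : c * ⟨h * p * h⁻¹, hm⟩ * c⁻¹ ∈ ((c • S2 : Sylow 3 C) : Subgroup C) := by
      rw [Sylow.coe_subgroup_smul]
      exact smul_mem_pointwise_smul _ (MulAut.conj c) _
        (show (⟨h * p * h⁻¹, hm⟩ : C) ∈ (S2 : Subgroup C) by
          rw [Sylow.coe_ofCard]; exact mem_subgroupOf.2 ⟨p, hp, rfl⟩)
    rw [hc, Sylow.coe_ofCard, mem_subgroupOf] at h1
    rw [hd, show (c : G) * h * p * ((c : G) * h)⁻¹ = c * (h * p * h⁻¹) * (c : G)⁻¹ by group]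
    exact h1
  have hdo : d * H.out * d⁻¹ = H.out * H.t := by
    have hcot : Commute (c : G) (H.out * H.t) := (show Commute (c : G) H.out from hco).mul_right hct
    rw [hd, show (c : G) * h * H.out * ((c : G) * h)⁻¹ = c * (h * H.out * h⁻¹) * (c : G)⁻¹ by group, hout,
      hcot.eq, mul_inv_cancel_right]
  -- correct `d` to centralise `z`
  have key : ∀ e : G, Commute e (H.out * H.t) → e * d * H.z = H.z * (e * d) → False := by
    intro e heo hz
    have h1 : e * d * H.out * (e * d)⁻¹ = H.out * H.t := by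
      rw [show e * d * H.out * (e * d)⁻¹ = e * (d * H.out * d⁻¹) * e⁻¹ by group, hdo, heo.eq,
        mul_inv_cancel_right]
    obtain ⟨x, hx⟩ := H.mem_cent.1 hz
    have h2 : H.par x * H.out * (H.par x)⁻¹ = H.out * H.t := by
      rcases hx with hx | hx <;> rw [hx] at h1
      · exact h1
      · rw [← h1]; group
    rw [← hto] at h2
    have h3 : H.par (x * sigB true x⁻¹) = H.par tT := by
      rw [map_mul, ← out_par he]
      calc H.par x * (H.out * H.par x⁻¹ * H.out⁻¹) = H.par x * H.out * (H.par x)⁻¹ * H.out⁻¹ := by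
            rw [map_inv]; group
        _ = _ := by rw [h2, mul_inv_cancel_right]; rfl
    have h4 : (x * sigB true x⁻¹).g = (1 : S) := congrArg T.g (H.inj h3)
    rw [mul_g] at h4
    have hs : ∀ a : S, sm a (si a) ≠ 1 := by decide +kernel
    exact hs x.g h4
  have hrt : Commute R.r1 (H.out * H.t) :=
    (show Commute H.out R.r1 from out_r1 he R).symm.mul_right R.comm1
  set n := R.r1 * R.r2 * R.r3 with hn
  have hno : Commute n H.out := by
    refine (mul_inv_eq_iff_eq_mul.1 ?_ : H.out * n = n * H.out).symm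
    rw [hn, show H.out * (R.r1 * R.r2 * R.r3) * H.out⁻¹ =
      (H.out * R.r1 * H.out⁻¹) * (H.out * R.r2 * H.out⁻¹) * (H.out * R.r3 * H.out⁻¹) by group,
      out_r1 he R, mul_inv_cancel_right, out_r2 he R, out_r3 he R, mul_assoc, ← R.comm23, ← mul_assoc]
  have hnt : Commute n (H.out * H.t) := hno.mul_right R.triple_t
  have hni : n * H.z⁻¹ * n⁻¹ = H.z := by
    rw [H.emb_zT]; exact R.triple_inv (by decide)
  have fin : ∀ e : G, Commute e (H.out * H.t) → e * d ∈ H.NZ → False := by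
    intro e heo hN
    rcases hN with h1 | h1
    · exact key e heo (mul_inv_eq_iff_eq_mul.1 h1)
    · refine key (n * e) (hnt.mul_left heo) (mul_inv_eq_iff_eq_mul.1 ?_)
      rw [show n * e * d * H.z * (n * e * d)⁻¹ = n * (e * d * H.z * (e * d)⁻¹) * n⁻¹ by group, h1, hni]
  rcases hline d hdP with h1 | h1
  · exact fin 1 (Commute.one_left _) (by rwa [one_mul])
  · exact fin R.r1 hrt h1

theorem Refl.fU_t (R : Refl H) (o : Fin 4) : R.fU o ⟨H.t, t_mem_Qsub⟩ = H.t := R.cc_t' o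

/-- The outer involution exchanges two of the quaternion groups. -/
theorem out_fU (he : H.ext = true) (R : Refl H) (o : Fin 4) (q : H.Qsub) :
    H.out * R.fU o q * H.out⁻¹ = R.fU (![0, 1, 3, 2] o) q := by
  have e : H.out * R.cc o * H.out⁻¹ = R.cc (![0, 1, 3, 2] o) := by
    match o with
    | 0 => show H.out * 1 * H.out⁻¹ = 1; group
    | 1 => show H.out * R.r1 * H.out⁻¹ = R.r1; rw [out_r1 he R, mul_inv_cancel_right]
    | 2 => exact out_r2 he R
    | 3 => exact out_r3 he R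
  show H.out * (R.cc o * q * (R.cc o)⁻¹) * H.out⁻¹ = R.cc _ * q * (R.cc _)⁻¹
  rw [← e]
  have hq : H.out * q * H.out⁻¹ = q := by rw [out_Qsub he q.2, mul_inv_cancel_right]
  conv_rhs => rw [← hq]
  group

theorem Refl.Comm.out_phi {R : Refl H} (hR : R.Comm) (he : H.ext = true) (w : Fin 4 → H.Qsub) :
    H.out * hR.phi w * H.out⁻¹ = hR.phi ![w 0, w 1, w 3, w 2] := by
  rw [hR.phi_apply, hR.phi_apply]
  have h : H.out * (R.fU 0 (w 0) * R.fU 1 (w 1) * R.fU 2 (w 2) * R.fU 3 (w 3)) * H.out⁻¹ =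
      (H.out * R.fU 0 (w 0) * H.out⁻¹) * (H.out * R.fU 1 (w 1) * H.out⁻¹) *
        (H.out * R.fU 2 (w 2) * H.out⁻¹) * (H.out * R.fU 3 (w 3) * H.out⁻¹) := by group
  rw [h, out_fU he, out_fU he, out_fU he, out_fU he]
  simp only [Matrix.cons_val_zero, Matrix.cons_val_one, Matrix.cons_val]
  rw [mul_assoc, hR.U_comm (show (3 : Fin 4) ≠ 2 by decide) (R.fU_mem 3 _) (R.fU_mem 2 _), ← mul_assoc]

/-- The bound on centralizers in `T`. -/
theorem Refl.Comm.cent_TT_le {R : Refl H} (hR : R.Comm) (he : H.ext = true) {k : G} (hk : k ∈ R.K)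
    (x : Sg × Bool) : Nat.card (R.TT ⊓ centralizer ({k * R.dd x} : Set G) : Subgroup G) ≤
      Fintype.card {z : Sg × Bool // ddMul z x = ddMul x z} * Set.ncard (R.FixK (R.dd x)) := by
  classical
  set y := k * R.dd x with hy
  set C : Subgroup G := R.TT ⊓ centralizer ({y} : Set G) with hC
  have hrep : ∀ g : C, ∃ l ∈ R.K, ∃ z, (g : G) = l * R.dd z := fun g => (R.mem_TT he).1 g.2.1
  choose l hl z hz using hrep
  have hcomm : ∀ g : C, ddMul (z g) x = ddMul x (z g) := by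
    intro g
    have h1 : (g : G) * y = y * g := mem_centralizer_singleton_iff.1 g.2.2
    rw [hz g, hy] at h1
    have e1 : l g * R.dd (z g) * (k * R.dd x) =
        (l g * (R.dd (z g) * k * (R.dd (z g))⁻¹)) * R.dd (ddMul (z g) x) := by rw [← R.dd_mul he]; group
    have e2 : k * R.dd x * (l g * R.dd (z g)) =
        (k * (R.dd x * l g * (R.dd x)⁻¹)) * R.dd (ddMul x (z g)) := by rw [← R.dd_mul he]; group
    rw [e1, e2] at h1
    exact (hR.TT_unique he (mul_mem (hl g) (R.dd_K he _ hk)) (mul_mem hk (R.dd_K he _ (hl g))) h1).2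
  have hex : ∀ z0 : {z : Sg × Bool // ddMul z x = ddMul x z},
      ∃ g0 : C, (∃ g, z g = z0.1) → z g0 = z0.1 := fun z0 =>
    (Classical.em (∃ g : C, z g = z0.1)).elim (fun h => ⟨h.choose, fun _ => h.choose_spec⟩)
      fun h => ⟨1, fun h' => absurd h' h⟩
  choose pick hpick using hex
  let f : C → {z : Sg × Bool // ddMul z x = ddMul x z} × R.FixK (R.dd x) := fun g =>
    (⟨z g, hcomm g⟩, ⟨(g : G) * ((pick ⟨z g, hcomm g⟩ : C) : G)⁻¹, by
      set g0 := pick ⟨z g, hcomm g⟩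
      have hz0 : z g0 = z g := hpick ⟨z g, hcomm g⟩ ⟨g, rfl⟩
      have hgK : (g : G) * (g0 : G)⁻¹ ∈ R.K := by
        rw [hz g, hz g0, hz0, mul_inv_rev, mul_assoc, mul_inv_cancel_left]
        exact mul_mem (hl g) (inv_mem (hl g0))
      rw [← hR.FixK_coset hk (fun w hw => R.dd_K he x hw)]
      refine ⟨hgK, Or.inl ?_⟩
      have hc : Commute ((g : G) * (g0 : G)⁻¹) y :=
        (show Commute (g : G) y from mem_centralizer_singleton_iff.1 g.2.2).mul_left
          (show Commute (g0 : G) y from mem_centralizer_singleton_iff.1 g0.2.2).inv_left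
      rw [← hy, hc.symm.eq, mul_inv_cancel_right, mul_inv_cancel]⟩)
  have hf : Function.Injective f := by
    intro a b h
    have h1 : z a = z b := congrArg (fun p => p.1.1) h
    have h2 := congrArg (fun p => (p.2 : G)) h
    have h3 : (⟨z a, hcomm a⟩ : {z : Sg × Bool // ddMul z x = ddMul x z}) = ⟨z b, hcomm b⟩ := Subtype.ext h1
    simp only [f, h3] at h2
    exact Subtype.ext (mul_right_cancel h2)
  refine (Nat.card_le_card_of_injective f hf).trans (le_of_eq ?_)
  rw [Nat.card_prod, Nat.card_eq_fintype_card, Nat.card_coe_set_eq]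

/-- The centralizer of the outer involution in `T`. -/
def Refl.R2 (R : Refl H) : Subgroup G := R.TT ⊓ centralizer ({H.out} : Set G)

theorem out_eq_dd (R : Refl H) : H.out = R.dd (e0, true) := by simp [Refl.dd, e0]

theorem Refl.out_mem_TT (R : Refl H) (he : H.ext = true) : H.out ∈ R.TT :=
  (R.mem_TT he).2 ⟨1, one_mem _, _, by rw [one_mul]; exact out_eq_dd R⟩

theorem Refl.Comm.TT_le {R : Refl H} (hR : R.Comm) (he : H.ext = true) : R.TT ≤ H.Wt := by
  intro g hg
  obtain ⟨k, hk, x, rfl⟩ := (R.mem_TT he).1 hg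
  exact mem_Wt.2 ((show Commute k H.t from hR.K_cent hk).mul_left (R.dd_t he x)).eq

/-- Representatives of the quaternion group modulo `⟨t⟩`. -/
def qrep (g : {g : S // four g = true ∧ g ≤ sm g 1}) : H.Qsub :=
  ⟨H.par ⟨0, v0, g.1⟩, ⟨_, ⟨g.1, g.2.1, rfl⟩, rfl⟩⟩

theorem qrep_inj {g h : {g : S // four g = true ∧ g ≤ sm g 1}}
    (e : ((qrep g * (qrep h)⁻¹ : H.Qsub) : G) = 1 ∨ ((qrep g * (qrep h)⁻¹ : H.Qsub) : G) = H.t) :
    g = h := by
  rw [Subgroup.coe_mul, Subgroup.coe_inv, show ((qrep g : H.Qsub) : G) = H.par ⟨0, v0, g.1⟩ from rfl,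
    show ((qrep h : H.Qsub) : G) = H.par ⟨0, v0, h.1⟩ from rfl, ← map_inv, ← map_mul, L_inv, L_mul] at e
  exact Subtype.ext (reps_four h.1 g.1 h.2.1 g.2.1 h.2.2 g.2.2
    (e.imp (fun e => congrArg T.g (H.inj (e.trans (map_one H.par).symm)))
      fun e => congrArg T.g (H.inj (show H.par _ = H.par tT from e)))).symm

/-- A family of elements of `K` centralising `out`. -/
def diagQ (p : H.Qsub × {g : S // four g = true ∧ g ≤ sm g 1} × {g : S // four g = true ∧ g ≤ sm g 1}) :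
    Fin 4 → H.Qsub := ![p.1, qrep p.2.1, qrep p.2.2, qrep p.2.2]

theorem Refl.Comm.diag_inj {R : Refl H} (hR : R.Comm)
    {p q : H.Qsub × {g : S // four g = true ∧ g ≤ sm g 1} × {g : S // four g = true ∧ g ≤ sm g 1}}
    (h : hR.phi (diagQ p) = hR.phi (diagQ q)) : p = q := by
  have h1 := hR.inj (q := diagQ p * (diagQ q)⁻¹) (Or.inl (by rw [map_mul, map_inv, h, mul_inv_cancel]))
  have h2 : ∀ o, ((diagQ p o * (diagQ q o)⁻¹ : H.Qsub) : G) = 1 ∨
      ((diagQ p o * (diagQ q o)⁻¹ : H.Qsub) : G) = H.t := fun o =>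
    (R.fU_pm (h1 o)).imp (congrArg Subtype.val) (congrArg Subtype.val)
  have e1 := qrep_inj (h2 1)
  have e2 := qrep_inj (h2 2)
  obtain ⟨p0, p1, p2⟩ := p
  obtain ⟨q0, q1, q2⟩ := q
  change p1 = q1 at e1
  change p2 = q2 at e2
  subst e1 e2
  rw [hR.phi_apply, hR.phi_apply] at h
  have h' : R.fU 0 p0 = R.fU 0 q0 := mul_right_cancel (mul_right_cancel (mul_right_cancel h))
  rw [R.fU_inj 0 h']

theorem Refl.Comm.diag_fix {R : Refl H} (hR : R.Comm) (he : H.ext = true)
    (p : H.Qsub × {g : S // four g = true ∧ g ≤ sm g 1} × {g : S // four g = true ∧ g ≤ sm g 1}) :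
    hR.phi (diagQ p) ∈ R.K ∧ H.out * hR.phi (diagQ p) * H.out⁻¹ = hR.phi (diagQ p) := by
  refine ⟨hR.range_phi ▸ ⟨_, rfl⟩, (hR.out_phi he _).trans (congrArg hR.phi ?_)⟩
  funext o
  fin_cases o <;> rfl

theorem Refl.Comm.card_R2 {R : Refl H} (hR : R.Comm) (he : H.ext = true) : 1024 ≤ Nat.card R.R2 := by
  classical
  let f : (H.Qsub × {g : S // four g = true ∧ g ≤ sm g 1} × {g : S // four g = true ∧ g ≤ sm g 1}) ×
      ({e : Sg // e 1 = e 2} × Bool) → R.R2 := fun p =>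
    ⟨hR.phi (diagQ p.1) * R.dd (p.2.1.1, p.2.2), (R.mem_TT he).2 ⟨_, (hR.diag_fix he p.1).1, _, rfl⟩, by
      refine mem_centralizer_singleton_iff.2 (Commute.mul_left ?_ ?_).eq
      · exact (mul_inv_eq_iff_eq_mul.1 (hR.diag_fix he p.1).2).symm
      · show _ * _ = _ * _
        rw [out_eq_dd R, R.dd_mul he, R.dd_mul he, outcl_dd _ _ p.2.1.2]⟩
  have hf : Function.Injective f := by
    intro a b h
    obtain ⟨h1, h2⟩ := hR.TT_unique he (hR.diag_fix he a.1).1 (hR.diag_fix he b.1).1 (congrArg Subtype.val h)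
    exact Prod.ext (hR.diag_inj h1) (Prod.ext (Subtype.ext (congrArg Prod.fst h2)) (congrArg Prod.snd h2 :))
  refine le_trans (le_of_eq ?_) (Nat.card_le_card_of_injective f hf)
  simp only [Nat.card_prod, card_Qsub, Nat.card_eq_fintype_card (α := {g : S // four g = true ∧ g ≤ sm g 1}),
    card_reps, Nat.card_eq_fintype_card (α := {e : Sg // e 1 = e 2}), card_diag,
    Nat.card_eq_fintype_card (α := Bool), Fintype.card_bool]

theorem Refl.Comm.K_conj_pm {R : Refl H} (hR : R.Comm) {k : G} (hk : k ∈ R.K) (h1 : k ≠ 1) (ht : k ≠ H.t) :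
    ∃ c ∈ R.K, c * k * c⁻¹ = k * H.t := by
  by_contra hcon
  refine (hR.centre hk fun y hy => ?_).elim h1 ht
  rcases hR.K_pm hy hk with e | e
  · exact (mul_inv_eq_iff_eq_mul.1 (mul_inv_eq_one.1 e))
  · refine (hcon ⟨y, hy, ?_⟩).elim
    rw [mul_inv_eq_iff_eq_mul.1 e, ← hR.K_cent hk]

/-- In `C(t)` the outer involution is not conjugate into `K`. -/
theorem Good.out_not_K (hG : H.Good) (he : H.ext = true) {R : Refl H} (hR : R.Comm) {h : G}
    (ht : h * H.t = H.t * h) : h * H.out * h⁻¹ ∉ R.K := by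
  intro hk
  have hout : ∀ a : T, H.par a ≠ H.out := H.out_not he
  by_cases h1 : h * H.out * h⁻¹ = 1
  · exact hout 1 (by rw [map_one]; exact (conj_eq_one_iff.1 h1).symm)
  by_cases h2 : h * H.out * h⁻¹ = H.t
  · refine hout tT ?_
    calc H.t = h⁻¹ * (h * H.t) := by group
      _ = h⁻¹ * (h * H.out * h⁻¹) * h := by rw [ht, h2]; group
      _ = H.out := by group
  obtain ⟨c, hc, e⟩ := hR.K_conj_pm hk h1 h2
  have hht : Commute h H.t := ht
  have hct : Commute c H.t := hR.K_cent hc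
  refine hG.out_not_conj he R (h := h⁻¹ * c * h) ((hht.inv_left.mul_left hct).mul_left hht).eq ?_
  calc h⁻¹ * c * h * H.out * (h⁻¹ * c * h)⁻¹ = h⁻¹ * (c * (h * H.out * h⁻¹) * c⁻¹) * h := by group
    _ = h⁻¹ * (h * H.out * h⁻¹ * H.t) * h := by rw [e]
    _ = H.out * (h⁻¹ * (H.t * h)) := by group
    _ = _ := by rw [← ht, inv_mul_cancel_left]

/-- The Sylow property of the centralizer of the outer involution. -/
theorem Good.R2_sylow (hG : H.Good) (he : H.ext = true) {R : Refl H} (hR : R.Comm)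
    (hT : Odd (R.TT.relIndex H.Wt)) {M : Subgroup G} (hM : IsPGroup 2 M) (hR2 : R.R2 ≤ M)
    (hMC : M ≤ H.Wt ⊓ centralizer ({H.out} : Set G)) : M = R.R2 := by
  classical
  haveI : Fact (Nat.Prime 2) := ⟨Nat.prime_two⟩
  by_contra hne
  have hTW := hR.TT_le he
  have hp : IsPGroup 2 (R.TT.subgroupOf H.Wt) :=
    (IsPGroup.of_card (hR.card_TT he)).of_equiv (subgroupOfEquivOfLe hTW).symm
  have hi : ¬ 2 ∣ (R.TT.subgroupOf H.Wt).index := hT.not_two_dvd_nat
  have hMW : M ≤ H.Wt := hMC.trans inf_le_left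
  obtain ⟨Q, hQ⟩ := (hM.of_equiv (subgroupOfEquivOfLe hMW).symm).exists_le_sylow
  obtain ⟨c, hc⟩ := MulAction.exists_smul_eq H.Wt Q (hp.toSylow hi)
  have hct : (c : G) * H.t = H.t * c := mem_Wt.1 c.2
  have hmem : ∀ a ∈ M, (c : G) * a * (c : G)⁻¹ ∈ R.TT := by
    intro a ha
    have h1 : c * ⟨a, hMW ha⟩ * c⁻¹ ∈ ((c • Q : Sylow 2 H.Wt) : Subgroup H.Wt) := by
      rw [Sylow.coe_subgroup_smul]
      exact smul_mem_pointwise_smul _ (MulAut.conj c) _ (hQ (mem_subgroupOf.2 ha))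
    rw [hc] at h1
    exact mem_subgroupOf.1 h1
  have houtM : H.out ∈ M := hR2 ⟨R.out_mem_TT he, mem_centralizer_singleton_iff.2 rfl⟩
  obtain ⟨k, hk, x, hy⟩ := (R.mem_TT he).1 (hmem _ houtM)
  have hx : x ≠ (e0, false) := by
    rintro rfl
    rw [R.dd_one, mul_one] at hy
    exact hG.out_not_K he hR hct (hy ▸ hk)
  have h2048 : 2048 ≤ Nat.card (R.TT ⊓ centralizer ({k * R.dd x} : Set G) : Subgroup G) := by
    have h1024 := hR.card_R2 he
    obtain ⟨m, hm⟩ := card_dvd_of_le hR2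
    have hpos : 0 < Nat.card M := Nat.card_pos
    have hlt : Nat.card R.R2 ≠ Nat.card M := fun e => hne (eq_of_le_of_card_ge hR2 e.ge).symm
    have h2 : 2048 ≤ Nat.card M := by
      rcases m with _ | _ | m
      · rw [hm] at hpos; omega
      · exact absurd (by rw [hm]; ring) hlt
      · rw [hm]; nlinarith
    refine h2.trans (le_of_eq_of_le (card_map_of_injective (K := M) (f := (MulAut.conj (c : G)).toMonoidHom) (MulAut.conj (c : G)).injective).symm
      (Nat.le_of_dvd Nat.card_pos (card_dvd_of_le ?_)))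
    rintro _ ⟨a, ha, rfl⟩
    refine ⟨hmem a ha, mem_centralizer_singleton_iff.2 ?_⟩
    rw [← hy]
    exact ((show Commute a H.out from mem_centralizer_singleton_iff.1 (hMC ha).2).map (MulAut.conj (c : G))).eq
  have hle := h2048.trans (hR.cent_TT_le he hk x)
  obtain ⟨h181, h32⟩ := hR.FixK_dd he hx
  by_cases hcl : OutCl x
  · rw [cent_outcl x hcl] at hle
    omega
  · have h16 : Fintype.card {z : Sg × Bool // ddMul z x = ddMul x z} ≤ 16 :=
      (Fintype.card_subtype_le _).trans (le_of_eq (by decide))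
    nlinarith [h32 hcl]

theorem Refl.Comm.comp_pm {R : Refl H} (hR : R.Comm) {w : Fin 4 → H.Qsub} {o : Fin 4}
    (h : ∀ y ∈ R.U o, y * hR.phi w = hR.phi w * y) : (w o : G) = 1 ∨ (w o : G) = H.t := by
  classical
  obtain ⟨g, hg, eg⟩ := Qsub_rep (w o).2
  rw [← eg]
  refine Qsub_pm (four_centre_iff g hg fun s hs => ?_)
  set v : H.Qsub := ⟨H.par ⟨0, v0, s⟩, ⟨_, ⟨s, hs, rfl⟩, rfl⟩⟩
  have hv : hR.phi (Pi.mulSingle o v) = R.fU o v := by
    rw [hR.phi_apply]; fin_cases o <;> simp [Pi.mulSingle_apply]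
  set p : Fin 4 → H.Qsub := Pi.mulSingle o v
  have h1 := h _ (R.fU_mem o v)
  rw [← hv, ← map_mul, ← map_mul, ← mul_inv_eq_one, ← map_inv, ← map_mul] at h1
  have hsingle : p * w * (w * p)⁻¹ = Pi.mulSingle o ((p * w * (w * p)⁻¹) o) := by
    funext j
    by_cases hj : j = o
    · subst hj; simp
    · simp [p, Pi.mulSingle_apply, hj]
  rw [hsingle] at h1
  have h2 : hR.phi (Pi.mulSingle o ((p * w * (w * p)⁻¹) o)) = R.fU o ((p * w * (w * p)⁻¹) o) := by
    rw [hR.phi_apply]; fin_cases o <;> simp [Pi.mulSingle_apply]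
  rw [h2] at h1
  have h3 := congrArg Subtype.val (R.fU_inj o (h1.trans (map_one (R.fU o)).symm))
  have h4 : H.par ⟨0, v0, s⟩ * H.par ⟨0, v0, g⟩ = H.par ⟨0, v0, g⟩ * H.par ⟨0, v0, s⟩ := by
    refine mul_inv_eq_one.1 ?_
    rw [eg]
    simpa [p, v, Pi.mul_apply, Pi.inv_apply] using h3
  rw [← map_mul, ← map_mul, L_mul, L_mul] at h4
  exact (congrArg T.g (H.inj h4)).symm

theorem Refl.fU_pm' (R : Refl H) {o : Fin 4} {a : H.Qsub} (h : H.Pm (R.fU o a)) : H.Pm (a : G) :=
  (R.fU_pm h).imp (congrArg Subtype.val) (congrArg Subtype.val)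

/-- The index of the outer part in `T`. -/
theorem exists_tail (R : Refl H) (hR : R.Comm) (he : H.ext = true) :
    ∃ φ : R.TT →* Multiplicative (ZMod 2), ∀ (g : R.TT) (k : G) (x : Sg × Bool), k ∈ R.K →
      (g : G) = k * R.dd x → φ g = Multiplicative.ofAdd (cond x.2 1 0) := by
  classical
  have hrep : ∀ g : R.TT, ∃ k ∈ R.K, ∃ x, (g : G) = k * R.dd x := fun g => (R.mem_TT he).1 g.2
  choose k hk x hx using hrep
  refine ⟨MonoidHom.mk' (fun g => Multiplicative.ofAdd (cond (x g).2 1 0)) fun a b => ?_, fun g l y hl hy => ?_⟩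
  · have h1 : ((a * b : R.TT) : G) = (k a * (R.dd (x a) * k b * (R.dd (x a))⁻¹)) * R.dd (ddMul (x a) (x b)) := by
      rw [← R.dd_mul he, Subgroup.coe_mul, hx a, hx b]; group
    have h2 := (hR.TT_unique he (hk _) (mul_mem (hk a) (R.dd_K he _ (hk b))) ((hx _).symm.trans h1)).2
    rw [h2]
    show Multiplicative.ofAdd (cond (xor (x a).2 (x b).2) (1 : ZMod 2) 0) = _
    cases (x a).2 <;> cases (x b).2 <;> decide
  · show Multiplicative.ofAdd _ = _
    rw [(hR.TT_unique he (hk g) hl ((hx g).symm.trans hy)).2]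

/-- The elements carrying `C_T(out)` into `T`. -/
theorem Good.carry_R2 (hG : H.Good) (he : H.ext = true) {R : Refl H} (hR : R.Comm)
    (hP : ∀ q1 q : G, q1 ∈ H.Qsub → q ∈ H.Qsub → q1 ≠ 1 → q1 ≠ H.t → q ≠ 1 → q ≠ H.t →
      ∀ hm : q1 * (R.r1 * q * R.r1⁻¹) ∈ H.Ca,
      ¬ IsConj (QuotientGroup.mk' H.aSub ⟨H.t, H.par_mem_Ca.2 rfl⟩)
        (QuotientGroup.mk' H.aSub ⟨q1 * (R.r1 * q * R.r1⁻¹), hm⟩))
    (hT : Odd (R.TT.relIndex H.Wt)) {g : G} (hg : ∀ r ∈ R.R2, g⁻¹ * r * g ∈ R.TT) :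
    g ∈ H.Wt ∧ ∀ (k : G) (x : Sg × Bool), k ∈ R.K → g⁻¹ * H.out * g = k * R.dd x → x.2 = true := by
  classical
  haveI : Fact (Nat.Prime 2) := ⟨Nat.prime_two⟩
  have hTW := hR.TT_le he
  have houtR : H.out ∈ R.R2 := ⟨R.out_mem_TT he, mem_centralizer_singleton_iff.2 rfl⟩
  have htR : H.t ∈ R.R2 := ⟨(R.mem_TT he).2 ⟨H.t, R.t_mem_K, (e0, false), by rw [R.dd_one, mul_one]⟩,
    mem_centralizer_singleton_iff.2 (out_comm_t he).symm⟩
  have hgW : g ∈ H.Wt := by
    set t1 := g * H.t * g⁻¹ with ht1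
    have hcom : ∀ r ∈ R.R2, r * t1 = t1 * r := fun r hr => by
      have h1 := mem_Wt.1 (hTW (hg r hr))
      calc r * t1 = g * ((g⁻¹ * r * g) * H.t) * g⁻¹ := by rw [ht1]; group
        _ = g * (H.t * (g⁻¹ * r * g)) * g⁻¹ := by rw [h1]
        _ = _ := by rw [ht1]; group
    have hsq : t1 * t1 = 1 := by
      rw [ht1, show g * H.t * g⁻¹ * (g * H.t * g⁻¹) = g * (H.t * H.t) * g⁻¹ by group, H.t_mul_self]; group
    have hz2 : IsPGroup 2 (zpowers t1) := by
      rintro ⟨y, hy⟩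
      obtain ⟨i, rfl⟩ := mem_zpowers_iff.1 hy
      refine ⟨1, Subtype.ext ?_⟩
      show (t1 ^ i) ^ 2 ^ 1 = 1
      rw [pow_one, ← zpow_natCast, ← zpow_mul, mul_comm, zpow_mul, zpow_natCast, pow_two, hsq, one_zpow]
    have hnorm : zpowers t1 ≤ normalizer (R.R2 : Set G) := by
      refine le_trans ?_ (centralizer_le_normalizer _)
      rw [zpowers_le]
      exact mem_centralizer_iff.2 fun r hr => hcom r hr
    have hR2p : IsPGroup 2 R.R2 := (IsPGroup.of_card (hR.card_TT he)).to_le inf_le_left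
    have hM : IsPGroup 2 (R.R2 ⊔ zpowers t1 : Subgroup G) := hR2p.to_sup_of_normal_left' hz2 hnorm
    have ht1R : t1 ∈ R.R2 := by
      rw [← hG.R2_sylow he hR hT hM le_sup_left (sup_le (fun r hr => ⟨hTW hr.1, hr.2⟩)
        (zpowers_le.2 ⟨mem_Wt.2 (hcom _ htR).symm, mem_centralizer_singleton_iff.2 (hcom _ houtR).symm⟩))]
      exact mem_sup_right (mem_zpowers t1)
    obtain ⟨k, hk, x, hx⟩ := (R.mem_TT he).1 ht1R.1
    have hfix : ∀ p, hR.phi (diagQ p) ∈ R.FixK (R.dd x) := by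
      intro p
      obtain ⟨h1, h2⟩ := hR.diag_fix he p
      rw [← hR.FixK_coset hk (fun w hw => R.dd_K he x hw), ← hx]
      refine ⟨h1, Or.inl ?_⟩
      rw [← hcom _ ⟨(R.mem_TT he).2 ⟨_, h1, (e0, false), by rw [R.dd_one, mul_one]⟩,
        mem_centralizer_singleton_iff.2 (mul_inv_eq_iff_eq_mul.1 h2).symm⟩, mul_inv_cancel_right,
        mul_inv_cancel]
    have hkind : x = (e0, false) ∨ x = (e0, true) := by
      by_cases hx0 : x = (e0, false)
      · exact Or.inl hx0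
      have h128 : 128 ≤ Set.ncard (R.FixK (R.dd x)) := by
        have := Nat.card_le_card_of_injective (fun p => (⟨_, hfix p⟩ : R.FixK (R.dd x)))
          fun a b h => hR.diag_inj (congrArg Subtype.val h)
        rwa [Nat.card_prod, Nat.card_prod, card_Qsub,
          Nat.card_eq_fintype_card (α := {g : S // four g = true ∧ g ≤ sm g 1}), card_reps,
          Nat.card_coe_set_eq] at this
      have hcl : OutCl x := by
        by_contra hn
        have := (hR.FixK_dd he hx0).2 hn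
        omega
      rcases hcl with hcl | hcl
      · exact Or.inr hcl
      exfalso
      obtain ⟨s, hs, hs0, hs1⟩ := four_noncentral
      have hqQ : H.par ⟨0, v0, s⟩ ∈ H.Qsub := ⟨_, ⟨s, hs, rfl⟩, rfl⟩
      set q : H.Qsub := ⟨_, hqQ⟩
      have hm : R.fU 0 q ∈ R.R2 := by
        refine ⟨(R.mem_TT he).2 ⟨_, R.U_le 0 (R.fU_mem 0 q), (e0, false), by rw [R.dd_one, mul_one]⟩, ?_⟩
        refine mem_centralizer_singleton_iff.2 (mul_inv_eq_iff_eq_mul.1 ?_).symm
        exact out_fU he R 0 q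
      have hfx : R.fU 0 q ∈ R.FixK (R.dd x) := by
        rw [← hR.FixK_coset hk (fun w hw => R.dd_K he x hw), ← hx]
        exact ⟨R.U_le 0 (R.fU_mem 0 q), Or.inl (by rw [← hcom _ hm, mul_inv_cancel_right, mul_inv_cancel])⟩
      have hU1 : R.dd x * R.fU 0 q * (R.dd x)⁻¹ ∈ R.U 1 := by
        have h23 : R.r2 * R.r3 = R.r1 * (R.r1 * R.r2 * R.r3) := by
          rw [← mul_assoc, ← mul_assoc, R.sq1, one_mul]
        have hdd : R.dd x = R.r2 * R.r3 * H.out := by rw [hcl]; simp [Refl.dd]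
        refine R.mem_U.2 ⟨_, R.triple_q hqQ, ?_⟩
        rw [hdd, show R.r2 * R.r3 * H.out * R.fU 0 q * (R.r2 * R.r3 * H.out)⁻¹ =
          R.r2 * R.r3 * (H.out * R.fU 0 q * H.out⁻¹) * (R.r2 * R.r3)⁻¹ by group, out_fU he, h23]
        show R.r1 * (R.r1 * R.r2 * R.r3 * H.par ⟨0, v0, s⟩ * (R.r1 * R.r2 * R.r3)⁻¹) * R.r1⁻¹ = _
        show _ = R.r1 * (R.r1 * R.r2 * R.r3) * (1 * H.par ⟨0, v0, s⟩ * (1 : G)⁻¹) * (R.r1 * (R.r1 * R.r2 * R.r3))⁻¹
        group
      have hU0 : R.dd x * R.fU 0 q * (R.dd x)⁻¹ ∈ R.U 0 := by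
        have h := hfx.2
        rw [show R.dd x * R.fU 0 q * (R.dd x)⁻¹ =
          (R.dd x * R.fU 0 q * (R.dd x)⁻¹ * (R.fU 0 q)⁻¹) * R.fU 0 q by group]
        refine mul_mem ?_ (R.fU_mem 0 q)
        rcases h with e | e <;> rw [e]
        · exact one_mem _
        · exact R.t_mem_U 0
      have hp := R.U_inter (o := 0) (p := 1) (by decide) hU0 hU1
      have hq2 : H.Pm (R.fU 0 q) := by
        have : R.fU 0 q = (R.dd x * R.fU 0 q * (R.dd x)⁻¹ * (R.fU 0 q)⁻¹)⁻¹ *
            (R.dd x * R.fU 0 q * (R.dd x)⁻¹) := by group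
        rw [this]
        exact hfx.2.inv.mul hp
      rcases R.fU_pm' hq2 with e | e
      · exact hs0 (congrArg T.g (H.inj (e.trans (map_one H.par).symm)))
      · exact hs1 (congrArg T.g (H.inj (show H.par _ = H.par tT from e)))
    have hdx : R.dd x = 1 ∨ R.dd x = H.out := by
      rcases hkind with rfl | rfl
      · exact Or.inl R.dd_one
      · exact Or.inr (out_eq_dd R).symm
    have hkcomm : ∀ y : G, y ∈ R.R2 → y * H.out = H.out * y → y * k = k * y := by
      intro y hy hyo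
      have hd : Commute y (R.dd x) := by
        rcases hdx with e | e <;> rw [e]
        · exact Commute.one_right y
        · exact hyo
      have h1 : Commute y (k * R.dd x) := hx ▸ hcom y hy
      have := h1.mul_right hd.inv_right
      rwa [mul_inv_cancel_right] at this
    obtain ⟨w, hw⟩ := MonoidHom.mem_range.1 (hR.range_phi.symm ▸ hk : k ∈ hR.phi.range)
    have hU : ∀ o, (o = 0 ∨ o = 1) → H.Pm (w o : G) := by
      intro o ho
      refine hR.comp_pm fun y hy => ?_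
      obtain ⟨q, hq, rfl⟩ := R.mem_U.1 hy
      have hyo : R.cc o * q * (R.cc o)⁻¹ * H.out = H.out * (R.cc o * q * (R.cc o)⁻¹) := by
        refine (mul_inv_eq_iff_eq_mul.1 ?_).symm
        have := out_fU he R o ⟨q, hq⟩
        rcases ho with rfl | rfl <;> exact this
      rw [hw]
      exact hkcomm _ ⟨(R.mem_TT he).2 ⟨_, R.U_le o (R.mem_U.2 ⟨q, hq, rfl⟩), (e0, false),
        by rw [R.dd_one, mul_one]⟩, mem_centralizer_singleton_iff.2 hyo⟩ hyo
    have hko : H.out * k = k * H.out := hkcomm H.out houtR rfl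
    have hw23 : H.Pm ((w 3 * (w 2)⁻¹ : H.Qsub) : G) := by
      have h1 : hR.phi ![w 0, w 1, w 3, w 2] = hR.phi w := by
        rw [← hR.out_phi he, hw, hko, mul_inv_cancel_right]
      have h2 := hR.inj (q := ![w 0, w 1, w 3, w 2] * w⁻¹) (Or.inl (by rw [map_mul, map_inv, h1, mul_inv_cancel]))
      exact R.fU_pm' (h2 2)
    obtain ⟨a, b, hkab, hab⟩ : ∃ a b : H.Qsub, k = R.fU 2 a * R.fU 3 b ∧ H.Pm ((b * a⁻¹ : H.Qsub) : G) := by
      have h01 : H.Pm (R.fU 0 (w 0) * R.fU 1 (w 1)) :=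
        Pm.mul (R.fU_sign 0 (hU 0 (Or.inl rfl))) (R.fU_sign 1 (hU 1 (Or.inr rfl)))
      obtain ⟨τ, hτ⟩ : ∃ τ : H.Qsub, R.fU 0 (w 0) * R.fU 1 (w 1) = R.fU 2 τ ∧ H.Pm (τ : G) := by
        rcases h01 with e | e
        · exact ⟨1, by rw [e, map_one], Or.inl rfl⟩
        · exact ⟨⟨H.t, t_mem_Qsub⟩, by rw [e, R.fU_t], Or.inr rfl⟩
      refine ⟨τ * w 2, w 3, by rw [← hw, hR.phi_apply, map_mul, hτ.1], ?_⟩
      rw [mul_inv_rev, ← mul_assoc, Subgroup.coe_mul, Subgroup.coe_inv]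
      exact hw23.mul hτ.2.inv
    have hpm : ∀ {u : H.Qsub}, H.Pm (u : G) → ∀ o, H.Pm (R.fU o u) := fun h o => R.fU_sign o h
    by_cases ha : H.Pm (a : G)
    · have hb : H.Pm (b : G) := by
        have := hab.mul ha
        rwa [Subgroup.coe_mul, Subgroup.coe_inv, inv_mul_cancel_right] at this
      have hkp : H.Pm k := hkab ▸ (hpm ha 2).mul (hpm hb 3)
      rcases hdx with e | e <;> rw [e] at hx
      · rw [mul_one] at hx
        rcases hkp with e' | e' <;> rw [e', ht1] at hx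
        · exact absurd (conj_eq_one_iff.1 hx) t_ne_one
        · exact mem_Wt.2 (mul_inv_eq_iff_eq_mul.1 hx)
      · rcases hkp with e' | e' <;> rw [e', ht1] at hx
        · exact absurd (hx.trans (one_mul _)) (hG.t_not_conj_out he R g).1
        · exact absurd (hx.trans (out_comm_t he).symm) (hG.t_not_conj_out he R g).2
    · have hb : ¬ H.Pm (b : G) := fun hb => ha (by
        have := hab.inv.mul hb
        rwa [Subgroup.coe_mul, Subgroup.coe_inv, mul_inv_rev, inv_inv, inv_mul_cancel_right] at this)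
      rcases hdx with e | e <;> rw [e] at hx
      · rw [mul_one, hkab, ht1] at hx
        exact absurd hx (hG.t_not_conj_diag R hP g a.2 b.2 (fun e => ha (Or.inl e)) (fun e => ha (Or.inr e))
          (fun e => hb (Or.inl e)) fun e => hb (Or.inr e))
      · set s := R.fU 2 a with hs
        have hoa : H.out * s = R.fU 3 a * H.out := mul_inv_eq_iff_eq_mul.1 (out_fU he R 2 a)
        have hba : H.Pm (R.fU 3 (b * a)) := by
          refine hpm ?_ 3
          have := hab.mul (Qsub_pair a.2 a.2).2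
          rw [Subgroup.coe_mul, Subgroup.coe_inv, show (b : G) * (a : G)⁻¹ * ((a : G) * a) = b * a by group] at this
          exact this
        have h3 : s⁻¹ * g * H.t * (s⁻¹ * g)⁻¹ = R.fU 3 (b * a) * H.out := by
          calc s⁻¹ * g * H.t * (s⁻¹ * g)⁻¹ = s⁻¹ * t1 * s := by rw [ht1]; group
            _ = R.fU 3 b * (H.out * s) := by rw [hx, hkab]; group
            _ = _ := by rw [hoa, map_mul, mul_assoc]
        rcases hba with e' | e' <;> rw [e'] at h3
        · exact absurd (h3.trans (one_mul _)) (hG.t_not_conj_out he R _).1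
        · exact absurd (h3.trans (out_comm_t he).symm) (hG.t_not_conj_out he R _).2
  refine ⟨hgW, fun k x hk hy => ?_⟩
  by_contra hδ
  rw [Bool.not_eq_true] at hδ
  have hgt : g⁻¹ * H.t = H.t * g⁻¹ := (show Commute g H.t from mem_Wt.1 hgW).inv_left.eq
  have hx : x ≠ (e0, false) := by
    rintro rfl
    rw [R.dd_one, mul_one] at hy
    have := hG.out_not_K he hR hgt
    rw [inv_inv, hy] at this
    exact this hk
  have hcl : ¬ OutCl x := by rintro (rfl | rfl) <;> exact Bool.noConfusion hδ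
  have h1024 : 1024 ≤ Nat.card (R.TT ⊓ centralizer ({k * R.dd x} : Set G) : Subgroup G) := by
    refine (hR.card_R2 he).trans (le_of_eq_of_le (card_map_of_injective (K := R.R2) (f := (MulAut.conj g⁻¹).toMonoidHom) (MulAut.conj g⁻¹).injective).symm
      (Nat.le_of_dvd Nat.card_pos (card_dvd_of_le ?_)))
    rintro _ ⟨a, ha, rfl⟩
    refine ⟨?_, mem_centralizer_singleton_iff.2 ?_⟩
    · simpa using hg a ha
    · rw [← hy]
      have := ((show Commute a H.out from mem_centralizer_singleton_iff.1 ha.2).map (MulAut.conj g⁻¹)).eq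
      simpa using this
  have h16 : Fintype.card {z : Sg × Bool // ddMul z x = ddMul x z} ≤ 16 :=
    (Fintype.card_subtype_le _).trans (le_of_eq (by decide))
  nlinarith [(hR.FixK_dd he hx).2 hcl, h1024.trans (hR.cent_TT_le he hk x)]

/-- A subgroup of index two containing the image of the model but not the outer involution. -/
theorem Good.exists_index_two_of (hG : H.Good) (he : H.ext = true) (R : Refl H) (hR : R.Comm)
    (hP : ∀ q1 q : G, q1 ∈ H.Qsub → q ∈ H.Qsub → q1 ≠ 1 → q1 ≠ H.t → q ≠ 1 → q ≠ H.t →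
      ∀ hm : q1 * (R.r1 * q * R.r1⁻¹) ∈ H.Ca,
      ¬ IsConj (QuotientGroup.mk' H.aSub ⟨H.t, H.par_mem_Ca.2 rfl⟩)
        (QuotientGroup.mk' H.aSub ⟨q1 * (R.r1 * q * R.r1⁻¹), hm⟩))
    (hT : Odd (R.TT.relIndex H.Wt)) :
    ∃ G0 : Subgroup G, G0.index = 2 ∧ (∀ x, H.par x ∈ G0) ∧ H.out ∉ G0 := by
  haveI : Fact (Nat.Prime 2) := ⟨Nat.prime_two⟩
  obtain ⟨φ, hφ⟩ := exists_tail R hR he
  have hTW := hR.TT_le he
  have hA := zmod_two_facts.1
  have htr := transfer_eq_pow_relIndex φ hA (u := H.out) (by rw [pow_two, H.out_sq]) R.R2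
    ((IsPGroup.of_card (hR.card_TT he)).to_le inf_le_left)
    (fun r hr => mem_centralizer_singleton_iff.1 hr.2)
    ⟨R.out_mem_TT he, mem_centralizer_singleton_iff.2 rfl⟩ H.Wt
    (fun r hr => hTW hr.1) hTW (Multiplicative.ofAdd (1 : ZMod 2))
    (fun g hg => by
      obtain ⟨h1, h2⟩ := hG.carry_R2 he hR hP hT hg
      refine ⟨h1, fun hm => ?_⟩
      obtain ⟨k, hk, x, hx⟩ := (R.mem_TT he).1 hm
      rw [hφ ⟨_, hm⟩ k x hk hx, h2 k x hk hx]
      rfl)
  obtain ⟨m, hm⟩ := hT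
  rw [hm, pow_succ, pow_mul, hA, one_pow, one_mul] at htr
  set V := MonoidHom.transfer φ with hV
  have hsurj : Function.Surjective V := by
    intro a
    obtain rfl | rfl := zmod_two_facts.2.1 a
    · exact ⟨1, map_one V⟩
    · exact ⟨H.out, htr⟩
  refine ⟨V.ker, ?_, fun x => ?_, fun h => ?_⟩
  · rw [index_ker, MonoidHom.range_eq_top.2 hsurj, card_top, Nat.card_eq_fintype_card, Fintype.card_multiplicative,
      ZMod.card]
  · rw [MonoidHom.mem_ker]
    have h3 : ∀ y : T, y * y * y = 1 → V (H.par y) = 1 := fun y hy => by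
      have h := congrArg (fun y => V (H.par y)) hy
      simp only [map_mul, map_one] at h
      rwa [← pow_two, hA, one_mul] at h
    obtain ⟨a, b, c, ha, hb, hc, hg⟩ := three_gen x.g
    have e : x = qT x.c x.v * (⟨0, v0, a⟩ * ⟨0, v0, b⟩ * ⟨0, v0, c⟩) := by
      rw [L_mul, L_mul, ← hg]
      refine T.ext ?_ ?_ ?_
      · simp [mul_def, tm, qT, bet, act_zero, v0]
      · simp [mul_def, tm, qT, act_zero, (va_v0 _).1]
      · exact (PSpFourInvol.sm_one _).1.symm
    have hL : ∀ s : S, sm (sm s s) s = 0 → V (H.par ⟨0, v0, s⟩) = 1 := fun s hs =>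
      h3 _ (by rw [L_mul, L_mul, hs]; rfl)
    rw [e, map_mul, map_mul, map_mul, map_mul, map_mul, map_mul,
      h3 _ (qT_cube _ _), hL a ha, hL b hb, hL c hc, one_mul, one_mul, one_mul]
  · rw [MonoidHom.mem_ker, htr] at h
    exact zmod_two_facts.2.2 h

end Base

end CfsgLib.O8Three
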