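import Cfsg.Agent.O8Three.Base

/-!
# The model on natural numbers, for computations by the kernel
-/

set_option autoImplicit false
set_option maxRecDepth 100000

namespace CfsgLib.O8Three

open CfsgLib.PSpFourInvol (S sm si mulBits invBits)

/-- The action table, seven bits an entry. -/
def actBits : ℕ := 0x9d2a64997426cf91160c3810a3c48cfde3874ddcbe76f5b335ec57306ac9a2d54994254eb14ab4884e9f38791a0446cc142c4ca9a2e6490f163450c22388090c0820106202870068a172658c953049626529542b4ea923e70edbba7ae5e36a12a6c9993e5ce904458e143480c1e2519d4070fa23c84db55ec973168c19ad8f06240871a1457e2010502103830c01a2f60b993362d5690163050e1e348897ae1cb776f1d3e6c64a15265cc16344a3418502245871dfa23a78e20427d19b9f2a5c99b3a65090ad3274aa552858903820604286082002e68c592f6acd82d144068e164478c12ddeba76e1f3c72d89992c5ca1a30549408d0e2418f1613f3888fa03a8d09e37267cc9b2a84e97212ab50a532c549d2010e102821018180933a6cb953e84c91022c4850634786fdbbc76e5c3d7ce9b2e66c982f68d58ad4aa94a74cad62848710a03c751233e6c9982e54a19345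890a1e3860b20446890218283041c404004cd152c50c192e492ac4ea132a56a52377ce5d3878f5db693425cc953a7cd902888c1a2c7901c24e233c7cea14480dae6ac18af66d192d811e14383163447e0440308083070a00b952c60c9a26509294ea152b589532476e5d3c7af9bb86d365cc9d3e849952070c1a3c811142c4a03c7d0a24670e9b64c18b368d572f5b121438b1a3c082fc2830818388020803062c9ab368b97ad18347111e4050b12e5d3b7cf1eb770d8a962e68c19265094287123c58d020bf3c7d0234288e1d372e64da13a7c995213a852b152b4a9920308144060e04100952e7ce933665091061468b022438efdc397af1bbb74f9b2f60d19ae64c5aad4c9d5aa4aa542c4874f22427101f466ca1532609972c6890b184078a1c34889040c386021420800bd93568b98b066b458e224050d183c4b876f9eb774e5e36285cd192658a9825062478d021c28afcea04688e1f3c84dca9b427c9992e7484ca562b4aa13aa48082880e042030c00a1630689952e6492650a96254ea55a470e9e3e6ee5dbd6d2a64ea1265cd9f2058d1e4450c1c4049d3e8519c3c8111b5ec59b55cc19345b061c58f021448cfc1040c200830a1c0162664a1a2e60a9250955a658a552748e9bbd70f9dbc72da6499f2a84d9d2e40d14405911c3c6093e7111d468109e36c57345e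d593360b61c08d063c48b09f84021c1080a18180972684a9d327cd910a04783161c688fdcb77ce1e3a7aedb305cd57b362d192d4e9562654a15a94878e233a84fa2406ca933450c16325c90c144458f1a4070906044020c1038500c97335ed183562b470a1e2c80c22344bb6ef1c3d72f9d362e4cc143254d162512045831a14786fd01c427511e467cdcd933a54f97426485295526569d6284814086041c18808019b568c58325eb968f224068c1c2c50978f9eba72edc376c60d192c54b94264a2c78d0e1448301fa14688f9e4074e1b9d427cc973654990a962b509d4a64a903080e1018504040193068a972c5099256a962752a132548f5e3e72edd386eda7cea12e6cc95264101e4460e1a2c509448519e407ce9c36d19b560c98af5cb63458f0a2438301f870c2018508080802a64a17304cb1a249d5a652a92a85891cbd70ede3774f9b4b9f2a6ce9332848184058e1e28691127911d4084e1f466d8345ec99ae62d56c28d06245810e3bf061c1050c0420800c59af60d573268b468f163088a1c404ba78e1cbe6eedeb62c60a15344cb99250e2c1851e0448cfcfa13a7919c4088dcc9d2a5d093367c850a932758954ab481030206200850e026d095327c9973a4448f061c6810a2bf76f9c3a7addcbc6cc9aaf62d173066b54ac4ca15a54ea92204674fa2387909b2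e68a16324ca98243888b1a4050c1e242880410381061803560b99b15ed192d223050f1a2c80e12f9cb778e9c3d76d8d152660b14325c94785022c3831a23f4678e213e7512037425c99d3254f9b216274aa942656a52080604304041c280305c9992a50d1624a94a5569d32c5091e3b6ef5cb87ce9b4e9b267cb95426481e38510182c88d128501c4478ea33e6d9b25cd182f6ac56c58902342831e1bf0c140870608404013e649a13654e9722343811e2418b09fbd74ddf3b70f1cb668c573564bd9b05aad42558a532a4e9111f388d01d4278d992c4cd172860a9220345111c2c78c121c2011014106060264d973e84e932a443890a3478b020bf74edcbd7cf1bb86cc593068d59ae5eb54294ead62a4a9921f40791234270e9b2c5ca993460994243470c204478a1624205061c40602080509f3a6cc972a4c88f1a2c4870a0c07ef9ebc76e9cb86ed9ab466c98b05eb96ac56a94a84e992a446890a03e78e9c3668c982e58a9426488901e3868c16284880e182840608080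

/-- The action on codes of vectors. -/
def actN (g u : ℕ) : ℕ := (actBits >>> (7 * (81 * g + u))) &&& 127

/-- Decoding of vectors. -/
def dv (u : ℕ) : Vec := ⟨((u / 27 % 3 : ℕ) : ZMod 3), ((u / 9 % 3 : ℕ) : ZMod 3), ((u / 3 % 3 : ℕ) : ZMod 3), ((u % 3 : ℕ) : ZMod 3)⟩

/-- Code of a vector. -/
def vN (a b m n : ℕ) : ℕ := a % 3 * 27 + b % 3 * 9 + m % 3 * 3 + n % 3

/-- Decoding of elements. -/
def dec (n : ℕ) : T := ⟨((n / 24 % 3 : ℕ) : ZMod 3), dv (n / 72 % 81), ⟨n % 24, Nat.mod_lt _ (by norm_num)⟩⟩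

/-- Code of an element from its parts. -/
def mk (c u g : ℕ) : ℕ := u % 81 * 72 + c % 3 * 24 + g % 24

/-- The product on codes. -/
def mN (x y : ℕ) : ℕ :=
  let g := x % 24
  let h := y % 24
  let u := x / 72 % 81
  let w := actN g (y / 72 % 81) % 81
  mk (x / 24 + y / 24 + u / 27 * (w / 9 % 3) + 2 * (u / 9 % 3 * (w / 27)) + 2 * (u / 3 % 3 * (w % 3)) +
      u % 3 * (w / 3 % 3))
    (vN (u / 27 + w / 27) (u / 9 + w / 9) (u / 3 + w / 3) (u + w))
    ((mulBits >>> (5 * (24 * g + h))) &&& 31)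

/-- The inverse on codes. -/
def iN (x : ℕ) : ℕ :=
  let g := ((invBits >>> (5 * (x % 24))) &&& 31) % 24
  let u := x / 72 % 81
  mk (2 * (x / 24)) (actN g (vN (2 * (u / 27)) (2 * (u / 9)) (2 * (u / 3)) (2 * u))) g

/-- Bounded checks. -/
def allN : ℕ → (ℕ → Bool) → Bool
  | 0, _ => true
  | n + 1, p => p n && allN n p

theorem allN_spec : ∀ {n : ℕ} {p : ℕ → Bool}, allN n p = true → ∀ i < n, p i = true := by
  intro n
  induction n with
  | zero => intro p _ i hi; omega
  | succ n ih =>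
    intro p h i hi
    simp only [allN, Bool.and_eq_true] at h
    rcases Nat.lt_succ_iff_lt_or_eq.1 hi with hi | rfl
    · exact ih h.2 i hi
    · exact h.1

theorem dv_vN (a b m n : ℕ) : dv (vN a b m n) = ⟨a, b, m, n⟩ := by
  have h1 : vN a b m n / 27 % 3 = a % 3 := by simp only [vN]; omega
  have h2 : vN a b m n / 9 % 3 = b % 3 := by simp only [vN]; omega
  have h3 : vN a b m n / 3 % 3 = m % 3 := by simp only [vN]; omega
  have h4 : vN a b m n % 3 = n % 3 := by simp only [vN]; omega
  simp only [dv, h1, h2, h3, h4, ZMod.natCast_mod]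

theorem vN_lt (a b m n : ℕ) : vN a b m n < 81 := by simp only [vN]; omega

theorem dec_mk (c u g : ℕ) :
    dec (mk c u g) = ⟨c, dv (u % 81), ⟨g % 24, Nat.mod_lt _ (by norm_num)⟩⟩ := by
  have h1 : mk c u g / 24 % 3 = c % 3 := by simp only [mk]; omega
  have h2 : mk c u g / 72 % 81 = u % 81 := by simp only [mk]; omega
  have h3 : mk c u g % 24 = g % 24 := by simp only [mk]; omega
  simp only [dec, h1, h2, h3, ZMod.natCast_mod]

theorem mk_lt (c u g : ℕ) : mk c u g < 5832 := by simp only [mk]; omega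

theorem mN_lt (x y : ℕ) : mN x y < 5832 := mk_lt _ _ _

theorem actN_check : allN 24 (fun g => allN 81 fun u => decide (actN g u < 81) &&
    decide (dv (actN g u) = act ⟨g % 24, Nat.mod_lt _ (by norm_num)⟩ (dv u))) = true := by decide +kernel

theorem dec_mN (x y : ℕ) : dec (mN x y) = dec x * dec y := by
  have hg : x % 24 % 24 = x % 24 := Nat.mod_mod _ _
  have h := allN_spec (allN_spec actN_check (x % 24) (Nat.mod_lt _ (by norm_num))) (y / 72 % 81)
    (Nat.mod_lt _ (by norm_num))
  simp only [Bool.and_eq_true, decide_eq_true_eq, hg] at h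
  obtain ⟨h1, h2⟩ := h
  simp only [mN, dec_mk, Nat.mod_eq_of_lt (vN_lt _ _ _ _), dv_vN, Nat.mod_eq_of_lt h1]
  simp only [mul_def, tm, dec]
  rw [← h2]
  generalize hu : x / 72 % 81 = u
  generalize hw : actN (x % 24) (y / 72 % 81) = w
  have hu' : u < 81 := hu ▸ Nat.mod_lt _ (by norm_num)
  have hw' : w < 81 := hw ▸ h1
  refine T.ext ?_ ?_ rfl
  · have two : (2 : ZMod 3) = -1 := rfl
    simp only [bet, dv, Nat.cast_add, Nat.cast_mul, Nat.cast_ofNat, ZMod.natCast_mod, two]
    ring
  · simp only [va, dv, Nat.cast_add, ZMod.natCast_mod]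

theorem dec_zero : dec 0 = 1 := by decide +kernel

theorem iN_check : allN 5832 (fun x => mN (iN x) x == 0) = true := by decide +kernel

theorem dec_iN {x : ℕ} (hx : x < 5832) : dec (iN x) = (dec x)⁻¹ := by
  refine eq_inv_of_mul_eq_one_left ?_
  rw [← dec_mN, beq_iff_eq.1 (allN_spec iN_check x hx), dec_zero]

theorem exists_dec (x : T) : ∃ n, n < 5832 ∧ dec n = x := by
  refine ⟨mk x.c.val (vN x.v.a.val x.v.b.val x.v.m.val x.v.n.val) x.g.val, mk_lt _ _ _, ?_⟩
  rw [dec_mk, Nat.mod_eq_of_lt (vN_lt _ _ _ _), dv_vN]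
  refine T.ext (ZMod.natCast_zmod_val _) (Vec.ext (ZMod.natCast_zmod_val _) (ZMod.natCast_zmod_val _)
    (ZMod.natCast_zmod_val _) (ZMod.natCast_zmod_val _)) (Fin.ext (Nat.mod_eq_of_lt x.g.isLt))

theorem dec_bij : Function.Bijective (fun n : Fin 5832 => dec n) := by
  refine (Fintype.bijective_iff_surjective_and_card _).2 ⟨fun x => ?_, ?_⟩
  · obtain ⟨n, hn, e⟩ := exists_dec x
    exact ⟨⟨n, hn⟩, e⟩
  · rw [Fintype.card_congr T.equiv, Fintype.card_prod, Fintype.card_prod, Fintype.card_congr Vec.equiv]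
    simp

theorem dec_inj {a b : ℕ} (ha : a < 5832) (hb : b < 5832) (h : dec a = dec b) : a = b :=
  congrArg Fin.val (dec_bij.1 (a₁ := ⟨a, ha⟩) (a₂ := ⟨b, hb⟩) h)

/-- A statement about all elements follows from a check on all codes. -/
theorem forall_T {P : T → Prop} (p : ℕ → Bool) (h : allN 5832 p = true)
    (hp : ∀ n < 5832, p n = true → P (dec n)) (x : T) : P x := by
  obtain ⟨n, hn, rfl⟩ := exists_dec x
  exact hp n hn (allN_spec h n hn)

theorem card_T : Nat.card T = 5832 := by
  rw [← Nat.card_congr (Equiv.ofBijective _ dec_bij), Nat.card_fin]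

end CfsgLib.O8Three
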