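import Cfsg.Agent.O8Three.IndexThree
import Cfsg.Agent.O8Three.CentA
import Cfsg.Agent.KGroup.CharP
import Cfsg.Agent.S3345

/-!
# The finish: from the centralizer of the involution to the conclusion

The subgroup of index three (or six) is generated by its elements of odd order, contains an element
inverting the abelian group of order 81, has trivial centralizer and the involution is not central
modulo its odd core. With the structure of the centralizer of the involution this is the recognition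
of the orthogonal group.
-/

set_option autoImplicit false
set_option maxRecDepth 100000
set_option linter.style.haveILetI false
set_option linter.unusedSectionVars false

namespace CfsgLib.O8Three

open CfsgLib.PSpFourInvol (S sm si)
open Subgroup

universe u

theorem gen_three : ∀ g : S, ∃ a b c : S, sm (sm a a) a = 0 ∧ sm (sm b b) b = 0 ∧
    sm (sm c c) c = 0 ∧ g = sm (sm a b) c := by decide +kernel

theorem centre_check : allN 5832 (fun x =>
    !((x % 24 == 0 || x % 24 == 10 || x % 24 == 13) && x / 72 % 81 / 9 % 3 == 0 &&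
      commN x (mk 0 3 0) && commN x (mk 0 1 0) && commN x (mk 0 0 10)) ||
    x == jN (vN (x / 24) (x / 72 % 81 / 27) 0 0)) = true := by decide +kernel

theorem centre_P {x : T} (hS : inS x = true) (hb : x.v.b = 0) (h1 : x * m1T = m1T * x)
    (h2 : x * m2T = m2T * x) (h3 : x * xT = xT * x) : ∃ c a : ZMod 3, x = jT ⟨c, a, 0, 0⟩ := by
  obtain ⟨n, hn, rfl⟩ := exists_dec x
  obtain ⟨-, e2, -, e4, -, e6, -⟩ := gens_dec
  rw [← e2] at h1
  rw [← e4] at h2
  rw [← e6] at h3
  have hS' : (n % 24 == 0 || n % 24 == 10 || n % 24 == 13) = true := by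
    have : ∀ g : S, (g == 0 || g == 10 || g == sm 10 10) = (g.val == 0 || g.val == 10 || g.val == 13) := by
      decide +kernel
    exact (this _).symm.trans hS
  have hb' : (n / 72 % 81 / 9 % 3 == 0) = true := by
    have h0 : ((n / 72 % 81 / 9 % 3 : ℕ) : ZMod 3) = 0 := hb
    rw [ZMod.natCast_mod, ZMod.natCast_eq_zero_iff] at h0
    exact beq_iff_eq.2 (Nat.mod_eq_zero_of_dvd h0)
  have h := allN_spec centre_check n hn
  simp only [hS', hb', commN_of h1, commN_of h2, commN_of h3, Bool.and_self, Bool.not_true,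
    Bool.false_or, beq_iff_eq] at h
  refine ⟨(n / 24 : ℕ), (n / 72 % 81 / 27 : ℕ), ?_⟩
  conv_lhs => rw [h, ← jT_dj (vN_lt _ _ _ _), dj_vN]
  simp

theorem neg_product : allN 81 (fun u =>
    ([1, 4, 1, 4, 4, 3, 0, 4, 1, 4, 4, 1] : List ℕ).foldr genN u == vN (2 * (u / 27)) (2 * (u / 9)) (2 * (u / 3)) (2 * u) &&
    ([1, 4, 4, 4, 3, 0] : List ℕ).foldr genN u == u &&
    ([4, 4, 4] : List ℕ).foldr genN u == u) = true := by decide +kernel

theorem neg_product' (v : JV) : apW [1, 4, 1, 4, 4, 3, 0, 4, 1, 4, 4, 1] v = jn v ∧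
    apW ([1, 4] ++ [4, 4, 3, 0]) v = v ∧ apW ([4] ++ [4, 4]) v = v := by
  obtain ⟨u, hu, rfl⟩ := exists_dj v
  have h := allN_spec neg_product u hu
  simp only [Bool.and_eq_true, beq_iff_eq] at h
  refine ⟨?_, ?_, ?_⟩
  · rw [← dj_apN, h.1.1, dj_vN]
    simp only [jn, dj, Nat.cast_mul, Nat.cast_ofNat, ZMod.natCast_mod]
    have two : (2 : ZMod 3) = -1 := rfl
    simp only [two, neg_one_mul]
  · rw [← dj_apN]; simp only [List.cons_append, List.nil_append]; rw [h.1.2]
  · rw [← dj_apN]; simp only [List.cons_append, List.nil_append]; rw [h.2]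

theorem line_z : ∀ c a : ZMod 3, qJ ⟨c, a, 0, 0⟩ = 0 → (⟨c, a, 0, 0⟩ : JV) ≠ j0 →
    (⟨c, a, 0, 0⟩ : JV) = ⟨1, 0, 0, 0⟩ ∨ (⟨c, a, 0, 0⟩ : JV) = jn ⟨1, 0, 0, 0⟩ := by
  decide +kernel

theorem jn_fix : ∀ v : JV, v = jn v → v = j0 := by decide +kernel

theorem tT_m1 : tT * m1T * tT⁻¹ * m1T⁻¹ = m1T := by decide +kernel

/-- A commutator of `y` with an element of order four of the complement. -/
def cT : T := jT ⟨1, 0, 0, 1⟩ * ⟨0, v0, 2⟩ * (jT ⟨1, 0, 0, 1⟩)⁻¹ * (⟨0, v0, 2⟩ : T)⁻¹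

theorem cT_order : cT ^ 12 = 1 ∧ cT ^ 3 ≠ 1 := by decide +kernel

theorem not_dvd_perm : ∀ σ : Equiv.Perm (Fin 3), σ * finRotate 3 = finRotate 3 * σ → σ ^ 3 = 1 := by
  decide +kernel

/-- `Sym(3)³`. -/
abbrev P3 : Type := Equiv.Perm (Fin 3) × Equiv.Perm (Fin 3) × Equiv.Perm (Fin 3)

theorem p3_two_normal (M : Subgroup P3) [M.Normal] (hM : IsPGroup 2 M) : M = ⊥ := by
  rw [eq_bot_iff]
  intro x hx
  have key : ∀ a : P3, a ^ 3 = 1 → x * a = a * x := by
    intro a ha
    have hm : x * a * x⁻¹ * a⁻¹ ∈ M := by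
      have := mul_mem hx ((inferInstance : M.Normal).conj_mem _ (inv_mem hx) a)
      simpa [mul_assoc] using this
    obtain ⟨k, hk⟩ := hM ⟨_, hm⟩
    have h3 : (x * a * x⁻¹ * a⁻¹) ^ 3 = 1 := by
      have : ∀ σ τ : Equiv.Perm (Fin 3), τ ^ 3 = 1 → (σ * τ * σ⁻¹ * τ⁻¹) ^ 3 = 1 := by decide +kernel
      have ha1 : a.1 ^ 3 = 1 := congrArg Prod.fst ha
      have ha2 : a.2.1 ^ 3 = 1 := congrArg (fun q : P3 => q.2.1) ha
      have ha3 : a.2.2 ^ 3 = 1 := congrArg (fun q : P3 => q.2.2) ha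
      exact Prod.ext (this _ _ ha1) (Prod.ext (this _ _ ha2) (this _ _ ha3))
    have h2 : (x * a * x⁻¹ * a⁻¹) ^ 2 ^ k = 1 := congrArg Subtype.val hk
    have h1 := (pow_gcd_eq_one (a := x * a * x⁻¹ * a⁻¹)).2 ⟨h3, h2⟩
    rw [((Nat.coprime_primes Nat.prime_three Nat.prime_two).2 (by norm_num)).pow_right k, pow_one,
      mul_inv_eq_one, mul_inv_eq_iff_eq_mul] at h1
    exact h1
  have h3 : x ^ 3 = 1 := by
    refine Prod.ext ?_ (Prod.ext ?_ ?_)
    · exact not_dvd_perm _ (congrArg Prod.fst (key (finRotate 3, 1, 1) (by decide +kernel)))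
    · exact not_dvd_perm _ (congrArg (fun q : P3 => q.2.1) (key (1, finRotate 3, 1) (by decide +kernel)))
    · exact not_dvd_perm _ (congrArg (fun q : P3 => q.2.2) (key (1, 1, finRotate 3) (by decide +kernel)))
  obtain ⟨k, hk⟩ := hM ⟨x, hx⟩
  have h1 := (pow_gcd_eq_one (a := x)).2 ⟨h3, show x ^ 2 ^ k = 1 from congrArg Subtype.val hk⟩
  rw [((Nat.coprime_primes Nat.prime_three Nat.prime_two).2 (by norm_num)).pow_right k, pow_one] at h1
  exact h1

theorem p3_solvable : Group.IsSolvable P3 := by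
  haveI h : Group.IsSolvable (Equiv.Perm (Fin 3)) := by
    haveI : Group.IsSolvable (alternatingGroup (Fin 3)) :=
      Group.isSolvable_of_comm (by decide +kernel)
    exact Group.isSolvable_of_ker_le_range (alternatingGroup (Fin 3)).subtype Equiv.Perm.sign
      (by rw [range_subtype, alternatingGroup_eq_sign_ker])
  infer_instance

namespace Base

variable {G : Type u} [Group G] (H : Base G)

/-- The centralizer of the involution in `N`: extraspecial of order `2^9` by `Sym(3)³`. -/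
def WData (N : Subgroup G) : Prop :=
  ∃ (K : Subgroup G) (π : ↥(N ⊓ centralizer ({H.t} : Set G)) →* P3),
    Cfsg.IsExtraspecial 2 K ∧ Nat.card K = 2 ^ 9 ∧ K ≤ N ⊓ centralizer ({H.t} : Set G) ∧
      N ⊓ centralizer (K : Set G) ≤ K ∧ Function.Surjective π ∧ ∀ c, π c = 1 ↔ (c : G) ∈ K

/-- The subgroup generated by the elements of odd order of `N`. -/
def oddGen (N : Subgroup G) : Subgroup G := closure {g | g ∈ N ∧ (orderOf g).Coprime 2}

theorem oddGen_le (N : Subgroup G) : oddGen N ≤ N := (closure_le _).2 fun _ h => h.1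

theorem mem_oddGen_of_cube {N : Subgroup G} {g : G} (hg : g ∈ N) (h : g ^ 3 = 1) : g ∈ oddGen N :=
  subset_closure ⟨hg, (Nat.Coprime.coprime_dvd_left (orderOf_dvd_of_pow_eq_one h) (by norm_num))⟩

instance oddGen_normal (N : Subgroup G) [N.Normal] : (oddGen N).Normal := by
  constructor
  intro n hn g
  refine closure_induction (p := fun x _ => g * x * g⁻¹ ∈ oddGen N) ?_ ?_ ?_ ?_ hn
  · intro x hx
    refine subset_closure ⟨(inferInstance : N.Normal).conj_mem x hx.1 g, ?_⟩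
    show (orderOf (MulAut.conj g x)).Coprime 2
    rw [(MulAut.conj g).orderOf_eq]
    exact hx.2
  · simp
  · intro x y _ _ hx hy
    rw [show g * (x * y) * g⁻¹ = g * x * g⁻¹ * (g * y * g⁻¹) by group]
    exact mul_mem hx hy
  · intro x _ hx
    rw [show g * x⁻¹ * g⁻¹ = (g * x * g⁻¹)⁻¹ by group]
    exact inv_mem hx

variable [Finite G]

theorem pResidual_eq_top {N : Subgroup G} (h : N ≤ oddGen N) : Cfsg.pResidual 2 N = ⊤ := by
  refine eq_top_iff.2 fun x _ => ?_
  have hm : oddGen N ≤ (Cfsg.pResidual 2 N).map N.subtype := (closure_le _).2 fun g hg =>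
    ⟨⟨g, hg.1⟩, subset_closure (show (orderOf (⟨g, hg.1⟩ : N)).Coprime 2 by
      rw [← Subgroup.orderOf_coe]; exact hg.2), rfl⟩
  obtain ⟨y, hy, e⟩ := hm (h x.2)
  rwa [← Subtype.ext e]

theorem par_cube {x : T} (h : x * x * x = 1) : H.par x ^ 3 = 1 := by
  rw [← map_pow, pow_succ, pow_two, h, map_one]

theorem par_mem_oddGen {N : Subgroup G} (hpar : ∀ x : T, x.v.b = 0 → H.par x ∈ N) {x : T}
    (hx : x.v.b = 0) : H.par x ∈ oddGen N := by
  have hL : ∀ s : S, sm (sm s s) s = 0 → H.par ⟨0, v0, s⟩ ∈ oddGen N := fun s hs =>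
    mem_oddGen_of_cube (hpar _ rfl) (H.par_cube (by rw [L_mul, L_mul, hs]; rfl))
  obtain ⟨a, b, c, ha, hb, hc, hg⟩ := gen_three x.g
  have e : x = qT x.c x.v * (⟨0, v0, a⟩ * ⟨0, v0, b⟩ * ⟨0, v0, c⟩) := by
    rw [L_mul, L_mul, ← hg]
    refine T.ext ?_ ?_ ?_
    · simp [mul_def, tm, qT, bet, act_zero, v0]
    · simp [mul_def, tm, qT, act_zero, (va_v0 _).1]
    · exact (PSpFourInvol.sm_one _).1.symm
  rw [e, map_mul, map_mul, map_mul]
  exact mul_mem (mem_oddGen_of_cube (hpar _ hx) (by rw [← map_pow, cube_q rfl, map_one]))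
    (mul_mem (mul_mem (hL a ha) (hL b hb)) (hL c hc))

theorem emb_mem_oddGen {N : Subgroup G} (hpar : ∀ x : T, x.v.b = 0 → H.par x ∈ N) (v : JV) :
    H.emb v ∈ oddGen N := H.par_mem_oddGen hpar (x := jT v) rfl

variable {H}

/-- An element of `oddGen N` inverting `J`. -/
theorem Good.exists_neg (hG : H.Good) {N : Subgroup G} [N.Normal]
    (hpar : ∀ x : T, x.v.b = 0 → H.par x ∈ N) : ∃ n ∈ oddGen N, H.Nrm n jn := by
  let Mem : List ℕ → Prop := fun w => ∃ n ∈ oddGen N, H.Nrm n (apW w)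
  have happ : ∀ w w', Mem w → Mem w' → Mem (w ++ w') := by
    rintro w w' ⟨n, hn, hf⟩ ⟨n', hn', hf'⟩
    refine ⟨n * n', mul_mem hn hn', (hf.mul hf').congr fun v => ?_⟩
    show apW w (apW w' v) = apW (w ++ w') v
    simp only [apW, List.foldr_append]
  have h1 : Mem [1] := ⟨H.par m2T, H.par_mem_oddGen hpar rfl, H.nrm_ga⟩
  have hconj : ∀ w w', (∀ v, apW (w ++ w') v = v) → Mem (w ++ [1] ++ w') := by
    intro w w' hid
    obtain ⟨n, hn⟩ := hG.exists_fix w
    obtain ⟨n', hn'⟩ := hG.exists_fix w'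
    obtain ⟨m, hm, hm1⟩ := h1
    have hJ : n * n' ∈ H.J := H.cent_J_le fun v => by
      have h := (hn.mul hn') v
      have e : apW w (apW w' v) = v := by
        have := hid v
        simpa only [apW, List.foldr_append] using this
      simp only [e] at h
      exact mul_inv_eq_iff_eq_mul.1 h
    obtain ⟨j, hj⟩ := H.mem_J.1 hJ
    refine ⟨n * m * n', ?_, ((hn.mul hm1).mul hn').congr fun v => ?_⟩
    · rw [show n * m * n' = n * m * n⁻¹ * (n * n') by group, ← hj]
      exact mul_mem ((inferInstance : (oddGen N).Normal).conj_mem m hm n) (H.emb_mem_oddGen hpar j)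
    · show apW w (apW [1] (apW w' v)) = apW (w ++ [1] ++ w') v
      simp only [apW, List.foldr_append]
  have h := happ _ _ (happ _ _ (hconj [1, 4] [4, 4, 3, 0] fun v => (neg_product' v).2.1)
    (hconj [4] [4, 4] fun v => (neg_product' v).2.2)) h1
  obtain ⟨n, hn, hf⟩ := h
  exact ⟨n, hn, hf.congr fun v => (neg_product' v).1⟩

/-- The Sylow subgroup meets a normal subgroup of index three in order `243`. -/
theorem card_meet (H : Base G) {N : Subgroup G} [N.Normal] (hidx : N.index ∣ 3) (h : ¬ 3 ^ 6 ∣ Nat.card N) :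
    Nat.card (H.SS ⊓ N : Subgroup G) = 243 := by
  haveI : Fact (Nat.Prime 3) := fact_three
  have hp : IsPGroup 3 (H.SS ⊓ N : Subgroup G) :=
    (IsPGroup.of_card (n := 6) (by rw [H.card_SS]; rfl) : IsPGroup 3 H.SS).to_le inf_le_left
  obtain ⟨j, hj⟩ := IsPGroup.iff_card.1 hp
  have h1 : (H.SS ⊓ N : Subgroup G).relIndex H.SS ∣ 3 := by
    rw [inf_relIndex_left]
    exact (relIndex_dvd_index_of_normal N H.SS).trans hidx
  have h2 : Nat.card (H.SS ⊓ N : Subgroup G) * (H.SS ⊓ N : Subgroup G).relIndex H.SS = Nat.card H.SS := by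
    have := card_mul_index ((H.SS ⊓ N).subgroupOf H.SS)
    rwa [Nat.card_congr (subgroupOfEquivOfLe (inf_le_left : H.SS ⊓ N ≤ H.SS)).toEquiv] at this
  rw [H.card_SS, hj] at h2
  have h3 : 729 ∣ 3 ^ (j + 1) := by
    rw [← h2, pow_succ]
    exact Nat.mul_dvd_mul_left _ h1
  have h4 : 6 ≤ j + 1 :=
    (Nat.pow_dvd_pow_iff_le_right (by norm_num : 1 < 3)).1 (show 3 ^ 6 ∣ 3 ^ (j + 1) from h3)
  have h5 : j ≤ 5 := by
    by_contra hc
    refine h ((pow_dvd_pow 3 (by omega : 6 ≤ j)).trans ?_)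
    rw [← hj]
    exact card_dvd_of_le inf_le_right
  rw [hj, show j = 5 by omega]
  rfl

theorem not_six_of_index (H : Base G) {N : Subgroup G} (h3 : 3 ∣ N.index) : ¬ 3 ^ 6 ∣ Nat.card N := fun h =>
  H.not_dvd (by rw [← N.card_mul_index, pow_succ]; exact Nat.mul_dvd_mul h h3)

/-- The subgroup of index three is generated by its elements of odd order. -/
theorem Good.le_oddGen (hG : H.Good) (he : H.ext = false) {N : Subgroup G} [N.Normal]
    (hidx : N.index = 3) (hpar : ∀ x, H.par x ∈ N ↔ x.v.b = 0) : N ≤ oddGen N := by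
  haveI : Fact (Nat.Prime 3) := fact_three
  have hpar' : ∀ x : T, x.v.b = 0 → H.par x ∈ N := fun x hx => (hpar x).2 hx
  set R := oddGen N with hR
  set Q0 := H.SS ⊓ N with hQ0
  have hnd : ¬ 3 ^ 6 ∣ Nat.card N := H.not_six_of_index (by rw [hidx])
  have hQ : Nat.card Q0 = 243 := H.card_meet (by rw [hidx]) hnd
  have hQR : Q0 ≤ R := by
    rintro _ ⟨⟨x, -, rfl⟩, hxN⟩
    exact H.par_mem_oddGen hpar' ((hpar x).1 hxN)
  have hf : (Nat.card R).factorization 3 = 5 := by
    refine le_antisymm ?_ ((Nat.prime_three.pow_dvd_iff_le_factorization Nat.card_pos.ne').1 ?_)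
    · by_contra h
      have h6 : 6 ≤ (Nat.card R).factorization 3 := by omega
      exact hnd (((Nat.prime_three.pow_dvd_iff_le_factorization Nat.card_pos.ne').2 h6).trans
        (card_dvd_of_le (oddGen_le N)))
    · rw [show 3 ^ 5 = Nat.card Q0 by rw [hQ]; norm_num]
      exact card_dvd_of_le hQR
  obtain ⟨n, hnR, hninv⟩ := hG.exists_neg hpar'
  have hnz : n * H.z * n⁻¹ = H.z⁻¹ := by rw [H.emb_zT, hninv, H.emb_jn]
  have hcz : ∀ g ∈ N, g * H.z = H.z * g → g ∈ R := by
    intro g hgN hg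
    obtain ⟨x, hx | hx⟩ := H.mem_cent.1 hg
    · subst hx; exact H.par_mem_oddGen hpar' ((hpar x).1 hgN)
    · rw [H.out_eq he, mul_one] at hx
      subst hx; exact H.par_mem_oddGen hpar' ((hpar x).1 hgN)
  intro g hg
  set Q1 := Q0.map (MulAut.conj g).toMonoidHom with hQ1
  have hQ1R : Q1 ≤ R := by
    rintro _ ⟨q, hq, rfl⟩
    exact (inferInstance : R.Normal).conj_mem q (hQR hq) g
  have hQ1c : Nat.card Q1 = 243 := by
    rw [hQ1, card_map_of_injective (MulAut.conj g).injective, hQ]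
  let P0 : Sylow 3 R := Sylow.ofCard (Q0.subgroupOf R) (by
    rw [hf, Nat.card_congr (subgroupOfEquivOfLe hQR).toEquiv, hQ]; norm_num)
  let P1 : Sylow 3 R := Sylow.ofCard (Q1.subgroupOf R) (by
    rw [hf, Nat.card_congr (subgroupOfEquivOfLe hQ1R).toEquiv, hQ1c]; norm_num)
  obtain ⟨r, hr⟩ := MulAction.exists_smul_eq R P0 P1
  set h := g⁻¹ * (r : G) with hh
  have hle : Q0.map (MulAut.conj h).toMonoidHom ≤ Q0 := by
    rintro _ ⟨q, hq, rfl⟩
    have hm : r * ⟨q, hQR hq⟩ * r⁻¹ ∈ ((r • P0 : Sylow 3 R) : Subgroup R) := by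
      rw [Sylow.coe_subgroup_smul]
      exact smul_mem_pointwise_smul _ (MulAut.conj r) _
        (show (⟨q, hQR hq⟩ : R) ∈ (P0 : Subgroup R) by
          rw [Sylow.coe_ofCard]; exact mem_subgroupOf.2 hq)
    rw [hr, Sylow.coe_ofCard, mem_subgroupOf, hQ1] at hm
    obtain ⟨q', hq', e⟩ := hm
    have e' : g * q' * g⁻¹ = (r : G) * q * (r : G)⁻¹ := e
    show h * q * h⁻¹ ∈ Q0
    have : h * q * h⁻¹ = q' := by
      rw [hh, show g⁻¹ * (r : G) * q * (g⁻¹ * (r : G))⁻¹ = g⁻¹ * ((r : G) * q * (r : G)⁻¹) * g by group,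
        ← e']
      group
    rw [this]; exact hq'
  have heq := eq_of_le_of_card_ge hle
    (le_of_eq (card_map_of_injective (MulAut.conj h).injective).symm)
  have hzQ : H.z ∈ Q0 :=
    ⟨⟨zT, mem_Ssub.2 (by decide), rfl⟩, (hpar zT).2 rfl⟩
  obtain ⟨⟨x, hxS, hx⟩, hxN⟩ := hle (mem_map_of_mem _ hzQ)
  have hcomm : ∀ y : T, inS y = true → y.v.b = 0 → x * y = y * x := by
    intro y hyS hyb
    obtain ⟨q, hq, e⟩ := heq.ge (show H.par y ∈ Q0 from
      ⟨⟨y, hyS, rfl⟩, (hpar y).2 hyb⟩)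
    obtain ⟨q', -, rfl⟩ := hq.1
    refine H.par_comm.1 ?_
    rw [hx, ← e, ← map_mul, ← map_mul, H.par_z]
  have hxb : x.v.b = 0 := (hpar x).1 (hx ▸ hxN)
  obtain ⟨c, a, rfl⟩ := centre_P hxS hxb (hcomm m1T (by decide) rfl) (hcomm m2T (by decide) rfl)
    (hcomm xT (by decide) rfl)
  have hzc : H.ZC ⟨c, a, 0, 0⟩ := ⟨h, Or.inl hx.symm⟩
  obtain ⟨hne, hq⟩ := (hG _).1 hzc
  have ha := line_z
  have hconj : h * H.z * h⁻¹ = H.z ∨ h * H.z * h⁻¹ = H.z⁻¹ := by
    have hx' : h * H.z * h⁻¹ = H.emb ⟨c, a, 0, 0⟩ := hx.symm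
    rcases ha c a hq hne with e | e <;> rw [hx', e]
    · exact Or.inl H.emb_zT.symm
    · exact Or.inr (by rw [H.emb_jn, ← H.emb_zT])
  have hhN : h ∈ N := mul_mem (inv_mem hg) (oddGen_le N r.2)
  have hhR : h ∈ R := by
    rcases hconj with e | e
    · exact hcz h hhN (mul_inv_eq_iff_eq_mul.1 e)
    · have hm := hcz (n * h) (mul_mem (oddGen_le N hnR) hhN) (mul_inv_eq_iff_eq_mul.1 (by
        rw [show n * h * H.z * (n * h)⁻¹ = n * (h * H.z * h⁻¹) * n⁻¹ by group, e,
          show n * H.z⁻¹ * n⁻¹ = (n * H.z * n⁻¹)⁻¹ by group, hnz, inv_inv]))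
      exact (R.mul_mem_cancel_left hnR).1 hm
  rw [show g = (r : G) * h⁻¹ by rw [hh]; group]
  exact mul_mem r.2 (inv_mem hhR)

variable (H)

/-- A subgroup containing `J` and an element inverting it has trivial centralizer. -/
theorem centralizer_eq_bot {N : Subgroup G} (hJ : ∀ v, H.emb v ∈ N) {n : G} (hn : n ∈ N)
    (hinv : H.Nrm n jn) : centralizer (N : Set G) = ⊥ := by
  rw [eq_bot_iff]
  intro c hc
  rw [mem_centralizer_iff] at hc
  have hcJ : c ∈ H.J := H.cent_J_le fun v => (hc _ (hJ v)).symm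
  obtain ⟨v, rfl⟩ := H.mem_J.1 hcJ
  have h1 : H.emb v = H.emb (jn v) := by
    rw [← hinv v, hc n hn, mul_inv_cancel_right]
  rw [mem_bot, jn_fix v (H.emb_inj h1), H.emb_j0]

variable {H}

/-- The involution is not central modulo the odd core. -/
theorem Good.not_central (hG : H.Good) {N : Subgroup G} [N.Normal] (ht : H.t ∈ N)
    (hm : H.par m1T ∈ N) :
    ¬ ∀ g : N, g * ⟨H.t, ht⟩ * g⁻¹ * (⟨H.t, ht⟩ : N)⁻¹ ∈ Cfsg.oddCore N := by
  intro h
  set O := (Cfsg.oddCore N).map N.subtype with hO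
  haveI : (Cfsg.oddCore N).Characteristic := characteristic_iff_map_le.2 fun φ => by
    refine Solvable.le_pPrimeCore 2 ((Solvable.pPrimeCore_normal 2).map φ.toMonoidHom φ.surjective) ?_
    rw [card_map_of_injective φ.injective]
    exact Solvable.coprime_card_pPrimeCore 2
  haveI : O.Normal := ConjAct.normal_of_characteristic_of_normal
  have hodd : (Nat.card O).Coprime 2 := by
    rw [hO, card_map_of_injective N.subtype_injective]
    exact Solvable.coprime_card_pPrimeCore 2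
  have h1 : H.par m1T ∈ O := by
    have h0 := mem_map_of_mem N.subtype (inv_mem (h ⟨_, hm⟩))
    have e : H.par m1T = (H.par m1T * H.t * (H.par m1T)⁻¹ * H.t⁻¹)⁻¹ := by
      conv_lhs => rw [← tT_m1]
      simp only [map_mul, map_inv, t]
      group
    rw [e]
    exact h0
  have hv : H.emb ⟨1, 0, 0, 1⟩ ∈ O := by
    obtain ⟨w, hw⟩ := exists_word ⟨1, 0, 0, 1⟩ (by decide)
    have hrep : (if qJ ⟨1, 0, 0, 1⟩ = 0 then (⟨1, 0, 0, 0⟩ : JV)
        else if qJ ⟨1, 0, 0, 1⟩ = -1 then ⟨0, 1, 0, 0⟩ else ⟨0, 0, 1, 0⟩) = ⟨0, 0, 1, 0⟩ := by decide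
    rw [hrep] at hw
    obtain ⟨n, hn⟩ := hG.exists_fix w
    rw [hw, ← hn]
    refine (inferInstance : O.Normal).conj_mem _ ?_ n
    rw [emb, jT_gens.2]
    exact h1
  have hc : H.par cT ∈ O := by
    rw [cT, map_mul, map_mul, map_mul, map_inv, map_inv, mul_assoc (H.par _), mul_assoc (H.par _)]
    exact mul_mem hv ((inferInstance : O.Normal).conj_mem _ (inv_mem hv) _)
  have hd : orderOf (H.par cT) ∣ 12 :=
    orderOf_dvd_of_pow_eq_one (by rw [← map_pow, cT_order.1, map_one])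
  have hd2 : (orderOf (H.par cT)).Coprime 4 :=
    ((Nat.Coprime.coprime_dvd_left (orderOf_dvd_natCard O hc) hodd).pow_right 2)
  have hd3 : orderOf (H.par cT) ∣ 3 := hd2.dvd_of_dvd_mul_right (n := 4) (by simpa using hd)
  refine cT_order.2 (H.inj ?_)
  rw [map_pow, map_one]
  exact orderOf_dvd_iff_pow_eq_one.1 hd3

/-- The recognition of the orthogonal group in `N`. -/
theorem Good.omega (hG : H.Good) {N : Subgroup G} [N.Normal]
    (hpar : ∀ x : T, x.v.b = 0 → H.par x ∈ N) (hgen : N ≤ oddGen N) (hW : H.WData N) :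
    Nonempty (N ≃* Cfsg.Omega (ZMod 2) (Cfsg.quadFormPlus 4 (ZMod 2))) := by
  classical
  obtain ⟨K, π, hex, hcard, hKle, hcK, hsurj, hker⟩ := hW
  haveI : Fact (Nat.Prime 2) := ⟨Nat.prime_two⟩
  have ht : H.t ∈ N := hpar tT rfl
  have ht2 : orderOf (⟨H.t, ht⟩ : N) = 2 := by
    rw [← Subgroup.orderOf_coe]
    refine orderOf_eq_prime ?_ ?_
    · show H.par tT ^ 2 = 1
      rw [← map_pow, show tT ^ 2 = 1 by decide +kernel, map_one]
    · intro e
      exact absurd (H.inj (e.trans (map_one H.par).symm) : tT = 1) (by decide +kernel)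
  set C : Subgroup N := centralizer ({(⟨H.t, ht⟩ : N)} : Set N) with hC
  have hmem : ∀ c : C, ((c : N) : G) ∈ N ⊓ centralizer ({H.t} : Set G) := fun c =>
    ⟨(c : N).2, mem_centralizer_singleton_iff.2
      (congrArg Subtype.val (mem_centralizer_singleton_iff.1 c.2))⟩
  let π' : C →* P3 := π.comp ((N.subtype.comp C.subtype).codRestrict _ hmem)
  have hker' : ∀ c : C, π' c = 1 ↔ ((c : N) : G) ∈ K := fun c => hker _
  have hsurj' : Function.Surjective π' := fun q => by
    obtain ⟨y, rfl⟩ := hsurj q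
    exact ⟨⟨⟨y, y.2.1⟩, mem_centralizer_singleton_iff.2
      (Subtype.ext (mem_centralizer_singleton_iff.1 y.2.2))⟩, rfl⟩
  have hkp : IsPGroup 2 π'.ker := by
    have hK2 : IsPGroup 2 K := IsPGroup.of_card hcard
    intro c
    obtain ⟨k, hk⟩ := hK2 ⟨_, (hker' c).1 c.2⟩
    refine ⟨k, Subtype.ext (Subtype.ext (Subtype.ext ?_))⟩
    simpa using congrArg Subtype.val hk
  have hcore : Cfsg.pCore 2 C = π'.ker := by
    refine le_antisymm ?_ (Solvable.le_pCore 2 inferInstance hkp)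
    haveI : ((Cfsg.pCore 2 C).map π').Normal :=
      (inferInstance : (Cfsg.pCore 2 C).Normal).map π' hsurj'
    exact (Subgroup.map_eq_bot_iff _).1 (p3_two_normal _ ((Solvable.isPGroup_pCore 2).map π'))
  have hKimage : ∀ y ∈ K, ∃ c : C, ((c : N) : G) = y ∧ c ∈ π'.ker := fun y hy =>
    ⟨⟨⟨y, (hKle hy).1⟩, mem_centralizer_singleton_iff.2
      (Subtype.ext (mem_centralizer_singleton_iff.1 (hKle hy).2))⟩, rfl, (hker' _).2 hy⟩
  have hcc : centralizer (((Cfsg.pCore 2 C).map C.subtype : Subgroup N) : Set N) ≤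
      (Cfsg.pCore 2 C).map C.subtype := by
    intro a ha
    rw [mem_centralizer_iff] at ha
    have haK : (a : G) ∈ K := hcK ⟨a.2, mem_centralizer_iff.2 fun y hy => by
      obtain ⟨c, rfl, hc⟩ := hKimage y hy
      exact congrArg Subtype.val (ha _ ⟨c, hcore ▸ hc, rfl⟩)⟩
    obtain ⟨c, hce, hc⟩ := hKimage _ haK
    exact ⟨c, hcore ▸ hc, Subtype.ext hce⟩
  have hsol : Group.IsSolvable C := by
    haveI := p3_solvable
    haveI : Group.IsNilpotent π'.ker := hkp.isNilpotent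
    exact Group.isSolvable_of_ker_le_range π'.ker.subtype π' (by rw [range_subtype])
  have hprime : Cfsg.pPrimeCore 2 C = ⊥ := by
    rw [eq_bot_iff]
    intro a ha
    have hdis : Disjoint (Cfsg.pPrimeCore 2 C) π'.ker := by
      rw [disjoint_iff]
      refine Subgroup.eq_bot_of_card_eq _ ?_
      obtain ⟨k, hk⟩ := IsPGroup.iff_card.1 (hkp.to_le (inf_le_right : Cfsg.pPrimeCore 2 C ⊓ π'.ker ≤ π'.ker))
      have h1 : (Nat.card (Cfsg.pPrimeCore 2 C ⊓ π'.ker : Subgroup C)).Coprime 2 :=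
        (Solvable.coprime_card_pPrimeCore 2).coprime_dvd_left (card_dvd_of_le inf_le_left)
      rw [hk] at h1 ⊢
      rcases Nat.eq_zero_or_pos k with rfl | hk0
      · rfl
      · exact absurd ((Nat.coprime_pow_left_iff hk0 _ _).1 h1) (by norm_num)
    have hcom : ∀ c ∈ π'.ker, c * a = a * c := fun c hc =>
      (commute_of_normal_of_disjoint _ _ inferInstance inferInstance hdis a c ha hc).eq.symm
    have haK : ((a : N) : G) ∈ K := hcK ⟨(a : N).2, mem_centralizer_iff.2 fun y hy => by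
      obtain ⟨c, rfl, hc⟩ := hKimage y hy
      exact congrArg (fun q : C => ((q : N) : G)) (hcom c hc)⟩
    exact disjoint_iff.1 hdis ▸ ⟨ha, (hker' a).2 haK⟩
  have hFs : Cfsg.generalizedFittingSubgroup C = Cfsg.pCore 2 C :=
    CharP.Fstar_eq_pCore (CharP.layer_eq_bot_of_forall
      (CharP.not_isComponent_of_isSolvable hsol)) hprime
  have heq : (Cfsg.pCore 2 C).map (N.subtype.comp C.subtype) = K := by
    rw [hcore]
    refine le_antisymm ?_ fun y hy => ?_
    · rintro _ ⟨c, hc, rfl⟩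
      exact (hker' c).1 hc
    · obtain ⟨c, hce, hc⟩ := hKimage y hy
      exact ⟨c, hc, hce⟩
  let eK : Cfsg.generalizedFittingSubgroup C ≃* K :=
    ((MulEquiv.subgroupCongr hFs).trans (equivMapOfInjective _ (N.subtype.comp C.subtype)
      (N.subtype_injective.comp C.subtype_injective))).trans (MulEquiv.subgroupCongr heq)
  refine (Cfsg.Agent.S3345.result (pResidual_eq_top hgen) _ ht2 C hC
    (LargeExtra.isExtraspecial_equiv eK.symm hex) ((Nat.card_congr eK.toEquiv).trans hcard)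
    ((QuotientGroup.quotientMulEquivOfEq hcore).trans
      (QuotientGroup.quotientKerEquivOfSurjective π' hsurj')) hcc).resolve_left ?_
  exact hG.not_central ht (hpar m1T rfl)

/-- The conclusion when the centralizer of the involution is smaller. -/
theorem Good.finish_false (hG : H.Good) (he : H.ext = false)
    (hW : ∀ N : Subgroup G, N.Normal → N.index = 3 → (∀ x, H.par x ∈ N ↔ x.v.b = 0) → H.WData N) :
    ∃ N : Subgroup G, N.Normal ∧ Nonempty (N ≃* Cfsg.Omega (ZMod 2) (Cfsg.quadFormPlus 4 (ZMod 2))) ∧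
      centralizer (N : Set G) = ⊥ ∧ (N.index = 3 ∨ N.index = 6) := by
  obtain ⟨N, hN, hidx, hpar⟩ := hG.exists_index_three he
  haveI := hN
  have hpar' : ∀ x : T, x.v.b = 0 → H.par x ∈ N := fun x hx => (hpar x).2 hx
  obtain ⟨n, hn, hinv⟩ := hG.exists_neg hpar'
  exact ⟨N, hN, hG.omega hpar' (hG.le_oddGen he hidx hpar) (hW N hN hidx hpar),
    H.centralizer_eq_bot (fun v => hpar' _ rfl) (oddGen_le N hn) hinv, Or.inl hidx⟩

/-- The standing hypotheses in a subgroup of index two not containing the outer involution. -/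
def restrict (H : Base G) (G0 : Subgroup G) (hidx : G0.index = 2)
    (hpar : ∀ x, H.par x ∈ G0) (hout : H.out ∉ G0) : Base G0 where
  par := H.par.codRestrict G0 hpar
  inj := fun _ _ h => H.inj (congrArg Subtype.val h)
  ext := false
  out := 1
  out_sq := mul_one 1
  out_eq := fun _ => rfl
  out_not := fun h => Bool.noConfusion h
  out_act x := by
    rw [one_mul, mul_one]; rfl
  cover g hg := by
    obtain ⟨x, hx | hx⟩ := H.cover (g : G) (congrArg Subtype.val hg)
    · exact ⟨x, Or.inl (Subtype.ext hx)⟩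
    · exact absurd ((G0.mul_mem_cancel_left (hpar x)).1 (hx ▸ g.2)) hout
  fus := by
    obtain ⟨g, x, hx, hxg, hxv⟩ := H.fus
    by_cases hg : g ∈ G0
    · exact ⟨⟨g, hg⟩, x, Subtype.ext hx, hxg, hxv⟩
    · refine ⟨⟨g * H.out, (mul_mem_iff_of_index_two hidx).2 (iff_of_false hg hout)⟩, x,
        Subtype.ext ?_, hxg, hxv⟩
      show g * H.out * H.z * (g * H.out)⁻¹ = H.par x
      rw [mul_assoc g, H.out_z, show g * (H.z * H.out) * (g * H.out)⁻¹ = g * H.z * g⁻¹ by group]
      exact hx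
  not_dvd := fun h => H.not_dvd (h.trans (card_subgroup_dvd_card G0))

theorem restrict_good {G0 : Subgroup G} (hidx : G0.index = 2) (hpar : ∀ x, H.par x ∈ G0)
    (hout : H.out ∉ G0) (hG : H.Good) : (H.restrict G0 hidx hpar hout).Good := by
  intro v
  rw [← hG v]
  constructor
  · rintro ⟨g, h⟩
    exact ⟨g, h.imp (congrArg Subtype.val) (congrArg Subtype.val)⟩
  · rintro ⟨g, h⟩
    by_cases hg : g ∈ G0
    · exact ⟨⟨g, hg⟩, h.imp (fun e => Subtype.ext e) (fun e => Subtype.ext e)⟩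
    · refine ⟨⟨g * H.out, (mul_mem_iff_of_index_two hidx).2 (iff_of_false hg hout)⟩, ?_⟩
      have e : g * H.out * H.z * (g * H.out)⁻¹ = g * H.z * g⁻¹ := by
        rw [mul_assoc g, H.out_z]; group
      exact h.imp (fun he => Subtype.ext (e.trans he)) (fun he => Subtype.ext (e.trans he))

/-- The conclusion when the centralizer of the involution is larger. -/
theorem Good.finish_true (hG : H.Good) (he : H.ext = true) {G0 : Subgroup G} (hidx : G0.index = 2)
    (hpar0 : ∀ x, H.par x ∈ G0) (hout : H.out ∉ G0)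
    (hW : ∀ N : Subgroup G, N.Normal → N ≤ G0 → N.index = 6 →
      (∀ x, H.par x ∈ N ↔ x.v.b = 0) → H.WData N) :
    ∃ N : Subgroup G, N.Normal ∧ Nonempty (N ≃* Cfsg.Omega (ZMod 2) (Cfsg.quadFormPlus 4 (ZMod 2))) ∧
      centralizer (N : Set G) = ⊥ ∧ (N.index = 3 ∨ N.index = 6) := by
  set H0 := H.restrict G0 hidx hpar0 hout with hH0
  have hG0 : H0.Good := restrict_good hidx hpar0 hout hG
  obtain ⟨M, hM, hMi, hMpar⟩ := hG0.exists_index_three rfl
  haveI := hM
  set N := M.map G0.subtype with hN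
  have hmemN : ∀ y : G0, (y : G) ∈ N ↔ y ∈ M := fun y =>
    ⟨fun ⟨z, hz, e⟩ => Subtype.ext e ▸ hz, fun h => ⟨y, h, rfl⟩⟩
  have hparN : ∀ x, H.par x ∈ N ↔ x.v.b = 0 := fun x =>
    (hmemN ⟨_, hpar0 x⟩).trans (hMpar x)
  have hparN' : ∀ x : T, x.v.b = 0 → H.par x ∈ N := fun x hx => (hparN x).2 hx
  haveI hG0n : G0.Normal := normal_of_index_eq_two hidx
  have hsb : ∀ x : T, (sigB H.ext x).v.b = 0 ↔ x.v.b = 0 := fun x => by
    rw [he]; show -x.v.b = 0 ↔ _; rw [neg_eq_zero]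
  -- the outer involution normalises `N`
  have houtN : ∀ y ∈ N, H.out * y * H.out ∈ N := by
    rintro _ ⟨y, hy, rfl⟩
    have hinv : H.out⁻¹ = H.out := inv_eq_of_mul_eq_one_right H.out_sq
    let σ : G0 →* G0 := ((MulAut.conj H.out).toMonoidHom.comp G0.subtype).codRestrict G0 fun g =>
      hG0n.conj_mem g g.2 H.out
    let ψ : M →* G0 ⧸ M := ((QuotientGroup.mk' M).comp σ).comp M.subtype
    suffices hk : ψ.ker = ⊤ by
      have h1 : (⟨y, hy⟩ : M) ∈ ψ.ker := hk ▸ mem_top _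
      have h2 : σ y ∈ M := (QuotientGroup.eq_one_iff _).1 h1
      have h3 := (hmemN _).2 h2
      rwa [show (σ y : G) = H.out * y * H.out⁻¹ from rfl, hinv] at h3
    have hd : ψ.ker.index ∣ 3 := by
      rw [index_ker, ← hMi, index_eq_card]
      exact card_subgroup_dvd_card _
    rcases (Nat.dvd_prime Nat.prime_three).1 hd with h1 | h3
    · exact index_eq_one.1 h1
    exfalso
    have hM6 : ¬ 3 ^ 6 ∣ Nat.card M := H0.not_six_of_index (by rw [hMi])
    have hQ := H0.card_meet (N := M) (by rw [hMi]) hM6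
    have hle : (H0.SS ⊓ M).subgroupOf M ≤ ψ.ker := by
      intro q hq
      obtain ⟨⟨x, -, hx⟩, hqM⟩ := mem_subgroupOf.1 hq
      refine (QuotientGroup.eq_one_iff _).2 ((hmemN _).1 ?_)
      have hxq : ((q : G0) : G) = H.par x := by rw [← hx]; rfl
      show H.out * ((q : G0) : G) * H.out⁻¹ ∈ N
      rw [hxq, hinv, H.out_act]
      refine hparN' _ ((hsb x).2 ((hparN x).1 ?_))
      rw [← hxq]; exact (hmemN _).2 hqM
    have hq := (card_dvd_of_le hle)
    rw [Nat.card_congr (subgroupOfEquivOfLe inf_le_right).toEquiv, hQ] at hq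
    refine hM6 ?_
    rw [← ψ.ker.card_mul_index, h3]
    exact Nat.mul_dvd_mul_right hq 3
  haveI hNn : N.Normal := by
    constructor
    intro y hy g
    have hG0' : ∀ k ∈ G0, ∀ y ∈ N, k * y * k⁻¹ ∈ N := by
      rintro k hk _ ⟨w, hw, rfl⟩
      exact ⟨⟨k, hk⟩ * w * ⟨k, hk⟩⁻¹, hM.conj_mem w hw _, rfl⟩
    by_cases hg : g ∈ G0
    · exact hG0' g hg y hy
    · have hk : g * H.out ∈ G0 := (mul_mem_iff_of_index_two hidx).2 (iff_of_false hg hout)
      have := hG0' _ hk _ (houtN y hy)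
      rwa [show g * H.out * (H.out * y * H.out) * (g * H.out)⁻¹ =
        g * (H.out * H.out) * y * (g)⁻¹ by group, H.out_sq, mul_one] at this
  have hi : N.index = 6 := by rw [hN, index_map_subtype, hMi, hidx]
  have hgen : N ≤ oddGen N := by
    rintro _ ⟨y, hy, rfl⟩
    have h1 : (oddGen M).map G0.subtype ≤ oddGen N := by
      rw [oddGen, MonoidHom.map_closure]
      refine closure_mono ?_
      rintro _ ⟨w, hw, rfl⟩
      exact ⟨(hmemN w).2 hw.1, by
        show (orderOf (w : G)).Coprime 2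
        rw [Subgroup.orderOf_coe]; exact hw.2⟩
    exact h1 (mem_map_of_mem _ (hG0.le_oddGen rfl hMi hMpar hy))
  obtain ⟨n, hn, hinv⟩ := hG.exists_neg hparN'
  exact ⟨N, hNn, hG.omega hparN' hgen (hW N hNn (map_subtype_le M) hi hparN),
    H.centralizer_eq_bot (fun v => hparN' _ rfl) (oddGen_le N hn) hinv, Or.inr hi⟩

end Base

end CfsgLib.O8Three
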