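import Cfsg.Agent.O8Three.JCode

/-!
# Computed facts on the orthogonal space `J`
-/

set_option autoImplicit false
set_option maxRecDepth 100000

namespace CfsgLib.O8Three

/-- The third translation. -/
def f1J (v : JV) : JV := ⟨v.c - v.a + v.b, v.a + v.k, v.b + v.k, v.k⟩

/-- The fourth translation. -/
def f2J (v : JV) : JV := ⟨v.c, v.a + v.c, v.b + v.c, v.k - v.a + v.b⟩

/-- The five generating maps. -/
def genJ : ℕ → JV → JV
  | 0 => alJ
  | 1 => gaJ
  | 2 => tJ
  | 3 => f1J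
  | 4 => f2J
  | _ => id

/-- The map of a word. -/
def apW (w : List ℕ) (v : JV) : JV := w.foldr genJ v

/-- The five maps on codes. -/
def genN : ℕ → ℕ → ℕ
  | 0, u => vN (u / 27 + u / 9 + u) (u / 9 + 2 * u) (u / 3) u
  | 1, u => vN (u / 27 + 2 * (u / 3) + 2 * u) (u / 9) (u / 3 + 2 * u) u
  | 2, u => vN (u / 27) (u / 9) (2 * (u / 3)) u
  | 3, u => vN (u / 27 + 2 * (u / 9) + u / 3) (u / 9 + u) (u / 3 + u) u
  | 4, u => vN (u / 27) (u / 9 + u / 27) (u / 3 + u / 27) (u + 2 * (u / 9) + u / 3)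
  | _, u => u

theorem dj_genN (i u : ℕ) : dj (genN i u) = genJ i (dj u) := by
  have two : (2 : ZMod 3) = -1 := rfl
  match i with
  | 0 | 1 | 2 | 3 | 4 =>
    simp only [genN, genJ, dj_vN, alJ, gaJ, tJ, f1J, f2J]
    simp only [dj, Nat.cast_add, Nat.cast_mul, Nat.cast_ofNat, ZMod.natCast_mod, two]
    refine JV.ext ?_ ?_ ?_ ?_ <;> simp only <;> ring
  | _ + 5 => rfl

theorem dj_apN (w : List ℕ) (u : ℕ) : dj (w.foldr genN u) = apW w (dj u) := by
  induction w with
  | nil => rfl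
  | cons i w ih =>
    show dj (genN i _) = genJ i (apW w (dj u))
    rw [dj_genN, ih]

/-- The form on codes. -/
def qN (u : ℕ) : ℕ := (u / 27 * (u % 3) + 2 * (u / 9 % 3 * (u / 9 % 3)) + u / 3 % 3 * (u / 3 % 3)) % 3

theorem qJ_dj {u : ℕ} (hu : u < 81) : qJ (dj u) = (qN u : ℕ) := by
  have two : (2 : ZMod 3) = -1 := rfl
  simp only [qN, ZMod.natCast_mod, qJ, dj, Nat.cast_add, Nat.cast_mul, Nat.cast_ofNat, two]
  rw [show ((u / 27 : ℕ) : ZMod 3) = ((u / 27 % 3 : ℕ) : ZMod 3) from (ZMod.natCast_mod _ _).symm]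
  simp only [ZMod.natCast_mod]
  ring

/-- Representatives of the three classes. -/
def repN (q : ℕ) : ℕ := if q = 0 then 27 else if q = 2 then 9 else 3

/-- Words moving the representatives to the vectors. -/
def orbW : List (List ℕ) :=
  [[], [1,4,2,0,4], [1,4,2,4,4], [], [4], [4,4], [2], [2,4], [4,2], [], [4,4], [4], [1,4], [1,4,2,1,4], [0,4,4,2,4], [2,1,4], [4,2,1,4], [4,4,2,1,4], [4,0,4], [1,4,4,3], [0,4], [2,0,4,4], [0,4,2,0,4], [4,2,0,4,4], [0,4,4], [1,4,2,4], [0,4,4,2,1,4], [], [1,4], [1,4,3], [3], [1,4,4,0], [4,4,2,4], [1,2], [4,4,0], [4,2,4,4], [0], [0,4,2,4], [4,1,2], [4], [1,4,3], [1,4], [2,4], [4,3], [0,4,3], [4,0,4,3], [4,2,4], [4,4,3], [2,4,4], [0,4], [4,0], [4,4], [1,4,1], [1,4,0], [4,0,4], [0,4,4], [1,4,2], [1], [4,2,0,4], [0,4,0], [2,1], [2,4,2,0,4], [4,3], [3], [0,4,1], [4,2,1,4,4], [0,4], [0,4,4,3], [0,4,4], [2,0,4], [1,4,4], [4,4,1], [4,0,4,0], [4,1], [4,4,2,0,4], [2,1,4,4], [4,4,3], [4,2,1], [1,4,4], [0,4,4,0],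 [1,4,2,1]]

theorem orb_check : allN 81 (fun u => u == 0 || (orbW.getD u []).foldr genN (repN (qN u)) == u) = true := by
  decide +kernel

theorem dj_inj {u w : ℕ} (hu : u < 81) (hw : w < 81) (h : dj u = dj w) : u = w := by
  simp only [dj, JV.mk.injEq, ZMod.natCast_eq_natCast_iff'] at h
  omega

/-- Every non-zero vector is reached from the representative with the same value of the form. -/
theorem exists_word (v : JV) (hv : v ≠ j0) : ∃ w, v = apW w (if qJ v = 0 then ⟨1, 0, 0, 0⟩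
    else if qJ v = -1 then ⟨0, 1, 0, 0⟩ else ⟨0, 0, 1, 0⟩) := by
  obtain ⟨u, hu, rfl⟩ := exists_dj v
  have h := allN_spec orb_check u hu
  have h0 : (u == 0) = false := by
    rw [beq_eq_false_iff_ne]; rintro rfl; exact hv (by decide)
  rw [h0, Bool.false_or, beq_iff_eq] at h
  refine ⟨orbW.getD u [], ?_⟩
  conv_lhs => rw [← h]
  rw [dj_apN]
  congr 1
  have hlt : qN u < 3 := Nat.mod_lt _ (by norm_num)
  rw [qJ_dj hu]
  generalize qN u = q at hlt
  interval_cases q <;> decide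

/-- The translations fixing the point `(0,1,1,0)`. -/
def fixW (i j : ℕ) : List ℕ := List.replicate i 3 ++ List.replicate j 4

/-- The image of a vector under the linear map with given images of the basis. -/
def linN (z m k u : ℕ) : ℕ :=
  let c := u / 27
  let al := 2 * (u / 9 + u / 3)
  let be := 2 * (u / 9 + 2 * (u / 3))
  vN (c * (z / 27) + be * (m / 27) + u % 3 * (k / 27))
    (c * (z / 9) + al + be * (m / 9) + u % 3 * (k / 9))
    (c * (z / 3) + al + be * (m / 3) + u % 3 * (k / 3))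
    (c * z + be * m + u % 3 * k)

theorem recog_check : allN 81 (fun z => z == 0 || qN z != 0 || qN (vN (z / 27) (z / 9 + 1) (z / 3 + 1) z) != 0 ||
    allN 81 fun k => k == 0 || qN k != 0 || qN (vN (k / 27) (k / 9 + 1) (k / 3 + 1) k) != 0 ||
    allN 81 fun m => m == 0 || qN m != 0 || !(allN 81 fun u => qN u != 0 || qN (linN z m k u) == 0) ||
      !([27, 15, 1].all fun u => linN z m k (linN z m k (linN z m k u)) == u) ||
      (List.range 3).any fun i => (List.range 3).any fun j =>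
        (fixW i j).foldr genN 27 == z && (fixW i j).foldr genN 15 == m && (fixW i j).foldr genN 1 == k) = true := by
  decide +kernel

theorem ja_idem : ∀ p : JV, ja p p = p → p = j0 := by decide +kernel

theorem ja_eq_zero (p q : JV) (h : ja p q = j0) : p = jn q := by
  simp only [ja, j0, JV.mk.injEq] at h
  exact JV.ext (eq_neg_of_add_eq_zero_left h.1) (eq_neg_of_add_eq_zero_left h.2.1)
    (eq_neg_of_add_eq_zero_left h.2.2.1) (eq_neg_of_add_eq_zero_left h.2.2.2)

theorem jv_decomp (v : JV) : ∀ f : JV → JV, (∀ a b, f (ja a b) = ja (f a) (f b)) →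
    f ⟨0, 1, 1, 0⟩ = ⟨0, 1, 1, 0⟩ →
    f v = (⟨v.c * (f ⟨1, 0, 0, 0⟩).c + (-(v.a - v.b)) * (f ⟨0, 1, 2, 0⟩).c + v.k * (f ⟨0, 0, 0, 1⟩).c,
      v.c * (f ⟨1, 0, 0, 0⟩).a + -(v.a + v.b) + (-(v.a - v.b)) * (f ⟨0, 1, 2, 0⟩).a + v.k * (f ⟨0, 0, 0, 1⟩).a,
      v.c * (f ⟨1, 0, 0, 0⟩).b + -(v.a + v.b) + (-(v.a - v.b)) * (f ⟨0, 1, 2, 0⟩).b + v.k * (f ⟨0, 0, 0, 1⟩).b,
      v.c * (f ⟨1, 0, 0, 0⟩).k + (-(v.a - v.b)) * (f ⟨0, 1, 2, 0⟩).k + v.k * (f ⟨0, 0, 0, 1⟩).k⟩ : JV) := by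
  intro f hf hy
  have h3 : ∀ x : ZMod 3, x = 0 ∨ x = 1 ∨ x = -1 := by decide
  have f0 : f j0 = j0 := ja_idem _ (hf j0 j0).symm
  let sc : ZMod 3 → JV → JV := fun r x => ⟨r * x.c, r * x.a, r * x.b, r * x.k⟩
  have hneg : ∀ x, f (jn x) = jn (f x) := fun x => ja_eq_zero _ _ (by
    rw [← hf, show ja (jn x) x = j0 from JV.ext (neg_add_cancel _) (neg_add_cancel _) (neg_add_cancel _)
      (neg_add_cancel _), f0])
  have hsc : ∀ r x, f (sc r x) = sc r (f x) := by
    intro r x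
    rcases h3 r with rfl | rfl | rfl
    · simp only [sc, zero_mul]; exact f0
    · simp only [sc, one_mul]
    · simp only [sc, neg_one_mul]; exact hneg x
  have e : v = ja (ja (sc v.c ⟨1, 0, 0, 0⟩) (sc (-(v.a + v.b)) ⟨0, 1, 1, 0⟩))
      (ja (sc (-(v.a - v.b)) ⟨0, 1, 2, 0⟩) (sc v.k ⟨0, 0, 0, 1⟩)) := by
    have two : (2 : ZMod 3) = -1 := rfl
    have three : (3 : ZMod 3) = 0 := rfl
    refine JV.ext ?_ ?_ ?_ ?_ <;> simp only [sc, ja, two]
    · ring
    · linear_combination v.a * three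
    · linear_combination v.b * three
    · ring
  conv_lhs => rw [e]
  rw [hf, hf, hf, hsc, hsc, hsc, hsc, hy]
  refine JV.ext ?_ ?_ ?_ ?_ <;> simp only [sc, ja] <;> ring

/-- The elements of order three fixing the point and preserving the singular vectors. -/
theorem recog (f : JV → JV) (hf : ∀ a b, f (ja a b) = ja (f a) (f b))
    (hy : f ⟨0, 1, 1, 0⟩ = ⟨0, 1, 1, 0⟩) (hsing : ∀ v, qJ v = 0 → qJ (f v) = 0)
    (hinj : Function.Injective f) (h3 : ∀ v, f (f (f v)) = v) :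
    ∃ i j, i < 3 ∧ j < 3 ∧ f = apW (fixW i j) := by
  obtain ⟨z, hz, ez⟩ := exists_dj (f ⟨1, 0, 0, 0⟩)
  obtain ⟨m, hm, em⟩ := exists_dj (f ⟨0, 1, 2, 0⟩)
  obtain ⟨k, hk, ek⟩ := exists_dj (f ⟨0, 0, 0, 1⟩)
  have key : ∀ u < 81, dj (linN z m k u) = f (dj u) := by
    intro u hu
    rw [jv_decomp (dj u) f hf hy, ← ez, ← em, ← ek]
    have two : (2 : ZMod 3) = -1 := rfl
    simp only [linN, dj_vN]
    simp only [dj, Nat.cast_add, Nat.cast_mul, Nat.cast_ofNat, ZMod.natCast_mod, two]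
    rw [show ((u / 27 : ℕ) : ZMod 3) = ((u / 27 % 3 : ℕ) : ZMod 3) from (ZMod.natCast_mod _ _).symm,
      show ((z / 27 : ℕ) : ZMod 3) = ((z / 27 % 3 : ℕ) : ZMod 3) from (ZMod.natCast_mod _ _).symm,
      show ((m / 27 : ℕ) : ZMod 3) = ((m / 27 % 3 : ℕ) : ZMod 3) from (ZMod.natCast_mod _ _).symm,
      show ((k / 27 : ℕ) : ZMod 3) = ((k / 27 % 3 : ℕ) : ZMod 3) from (ZMod.natCast_mod _ _).symm]
    simp only [ZMod.natCast_mod]
    refine JV.ext ?_ ?_ ?_ ?_ <;> simp only <;> ring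
  have q0 : ∀ u < 81, qJ (dj u) = 0 → qN u = 0 := by
    intro u hu h
    rw [qJ_dj hu, ZMod.natCast_eq_zero_iff] at h
    have : qN u < 3 := Nat.mod_lt _ (by norm_num)
    omega
  have plus : ∀ u < 81, ∀ p, dj u = f p → qJ (ja p ⟨0, 1, 1, 0⟩) = 0 →
      qN (vN (u / 27) (u / 9 + 1) (u / 3 + 1) u) = 0 := by
    intro u hu p hp hq
    refine q0 _ (vN_lt _ _ _ _) ?_
    have e : dj (vN (u / 27) (u / 9 + 1) (u / 3 + 1) u) = f (ja p ⟨0, 1, 1, 0⟩) := by
      rw [hf, hy, ← hp, dj_vN]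
      simp only [ja, dj, Nat.cast_add, Nat.cast_one, ZMod.natCast_mod, add_zero]
    rw [e]; exact hsing _ hq
  have ne0 : ∀ u, ∀ p : JV, dj u = f p → p ≠ j0 → (u == 0) = false := by
    intro u p hp hne
    rw [beq_eq_false_iff_ne]
    rintro rfl
    refine hne (hinj ?_)
    rw [← hp, show dj 0 = j0 from by decide]
    exact (ja_idem _ (hf j0 j0).symm).symm
  have h := allN_spec recog_check z hz
  rw [ne0 z _ ez (by decide), show (qN z != 0) = false by simp [q0 z hz (ez ▸ hsing _ (by decide))],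
    show (qN (vN (z / 27) (z / 9 + 1) (z / 3 + 1) z) != 0) = false by simp [plus z hz _ ez (by decide)]] at h
  simp only [Bool.false_or] at h
  have h := allN_spec h k hk
  rw [ne0 k _ ek (by decide), show (qN k != 0) = false by simp [q0 k hk (ek ▸ hsing _ (by decide))],
    show (qN (vN (k / 27) (k / 9 + 1) (k / 3 + 1) k) != 0) = false by simp [plus k hk _ ek (by decide)]] at h
  simp only [Bool.false_or] at h
  have h := allN_spec h m hm
  have hcube : ([27, 15, 1].all fun u => linN z m k (linN z m k (linN z m k u)) == u) = true := by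
    rw [List.all_eq_true]
    intro u hu
    have hu' : u < 81 := by simp at hu; omega
    rw [beq_iff_eq]
    refine dj_inj (vN_lt _ _ _ _) hu' ?_
    have hl : ∀ w, linN z m k w < 81 := fun w => vN_lt _ _ _ _
    rw [key _ (hl _), key _ (hl _), key _ hu', h3]
  have hpres : (allN 81 fun u => qN u != 0 || qN (linN z m k u) == 0) = true := by
    have : ∀ {n : ℕ} {p : ℕ → Bool}, (∀ i < n, p i = true) → allN n p = true := by
      intro n
      induction n with
      | zero => intro p _; rfl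
      | succ n ih =>
        intro p hp
        simp only [allN, Bool.and_eq_true]
        exact ⟨hp n (by omega), ih fun i hi => hp i (by omega)⟩
    refine this fun u hu => ?_
    by_cases hq : qN u = 0
    · simp only [hq, bne_self_eq_false, Bool.false_or, beq_iff_eq]
      refine q0 _ (vN_lt _ _ _ _) ?_
      rw [key u hu]
      exact hsing _ (by rw [qJ_dj hu, hq, Nat.cast_zero])
    · simp [hq]
  rw [ne0 m _ em (by decide), show (qN m != 0) = false by simp [q0 m hm (em ▸ hsing _ (by decide))], hcube,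
    hpres] at h
  simp only [Bool.not_true, Bool.false_or, List.any_eq_true, List.mem_range, Bool.and_eq_true, beq_iff_eq] at h
  obtain ⟨i, hi, j, hj, ⟨h1, h2⟩, h3'⟩ := h
  refine ⟨i, j, hi, hj, funext fun v => ?_⟩
  have hlin : ∀ (w : List ℕ) (a b : JV), apW w (ja a b) = ja (apW w a) (apW w b) := by
    intro w a b
    induction w with
    | nil => rfl
    | cons l w ih =>
      show genJ l (apW w (ja a b)) = ja (genJ l (apW w a)) (genJ l (apW w b))
      rw [ih]
      match l with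
      | 0 | 1 | 2 | 3 | 4 =>
        simp only [genJ, alJ, gaJ, tJ, f1J, f2J, ja]
        refine JV.ext ?_ ?_ ?_ ?_ <;> simp only <;> ring
      | _ + 5 => rfl
  have hfy : apW (fixW i j) ⟨0, 1, 1, 0⟩ = ⟨0, 1, 1, 0⟩ := by
    interval_cases i <;> interval_cases j <;> decide
  rw [jv_decomp v f hf hy, jv_decomp v _ (hlin _) hfy, ← ez, ← em, ← ek, ← h1, ← h2, ← h3', dj_apN, dj_apN,
    dj_apN]
  rfl

end CfsgLib.O8Three
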