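import Cfsg.Agent.O8Three.Conj
import Cfsg.Agent.O8Three.FusionCode

/-!
# The action of `N(J)` on `J`: the conjugates of `z` are the singular vectors
-/

set_option autoImplicit false
set_option maxRecDepth 100000
set_option linter.style.haveILetI false

namespace CfsgLib.O8Three

theorem alJ_orbit : ∀ v : JV, v.k = 0 → v.a ≠ 0 → qJ v = 0 →
    ∃ i : Fin 3, v = (alJ^[i.1]) ⟨0, 1, 1, 0⟩ ∨ v = (alJ^[i.1]) (tJ ⟨0, 1, 1, 0⟩) ∨
      v = jn ((alJ^[i.1]) ⟨0, 1, 1, 0⟩) ∨ v = jn ((alJ^[i.1]) (tJ ⟨0, 1, 1, 0⟩)) := by decide +kernel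

theorem k_zero_qJ : ∀ v : JV, v.k = 0 →
    (v.a = 0 → v.b = 0 → qJ v = 0) ∧ (v.a ≠ 0 → v.b ≠ 0 → qJ v = 0) := by decide +kernel

theorem k_nonzero_orbit : ∀ v : JV, v.k ≠ 0 → ∃ (i j : Fin 3) (e s : Bool),
    v = cond s (jn ((alJ^[i.1]) ((gaJ^[j.1]) (cond e (tJ ⟨qJ v, 0, 0, 1⟩) ⟨qJ v, 0, 0, 1⟩))))
      ((alJ^[i.1]) ((gaJ^[j.1]) (cond e (tJ ⟨qJ v, 0, 0, 1⟩) ⟨qJ v, 0, 0, 1⟩))) := by decide +kernel

/-- The possible sets of conjugates. -/
def WB (χ : ZMod 3 → Bool) (v : JV) : Bool :=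
  if v.k = 0 then decide (v ≠ j0) && decide (qJ v = 0) else χ (qJ v)

/-- The number of full lines through a point in such a set. -/
def cnt (χ : ZMod 3 → Bool) (p : JV) : ℕ :=
  (Finset.univ.filter fun v => (WB χ v && (WB χ (ja v p) && WB χ (ja v (jn p)))) = true).card

theorem cnt_check : ∀ χ : ZMod 3 → Bool,
    (cnt χ ⟨1, 0, 0, 0⟩ = cnt χ ⟨0, 1, 1, 0⟩ ∨ cnt χ ⟨1, 0, 0, 0⟩ = cnt χ (jn ⟨0, 1, 1, 0⟩)) →
      ∃ L : ZMod 3, χ = fun i => decide (i = L) := by decide +kernel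

theorem theta_jT (L : ZMod 3) (v : JV) : theta L (jT v) = jT ⟨v.c + L * v.k, v.a, v.b, v.k⟩ := by
  have h : ∀ k, chi (xpow k) = k := by decide +kernel
  simp only [theta, jT, h]

theorem theta_sigB (L : ZMod 3) (b : Bool) (x : T) : theta L (sigB b x) = sigB b (theta L x) := by
  cases b <;> rfl

theorem theta_zT (L : ZMod 3) : theta L zT = zT := by
  revert L; decide +kernel

theorem jn_apW (w : List ℕ) (v : JV) : apW w (jn v) = jn (apW w v) := by
  induction w with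
  | nil => rfl
  | cons i w ih =>
    show genJ i (apW w (jn v)) = jn (genJ i (apW w v))
    rw [ih]
    match i with
    | 0 | 1 | 2 | 3 | 4 =>
      simp only [genJ, alJ, gaJ, tJ, f1J, f2J, jn] <;>
        refine JV.ext ?_ ?_ ?_ ?_ <;> simp only <;> ring
    | _ + 5 => rfl

namespace Base

universe u

variable {G : Type u} [Group G] (H : Base G)

/-- `n` acts on `J` as `f`. -/
def Nrm (n : G) (f : JV → JV) : Prop := ∀ v, n * H.emb v * n⁻¹ = H.emb (f v)

/-- The vectors of the conjugates of `z` and of its inverse. -/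
def ZC (v : JV) : Prop := ∃ g : G, g * H.z * g⁻¹ = H.emb v ∨ g * H.z * g⁻¹ = (H.emb v)⁻¹

theorem emb_jn (v : JV) : H.emb (jn v) = (H.emb v)⁻¹ := by rw [emb, (jT_jn v).1, map_inv]; rfl

variable {H}

theorem Nrm.one : H.Nrm 1 id := fun v => by simp

theorem Nrm.mul {m n : G} {f g : JV → JV} (hm : H.Nrm m f) (hn : H.Nrm n g) :
    H.Nrm (m * n) (fun v => f (g v)) := fun v => by
  rw [← hm, ← hn]; group

theorem Nrm.congr {n : G} {f g : JV → JV} (h : H.Nrm n f) (e : ∀ v, f v = g v) : H.Nrm n g :=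
  fun v => (h v).trans (by rw [e])

theorem Nrm.add {n : G} {f : JV → JV} (h : H.Nrm n f) (a b : JV) : f (ja a b) = ja (f a) (f b) :=
  H.emb_inj (by rw [← h, H.emb_ja, H.emb_ja, ← h, ← h]; group)

theorem Nrm.inj {n : G} {f : JV → JV} (h : H.Nrm n f) : Function.Injective f := fun a b e =>
  H.emb_inj (by
    have := (h a).trans ((congrArg H.emb e).trans (h b).symm)
    exact mul_left_cancel (mul_right_cancel this))

theorem Nrm.zc {n : G} {f : JV → JV} (h : H.Nrm n f) (v : JV) : H.ZC (f v) ↔ H.ZC v := by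
  constructor
  · rintro ⟨g, hg⟩
    refine ⟨n⁻¹ * g, ?_⟩
    rcases hg with hg | hg
    · left
      calc n⁻¹ * g * H.z * (n⁻¹ * g)⁻¹ = n⁻¹ * (g * H.z * g⁻¹) * n := by group
        _ = _ := by rw [hg, ← h]; group
    · right
      calc n⁻¹ * g * H.z * (n⁻¹ * g)⁻¹ = n⁻¹ * (g * H.z * g⁻¹) * n := by group
        _ = _ := by rw [hg, ← h]; group
  · rintro ⟨g, hg⟩
    refine ⟨n * g, ?_⟩
    rcases hg with hg | hg
    · left
      calc n * g * H.z * (n * g)⁻¹ = n * (g * H.z * g⁻¹) * n⁻¹ := by group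
        _ = _ := by rw [hg, ← h]
    · right
      calc n * g * H.z * (n * g)⁻¹ = n * (g * H.z * g⁻¹) * n⁻¹ := by group
        _ = _ := by rw [hg, ← h]; group

variable (H)

theorem zc_jn (v : JV) : H.ZC (jn v) ↔ H.ZC v := by
  constructor <;> rintro ⟨g, hg⟩ <;> refine ⟨g, ?_⟩
  · rw [H.emb_jn, inv_inv] at hg; exact hg.symm
  · rw [H.emb_jn, inv_inv]; exact hg.symm

theorem nrm_al : H.Nrm (H.par p2T) alJ := fun v => by
  rw [emb, ← map_inv, ← map_mul, ← map_mul, (conj_gens v).1]; rfl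

theorem nrm_ga : H.Nrm (H.par m2T) gaJ := fun v => by
  rw [emb, ← map_inv, ← map_mul, ← map_mul, (conj_gens v).2.1]; rfl

theorem nrm_t : H.Nrm (H.par tT) tJ := fun v => by
  rw [emb, ← map_inv, ← map_mul, ← map_mul, (conj_gens v).2.2]; rfl

theorem Nrm.iterate {n : G} {f : JV → JV} (h : H.Nrm n f) : ∀ i : ℕ, H.Nrm (n ^ i) (f^[i]) := by
  intro i
  induction i with
  | zero => exact Nrm.one.congr (fun _ => rfl) |> fun e => by simpa using e
  | succ i ih =>
    rw [pow_succ']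
    exact (h.mul ih).congr fun v => (Function.iterate_succ_apply' f i v).symm

theorem zc_k_zero {v : JV} (hk : v.k = 0) (h : H.ZC v) : v ≠ j0 ∧ qJ v = 0 := by
  obtain ⟨g, hg⟩ := h
  have hne : v ≠ j0 := by
    rintro rfl
    have h1 : H.emb j0 = 1 := by rw [emb, jT_j0, map_one]
    rw [h1, inv_one, or_self] at hg
    have : H.z = 1 := by
      calc H.z = g⁻¹ * (g * H.z * g⁻¹) * g := by group
        _ = 1 := by rw [hg]; group
    exact absurd (congrArg T.c (H.inj (this.trans (map_one H.par).symm) : zT = 1))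
      (show (1 : ZMod 3) ≠ 0 by decide)
  refine ⟨hne, ?_⟩
  by_cases hab : v.a = 0 ∧ v.b = 0
  · exact (k_zero_qJ v hk).1 hab.1 hab.2
  have hg' : g * H.z * g⁻¹ = H.par (jT v) ∨ g * H.z * g⁻¹ = H.par (jT (jn v)) := by
    rcases hg with e | e
    · exact Or.inl e
    · exact Or.inr (e.trans (H.emb_jn v).symm)
  have hx : ∀ w : JV, w.k = 0 → (jT w).g = 0 := fun w hw => by
    show xpow w.k = 0
    rw [hw]; decide
  have hv : ∀ w : JV, ¬ (w.a = 0 ∧ w.b = 0) → (jT w).v ≠ v0 := fun w hw e =>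
    hw ⟨congrArg Vec.a e, congrArg Vec.m e⟩
  rcases hg' with e | e
  · obtain ⟨-, ha, hb⟩ := H.dtype e (hx v hk) (hv v hab)
    exact (k_zero_qJ v hk).2 ha (hb.resolve_right (fun h => h rfl))
  · have hk' : (jn v).k = 0 := by show -v.k = 0; rw [hk, neg_zero]
    obtain ⟨-, ha, hb⟩ := H.dtype e (hx _ hk') (hv _ (fun h => hab ⟨neg_eq_zero.1 h.1, neg_eq_zero.1 h.2⟩))
    exact (k_zero_qJ v hk).2 (fun h => ha (neg_eq_zero.2 h))
      (fun h => (hb.resolve_right (fun h => h rfl)) (neg_eq_zero.2 h))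

variable [Finite G]

theorem exists_nrm {n : G} (h : H.J.map (MulAut.conj n).toMonoidHom = H.J) : ∃ f, H.Nrm n f := by
  have : ∀ v, ∃ w, n * H.emb v * n⁻¹ = H.emb w := fun v => by
    have hm : n * H.emb v * n⁻¹ ∈ H.J := by
      rw [← h]
      exact ⟨_, H.mem_J.2 ⟨v, rfl⟩, rfl⟩
    obtain ⟨w, hw⟩ := H.mem_J.1 hm
    exact ⟨w, hw.symm⟩
  choose f hf using this
  exact ⟨f, hf⟩

theorem exists_move_map : ∃ n f, H.Nrm n f ∧ (f ⟨1, 0, 0, 0⟩ = y0 ∨ f ⟨1, 0, 0, 0⟩ = jn y0) := by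
  obtain ⟨n, hn, hz⟩ := H.exists_move
  obtain ⟨f, hf⟩ := H.exists_nrm hn
  refine ⟨n, f, hf, ?_⟩
  rw [H.emb_zT, hf, ← H.emb_jn] at hz
  exact hz.imp (fun e => H.emb_inj e) fun e => H.emb_inj e

theorem zc_z : H.ZC ⟨1, 0, 0, 0⟩ := ⟨1, Or.inl (by rw [← H.emb_zT]; group)⟩

theorem zc_y0 : H.ZC y0 := by
  obtain ⟨n, f, hf, h⟩ := H.exists_move_map
  have h' := (hf.zc _).2 H.zc_z
  rcases h with h | h <;> rw [h] at h'
  · exact h'
  · exact (H.zc_jn _).1 h'

theorem zc_k_zero_iff {v : JV} (hk : v.k = 0) : H.ZC v ↔ v ≠ j0 ∧ qJ v = 0 := by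
  refine ⟨H.zc_k_zero hk, fun ⟨hv, hq⟩ => ?_⟩
  by_cases ha : v.a = 0
  · have hb : v.b = 0 := by
      have : ∀ v : JV, v.k = 0 → v.a = 0 → qJ v = 0 → v.b = 0 := by decide +kernel
      exact this v hk ha hq
    have hc : ∀ c : ZMod 3, c ≠ 0 → c = 1 ∨ c = 2 := by decide
    have hv' : v = ⟨v.c, 0, 0, 0⟩ := JV.ext rfl ha hb hk
    rcases hc v.c (fun h => hv (by rw [hv', h]; rfl)) with h | h <;> rw [hv', h]
    · exact H.zc_z
    · exact (H.zc_jn ⟨1, 0, 0, 0⟩).2 H.zc_z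
  · obtain ⟨i, h | h | h | h⟩ := alJ_orbit v hk ha hq <;> rw [h]
    · exact ((H.nrm_al.iterate H i.1).zc _).2 H.zc_y0
    · exact ((H.nrm_al.iterate H i.1).zc _).2 ((H.nrm_t.zc _).2 H.zc_y0)
    · exact (H.zc_jn _).2 (((H.nrm_al.iterate H i.1).zc _).2 H.zc_y0)
    · exact (H.zc_jn _).2 (((H.nrm_al.iterate H i.1).zc _).2 ((H.nrm_t.zc _).2 H.zc_y0))

theorem zc_level (v : JV) (hk : v.k ≠ 0) : H.ZC v ↔ H.ZC ⟨qJ v, 0, 0, 1⟩ := by
  obtain ⟨i, j, e, s, h⟩ := k_nonzero_orbit v hk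
  conv_lhs => rw [h]
  have h1 : ∀ w, H.ZC ((alJ^[i.1]) ((gaJ^[j.1]) w)) ↔ H.ZC w := fun w =>
    (((H.nrm_al.iterate H i.1).zc _).trans ((H.nrm_ga.iterate H j.1).zc _))
  cases s <;> cases e <;> simp only [cond_true, cond_false] <;>
    first
    | exact h1 _
    | exact (h1 _).trans (H.nrm_t.zc _)
    | exact (H.zc_jn _).trans (h1 _)
    | exact (H.zc_jn _).trans ((h1 _).trans (H.nrm_t.zc _))

/-- The twisted parametrisation. -/
def twist (L : ZMod 3) : Base G where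
  par := H.par.comp (MonoidHom.mk' (theta L) (theta_mul L))
  inj := H.inj.comp (theta_bij L).1
  ext := H.ext
  out := H.out
  out_sq := H.out_sq
  out_eq := H.out_eq
  out_not he x := H.out_not he _
  out_act x := by
    show H.out * H.par (theta L x) * H.out = H.par (theta L (sigB H.ext x))
    rw [H.out_act, theta_sigB]
  cover g hg := by
    have hg' : g * H.par zT = H.par zT * g := by
      have e : theta L zT = zT := theta_zT L
      rw [MonoidHom.comp_apply, MonoidHom.mk'_apply, e] at hg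
      exact hg
    obtain ⟨x, hx⟩ := H.cover g hg'
    obtain ⟨y, rfl⟩ := (theta_bij L).2 x
    exact ⟨y, hx⟩
  fus := by
    obtain ⟨g, x, hx, hxg, hxv⟩ := H.fus
    obtain ⟨y, rfl⟩ := (theta_bij L).2 x
    refine ⟨g, y, ?_, hxg, hxv⟩
    show g * H.par (theta L zT) * g⁻¹ = _
    rw [theta_zT]
    exact hx
  not_dvd := H.not_dvd

/-- The conjugates of `z` in `J` are the singular vectors. -/
def Good : Prop := ∀ v, H.ZC v ↔ v ≠ j0 ∧ qJ v = 0

theorem exists_good : ∃ H' : Base G, H'.Good ∧ H'.z = H.z ∧ H'.ext = H.ext ∧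
    (∀ g, (∃ x, H'.par x = g) ↔ ∃ x, H.par x = g) := by
  classical
  let χ : ZMod 3 → Bool := fun i => decide (H.ZC ⟨i, 0, 0, 1⟩)
  have hW : ∀ v, H.ZC v ↔ WB χ v = true := by
    intro v
    by_cases hk : v.k = 0
    · rw [H.zc_k_zero_iff hk]; simp [WB, hk]
    · rw [H.zc_level v hk]; simp [WB, hk, χ]
  obtain ⟨n, f, hf, hz⟩ := H.exists_move_map
  have hb : Function.Bijective f := Finite.injective_iff_bijective.1 hf.inj
  have hjn : ∀ p, f (jn p) = jn (f p) := fun p => H.emb_inj (by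
    rw [← hf, H.emb_jn, H.emb_jn, ← hf]; group)
  have hc : cnt χ ⟨1, 0, 0, 0⟩ = cnt χ (f ⟨1, 0, 0, 0⟩) := by
    have hb' : ∀ w, WB χ (f w) = WB χ w := fun w => by
      rw [Bool.eq_iff_iff, ← hW, ← hW]; exact hf.zc w
    unfold cnt
    refine Finset.card_bij (fun v _ => f v) ?_ (fun a _ b _ e => hf.inj e) ?_
    · intro a ha
      simp only [Finset.mem_filter, Finset.mem_univ, true_and] at ha ⊢
      rwa [← hjn, ← hf.add, ← hf.add, hb', hb', hb']
    · intro b hb''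
      obtain ⟨a, rfl⟩ := hb.2 b
      simp only [Finset.mem_filter, Finset.mem_univ, true_and] at hb''
      rw [← hjn, ← hf.add, ← hf.add, hb', hb', hb'] at hb''
      exact ⟨a, by simp only [Finset.mem_filter, Finset.mem_univ, true_and]; exact hb'', rfl⟩
  obtain ⟨L, hL⟩ := cnt_check χ (by
    rcases hz with e | e <;> rw [e] at hc
    · exact Or.inl hc
    · exact Or.inr hc)
  refine ⟨H.twist L, fun v => ?_, ?_, rfl, fun g => ?_⟩
  · have he : ∀ w, (H.twist L).emb w = H.emb ⟨w.c + L * w.k, w.a, w.b, w.k⟩ := fun w => by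
      show H.par (theta L (jT w)) = _
      rw [theta_jT]; rfl
    have hzc : (H.twist L).ZC v ↔ H.ZC ⟨v.c + L * v.k, v.a, v.b, v.k⟩ := by
      unfold ZC
      have : (H.twist L).z = H.z := by show H.par (theta L zT) = _; rw [theta_zT]; rfl
      rw [this, he]
    rw [hzc, hW]
    by_cases hk : v.k = 0
    · have : (⟨v.c + L * v.k, v.a, v.b, v.k⟩ : JV) = v := JV.ext (by simp [hk]) rfl rfl rfl
      rw [this]; simp [WB, hk]
    · have hne : v ≠ j0 := fun h => hk (h ▸ rfl)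
      simp only [WB, hk, if_false, hL, decide_eq_true_eq, ne_eq, hne, not_false_eq_true, true_and]
      have hsq : ∀ k : ZMod 3, k ≠ 0 → k * k = 1 := by decide
      have e : qJ ⟨v.c + L * v.k, v.a, v.b, v.k⟩ = qJ v + L := by
        simp only [qJ]
        linear_combination L * hsq v.k hk
      show qJ ⟨v.c + L * v.k, v.a, v.b, v.k⟩ = L ↔ _
      rw [e]
      exact add_eq_right
  · show H.par (theta L zT) = _
    rw [theta_zT]; rfl
  · constructor
    · rintro ⟨x, rfl⟩; exact ⟨theta L x, rfl⟩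
    · rintro ⟨x, rfl⟩
      obtain ⟨y, rfl⟩ := (theta_bij L).2 x
      exact ⟨y, rfl⟩

variable {H}

theorem Good.exists_fix (hG : H.Good) : ∀ w : List ℕ, ∃ n, H.Nrm n (apW w) := by
  obtain ⟨n, f, hf, hz⟩ := H.exists_move_map
  have hgen : ∀ i : ℕ, ∃ n, H.Nrm n (genJ i) := by
    have hcom : ∀ v, alJ (gaJ v) = gaJ (alJ v) := by decide +kernel
    have h3a : ∀ v, alJ (alJ (alJ v)) = v := by decide +kernel
    have h3g : ∀ v, gaJ (gaJ (gaJ v)) = v := by decide +kernel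
    have hfix : ∀ v : JV, v = ⟨1, 0, 0, 0⟩ → alJ v = v ∧ gaJ v = v := by rintro _ rfl; decide
    have hb : Function.Bijective f := Finite.injective_iff_bijective.1 hf.inj
    let e := Equiv.ofBijective f hb
    have hninv : H.Nrm n⁻¹ e.symm := fun v => by
      have h2 := hf (e.symm v)
      rw [show f (e.symm v) = v from e.apply_symm_apply v] at h2
      rw [← h2]; group
    -- the conjugates of the translations
    let F : Fin 3 → Fin 3 → JV → JV := fun i j v => f ((alJ^[i.1]) ((gaJ^[j.1]) (e.symm v)))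
    have hFn : ∀ i j, ∃ m, H.Nrm m (F i j) := fun i j =>
      ⟨_, hf.mul ((H.nrm_al.iterate H i.1).mul ((H.nrm_ga.iterate H j.1).mul hninv))⟩
    have hcases : ∀ i j : Fin 3, ∃ a b, a < 3 ∧ b < 3 ∧ F i j = apW (fixW a b) := by
      intro i j
      obtain ⟨m, hm⟩ := hFn i j
      have hjn : ∀ p, f (jn p) = jn (f p) := fun p => H.emb_inj (by
        rw [← hf, H.emb_jn, H.emb_jn, ← hf]; group)
      have hij : ∀ p : JV, alJ p = p → gaJ p = p → (alJ^[i.1]) ((gaJ^[j.1]) p) = p := fun p ha hg => by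
        rw [Function.iterate_fixed hg, Function.iterate_fixed ha]
      refine recog (F i j) hm.add ?_ (fun v hv => ?_) hm.inj (fun v => ?_)
      · obtain ⟨p, hp, hpfix⟩ : ∃ p, f p = y0 ∧ alJ p = p ∧ gaJ p = p := by
          rcases hz with h | h
          · exact ⟨_, h, hfix _ rfl⟩
          · refine ⟨jn ⟨1, 0, 0, 0⟩, by rw [hjn, h]; decide, by decide, by decide⟩
        show f _ = _
        rw [show e.symm ⟨0, 1, 1, 0⟩ = p from e.injective (by rw [e.apply_symm_apply]; exact hp.symm),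
          hij p hpfix.1 hpfix.2]
        exact hp
      · by_cases hv0 : v = j0
        · subst hv0
          have : F i j j0 = j0 := ja_idem _ (hm.add j0 j0).symm
          rw [this]; exact hv
        · exact ((hG _).1 ((hm.zc v).2 ((hG v).2 ⟨hv0, hv⟩))).2
      · show f _ = v
        simp only [F]
        rw [show ∀ w, e.symm (f w) = w from e.symm_apply_apply]
        rw [show ∀ w, e.symm (f w) = w from e.symm_apply_apply]
        have key : ∀ w, (alJ^[i.1]) ((gaJ^[j.1]) ((alJ^[i.1]) ((gaJ^[j.1]) ((alJ^[i.1]) ((gaJ^[j.1]) w))))) = w := by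
          have hc' : ∀ (a b : ℕ) w, (gaJ^[b]) ((alJ^[a]) w) = (alJ^[a]) ((gaJ^[b]) w) := fun a b w =>
            (Function.Commute.iterate_iterate (fun x => (hcom x).symm) b a) w
          intro w
          fin_cases i <;> fin_cases j <;> simp only [Function.iterate_zero, Function.iterate_succ,
            Function.comp, id_eq, ← hcom, h3a, h3g]
        rw [key]
        exact e.apply_symm_apply v
    choose a b ha hb' hF using hcases
    have hinjF : Function.Injective fun p : Fin 3 × Fin 3 => (a p.1 p.2, b p.1 p.2) := by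
      intro p q hpq
      simp only [Prod.mk.injEq] at hpq
      have h1 : F p.1 p.2 = F q.1 q.2 := by rw [hF, hF, hpq.1, hpq.2]
      have h2 : ∀ w, (alJ^[p.1.1]) ((gaJ^[p.2.1]) w) = (alJ^[q.1.1]) ((gaJ^[q.2.1]) w) := fun w => by
        have := congrFun h1 (f w)
        simp only [F, show e.symm (f w) = w from e.symm_apply_apply w] at this
        exact hf.inj this
      have h3 : ∀ p q : Fin 3 × Fin 3, (alJ^[p.1.1]) ((gaJ^[p.2.1]) ⟨0, 0, 0, 1⟩) =
          (alJ^[q.1.1]) ((gaJ^[q.2.1]) ⟨0, 0, 0, 1⟩) → p = q := by decide +kernel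
      exact h3 p q (h2 _)
    have hsurj : ∀ s : Fin 3 × Fin 3, ∃ i j, a i j = s.1.1 ∧ b i j = s.2.1 := by
      intro s
      let Φ : Fin 3 × Fin 3 → Fin 3 × Fin 3 := fun p => (⟨a p.1 p.2, ha _ _⟩, ⟨b p.1 p.2, hb' _ _⟩)
      have hΦ : Function.Injective Φ := fun p q h => hinjF (by
        simp only [Φ, Prod.mk.injEq, Fin.mk.injEq] at h
        exact Prod.ext h.1 h.2)
      obtain ⟨⟨i, j⟩, hp⟩ := (Finite.injective_iff_bijective.1 hΦ).2 s
      exact ⟨i, j, congrArg (fun q : Fin 3 × Fin 3 => q.1.1) hp, congrArg (fun q : Fin 3 × Fin 3 => q.2.1) hp⟩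
    intro i
    match i with
    | 0 => exact ⟨_, H.nrm_al⟩
    | 1 => exact ⟨_, H.nrm_ga⟩
    | 2 => exact ⟨_, H.nrm_t⟩
    | 3 =>
      obtain ⟨i, j, h1, h2⟩ := hsurj (1, 0)
      obtain ⟨m, hm⟩ := hFn i j
      rw [hF, h1, h2] at hm
      exact ⟨m, hm.congr fun _ => rfl⟩
    | 4 =>
      obtain ⟨i, j, h1, h2⟩ := hsurj (0, 1)
      obtain ⟨m, hm⟩ := hFn i j
      rw [hF, h1, h2] at hm
      exact ⟨m, hm.congr fun _ => rfl⟩
    | _ + 5 => exact ⟨1, Nrm.one⟩
  intro w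
  induction w with
  | nil => exact ⟨1, Nrm.one⟩
  | cons i w ih =>
    obtain ⟨m, hm⟩ := ih
    obtain ⟨k, hk⟩ := hgen i
    exact ⟨k * m, hk.mul hm⟩

/-- The representative with the same value of the form. -/
def repOf (v : JV) : JV :=
  if qJ v = 0 then ⟨1, 0, 0, 0⟩ else if qJ v = -1 then ⟨0, 1, 0, 0⟩ else ⟨0, 0, 1, 0⟩

/-- `N(J)` is transitive on the non-zero vectors with each value of the form. -/
theorem Good.transitive (hG : H.Good) {v : JV} (hv : v ≠ j0) :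
    ∃ n f, H.Nrm n f ∧ f (repOf v) = v := by
  obtain ⟨w, hw⟩ := exists_word v hv
  obtain ⟨n, hn⟩ := hG.exists_fix w
  exact ⟨n, _, hn, hw.symm⟩

/-- `z` is real. -/
theorem Good.real (hG : H.Good) : ∃ g, g * H.z * g⁻¹ = H.z⁻¹ := by
  obtain ⟨n, f, hf, h⟩ := hG.transitive (v := jn ⟨1, 0, 0, 0⟩) (by decide)
  refine ⟨n, ?_⟩
  rw [H.emb_zT, hf, ← H.emb_jn]
  exact congrArg H.emb h

end Base

end CfsgLib.O8Three
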