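import Cfsg.Agent.O8Three.Local
import Cfsg.Agent.O8Three.TransferCount

/-!
# The normal subgroup of index three
-/

set_option autoImplicit false
set_option maxRecDepth 100000
set_option linter.style.haveILetI false

namespace CfsgLib.O8Three

open CfsgLib.PSpFourInvol (S sm si)

theorem neg_word : ∀ v : JV, apW [4, 0, 4, 3, 0] v = jn v := by decide +kernel

/-- The homomorphism killing everything but the second coordinate. -/
def bHom : T →* Multiplicative (ZMod 3) :=
  MonoidHom.mk' (fun x => Multiplicative.ofAdd x.v.b) fun x y => by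
    show Multiplicative.ofAdd ((x * y).v.b) = _
    rw [← ofAdd_add]
    rfl

/-- The centralizer of `p₂` in the extraspecial group. -/
def Rsub : Subgroup T where
  carrier := {x | x.g = 0 ∧ x.v.a = 0}
  mul_mem' := by
    intro x y hx hy
    refine ⟨g_zero_mul hx.1 hy.1, ?_⟩
    show (va x.v (act x.g y.v)).a = 0
    rw [hx.1, act_zero]
    simp [va, hx.2, hy.2]
  one_mem' := ⟨rfl, rfl⟩
  inv_mem' := by
    intro x hx
    refine ⟨(inv_v hx.1).2, ?_⟩
    rw [(inv_v hx.1).1]
    simp [vn, hx.2]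

theorem Rsub_comm {x : T} (hx : x ∈ Rsub) : x * p2T = p2T * x := by
  refine (qq_comm (y := p2T) hx.1 rfl).2 ?_
  simp [bet, p2T, qT, hx.2]

theorem Rsub_center {x : T} (hx : x.g = 0) (h : ∀ r ∈ Rsub, x * r = r * x) :
    x.v.a = 0 ∧ x.v.m = 0 ∧ x.v.n = 0 := by
  have h1 := (qq_comm (y := p2T) hx rfl).1 (h _ ⟨rfl, rfl⟩)
  have h2 := (qq_comm (y := m1T) hx rfl).1 (h _ ⟨rfl, rfl⟩)
  have h3 := (qq_comm (y := m2T) hx rfl).1 (h _ ⟨rfl, rfl⟩)
  simp [bet, p2T, m1T, m2T, qT] at h1 h2 h3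
  exact ⟨h1, h3, h2⟩

theorem bet_nondeg : ∀ v : Vec, v ≠ v0 → ∃ w : Vec, bet v w ≠ 0 := by decide +kernel

theorem q_decomp : ∀ v : Vec, ∀ c : ZMod 3, ∃ (j : JV) (i k : Fin 3),
    qT c v = jT j * p2T ^ i.1 * m2T ^ k.1 ∧ (i.1 : ZMod 3) = v.b := by
  intro v c
  refine ⟨⟨c - bet ⟨v.a, 0, v.m, 0⟩ ⟨0, v.b, 0, v.n⟩, v.a, v.m, 0⟩, ⟨v.b.val, ZMod.val_lt _⟩,
    ⟨v.n.val, ZMod.val_lt _⟩, ?_, ?_⟩
  have hp : ∀ r : ZMod 3, p2T ^ r.val = qT 0 ⟨0, r, 0, 0⟩ ∧ m2T ^ r.val = qT 0 ⟨0, 0, 0, r⟩ := by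
    decide +kernel
  rw [(hp v.b).1, (hp v.n).2]
  have h00 : sm 0 0 = 0 := by decide
  simp only [jT, show xpow 0 = 0 from by decide, qT, mul_def, tm, act_zero, h00]
  refine T.ext ?_ ?_ rfl
  · simp only [bet, va]; ring
  · simp [va]
  · exact ZMod.natCast_zmod_val v.b

theorem S_factor : ∀ g : S, ∃ a b : S, sm a b = g ∧ sm (sm a a) (sm a a) = 0 ∧ sm (sm b b) b = 0 := by
  decide +kernel

theorem L_mul (a b : S) : (⟨0, v0, a⟩ : T) * ⟨0, v0, b⟩ = ⟨0, v0, sm a b⟩ := by
  simp only [mul_def, tm, act_v0, (va_v0 _).1]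
  exact T.ext (by simp [bet, v0]) rfl rfl

theorem fact_three : Fact (Nat.Prime 3) := ⟨Nat.prime_three⟩

attribute [local instance] fact_three

namespace Base

universe u

variable {G : Type u} [Group G] (H : Base G)

/-- The normalizer of `⟨z⟩`. -/
def NZ : Subgroup G where
  carrier := {g | g * H.z * g⁻¹ = H.z ∨ g * H.z * g⁻¹ = H.z⁻¹}
  mul_mem' := by
    intro a b ha hb
    have e : a * b * H.z * (a * b)⁻¹ = a * (b * H.z * b⁻¹) * a⁻¹ := by group
    have e' : a * H.z⁻¹ * a⁻¹ = (a * H.z * a⁻¹)⁻¹ := by group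
    show a * b * H.z * (a * b)⁻¹ = _ ∨ a * b * H.z * (a * b)⁻¹ = _
    rw [e]
    rcases hb with hb | hb <;> rw [hb]
    · exact ha
    · rw [e']
      rcases ha with ha | ha <;> rw [ha]
      · exact Or.inr rfl
      · exact Or.inl (inv_inv _)
  one_mem' := Or.inl (by group)
  inv_mem' := by
    intro a ha
    rcases ha with ha | ha
    · left
      calc a⁻¹ * H.z * a⁻¹⁻¹ = a⁻¹ * (a * H.z * a⁻¹) * a := by rw [ha]; group
        _ = _ := by group
    · right
      calc a⁻¹ * H.z * a⁻¹⁻¹ = a⁻¹ * (a * H.z * a⁻¹)⁻¹ * a := by rw [ha]; group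
        _ = _ := by group

theorem par_mem_NZ (x : T) : H.par x ∈ H.NZ := Or.inl (by rw [H.par_z]; group)

/-- The map into the cyclic group of order three. -/
noncomputable def phi : H.SS →* Multiplicative (ZMod 3) :=
  (bHom.comp Ssub.subtype).comp (Subgroup.equivMapOfInjective Ssub H.par H.inj).symm.toMonoidHom

theorem phi_par {x : T} (hx : H.par x ∈ H.SS) : H.phi ⟨H.par x, hx⟩ = bHom x := by
  obtain ⟨y, hy, e⟩ := hx
  have hyx : y = x := H.inj e
  subst hyx
  show bHom ((Subgroup.equivMapOfInjective Ssub H.par H.inj).symm ⟨H.par y, _⟩ : Ssub).1 = bHom y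
  rw [(MulEquiv.symm_apply_eq (Subgroup.equivMapOfInjective Ssub H.par H.inj)).2
    (Subtype.ext (Subgroup.coe_equivMapOfInjective_apply Ssub H.par H.inj ⟨y, hy⟩).symm)]

variable [Finite G]

theorem card_NZ (he : H.ext = false) (hr : ∃ g, g * H.z * g⁻¹ = H.z⁻¹) : Nat.card H.NZ = 2 * 5832 := by
  obtain ⟨i, hi⟩ := hr
  have hzne : H.z ≠ H.z⁻¹ := by
    intro h
    have h1 : zT = zT⁻¹ := H.inj (by rw [map_inv]; exact h)
    exact absurd h1 (by decide +kernel)
  let f : Bool × T → H.NZ := fun p =>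
    ⟨(if p.1 then i else 1) * H.par p.2, mul_mem (by
      cases p.1
      · exact one_mem _
      · exact Or.inr hi) (H.par_mem_NZ _)⟩
  have hb : Function.Bijective f := by
    refine ⟨fun p q h => ?_, fun g => ?_⟩
    · obtain ⟨a, x⟩ := p
      obtain ⟨b, y⟩ := q
      have h' : (if a then i else 1) * H.par x = (if b then i else 1) * H.par y := congrArg Subtype.val h
      have key : ∀ x, (i * H.par x) * H.z * (i * H.par x)⁻¹ = H.z⁻¹ := fun x => by
        rw [← hi, mul_assoc i, H.par_z]; group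
      have key' : ∀ x, H.par x * H.z * (H.par x)⁻¹ = H.z := fun x => by rw [H.par_z]; group
      cases a <;> cases b <;> simp at h' <;> simp
      · exact H.inj h'
      · exfalso
        have := key y
        rw [← h', key' x] at this
        exact hzne this
      · exfalso
        have := key x
        rw [h', key' y] at this
        exact hzne this
      · exact H.inj h'
    · obtain ⟨g, hg⟩ := g
      have hmem : ∀ k : G, k * H.z * k⁻¹ = H.z → ∃ x, k = H.par x := fun k hk => by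
        obtain ⟨x, hx | hx⟩ := H.mem_cent.1 (show k * H.z = H.z * k from mul_inv_eq_iff_eq_mul.1 hk)
        · exact ⟨x, hx⟩
        · exact ⟨x, by rw [hx, H.out_eq he, mul_one]⟩
      rcases hg with h | h
      · obtain ⟨x, hx⟩ := hmem g h
        exact ⟨(false, x), Subtype.ext (by simp [f, hx])⟩
      · obtain ⟨x, hx⟩ := hmem (i⁻¹ * g) (by
          calc i⁻¹ * g * H.z * (i⁻¹ * g)⁻¹ = i⁻¹ * (g * H.z * g⁻¹) * i := by group
            _ = i⁻¹ * (i * H.z * i⁻¹) * i := by rw [h, hi]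
            _ = _ := by group)
        exact ⟨(true, x), Subtype.ext (by simp [f, ← hx])⟩
  rw [← Nat.card_congr (Equiv.ofBijective f hb), Nat.card_prod, card_T]
  simp

theorem not_conj_p2 {g : G} {x : T} (hx : x.g = 0) (hm : x.v.m = 0) (hn : x.v.n = 0) (hv : x.v ≠ v0)
    (hg : g * H.z * g⁻¹ = H.par x) : False := by
  obtain ⟨-, -, h⟩ := H.dtype hg hx hv
  rcases h with h | h
  · exact h hm
  · exact h hn

/-- The elements taking the centralizer of `p₂` into the Sylow subgroup normalise `⟨z⟩`. -/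
theorem carry_mem_NZ {g : G} (h : ∀ r ∈ Rsub, g⁻¹ * H.par r * g ∈ H.SS) : g ∈ H.NZ := by
  have hzR : zT ∈ Rsub := ⟨rfl, rfl⟩
  have key : ∀ x : T, x.g = 0 → x.v = v0 → g⁻¹ * H.z * g = H.par x → g ∈ H.NZ := by
    intro x hxg hxv hx
    have hc : x = qT x.c v0 := T.ext rfl hxv hxg
    have h3 : ∀ r : ZMod 3, r = 0 ∨ r = 1 ∨ r = 2 := by decide
    rw [← H.NZ.inv_mem_iff]
    rcases h3 x.c with e | e | e <;> rw [e] at hc <;> rw [hc] at hx
    · exfalso
      rw [qT_zero.2.2, map_one] at hx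
      have h1 : H.z = 1 := by
        calc H.z = g * (g⁻¹ * H.z * g) * g⁻¹ := by group
          _ = 1 := by rw [hx]; group
      exact absurd (congrArg T.c (H.inj (h1.trans (map_one H.par).symm) : zT = 1))
        (show (1 : ZMod 3) ≠ 0 by decide)
    · left
      rw [qT_zero.1] at hx
      rw [inv_inv]; exact hx
    · right
      rw [show qT 2 v0 = zT⁻¹ from by decide +kernel, map_inv] at hx
      rw [inv_inv]; exact hx
  -- the pulled back group
  set R' := (Rsub.map H.par).map (MulAut.conj g⁻¹).toMonoidHom with hR'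
  have hR'S : R' ≤ H.SS := by
    rintro _ ⟨_, ⟨r, hr, rfl⟩, rfl⟩
    simpa [mul_assoc] using h r hr
  by_cases hz : H.z ∈ R'
  · obtain ⟨_, ⟨x, hx, rfl⟩, e⟩ := hz
    have e' : g * H.z * g⁻¹ = H.par x := by
      rw [← e]; simp [mul_assoc]
    have hc : ∀ r ∈ Rsub, x * r = r * x := by
      intro r hr
      rw [← H.par_comm]
      obtain ⟨y, -, hy⟩ := h r hr
      have hcz := H.par_z y
      rw [hy] at hcz
      rw [← e']
      calc g * H.z * g⁻¹ * H.par r = g * (H.z * (g⁻¹ * H.par r * g)) * g⁻¹ := by group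
        _ = g * (g⁻¹ * H.par r * g * H.z) * g⁻¹ := by rw [hcz]
        _ = _ := by group
    obtain ⟨-, hm, hn⟩ := Rsub_center hx.1 hc
    by_cases hv : x.v = v0
    · have e2 : g⁻¹⁻¹ * H.z * g⁻¹ = H.par x := by rw [inv_inv]; exact e'
      rw [← H.NZ.inv_mem_iff]
      have hcc : x = qT x.c v0 := T.ext rfl hv hx.1
      have h3 : ∀ r : ZMod 3, r = 0 ∨ r = 1 ∨ r = 2 := by decide
      rcases h3 x.c with e3 | e3 | e3 <;> rw [e3] at hcc <;> rw [hcc] at e'
      · exfalso
        rw [qT_zero.2.2, map_one] at e'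
        have h1 : H.z = 1 := by
          calc H.z = g⁻¹ * (g * H.z * g⁻¹) * g := by group
            _ = 1 := by rw [e']; group
        exact absurd (congrArg T.c (H.inj (h1.trans (map_one H.par).symm) : zT = 1))
          (show (1 : ZMod 3) ≠ 0 by decide)
      · exact inv_mem (Or.inl (e'.trans (congrArg H.par qT_zero.1)))
      · exact inv_mem (Or.inr (e'.trans ((congrArg H.par (show qT 2 v0 = zT⁻¹ by decide +kernel)).trans
          (map_inv _ _))))
    · exact (H.not_conj_p2 hx.1 hm hn hv e').elim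
  · -- `z` is outside: the group with `z` is too large
    obtain ⟨y, hy, hye⟩ := h zT hzR
    have hye' : g⁻¹ * H.z * g = H.par y := hye.symm
    obtain ⟨a, ha, hae⟩ := h m1T ⟨rfl, rfl⟩
    obtain ⟨b, hb, hbe⟩ := h m2T ⟨rfl, rfl⟩
    have hm : m1T * m2T = zT * (m2T * m1T) := by decide +kernel
    have hab : a * b = y * (b * a) := H.inj (by
      rw [map_mul, map_mul, map_mul, hae, hbe, hye]
      calc g⁻¹ * H.par m1T * g * (g⁻¹ * H.par m2T * g) = g⁻¹ * H.par (m1T * m2T) * g := by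
            rw [map_mul]; group
        _ = g⁻¹ * H.par (zT * (m2T * m1T)) * g := by rw [hm]
        _ = _ := by rw [map_mul, map_mul]; group)
    have hyg : y.g = 0 := by
      have e2 : y = a * b * (b * a)⁻¹ := by rw [hab]; group
      rw [e2]
      refine g_comm ?_
      have : ∀ s t : S, (s == 0 || s == 10 || s == sm 10 10) = true →
          (t == 0 || t == 10 || t == sm 10 10) = true → sm s t = sm t s := by decide +kernel
      exact this _ _ ha hb
    by_contra hgN
    have hyv : y.v ≠ v0 := fun e0 => hgN (key y hyg e0 hye')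
    -- the centralizer of `y` in the Sylow subgroup
    set D := H.SS ⊓ Subgroup.centralizer {H.par y} with hD
    have hRD : R' ⊔ Subgroup.zpowers H.z ≤ D := by
      refine sup_le ?_ ?_
      · rintro r hr
        refine ⟨hR'S hr, Subgroup.mem_centralizer_singleton_iff.2 ?_⟩
        obtain ⟨_, ⟨q, hq, rfl⟩, rfl⟩ := hr
        rw [← hye']
        simp only [MulEquiv.coe_toMonoidHom, MulAut.conj_apply, inv_inv]
        calc g⁻¹ * H.par q * g * (g⁻¹ * H.z * g) = g⁻¹ * (H.par q * H.z) * g := by group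
          _ = g⁻¹ * (H.z * H.par q) * g := by rw [H.par_z]
          _ = _ := by group
      · rw [Subgroup.zpowers_le]
        exact ⟨⟨zT, (show inS zT = true by decide), rfl⟩,
          Subgroup.mem_centralizer_singleton_iff.2 (H.par_z y).symm⟩
    have hDlt : D < H.SS := by
      refine lt_of_le_of_ne inf_le_left fun e => ?_
      obtain ⟨w, hw⟩ := bet_nondeg y.v hyv
      have hwS : H.par (qT 0 w) ∈ H.SS := ⟨_, (show inS (qT 0 w) = true by rfl), rfl⟩
      rw [← e] at hwS
      exact hw ((qq_comm (y := qT 0 w) hyg rfl).1 (H.par_comm.1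
        (Subgroup.mem_centralizer_singleton_iff.1 hwS.2)).symm)
    have hD243 : Nat.card D ≤ 243 := by
      have h1 : Nat.card D ∣ 729 := H.card_SS ▸ Subgroup.card_dvd_of_le hDlt.le
      have h2 : Nat.card D ≠ 729 := fun e => hDlt.ne (Subgroup.eq_of_le_of_card_ge hDlt.le
        (by rw [e, H.card_SS]))
      obtain ⟨k, hk, e⟩ := (Nat.dvd_prime_pow Nat.prime_three).1 (show Nat.card D ∣ 3 ^ 6 by simpa using h1)
      have : k ≠ 6 := fun e6 => h2 (by rw [e, e6]; norm_num)
      rw [e]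
      exact (Nat.pow_le_pow_right (by norm_num) (by omega : k ≤ 5)).trans (by norm_num)
    have hR81 : Nat.card R' = 81 := by
      rw [hR', ← Nat.card_congr (Subgroup.equivMapOfInjective _ _ (MulAut.conj g⁻¹).injective).toEquiv,
        ← Nat.card_congr (Subgroup.equivMapOfInjective _ _ H.inj).toEquiv]
      let e : Rsub ≃ ZMod 3 × ZMod 3 × ZMod 3 × ZMod 3 :=
        { toFun := fun x => (x.1.c, x.1.v.b, x.1.v.m, x.1.v.n)
          invFun := fun p => ⟨qT p.1 ⟨0, p.2.1, p.2.2.1, p.2.2.2⟩, rfl, rfl⟩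
          left_inv := fun x => Subtype.ext (T.ext rfl (Vec.ext x.2.2.symm rfl rfl rfl) x.2.1.symm)
          right_inv := fun _ => rfl }
      rw [Nat.card_congr e]
      simp
    -- the product is direct, so equal to `D`
    have hz3 : orderOf H.z = 3 := orderOf_eq_prime
      (by rw [pow_succ, pow_two, z, ← map_mul, ← map_mul, show zT * zT * zT = 1 by decide +kernel, map_one])
      (fun e => hz (e ▸ one_mem _))
    have hnorm : ∀ r ∈ R', r * H.z = H.z * r := fun r hr => by
      obtain ⟨x, -, rfl⟩ := hR'S hr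
      exact H.par_z x
    let f : R' × Subgroup.zpowers H.z → D := fun p =>
      ⟨p.1.1 * p.2.1, hRD (mul_mem (Subgroup.mem_sup_left p.1.2) (Subgroup.mem_sup_right p.2.2))⟩
    have hinj : Function.Injective f := by
      rintro ⟨⟨r, hr⟩, ⟨z1, hz1⟩⟩ ⟨⟨r', hr'⟩, ⟨z2, hz2⟩⟩ hpq
      have e : r * z1 = r' * z2 := congrArg Subtype.val hpq
      have e2 : r'⁻¹ * r = z2 * z1⁻¹ := by
        calc r'⁻¹ * r = r'⁻¹ * (r * z1) * z1⁻¹ := by group
          _ = _ := by rw [e]; group
      have hbot : R' ⊓ Subgroup.zpowers H.z = ⊥ := by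
        rw [eq_bot_iff]
        rintro w ⟨hw1, hw2⟩
        by_contra hw
        refine hz ?_
        have hle : Subgroup.zpowers w = Subgroup.zpowers H.z := by
          refine Subgroup.eq_of_le_of_card_ge (Subgroup.zpowers_le.2 hw2) ?_
          rw [Nat.card_zpowers, Nat.card_zpowers, hz3]
          have h3 : orderOf w ∣ 3 := hz3 ▸ orderOf_dvd_of_mem_zpowers hw2
          rcases (Nat.dvd_prime Nat.prime_three).1 h3 with h1 | h1
          · exact absurd (orderOf_eq_one_iff.1 h1) hw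
          · omega
        exact (Subgroup.zpowers_le.2 hw1) (hle ▸ Subgroup.mem_zpowers _)
      have h1 : r'⁻¹ * r ∈ R' ⊓ Subgroup.zpowers H.z :=
        ⟨R'.mul_mem (R'.inv_mem hr') hr, by
          rw [e2]; exact (Subgroup.zpowers H.z).mul_mem hz2 ((Subgroup.zpowers H.z).inv_mem hz1)⟩
      rw [hbot, Subgroup.mem_bot, inv_mul_eq_one] at h1
      subst h1
      have h2 : z1 = z2 := mul_left_cancel e
      subst h2
      rfl
    have hbij : Function.Bijective f := hinj.bijective_of_nat_card_le (by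
      rw [Nat.card_prod, hR81, Nat.card_zpowers, hz3]; exact hD243)
    -- but `z` is a commutator in `D`
    obtain ⟨u1, u2, hu1, hu2, hu⟩ := perp_pair y.v hyv
    have hmemD : ∀ w, bet y.v w = 0 → H.par (qT 0 w) ∈ D := fun w hw =>
      ⟨⟨_, (show inS (qT 0 w) = true by rfl), rfl⟩, Subgroup.mem_centralizer_singleton_iff.2
        (H.par_comm.2 ((qq_comm (y := qT 0 w) hyg rfl).2 hw).symm)⟩
    obtain ⟨⟨r1, z1⟩, e1⟩ := hbij.2 ⟨_, hmemD u1 hu1⟩
    obtain ⟨⟨r2, z2⟩, e2⟩ := hbij.2 ⟨_, hmemD u2 hu2⟩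
    have c1 : Commute (z1 : G) r2 := by
      obtain ⟨k, hk⟩ := Subgroup.mem_zpowers_iff.1 z1.2
      rw [← hk]
      exact ((show Commute (r2 : G) H.z from hnorm _ r2.2).zpow_right k).symm
    have c2 : Commute (z2 : G) r1 := by
      obtain ⟨k, hk⟩ := Subgroup.mem_zpowers_iff.1 z2.2
      rw [← hk]
      exact ((show Commute (r1 : G) H.z from hnorm _ r1.2).zpow_right k).symm
    have c3 : Commute (z1 : G) z2 := by
      obtain ⟨k, hk⟩ := Subgroup.mem_zpowers_iff.1 z1.2
      obtain ⟨l, hl⟩ := Subgroup.mem_zpowers_iff.1 z2.2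
      rw [← hk, ← hl]
      exact Commute.zpow_zpow (Commute.refl _) _ _
    have e1' : (r1 : G) * z1 = H.par (qT 0 u1) := congrArg Subtype.val e1
    have e2' : (r2 : G) * z2 = H.par (qT 0 u2) := congrArg Subtype.val e2
    have hcomm : H.par (qT (bet u1 u2 + bet u1 u2) v0) = (r1 : G) * r2 * (r2 * r1 : G)⁻¹ := by
      have hq : qT (bet u1 u2 + bet u1 u2) v0 = qT 0 u1 * qT 0 u2 * (qT 0 u2 * qT 0 u1)⁻¹ := by
        rw [qT_comm]; group
      rw [hq, map_mul, map_inv, map_mul, map_mul, ← e1', ← e2']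
      have s1 : (r1 : G) * z1 * (r2 * z2) = r1 * r2 * (z1 * z2) := by
        rw [mul_assoc, ← mul_assoc (z1 : G), c1.eq, mul_assoc, ← mul_assoc]
      have s2 : (r2 : G) * z2 * (r1 * z1) = r2 * r1 * (z1 * z2) := by
        rw [mul_assoc, ← mul_assoc (z2 : G), c2.eq, mul_assoc, ← mul_assoc, c3.eq]
      rw [s1, s2]; group
    apply hz
    have hmem : H.par (qT (bet u1 u2 + bet u1 u2) v0) ∈ R' :=
      hcomm ▸ mul_mem (mul_mem r1.2 r2.2) (inv_mem (mul_mem r2.2 r1.2))
    rcases qT_double hu with e | e <;> rw [e] at hmem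
    · exact hmem
    · rw [map_inv] at hmem; exact inv_mem_iff.1 hmem

variable {H}

/-- The subgroup of index three. -/
theorem Good.exists_index_three (hG : H.Good) (he : H.ext = false) :
    ∃ N : Subgroup G, N.Normal ∧ N.index = 3 ∧ ∀ x, H.par x ∈ N ↔ x.v.b = 0 := by
  obtain ⟨i, hi⟩ := hG.exists_fix [4, 0, 4, 3, 0]
  have hineg : H.Nrm i jn := hi.congr neg_word
  have hiz : i * H.z * i⁻¹ = H.z⁻¹ := by
    rw [H.emb_zT, hineg, H.emb_jn]
  have hA : ∀ a : Multiplicative (ZMod 3), a ^ 3 = 1 := by decide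
  have hu3 : H.par p2T ^ 3 = 1 := by rw [← map_pow, cube_q (show p2T.g = 0 from rfl), map_one]
  set R := Rsub.map H.par with hR
  have hRp : IsPGroup 3 R := by
    intro r
    obtain ⟨x, hx, e⟩ := r.2
    refine ⟨1, Subtype.ext ?_⟩
    rw [pow_one, SubgroupClass.coe_pow, ← e, ← map_pow, cube_q hx.1, map_one]; rfl
  have hcomm : ∀ r ∈ R, Commute r (H.par p2T) := by
    rintro _ ⟨x, hx, rfl⟩
    exact H.par_comm.2 (Rsub_comm hx)
  have hSN : H.SS ≤ H.NZ := by
    rintro _ ⟨x, -, rfl⟩; exact H.par_mem_NZ x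
  -- the value of the map on the normalizer
  have hval : ∀ g ∈ H.NZ, ∀ hg : g⁻¹ * H.par p2T * g ∈ H.SS,
      H.phi ⟨_, hg⟩ = Multiplicative.ofAdd (1 : ZMod 3) := by
    intro g hgN hg
    obtain ⟨x, hgx⟩ : ∃ x, g = H.par x ∨ g = i * H.par x := by
      have hmem : ∀ k : G, k * H.z * k⁻¹ = H.z → ∃ x, k = H.par x := fun k hk => by
        obtain ⟨x, hx | hx⟩ := H.mem_cent.1 (show k * H.z = H.z * k from mul_inv_eq_iff_eq_mul.1 hk)
        · exact ⟨x, hx⟩
        · exact ⟨x, by rw [hx, H.out_eq he, mul_one]⟩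
      rcases hgN with h | h
      · obtain ⟨x, hx⟩ := hmem g h; exact ⟨x, Or.inl hx⟩
      · obtain ⟨x, hx⟩ := hmem (i⁻¹ * g) (by
          calc i⁻¹ * g * H.z * (i⁻¹ * g)⁻¹ = i⁻¹ * (g * H.z * g⁻¹) * i := by group
            _ = i⁻¹ * (i * H.z * i⁻¹) * i := by rw [h, hiz]
            _ = _ := by group)
        exact ⟨x, Or.inr (by rw [← hx]; group)⟩
    have hcomm2 : ∀ x y : T, bHom (x⁻¹ * y * x) = bHom y := fun x y => by
      rw [map_mul, map_mul, map_inv, mul_comm _ (bHom x), mul_inv_cancel_left]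
    obtain ⟨y, hy, hby⟩ : ∃ y, g⁻¹ * H.par p2T * g = H.par y ∧ bHom y = Multiplicative.ofAdd (1 : ZMod 3) := by
      rcases hgx with rfl | rfl
      · exact ⟨x⁻¹ * p2T * x, by rw [map_mul, map_mul, map_inv], (hcomm2 _ _).trans rfl⟩
      · -- conjugation by `i` changes `p₂` by an element of `J`
        have hcj : (H.par p2T)⁻¹ * (i⁻¹ * H.par p2T * i) ∈ H.J := by
          refine H.cent_J_le fun v => ?_
          have hal := H.nrm_al
          have hjj : ∀ w, jn (jn w) = w := fun w => by simp [jn]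
          have h1 : i * H.emb v * i⁻¹ = H.emb (jn v) := hineg v
          have h2 : H.par p2T * H.emb (jn v) * (H.par p2T)⁻¹ = H.emb (alJ (jn v)) := hal _
          have h3 : i⁻¹ * H.emb (alJ (jn v)) * i = H.emb (alJ v) := by
            have := hineg (alJ v)
            rw [show jn (alJ v) = alJ (jn v) from by simp only [alJ, jn]; refine JV.ext ?_ ?_ ?_ ?_ <;> simp only <;> ring] at this
            rw [← this]; group
          have h4 : H.par p2T * H.emb v * (H.par p2T)⁻¹ = H.emb (alJ v) := hal _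
          calc (H.par p2T)⁻¹ * (i⁻¹ * H.par p2T * i) * H.emb v
              = (H.par p2T)⁻¹ * (i⁻¹ * (H.par p2T * (i * H.emb v * i⁻¹) * (H.par p2T)⁻¹) * i) *
                  (i⁻¹ * H.par p2T * i) := by group
            _ = (H.par p2T)⁻¹ * (H.par p2T * H.emb v * (H.par p2T)⁻¹) * (i⁻¹ * H.par p2T * i) := by
              rw [h1, h2, h3, h4]
            _ = _ := by group
        obtain ⟨w, hw⟩ := H.mem_J.1 hcj
        refine ⟨x⁻¹ * (p2T * jT w) * x, ?_, ?_⟩
        · rw [map_mul, map_mul, map_mul, map_inv, show H.par (jT w) = H.emb w from rfl, hw]; group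
        · rw [hcomm2, map_mul]; rfl
    have hg' : H.par y ∈ H.SS := hy ▸ hg
    have : H.phi ⟨_, hg⟩ = H.phi ⟨_, hg'⟩ := congrArg H.phi (Subtype.ext hy)
    rw [this, H.phi_par, hby]
  have htr := transfer_eq_pow_relIndex H.phi hA hu3 R hRp hcomm ⟨p2T, ⟨rfl, rfl⟩, rfl⟩ H.NZ
    (by rintro _ ⟨x, -, rfl⟩; exact H.par_mem_NZ x) hSN (Multiplicative.ofAdd (1 : ZMod 3))
    (fun g hg => have hgN := H.carry_mem_NZ fun r hr => hg _ ⟨r, hr, rfl⟩; ⟨hgN, hval g hgN⟩)
  have h16 : H.SS.relIndex H.NZ = 16 := by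
    have := Subgroup.card_mul_index (H.SS.subgroupOf H.NZ)
    rw [Nat.card_congr (Subgroup.subgroupOfEquivOfLe hSN).toEquiv, H.card_SS,
      H.card_NZ he ⟨i, hiz⟩] at this
    show (H.SS.subgroupOf H.NZ).index = 16
    omega
  rw [h16] at htr
  set V := MonoidHom.transfer H.phi with hV
  have hVu : V (H.par p2T) = Multiplicative.ofAdd (1 : ZMod 3) := htr.trans (by decide)
  have hsurj : Function.Surjective V := fun a => by
    refine ⟨H.par p2T ^ (Multiplicative.toAdd a).val, ?_⟩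
    rw [map_pow, hVu]
    revert a; decide
  refine ⟨V.ker, inferInstance, ?_, fun x => ?_⟩
  · rw [Subgroup.index_ker, MonoidHom.range_eq_top.2 hsurj, Subgroup.card_top]
    simp [Nat.card_eq_fintype_card]
  have hsq : ∀ a : Multiplicative (ZMod 3), a⁻¹ = a → a = 1 := by decide
  have hcube : ∀ a : Multiplicative (ZMod 3), a ^ 4 = 1 → a = 1 := by decide
  have hJ : ∀ v, V (H.emb v) = 1 := fun v => hsq _ (by
    rw [← map_inv, ← H.emb_jn, ← hineg, map_mul, map_mul, map_inv, mul_comm, inv_mul_cancel_left])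
  have hm2 : V (H.par m2T) = 1 := hsq _ (by
    rw [← map_inv, ← map_inv, show m2T⁻¹ = tT * m2T * tT⁻¹ from by decide +kernel, map_mul, map_mul,
      map_inv, map_mul, map_mul, map_inv, mul_comm, inv_mul_cancel_left])
  have hL : ∀ s : S, V (H.par ⟨0, v0, s⟩) = 1 := by
    intro s
    obtain ⟨a, b, e, ha, hb⟩ := S_factor s
    rw [← e, ← L_mul, map_mul, map_mul]
    have h1 : V (H.par ⟨0, v0, a⟩) = 1 := hcube _ (by
      rw [← map_pow, ← map_pow, show (4 : ℕ) = 2 + 2 from rfl, pow_add, pow_two, L_mul, L_mul, ha]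
      exact (congrArg V (map_one H.par)).trans (map_one V))
    have h2 : V (H.par ⟨0, v0, b⟩) = 1 := by
      by_cases hb0 : b = 0
      · subst hb0; exact (congrArg V (map_one H.par)).trans (map_one V)
      obtain ⟨h, hh⟩ := to_transvection b hb hb0
      have hx : ∀ c : S, c = 10 ∨ c = 13 → V (H.par ⟨0, v0, c⟩) = 1 := by
        rintro c (rfl | rfl)
        · rw [show (⟨0, v0, 10⟩ : T) = jT ⟨0, 0, 0, 1⟩ by decide +kernel]; exact hJ _
        · rw [show (⟨0, v0, 13⟩ : T) = jT ⟨0, 0, 0, 2⟩ by decide +kernel]; exact hJ _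
      have := hx _ hh
      rw [← L_mul, ← L_mul, map_mul, map_mul, map_mul, map_mul, mul_comm (V (H.par ⟨0, v0, h⟩)), mul_assoc,
        ← map_mul V (H.par ⟨0, v0, h⟩), ← map_mul H.par, L_mul] at this
      have hsi : sm h (si h) = 0 := (show ∀ a : S, sm a (si a) = 0 by decide +kernel) h
      rw [hsi, show (⟨0, v0, 0⟩ : T) = 1 from rfl, map_one, map_one, mul_one] at this
      exact this
    rw [h1, h2, one_mul]
  have hx : x = qT x.c x.v * ⟨0, v0, x.g⟩ := by
    simp only [qT, mul_def, tm, act_v0, act_zero, (va_v0 _).1]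
    refine T.ext ?_ rfl (PSpFourInvol.sm_one _).1.symm
    simp [bet, v0]
  obtain ⟨j, a, k, hq, hi'⟩ := q_decomp x.v x.c
  have hVx : V (H.par x) = Multiplicative.ofAdd (1 : ZMod 3) ^ a.1 := by
    rw [hx, map_mul, map_mul, hL, mul_one, hq, map_mul, map_mul, map_mul, map_mul,
      show H.par (jT j) = H.emb j from rfl, hJ, one_mul, map_pow, map_pow, map_pow, map_pow, hVu, hm2,
      one_pow, mul_one]
  rw [MonoidHom.mem_ker, hVx, ← hi']
  rw [← ofAdd_nsmul, ofAdd_eq_one, nsmul_one]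

end Base

end CfsgLib.O8Three
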