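import Cfsg.Agent.O8Three.Fast

/-!
# Computed facts about the abelian subgroup of order 81 of the model
-/

set_option autoImplicit false
set_option maxRecDepth 100000

namespace CfsgLib.O8Three

open CfsgLib.PSpFourInvol (S sm si)

/-- Coordinates on the abelian subgroup. -/
@[ext] structure JV where
  /-- central coordinate -/
  c : ZMod 3
  /-- first fixed coordinate -/
  a : ZMod 3
  /-- second fixed coordinate -/
  b : ZMod 3
  /-- power of the transvection -/
  k : ZMod 3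
  deriving DecidableEq

/-- The carrier. -/
def JV.equiv : JV ≃ ZMod 3 × ZMod 3 × ZMod 3 × ZMod 3 where
  toFun v := (v.c, v.a, v.b, v.k)
  invFun p := ⟨p.1, p.2.1, p.2.2.1, p.2.2.2⟩
  left_inv _ := rfl
  right_inv _ := rfl

instance : Fintype JV := Fintype.ofEquiv _ JV.equiv.symm

theorem card_JV : Nat.card JV = 81 := by
  rw [Nat.card_eq_fintype_card, Fintype.card_congr JV.equiv]
  simp

/-- Powers of the transvection. -/
def xpow (k : ZMod 3) : S := (![0, 10, 13] : Fin 3 → S) k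

/-- The element with given coordinates. -/
def jT (v : JV) : T := ⟨v.c, ⟨v.a, 0, v.b, 0⟩, xpow v.k⟩

/-- Membership in the abelian subgroup. -/
def inJ (x : T) : Bool := x.v.b == 0 && x.v.n == 0 && inS x

/-- The coordinates of an element. -/
def jC (x : T) : JV := ⟨x.c, x.v.a, x.v.m, chi x.g⟩

/-- The sum. -/
def ja (v w : JV) : JV := ⟨v.c + w.c, v.a + w.a, v.b + w.b, v.k + w.k⟩

/-- The negative. -/
def jn (v : JV) : JV := ⟨-v.c, -v.a, -v.b, -v.k⟩

/-- Zero. -/
def j0 : JV := ⟨0, 0, 0, 0⟩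

/-- The quadratic form. -/
def qJ (v : JV) : ZMod 3 := v.c * v.k - v.a * v.a + v.b * v.b

/-- Decoding. -/
def dj (j : ℕ) : JV := ⟨((j / 27 % 3 : ℕ) : ZMod 3), ((j / 9 % 3 : ℕ) : ZMod 3), ((j / 3 % 3 : ℕ) : ZMod 3), ((j % 3 : ℕ) : ZMod 3)⟩

/-- The code of an element of the abelian group. -/
def jN (j : ℕ) : ℕ := mk (j / 27) (vN (j / 9) 0 (j / 3) 0) (if j % 3 = 0 then 0 else if j % 3 = 1 then 10 else 13)

/-- Membership on codes. -/
def inJN (x : ℕ) : Bool :=
  x / 72 % 81 / 9 % 3 == 0 && x / 72 % 81 % 3 == 0 && (x % 24 == 0 || x % 24 == 10 || x % 24 == 13)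

theorem exists_dj (v : JV) : ∃ j, j < 81 ∧ dj j = v := by
  refine ⟨vN v.c.val v.a.val v.b.val v.k.val, vN_lt _ _ _ _, ?_⟩
  have h := dv_vN v.c.val v.a.val v.b.val v.k.val
  simp only [dv, Vec.mk.injEq] at h
  exact JV.ext (h.1.trans (ZMod.natCast_zmod_val _)) (h.2.1.trans (ZMod.natCast_zmod_val _))
    (h.2.2.1.trans (ZMod.natCast_zmod_val _)) (h.2.2.2.trans (ZMod.natCast_zmod_val _))

theorem dec_jN : allN 81 (fun j => decide (dec (jN j) = jT (dj j))) = true := by decide +kernel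

theorem jT_dj {j : ℕ} (hj : j < 81) : jT (dj j) = dec (jN j) :=
  (of_decide_eq_true (allN_spec dec_jN j hj)).symm

theorem dj_vN (a b c d : ℕ) : dj (vN a b c d) = ⟨a, b, c, d⟩ := by
  have h := dv_vN a b c d
  simp only [dv, Vec.mk.injEq] at h
  exact JV.ext h.1 h.2.1 h.2.2.1 h.2.2.2

theorem jT_ja_check : allN 81 (fun i => allN 81 fun j =>
    jN (vN (i / 27 + j / 27) (i / 9 + j / 9) (i / 3 + j / 3) (i + j)) == mN (jN i) (jN j)) = true := by
  decide +kernel

theorem jT_ja (v w : JV) : jT (ja v w) = jT v * jT w := by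
  obtain ⟨i, hi, rfl⟩ := exists_dj v
  obtain ⟨j, hj, rfl⟩ := exists_dj w
  have e : ja (dj i) (dj j) = dj (vN (i / 27 + j / 27) (i / 9 + j / 9) (i / 3 + j / 3) (i + j)) := by
    rw [dj_vN]
    simp only [ja, dj, Nat.cast_add, ZMod.natCast_mod]
  rw [e, jT_dj (vN_lt _ _ _ _), jT_dj hi, jT_dj hj, ← dec_mN,
    beq_iff_eq.1 (allN_spec (allN_spec jT_ja_check i hi) j hj)]

theorem jC_jT (v : JV) : jC (jT v) = v ∧ inJ (jT v) = true := by
  have h : ∀ k, chi (xpow k) = k ∧ (xpow k == 0 || xpow k == 10 || xpow k == sm 10 10) = true := by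
    decide +kernel
  exact ⟨JV.ext rfl rfl rfl (h v.k).1, by simp only [inJ, inS, jT, (h v.k).2]; rfl⟩

theorem xpow_chi : ∀ g : S, (g == 0 || g == 10 || g == sm 10 10) = true → xpow (chi g) = g := by
  decide +kernel

theorem jT_jC (x : T) (h : inJ x = true) : jT (jC x) = x := by
  simp only [inJ, inS, Bool.and_eq_true, beq_iff_eq] at h
  exact T.ext rfl (Vec.ext rfl h.1.1.symm rfl h.1.2.symm) (xpow_chi _ h.2)

theorem jT_j0 : jT j0 = 1 := by decide +kernel

theorem jT_jn (v : JV) : jT (jn v) = (jT v)⁻¹ ∧ jT v * jT v * jT v = 1 := by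
  have h1 : ja (jn v) v = j0 := JV.ext (neg_add_cancel _) (neg_add_cancel _) (neg_add_cancel _) (neg_add_cancel _)
  have h3 : ∀ x : ZMod 3, x + x + x = 0 := by decide
  have h2 : ja (ja v v) v = j0 := JV.ext (h3 _) (h3 _) (h3 _) (h3 _)
  exact ⟨eq_inv_of_mul_eq_one_left (by rw [← jT_ja, h1, jT_j0]), by rw [← jT_ja, ← jT_ja, h2, jT_j0]⟩

/-- The first generator of the fixed space. -/
def p1T : T := qT 0 ⟨1, 0, 0, 0⟩

/-- The second generator. -/
def m1T : T := qT 0 ⟨0, 0, 1, 0⟩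

/-- The element inducing the first translation. -/
def p2T : T := qT 0 ⟨0, 1, 0, 0⟩

/-- The element inducing the second translation. -/
def m2T : T := qT 0 ⟨0, 0, 0, 1⟩

theorem gens_dec : dec (mk 0 27 0) = p1T ∧ dec (mk 0 3 0) = m1T ∧ dec (mk 0 9 0) = p2T ∧
    dec (mk 0 1 0) = m2T ∧ dec (mk 0 0 1) = tT ∧ dec (mk 0 0 10) = xT ∧ dec (mk 1 0 0) = zT := by
  decide +kernel

theorem inJ_dec : allN 5832 (fun x => inJ (dec x) == inJN x) = true := by decide +kernel

theorem inJ_eq {x : ℕ} (hx : x < 5832) : inJ (dec x) = inJN x :=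
  beq_iff_eq.1 (allN_spec inJ_dec x hx)

/-- Commuting on codes. -/
def commN (x y : ℕ) : Bool := mN x y == mN y x

theorem commN_of {x y : ℕ} (h : dec x * dec y = dec y * dec x) : commN x y = true := by
  rw [← dec_mN, ← dec_mN] at h
  exact beq_iff_eq.2 (dec_inj (mN_lt _ _) (mN_lt _ _) h)

theorem cent_J_check : allN 5832 (fun x => !(commN x (mk 0 27 0) && commN x (mk 0 3 0)) ||
    (!(x % 24 == 0 || x % 24 == 10 || x % 24 == 13) && !commN x (mk 0 0 10)) || inJN x) = true := by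
  decide +kernel

theorem cent_J (x : T) (h1 : x * p1T = p1T * x) (h2 : x * m1T = m1T * x)
    (h3 : inS x = true ∨ x * xT = xT * x) : inJ x = true := by
  obtain ⟨n, hn, rfl⟩ := exists_dec x
  obtain ⟨e1, e2, -, -, -, e6, -⟩ := gens_dec
  rw [← e1] at h1
  rw [← e2] at h2
  have h := allN_spec cent_J_check n hn
  simp only [commN_of h1, commN_of h2, Bool.and_self, Bool.not_true, Bool.false_or, Bool.or_eq_true] at h
  rcases h with h | h
  · exfalso
    simp only [Bool.and_eq_true, Bool.not_eq_true'] at h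
    rcases h3 with h3 | h3
    · have e : inS (dec n) = (n % 24 == 0 || n % 24 == 10 || n % 24 == 13) := by
        have : ∀ g : S, (g == 0 || g == 10 || g == sm 10 10) = (g.val == 0 || g.val == 10 || g.val == 13) := by
          decide +kernel
        exact this _
      rw [e, h.1] at h3
      exact Bool.false_ne_true h3
    · rw [← e6] at h3
      rw [commN_of h3] at h
      exact Bool.false_ne_true h.2.symm
  · rwa [inJ_eq hn]

theorem conj_check : allN 81 (fun j =>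
    mN (mN (mk 0 9 0) (jN j)) (iN (mk 0 9 0)) == jN (vN (j / 27 + j / 9 + j) (j / 9 + 2 * j) (j / 3) j) &&
    mN (mN (mk 0 1 0) (jN j)) (iN (mk 0 1 0)) == jN (vN (j / 27 + 2 * (j / 3) + 2 * j) (j / 9) (j / 3 + 2 * j) j) &&
    mN (mN (mk 0 0 1) (jN j)) (iN (mk 0 0 1)) == jN (vN (j / 27) (j / 9) (2 * (j / 3)) j)) = true := by
  decide +kernel

/-- The first translation. -/
def alJ (v : JV) : JV := ⟨v.c + v.a + v.k, v.a - v.k, v.b, v.k⟩

/-- The second translation. -/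
def gaJ (v : JV) : JV := ⟨v.c - v.b - v.k, v.a, v.b - v.k, v.k⟩

/-- The involution. -/
def tJ (v : JV) : JV := ⟨v.c, v.a, -v.b, v.k⟩

theorem conj_gens (v : JV) : p2T * jT v * p2T⁻¹ = jT (alJ v) ∧ m2T * jT v * m2T⁻¹ = jT (gaJ v) ∧
    tT * jT v * tT⁻¹ = jT (tJ v) := by
  obtain ⟨j, hj, rfl⟩ := exists_dj v
  have h := allN_spec conj_check j hj
  simp only [Bool.and_eq_true, beq_iff_eq] at h
  obtain ⟨-, -, e3, e4, e5, -, -⟩ := gens_dec
  rw [← e3, ← e4, ← e5, jT_dj hj, ← dec_iN (mk_lt _ _ _), ← dec_iN (mk_lt _ _ _), ← dec_iN (mk_lt _ _ _),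
    ← dec_mN, ← dec_mN, ← dec_mN, ← dec_mN, ← dec_mN, ← dec_mN, h.1.1, h.1.2, h.2, ← jT_dj (vN_lt _ _ _ _),
    ← jT_dj (vN_lt _ _ _ _), ← jT_dj (vN_lt _ _ _ _), dj_vN, dj_vN, dj_vN]
  have two : (2 : ZMod 3) = -1 := rfl
  refine ⟨congrArg jT ?_, congrArg jT ?_, congrArg jT ?_⟩ <;>
    simp only [alJ, gaJ, tJ, dj, Nat.cast_add, Nat.cast_mul, Nat.cast_ofNat, ZMod.natCast_mod, two] <;>
    refine JV.ext ?_ ?_ ?_ ?_ <;> ring

end CfsgLib.O8Three
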