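import Cfsg.Agent.O8Three.DCode

/-!
# The abelian subgroup `J` of order 81, the conjugates of `z` in `Q` and an element of `N(J)` moving `z`
-/

set_option autoImplicit false
set_option maxRecDepth 100000
set_option linter.style.haveILetI false

namespace CfsgLib.O8Three

open CfsgLib.PSpFourInvol (S sm si)

/-- The standard Sylow 3-subgroup of the model. -/
def Ssub : Subgroup T where
  carrier := {x | inS x = true}
  mul_mem' := by
    intro x y hx hy
    have : ∀ g h : S, (g == 0 || g == 10 || g == sm 10 10) = true →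
      (h == 0 || h == 10 || h == sm 10 10) = true →
        (sm g h == 0 || sm g h == 10 || sm g h == sm 10 10) = true := by decide +kernel
    exact this _ _ hx hy
  one_mem' := by decide
  inv_mem' := by
    intro x hx
    have : ∀ g : S, (g == 0 || g == 10 || g == sm 10 10) = true →
      (si g == 0 || si g == 10 || si g == sm 10 10) = true := by decide +kernel
    exact this _ hx

theorem mem_Ssub {x : T} : x ∈ Ssub ↔ inS x = true := Iff.rfl

theorem card_Ssub : Nat.card Ssub = 729 := by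
  let e : Ssub ≃ ZMod 3 × Vec × {g : S // (g == 0 || g == 10 || g == sm 10 10) = true} :=
    { toFun := fun x => (x.1.c, x.1.v, ⟨x.1.g, x.2⟩)
      invFun := fun p => ⟨⟨p.1, p.2.1, p.2.2.1⟩, p.2.2.2⟩
      left_inv := fun _ => rfl
      right_inv := fun _ => rfl }
  have h3 : Fintype.card {g : S // (g == 0 || g == 10 || g == sm 10 10) = true} = 3 := by decide +kernel
  rw [Nat.card_congr e, Nat.card_prod, Nat.card_prod, Nat.card_zmod, Nat.card_congr Vec.equiv,
    Nat.card_eq_fintype_card (α := {g : S // _}), h3]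
  simp

/-- The abelian subgroup of order 81. -/
def Jsub : Subgroup T where
  carrier := Set.range jT
  mul_mem' := by
    rintro _ _ ⟨v, rfl⟩ ⟨w, rfl⟩
    exact ⟨ja v w, jT_ja v w⟩
  one_mem' := ⟨j0, jT_j0⟩
  inv_mem' := by
    rintro _ ⟨v, rfl⟩
    exact ⟨jn v, (jT_jn v).1⟩

theorem mem_Jsub {x : T} : x ∈ Jsub ↔ inJ x = true :=
  ⟨fun ⟨v, hv⟩ => hv ▸ (jC_jT v).2, fun h => ⟨_, jT_jC x h⟩⟩

theorem jT_inj : Function.Injective jT :=
  fun v w h => by rw [← (jC_jT v).1, h, (jC_jT w).1]

theorem card_Jsub : Nat.card Jsub = 81 :=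
  (Nat.card_congr (Equiv.ofInjective _ jT_inj).symm).trans card_JV

theorem Jsub_le : Jsub ≤ Ssub := by
  intro x hx
  have := mem_Jsub.1 hx
  simp only [inJ, Bool.and_eq_true] at this
  exact this.2

theorem mul_v (x y : T) : (x * y).v = va x.v (act x.g y.v) := rfl

theorem mul_g (x y : T) : (x * y).g = sm x.g y.g := rfl

theorem comm_vec {x q : T} (hq : q.g = 0) (h : x * q = q * x) :
    va x.v (act x.g q.v) = va q.v x.v := by
  have := congrArg T.v h
  rwa [mul_v, mul_v, hq, act_zero] at this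

theorem va_cancel {a b c : Vec} (h : va a b = va c a) : b = c := by
  simp only [va, Vec.mk.injEq] at h
  exact Vec.ext (by linear_combination h.1) (by linear_combination h.2.1) (by linear_combination h.2.2.1)
    (by linear_combination h.2.2.2)

theorem bet_swap (v w : Vec) : bet w v = -bet v w := by
  simp only [bet]; ring

theorem qq_comm {x y : T} (hx : x.g = 0) (hy : y.g = 0) : x * y = y * x ↔ bet x.v y.v = 0 := by
  have hd : ∀ r : ZMod 3, r = -r → r = 0 := by decide
  simp only [mul_def, tm, hx, hy, act_zero]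
  constructor
  · intro h
    have := congrArg T.c h
    simp only at this
    refine hd _ ?_
    rw [bet_swap x.v y.v] at this
    linear_combination this
  · intro h
    refine T.ext ?_ ?_ rfl
    · simp only; rw [bet_swap x.v y.v, h]; ring
    · simp only [va]
      refine Vec.ext ?_ ?_ ?_ ?_ <;> ring

/-- `J` is the only abelian subgroup of order 81 of the Sylow subgroup. -/
theorem abelian_unique (A : Subgroup T) (hA : A ≤ Ssub) (hc : ∀ x ∈ A, ∀ y ∈ A, x * y = y * x)
    (h81 : Nat.card A = 81) : A = Jsub := by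
  classical
  let F : Finset T := Finset.univ.filter (· ∈ A)
  have hF : F.card = 81 := by
    rw [← h81, Nat.card_eq_fintype_card]
    exact (Fintype.card_subtype _).symm
  have hmem : ∀ {x}, x ∈ F ↔ x ∈ A := by simp [F]
  let F0 := F.filter fun x => x.g = 0
  have him : (F.image T.g).card ≤ 3 := by
    refine (Finset.card_le_card (t := ({0, 10, 13} : Finset S)) ?_).trans Finset.card_le_three
    intro g hg
    obtain ⟨x, hx, rfl⟩ := Finset.mem_image.1 hg
    have := hA (hmem.1 hx)
    rw [mem_Ssub, inS] at this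
    have h13 : sm 10 10 = 13 := by decide
    simp only [h13, Bool.or_eq_true, beq_iff_eq] at this
    simp only [Finset.mem_insert, Finset.mem_singleton]
    tauto
  have h27 : 27 ≤ F0.card := by
    have hfib : ∀ g ∈ F.image T.g, (F.filter fun x => x.g = g).card ≤ F0.card := by
      intro g hg
      obtain ⟨y, hy, rfl⟩ := Finset.mem_image.1 hg
      refine Finset.card_le_card_of_injOn (fun r => y⁻¹ * r) (fun r hr => ?_) (fun _ _ _ _ e => mul_left_cancel e)
      simp only [Finset.mem_coe, Finset.mem_filter] at hr ⊢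
      refine Finset.mem_filter.2 ⟨hmem.2 (mul_mem (inv_mem (hmem.1 hy)) (hmem.1 hr.1)), ?_⟩
      rw [mul_g, hr.2]
      exact (PSpFourInvol.sm_one y.g).2.2
    have h1 := Finset.card_le_mul_card_image (f := T.g) F F0.card hfib
    rw [hF] at h1
    nlinarith
  by_cases hQ : ∀ x ∈ A, x.g = 0
  · exfalso
    have hb : (F.image T.v).card ≤ 9 := by
      refine iso_bound _ fun v hv w hw => ?_
      obtain ⟨x, hx, rfl⟩ := Finset.mem_image.1 hv
      obtain ⟨y, hy, rfl⟩ := Finset.mem_image.1 hw
      exact (qq_comm (hQ x (hmem.1 hx)) (hQ y (hmem.1 hy))).1 (hc x (hmem.1 hx) y (hmem.1 hy))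
    have hfib : ∀ v ∈ F.image T.v, (F.filter fun x => x.v = v).card ≤ 3 := by
      intro v _
      refine (Finset.card_le_card_of_injOn T.c (fun _ _ => Finset.mem_univ _) ?_).trans (le_of_eq (ZMod.card 3))
      intro a ha b hb' e
      simp only [Finset.mem_coe, Finset.mem_filter] at ha hb'
      exact T.ext e (ha.2.trans hb'.2.symm) ((hQ a (hmem.1 ha.1)).trans (hQ b (hmem.1 hb'.1)).symm)
    have := Finset.card_le_mul_card_image (f := T.v) F 3 hfib
    omega
  simp only [not_forall] at hQ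
  obtain ⟨x, hx, hxg⟩ := hQ
  have hxg' : x.g ∈ ([10, 13] : List S) := by
    have := hA hx
    rw [mem_Ssub, inS] at this
    have h13 : sm 10 10 = 13 := by decide
    simp only [h13, Bool.or_eq_true, beq_iff_eq] at this
    simp only [List.mem_cons, List.not_mem_nil, or_false]
    tauto
  let FJ : Finset T := Finset.univ.image fun p : ZMod 3 × ZMod 3 × ZMod 3 => qT p.1 ⟨p.2.1, 0, p.2.2, 0⟩
  have hsub : F0 ⊆ FJ := by
    intro q hq
    obtain ⟨hq, hqg⟩ := Finset.mem_filter.1 hq
    have h1 := fix_outside x.g hxg' q.v (va_cancel (comm_vec hqg (hc x hx q (hmem.1 hq))))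
    exact Finset.mem_image.2 ⟨(q.c, q.v.a, q.v.m), Finset.mem_univ _,
      T.ext rfl (Vec.ext rfl h1.1.symm rfl h1.2.symm) hqg.symm⟩
  have heq : F0 = FJ := Finset.eq_of_subset_of_card_le hsub
    ((Finset.card_image_le.trans (by simp)).trans h27)
  have hp : ∀ p : ZMod 3 × ZMod 3 × ZMod 3, qT p.1 ⟨p.2.1, 0, p.2.2, 0⟩ ∈ A := by
    intro p
    have : qT p.1 ⟨p.2.1, 0, p.2.2, 0⟩ ∈ F0 := heq ▸ Finset.mem_image.2 ⟨p, Finset.mem_univ _, rfl⟩
    exact hmem.1 (Finset.mem_filter.1 this).1
  refine Subgroup.eq_of_le_of_card_ge (fun y hy => ?_) (by rw [h81, card_Jsub])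
  exact mem_Jsub.2 (cent_J y (hc y hy _ (hp (0, 1, 0))) (hc y hy _ (hp (0, 0, 1))) (Or.inl (hA hy)))

theorem qT_cube (c : ZMod 3) (v : Vec) : qT c v * qT c v * qT c v = 1 := by
  have h3 : ∀ x : ZMod 3, x + x + x = 0 := by decide
  have h00 : sm 0 0 = 0 := by decide
  simp only [qT, mul_def, tm, act_zero, one_def, h00]
  refine T.ext ?_ ?_ rfl
  · simp only [bet, va]
    linear_combination h3 c
  · exact Vec.ext (h3 _) (h3 _) (h3 _) (h3 _)

namespace Base

universe u

variable {G : Type u} [Group G] (H : Base G)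

/-- The abelian subgroup of order 81. -/
def J : Subgroup G := Jsub.map H.par

/-- The Sylow 3-subgroup. -/
def SS : Subgroup G := Ssub.map H.par

/-- The parametrisation of `J`. -/
def emb (v : JV) : G := H.par (jT v)

theorem mem_J {g : G} : g ∈ H.J ↔ ∃ v, H.emb v = g :=
  ⟨fun ⟨_, ⟨v, hv⟩, e⟩ => ⟨v, by rw [emb, hv, e]⟩, fun ⟨v, e⟩ => ⟨jT v, ⟨v, rfl⟩, e⟩⟩

theorem emb_ja (v w : JV) : H.emb (ja v w) = H.emb v * H.emb w := by rw [emb, jT_ja, map_mul]; rfl

theorem emb_inj : Function.Injective H.emb := H.inj.comp jT_inj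

theorem emb_comm (v w : JV) : H.emb v * H.emb w = H.emb w * H.emb v := by
  rw [← H.emb_ja, ← H.emb_ja]
  congr 1
  exact JV.ext (add_comm _ _) (add_comm _ _) (add_comm _ _) (add_comm _ _)

theorem card_J : Nat.card H.J = 81 :=
  (Nat.card_congr (Subgroup.equivMapOfInjective _ _ H.inj).toEquiv).symm.trans card_Jsub

theorem card_SS : Nat.card H.SS = 729 :=
  (Nat.card_congr (Subgroup.equivMapOfInjective _ _ H.inj).toEquiv).symm.trans card_Ssub

theorem J_le : H.J ≤ H.SS := Subgroup.map_mono Jsub_le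

theorem emb_zT : H.z = H.emb ⟨1, 0, 0, 0⟩ := by
  show H.par zT = H.par (jT ⟨1, 0, 0, 0⟩)
  exact congrArg H.par (by decide)

/-- An element of 3-power order centralising `z` is in the image. -/
theorem three_power_mem {g : G} (hg : g * H.z = H.z * g) {k : ℕ} (hk : g ^ 3 ^ k = 1) :
    ∃ x, g = H.par x := by
  obtain ⟨m, hm⟩ : Odd (3 ^ k) := (by decide : Odd 3).pow
  obtain ⟨x, rfl | rfl⟩ := (H.mem_cent).1 hg
  · exact ⟨x, rfl⟩
  · have h2 : (H.par x * H.out) ^ 2 = H.par (x * sigB H.ext x) := by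
      rw [map_mul, ← H.out_act x, pow_two]
      simp only [mul_assoc]
    refine ⟨((x * sigB H.ext x) ^ (m + 1)), ?_⟩
    rw [map_pow, ← h2, ← pow_mul, show 2 * (m + 1) = 3 ^ k + 1 by omega, pow_succ, hk, one_mul]

theorem J_cube {g : G} (hg : g ∈ H.J) : g ^ 3 = 1 := by
  obtain ⟨v, rfl⟩ := H.mem_J.1 hg
  rw [pow_succ, pow_two, emb, ← map_mul, ← map_mul, (jT_jn v).2, map_one]

variable [Finite G]

theorem three_group {A : Subgroup G} {n : ℕ} (hA : Nat.card A = 3 ^ n) {g : G} (hg : g ∈ A) :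
    ∃ k, g ^ 3 ^ k = 1 := by
  obtain ⟨k, hk⟩ := (IsPGroup.of_card hA) ⟨g, hg⟩
  exact ⟨k, by simpa using congrArg Subtype.val hk⟩

/-- Abelian subgroups of order 81 of the centralizer of `z` are conjugate to `J` there. -/
theorem abelian_conj (A : Subgroup G) (hAz : ∀ a ∈ A, a * H.z = H.z * a)
    (hc : ∀ a ∈ A, ∀ b ∈ A, a * b = b * a) (h81 : Nat.card A = 81) :
    ∃ c : T, A = H.J.map (MulAut.conj (H.par c)).toMonoidHom := by
  haveI : Fact (Nat.Prime 3) := ⟨Nat.prime_three⟩
  have hle : A ≤ H.par.range := fun a ha => by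
    obtain ⟨k, hk⟩ := three_group (A := A) (n := 4) h81 ha
    obtain ⟨x, hx⟩ := H.three_power_mem (hAz a ha) hk
    exact ⟨x, hx.symm⟩
  set A' := A.comap H.par with hA'
  have hmap : A'.map H.par = A := Subgroup.map_comap_eq_self hle
  have h81' : Nat.card A' = 81 := by
    rw [← h81]; conv_rhs => rw [← hmap]
    exact Nat.card_congr (Subgroup.equivMapOfInjective _ _ H.inj).toEquiv
  obtain ⟨P, hP⟩ := (IsPGroup.of_card (n := 4) (p := 3) h81').exists_le_sylow
  have hS : Nat.card Ssub = 3 ^ (Nat.card T).factorization 3 := by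
    rw [card_Ssub, card_T, show 5832 = 2 ^ 3 * 3 ^ 6 by norm_num,
      Nat.factorization_mul (by norm_num) (by norm_num), Nat.factorization_pow, Nat.factorization_pow]
    simp [Nat.prime_two.factorization, Nat.prime_three.factorization]
  obtain ⟨c, hc'⟩ := MulAction.exists_smul_eq T (Sylow.ofCard Ssub hS) P
  refine ⟨c, ?_⟩
  have hB : A'.map (MulAut.conj c⁻¹).toMonoidHom = Jsub := by
    refine abelian_unique _ ?_ ?_ ?_
    · rintro _ ⟨a, ha, rfl⟩
      have h1 : a ∈ ((c • Sylow.ofCard Ssub hS : Sylow 3 T) : Subgroup T) := by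
        rw [hc']; exact hP ha
      rw [Sylow.coe_subgroup_smul, Sylow.coe_ofCard, Subgroup.mem_pointwise_smul_iff_inv_smul_mem] at h1
      simpa using h1
    · rintro _ ⟨a, ha, rfl⟩ _ ⟨b, hb, rfl⟩
      rw [← map_mul, ← map_mul]
      congr 1
      exact H.inj (by rw [map_mul, map_mul]; exact hc _ ha _ hb)
    · exact (Nat.card_congr (Subgroup.equivMapOfInjective _ _ (MulAut.conj c⁻¹).injective).toEquiv).symm.trans h81'
  rw [← hmap, J, ← hB, Subgroup.map_map, Subgroup.map_map]
  congr 1
  ext x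
  simp [mul_assoc]

/-- `J` is the only abelian subgroup of order 81 of the Sylow subgroup. -/
theorem abelian_SS (A : Subgroup G) (hA : A ≤ H.SS) (hc : ∀ a ∈ A, ∀ b ∈ A, a * b = b * a)
    (h81 : Nat.card A = 81) : A = H.J := by
  have hmap : (A.comap H.par).map H.par = A :=
    Subgroup.map_comap_eq_self (hA.trans (Subgroup.map_le_range _ _))
  rw [← hmap]
  refine congrArg _ (abelian_unique _ ?_ ?_ ?_)
  · rintro x hx
    obtain ⟨y, hy, e⟩ := hA hx
    rwa [← H.inj e]
  · intro x hx y hy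
    exact H.inj (by rw [map_mul, map_mul]; exact hc _ hx _ hy)
  · rw [← h81]; conv_rhs => rw [← hmap]
    exact Nat.card_congr (Subgroup.equivMapOfInjective _ _ H.inj).toEquiv

/-- The Sylow subgroup as a Sylow subgroup. -/
theorem exists_sylow : ∃ P : Sylow 3 G, (P : Subgroup G) = H.SS := by
  haveI : Fact (Nat.Prime 3) := ⟨Nat.prime_three⟩
  have h6 : (Nat.card G).factorization 3 = 6 := by
    refine le_antisymm ?_ ((Nat.prime_three.pow_dvd_iff_le_factorization Nat.card_pos.ne').1 ?_)
    · by_contra h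
      exact H.not_dvd ((Nat.prime_three.pow_dvd_iff_le_factorization Nat.card_pos.ne').2 (by omega))
    · rw [show 3 ^ 6 = Nat.card H.SS by rw [H.card_SS]; norm_num]
      exact Subgroup.card_subgroup_dvd_card _
  exact ⟨Sylow.ofCard H.SS (by rw [h6, H.card_SS]; norm_num), Sylow.coe_ofCard _ _⟩

end Base

end CfsgLib.O8Three
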