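import Cfsg.Agent.O8Three.Fusion
import Cfsg.Agent.Solvable.CoprimeAbelian

/-!
# `J` is self-centralizing and signalizer-free
-/

set_option autoImplicit false
set_option maxRecDepth 100000
set_option linter.style.haveILetI false

namespace CfsgLib.O8Three

open CfsgLib.PSpFourInvol (S sm si)
open CfsgLib.PSpFourInvol.Concrete (smat)

theorem no_sigB_fix (x : T) : x * sigB true p1T ≠ p1T * x := by
  intro h
  have h0 := congrArg T.v h
  have hg : (sigB true p1T).g = 0 := rfl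
  have hg' : p1T.g = 0 := rfl
  rw [mul_v, mul_v, hg', act_zero] at h0
  have ha := congrArg Vec.a h0
  simp only [va, act, sigB, p1T, qT, if_true] at ha
  have : ∀ a c : ZMod 3, a + (-1 + c * -0) = 1 + a → False := by decide
  exact this _ _ ha

theorem upper_inS : ∀ g : S, smat g 0 0 = 1 → smat g 1 0 = 0 →
    (g == 0 || g == 10 || g == sm 10 10) = true := by decide +kernel

theorem cent_pm (x : T) (h1 : x * p1T = p1T * x) (h2 : x * m1T = m1T * x) : inJ x = true := by
  refine cent_J x h1 h2 (Or.inl ?_)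
  have hg' : m1T.g = 0 := rfl
  have h := va_cancel (comm_vec hg' h2)
  have hm := congrArg Vec.m h
  have hn := congrArg Vec.n h
  simp only [act, m1T, qT, mul_one, mul_zero, add_zero] at hm hn
  exact upper_inS _ hm hn

theorem par_q_normal (x q : T) (hq : q.g = 0) (b : Bool) : (x * sigB b q * x⁻¹).g = 0 := by
  have h1 : (sigB b q).g = 0 := by cases b <;> exact hq
  show sm (sm x.g (sigB b q).g) (si x.g) = 0
  rw [h1]
  have : ∀ a : S, sm (sm a 0) (si a) = 0 := by decide +kernel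
  exact this _

namespace Base

universe u

variable {G : Type u} [Group G] (H : Base G)

theorem not_out_fix (x : T) (hb : H.ext = true) :
    H.par x * H.out * H.par p1T ≠ H.par p1T * (H.par x * H.out) := by
  intro h
  have e := H.out_act p1T
  rw [hb] at e
  refine no_sigB_fix x (H.inj ?_)
  rw [map_mul, map_mul, ← e]
  calc H.par x * (H.out * H.par p1T * H.out) = H.par x * H.out * H.par p1T * H.out := by group
    _ = H.par p1T * H.par x * (H.out * H.out) := by rw [h]; group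
    _ = _ := by rw [H.out_sq, mul_one]

/-- The centralizer of `F = ⟨z, p₁, m₁⟩` is `J`. -/
theorem cent_F {g : G} (hz : g * H.z = H.z * g) (h1 : g * H.par p1T = H.par p1T * g)
    (h2 : g * H.par m1T = H.par m1T * g) : g ∈ H.J := by
  obtain ⟨x, hx⟩ := H.mem_cent.1 hz
  rcases hx with rfl | rfl
  · exact ⟨x, mem_Jsub.2 (cent_pm x (H.par_comm.1 h1) (H.par_comm.1 h2)), rfl⟩
  · cases hb : H.ext
    · rw [H.out_eq hb, mul_one] at h1 h2 ⊢
      exact ⟨x, mem_Jsub.2 (cent_pm x (H.par_comm.1 h1) (H.par_comm.1 h2)), rfl⟩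
    · exact absurd h1 (H.not_out_fix x hb)

theorem jT_gens : jT ⟨0, 1, 0, 0⟩ = p1T ∧ jT ⟨0, 0, 1, 0⟩ = m1T := by decide +kernel

/-- `J` is self-centralizing. -/
theorem cent_J_le {g : G} (h : ∀ v, g * H.emb v = H.emb v * g) : g ∈ H.J := by
  refine H.cent_F (by rw [H.emb_zT]; exact h _) ?_ ?_
  · rw [← jT_gens.1]; exact h _
  · rw [← jT_gens.2]; exact h _

theorem emb_j0 : H.emb j0 = 1 := by rw [emb, jT_j0, map_one]

variable [Finite G]

theorem coprime_cube {L : Subgroup G} (hL : (Nat.card L).Coprime 3) {e : G} (he : e ∈ L)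
    (h : e ^ 3 = 1) : e = 1 := by
  have := Nat.eq_one_of_dvd_coprimes hL (orderOf_dvd_natCard (⟨e, he⟩ : L))
    (orderOf_dvd_of_pow_eq_one (Subtype.ext (by simpa using h)))
  exact congrArg Subtype.val (orderOf_eq_one_iff.1 this)

/-- No 3'-subgroup of the centralizer of `z` is normalised by `J`. -/
theorem sig_local (M : Subgroup G) (hM : (Nat.card M).Coprime 3) (hz : ∀ m ∈ M, m * H.z = H.z * m)
    (hn : ∀ v, ∀ m ∈ M, H.emb v * m * (H.emb v)⁻¹ ∈ M) : M = ⊥ := by
  rw [eq_bot_iff]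
  intro m hm
  rw [Subgroup.mem_bot]
  have hc : ∀ v : JV, (jT v).g = 0 → m * H.emb v = H.emb v * m := by
    intro v hv
    have he : H.emb v * m * (H.emb v)⁻¹ * m⁻¹ ∈ M := mul_mem (hn v m hm) (inv_mem hm)
    have hq : ∃ q : T, q.g = 0 ∧ m * (H.emb v)⁻¹ * m⁻¹ = H.par q := by
      have hv' : ((jT v)⁻¹).g = 0 := (inv_v hv).2
      obtain ⟨x, rfl | rfl⟩ := H.mem_cent.1 (hz m hm)
      · refine ⟨x * sigB false (jT v)⁻¹ * x⁻¹, par_q_normal x _ hv' false, ?_⟩
        rw [map_mul, map_mul, map_inv]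
        show _ = H.par x * H.par (jT v)⁻¹ * (H.par x)⁻¹
        rw [map_inv]; rfl
      · refine ⟨x * sigB H.ext (jT v)⁻¹ * x⁻¹, par_q_normal x _ hv' _, ?_⟩
        have ho : H.out⁻¹ = H.out := inv_eq_of_mul_eq_one_right H.out_sq
        rw [map_mul, map_mul, map_inv, ← H.out_act, map_inv, mul_inv_rev, ho]
        simp only [emb, mul_assoc]
    obtain ⟨q, hq, e⟩ := hq
    have e' : H.emb v * m * (H.emb v)⁻¹ * m⁻¹ = H.par (jT v * q) := by
      rw [map_mul, ← e]; simp only [emb, mul_assoc]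
    have := coprime_cube hM he (by rw [e', ← map_pow, cube_q (g_zero_mul hv hq), map_one])
    rw [mul_inv_eq_one, mul_inv_eq_iff_eq_mul] at this
    exact this.symm
  have hJ : m ∈ H.J := H.cent_F (hz m hm) (by rw [← jT_gens.1]; exact hc _ (by decide))
    (by rw [← jT_gens.2]; exact hc _ (by decide))
  exact coprime_cube hM hm (H.J_cube hJ)

variable {H}

/-- `J` normalises no non-trivial subgroup of order prime to three. -/
theorem Good.signalizer_free (hG : H.Good) (L : Subgroup G) (hL : (Nat.card L).Coprime 3)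
    (hn : ∀ v, ∀ k ∈ L, H.emb v * k * (H.emb v)⁻¹ ∈ L) : L = ⊥ := by
  classical
  let B : Subgroup G :=
    { carrier := {g | ∃ i j : ZMod 3, g = H.emb ⟨i, j, j, 0⟩}
      mul_mem' := by
        rintro _ _ ⟨i, j, rfl⟩ ⟨i', j', rfl⟩
        exact ⟨i + i', j + j', by rw [← H.emb_ja]; simp [ja]⟩
      one_mem' := ⟨0, 0, by rw [show (⟨0, 0, 0, 0⟩ : JV) = j0 from rfl, H.emb_j0]⟩
      inv_mem' := by
        rintro _ ⟨i, j, rfl⟩
        exact ⟨-i, -j, by rw [← H.emb_jn]; simp [jn]⟩ }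
  have hBJ : ∀ g ∈ B, g ∈ H.J := by rintro _ ⟨i, j, rfl⟩; exact H.mem_J.2 ⟨_, rfl⟩
  haveI : IsMulCommutative B := ⟨⟨fun a b => Subtype.ext (by
    obtain ⟨u, hu⟩ := H.mem_J.1 (hBJ _ a.2)
    obtain ⟨w, hw⟩ := H.mem_J.1 (hBJ _ b.2)
    show (a : G) * b = b * a
    rw [← hu, ← hw]; exact H.emb_comm u w)⟩⟩
  have hBcard : Nat.card B = 9 := by
    let e : ZMod 3 × ZMod 3 → B := fun p => ⟨H.emb ⟨p.1, p.2, p.2, 0⟩, p.1, p.2, rfl⟩
    have hb : Function.Bijective e := by
      refine ⟨fun p q h => ?_, ?_⟩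
      · have := H.emb_inj (congrArg Subtype.val h)
        simp only [JV.mk.injEq] at this
        exact Prod.ext this.1 this.2.1
      · rintro ⟨g, i, j, rfl⟩; exact ⟨(i, j), rfl⟩
    rw [← Nat.card_congr (Equiv.ofBijective e hb)]
    simp
  have hcyc : ¬ IsCyclic B := by
    intro h
    obtain ⟨g, hg⟩ := IsCyclic.exists_ofOrder_eq_natCard (α := B)
    rw [hBcard] at hg
    have h3 : g ^ 3 = 1 := Subtype.ext (by simpa using H.J_cube (hBJ _ g.2))
    have := orderOf_dvd_of_pow_eq_one h3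
    rw [hg] at this
    norm_num at this
  have hBL : B ≤ Subgroup.normalizer (L : Set G) := by
    intro g hg
    obtain ⟨u, rfl⟩ := H.mem_J.1 (hBJ g hg)
    rw [Subgroup.mem_normalizer_iff]
    intro k
    refine ⟨fun hk => hn u k hk, fun hk => ?_⟩
    have := hn (jn u) _ hk
    rw [H.emb_jn] at this
    have e : (H.emb u)⁻¹ * (H.emb u * k * (H.emb u)⁻¹) * ((H.emb u)⁻¹)⁻¹ = k := by group
    rwa [e] at this
  rw [← CfsgLib.CoprimeAct.generated_by_centralizers hcyc hBL
    (by rw [hBcard, show 9 = 3 ^ 2 from rfl]; exact (Nat.Coprime.pow_left 2 hL.symm))]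
  simp only [iSup_eq_bot]
  intro b hb
  obtain ⟨⟨i, j, rfl⟩, hb1⟩ := hb
  set w : JV := ⟨i, j, j, 0⟩
  have hq : qJ w = 0 := by simp only [qJ, w]; ring
  have hw : w ≠ j0 := fun e => hb1 (by rw [e, H.emb_j0])
  obtain ⟨g, hg⟩ := (hG w).2 ⟨hw, hq⟩
  set A := H.J.map (MulAut.conj g⁻¹).toMonoidHom
  have hbg : ∀ u, H.emb u * (g * H.z * g⁻¹) = g * H.z * g⁻¹ * H.emb u := by
    intro u
    rcases hg with e | e <;> rw [e]
    · exact H.emb_comm _ _
    · rw [← H.emb_jn]; exact H.emb_comm _ _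
  obtain ⟨c, hc⟩ := H.abelian_conj A (by
      rintro _ ⟨a, ha, rfl⟩
      obtain ⟨u, rfl⟩ := H.mem_J.1 ha
      simp only [MulEquiv.coe_toMonoidHom, MulAut.conj_apply, inv_inv]
      calc g⁻¹ * H.emb u * g * H.z = g⁻¹ * (H.emb u * (g * H.z * g⁻¹)) * g := by group
        _ = g⁻¹ * (g * H.z * g⁻¹ * H.emb u) * g := by rw [hbg]
        _ = _ := by group)
    (by
      rintro _ ⟨a, ha, rfl⟩ _ ⟨b, hb, rfl⟩
      obtain ⟨u, rfl⟩ := H.mem_J.1 ha
      obtain ⟨v, rfl⟩ := H.mem_J.1 hb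
      rw [← map_mul, ← map_mul, H.emb_comm])
    ((Nat.card_congr (Subgroup.equivMapOfInjective _ _ (MulAut.conj g⁻¹).injective).toEquiv).symm.trans H.card_J)
  set φ := (MulAut.conj (g * H.par c)⁻¹).toMonoidHom
  set M := L ⊓ Subgroup.centralizer {H.emb w}
  have hM : M.map φ = ⊥ := by
    refine H.sig_local _ ?_ ?_ ?_
    · rw [← Nat.card_congr (Subgroup.equivMapOfInjective _ _ (MulAut.conj (g * H.par c)⁻¹).injective).toEquiv]
      exact Nat.Coprime.coprime_dvd_left (Subgroup.card_dvd_of_le inf_le_left) hL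
    · rintro _ ⟨m, hm, rfl⟩
      have hm' : m * (g * H.z * g⁻¹) = g * H.z * g⁻¹ * m := by
        have := Subgroup.mem_centralizer_singleton_iff.1 hm.2
        rcases hg with e | e <;> rw [e]
        · exact this
        · exact (Commute.inv_right this).eq
      simp only [φ, MulEquiv.coe_toMonoidHom, MulAut.conj_apply, inv_inv]
      have hcz : H.par c * H.z * (H.par c)⁻¹ = H.z := by rw [H.par_z]; group
      calc (g * H.par c)⁻¹ * m * (g * H.par c) * H.z
          = (g * H.par c)⁻¹ * (m * (g * (H.par c * H.z * (H.par c)⁻¹) * g⁻¹)) * (g * H.par c) := by group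
        _ = (g * H.par c)⁻¹ * (m * (g * H.z * g⁻¹)) * (g * H.par c) := by rw [hcz]
        _ = (g * H.par c)⁻¹ * (g * H.z * g⁻¹ * m) * (g * H.par c) := by rw [hm']
        _ = (g * H.par c)⁻¹ * (g * (H.par c * H.z * (H.par c)⁻¹) * g⁻¹ * m) * (g * H.par c) := by rw [hcz]
        _ = _ := by group
    · rintro v _ ⟨m, hm, rfl⟩
      have hmem : (MulAut.conj g⁻¹).symm ((MulAut.conj (H.par c)) (H.emb v)) ∈ H.J := by
        have : MulAut.conj (H.par c) (H.emb v) ∈ A := by
          rw [hc]; exact ⟨_, H.mem_J.2 ⟨v, rfl⟩, rfl⟩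
        obtain ⟨a, ha, e⟩ := this
        rw [← e]; simpa [mul_assoc] using ha
      obtain ⟨u, hu⟩ := H.mem_J.1 hmem
      refine ⟨H.emb u * m * (H.emb u)⁻¹, ⟨hn u m hm.1, ?_⟩, ?_⟩
      · refine Subgroup.mem_centralizer_singleton_iff.2 ?_
        have h1 := Subgroup.mem_centralizer_singleton_iff.1 hm.2
        have h2 : H.emb u * H.emb w = H.emb w * H.emb u := H.emb_comm _ _
        exact ((show Commute (H.emb u) (H.emb w) from h2).mul_left h1).mul_left
          (show Commute (H.emb u) (H.emb w) from h2).inv_left |>.eq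
      · rw [hu]
        simp [φ, mul_assoc]
  exact (Subgroup.map_eq_bot_iff_of_injective _ (MulAut.conj (g * H.par c)⁻¹).injective).1 hM

end Base

end CfsgLib.O8Three
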