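import Cfsg.Agent.PSpFourInvol.Model

/-!
# The model `3^{1+4}.SL₂(3)` of the centralizer of a 3-central element

`(c, v)` runs over the extraspecial group, `g` over the coded `SL₂(3)`, which acts on `(v₁,v₂)` through its
character of order three and naturally on `(v₃,v₄)`.
-/

set_option autoImplicit false
set_option maxRecDepth 100000

namespace CfsgLib.O8Three

open CfsgLib.PSpFourInvol (S sm si)
open CfsgLib.PSpFourInvol.Concrete (smat)

/-- Vectors. -/
@[ext] structure Vec where
  /-- first coordinate -/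
  a : ZMod 3
  /-- second coordinate -/
  b : ZMod 3
  /-- third coordinate -/
  m : ZMod 3
  /-- fourth coordinate -/
  n : ZMod 3
  deriving DecidableEq

/-- The carrier of vectors. -/
def Vec.equiv : Vec ≃ ZMod 3 × ZMod 3 × ZMod 3 × ZMod 3 where
  toFun v := (v.a, v.b, v.m, v.n)
  invFun p := ⟨p.1, p.2.1, p.2.2.1, p.2.2.2⟩
  left_inv _ := rfl
  right_inv _ := rfl

instance : Fintype Vec := Fintype.ofEquiv _ Vec.equiv.symm

/-- The sum of vectors. -/
def va (v w : Vec) : Vec := ⟨v.a + w.a, v.b + w.b, v.m + w.m, v.n + w.n⟩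

/-- The negative of a vector. -/
def vn (v : Vec) : Vec := ⟨-v.a, -v.b, -v.m, -v.n⟩

/-- The zero vector. -/
def v0 : Vec := ⟨0, 0, 0, 0⟩

/-- Half the commutator form. -/
def bet (v w : Vec) : ZMod 3 := v.a * w.b - v.b * w.a - (v.m * w.n - v.n * w.m)

/-- The character of order three. -/
def chi (g : S) : ZMod 3 :=
  (![0, 0, 0, 2, 1, 0, 1, 2, 2, 1, 1, 0, 2, 2, 1, 0, 1, 2, 2, 0, 1, 1, 2, 0] : Fin 24 → ZMod 3) g

/-- The action on vectors. -/
def act (g : S) (v : Vec) : Vec :=
  ⟨v.a + chi g * v.b, v.b, smat g 0 0 * v.m + smat g 0 1 * v.n, smat g 1 0 * v.m + smat g 1 1 * v.n⟩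

theorem smat_det : ∀ g : S, smat g 0 0 * smat g 1 1 - smat g 0 1 * smat g 1 0 = 1 := by decide +kernel

theorem chi_mul : ∀ g h : S, chi (sm g h) = chi g + chi h := by decide +kernel

theorem chi_zero : chi 0 = 0 := by decide

theorem act_mul (g h : S) (v : Vec) : act (sm g h) v = act g (act h v) := by
  have h1 := PSpFourInvol.Concrete.smat_mul g h
  have e : ∀ i j, smat (sm g h) i j = smat g i 0 * smat h 0 j + smat g i 1 * smat h 1 j := fun i j => by
    rw [h1, Matrix.mul_apply, Fin.sum_univ_two]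
  simp only [act, chi_mul, e]
  refine Vec.ext ?_ rfl ?_ ?_ <;> ring

theorem act_zero : ∀ v : Vec, act 0 v = v := by decide +kernel

theorem act_va (g : S) (v w : Vec) : act g (va v w) = va (act g v) (act g w) := by
  simp only [act, va]
  refine Vec.ext ?_ rfl ?_ ?_ <;> ring

theorem bet_act (g : S) (v w : Vec) : bet (act g v) (act g w) = bet v w := by
  simp only [bet, act]
  linear_combination (-(v.m * w.n - v.n * w.m)) * smat_det g

/-- Elements of the model. -/
@[ext] structure T where
  /-- central coordinate -/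
  c : ZMod 3
  /-- vector -/
  v : Vec
  /-- the part in `SL₂(3)` -/
  g : S
  deriving DecidableEq

/-- The carrier. -/
def T.equiv : T ≃ ZMod 3 × Vec × S where
  toFun x := (x.c, x.v, x.g)
  invFun p := ⟨p.1, p.2.1, p.2.2⟩
  left_inv _ := rfl
  right_inv _ := rfl

instance : Fintype T := Fintype.ofEquiv _ T.equiv.symm

/-- The product. -/
def tm (x y : T) : T := ⟨x.c + y.c + bet x.v (act x.g y.v), va x.v (act x.g y.v), sm x.g y.g⟩

/-- The inverse. -/
def ti (x : T) : T := ⟨-x.c, act (si x.g) (vn x.v), si x.g⟩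

instance : Mul T := ⟨tm⟩
instance : One T := ⟨⟨0, v0, 0⟩⟩
instance : Inv T := ⟨ti⟩

theorem tm_assoc (x y z : T) : tm (tm x y) z = tm x (tm y z) := by
  refine T.ext ?_ ?_ (PSpFourInvol.sm_assoc _ _ _)
  · simp only [tm, act_mul, act_va]
    rw [← bet_act x.g y.v (act y.g z.v)]
    simp only [bet, va]
    ring
  · simp only [tm, act_mul, act_va]
    simp only [va]
    refine Vec.ext ?_ ?_ ?_ ?_ <;> ring

theorem tm_one_left (x : T) : tm ⟨0, v0, 0⟩ x = x := by
  refine T.ext ?_ ?_ (PSpFourInvol.sm_one _).1 <;>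
    simp [tm, act_zero, bet, va, v0]

theorem tm_inv_left (x : T) : tm (ti x) x = ⟨0, v0, 0⟩ := by
  have hn : ∀ g w, act g (vn w) = vn (act g w) := fun g w => by
    simp only [act, vn]
    refine Vec.ext ?_ rfl ?_ ?_ <;> ring
  refine T.ext ?_ ?_ (PSpFourInvol.sm_one _).2.2 <;>
    simp only [tm, ti, hn] <;> simp only [bet, va, vn, v0]
  · ring
  · refine Vec.ext ?_ ?_ ?_ ?_ <;> ring

instance : Group T := Group.ofLeftAxioms tm_assoc tm_one_left tm_inv_left

theorem mul_def (x y : T) : x * y = tm x y := rfl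

theorem inv_def (x : T) : x⁻¹ = ti x := rfl

theorem one_def : (1 : T) = ⟨0, v0, 0⟩ := rfl

/-- The central element of order three. -/
def zT : T := ⟨1, v0, 0⟩

/-- The involution. -/
def tT : T := ⟨0, v0, 1⟩

/-- The element of order three over the transvection. -/
def xT : T := ⟨0, v0, 10⟩

/-- An element of the normal extraspecial subgroup. -/
def qT (c : ZMod 3) (v : Vec) : T := ⟨c, v, 0⟩

/-- Membership in the extraspecial subgroup. -/
def inQ (x : T) : Bool := x.g == 0

/-- Twisting by the character. -/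
def theta (L : ZMod 3) (x : T) : T := ⟨x.c + L * chi x.g, x.v, x.g⟩

theorem theta_mul (L : ZMod 3) (x y : T) : theta L (x * y) = theta L x * theta L y := by
  simp only [mul_def, tm, theta, chi_mul]
  refine T.ext ?_ rfl rfl
  ring

theorem theta_bij (L : ZMod 3) : Function.Bijective (theta L) := by
  refine ⟨fun x y h => ?_, fun x => ⟨theta (-L) x, ?_⟩⟩
  · have h1 := congrArg T.g h
    have h2 := congrArg T.v h
    have h3 := congrArg T.c h
    simp only [theta] at h1 h2 h3
    rw [h1] at h3
    exact T.ext (add_right_cancel h3) h2 h1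
  · simp only [theta]
    exact T.ext (by ring) rfl rfl

end CfsgLib.O8Three
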