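import Cfsg.Agent.O8Three.PSpModelCent

/-!
# Commuting pairs of 3-central elements in an involution centraliser of `PSp₄(3)`
-/

set_option autoImplicit false
set_option linter.style.haveILetI false
set_option linter.unusedSectionVars false
set_option maxRecDepth 4000

namespace CfsgLib.O8Three.PSpModel

open Subgroup CfsgLib.PSpFourInvol

attribute [local irreducible] allC allW L3 triv

universe u

/-- The two-elements commuting with `t` and `z`. -/
def two {X : Type*} [Group X] (t z : X) : Set X :=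
  {q | (∃ n : ℕ, q ^ (2 ^ n) = 1) ∧ q * t = t * q ∧ q * z = z * q}

/-- Commuting 3-central elements generating different subgroups, centralising an involution. -/
structure Pair {X : Type*} [Group X] (t z1 z2 : X) : Prop where
  ord_t : orderOf t = 2
  central1 : Central3 z1
  central2 : Central3 z2
  comm_t1 : z1 * t = t * z1
  comm_t2 : z2 * t = t * z2
  comm : z1 * z2 = z2 * z1
  not_mem : z2 ∉ Subgroup.zpowers z1

theorem central3_map {X Y : Type*} [Group X] [Group Y] (e : X ≃* Y) {z : X} (h : Central3 z) :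
    Central3 (e z) := by
  refine ⟨by rw [MulEquiv.orderOf_eq, h.1], ?_⟩
  rw [← Nat.card_congr ((centralizer ({z} : Set X)).equivMapOfInjective e.toMonoidHom e.injective).toEquiv
    |>.trans (congrArg (fun H : Subgroup Y => Nat.card H) (show (centralizer ({z} : Set X)).map e.toMonoidHom =
      centralizer ({e z} : Set Y) by
        ext y
        rw [mem_map_equiv, mem_centralizer_singleton_iff, mem_centralizer_singleton_iff]
        constructor
        · intro h'
          simpa using congrArg e h'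
        · intro h'
          apply e.injective
          simpa using h'))]
  exact h.2

variable {X : Type u} [Group X] [Finite X]

/-- A coordinatisation of an involution centraliser. -/
structure Frame (X : Type u) [Group X] (t : X) where
  ψ : Concrete.P0 ≃* X
  ht : ψ Concrete.setup.t = t

namespace Frame

variable {t : X} (N : Frame X t)

/-- The setup. -/
def D : Setup X := Concrete.setup.transport N.ψ

theorem D_t : N.D.t = t := N.ht

theorem exists_code {g : X} (h : g * t = t * g) : ∃ w, N.D.ι w = g :=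
  N.D.mem_cent.1 (mem_centralizer_singleton_iff.2 (by rw [N.D_t]; exact h))

theorem ι_t (w : W) : N.D.ι w * t = t * N.D.ι w := by
  have := N.D.ι_comm_t w
  rwa [N.D_t] at this

theorem code_central {z : X} (hz : Central3 z) (hc : z * t = t * z) :
    ∃ a ∈ L3, N.D.ι a = z := by
  obtain ⟨w, rfl⟩ := N.exists_code hc
  have h3 : ord3 w = true := by
    rw [ord3, Bool.and_eq_true, Bool.not_eq_true', ← N.D.ι_eq_iff (b := 1), ← Bool.not_eq_true,
      ← N.D.ι_eq_iff, map_one]
    refine ⟨?_, fun h => ?_⟩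
    · show N.D.ι (w * (w * w)) = 1
      rw [map_mul, map_mul, ← pow_orderOf_eq_one (N.D.ι w), hz.1, pow_succ, pow_two, mul_assoc]
    · have := hz.1
      rw [h, orderOf_one] at this
      norm_num at this
  have htv : tvB w = true := by
    refine Tv.tvB (central3_tv ?_)
    have := central3_map N.ψ.symm hz
    rwa [show N.ψ.symm (N.D.ι w) = Concrete.setup.ι w from N.ψ.symm_apply_apply _] at this
  have := List.all_eq_true.1 tv_list w (mem_allW w)
  rw [h3, htv, Bool.not_true, Bool.false_or, Bool.false_or, List.any_eq_true] at this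
  obtain ⟨a, ha, e⟩ := this
  exact ⟨a, ha, (N.D.ι_eq_iff.2 e).symm⟩

theorem sq_eq (w : W) : N.D.ι (sqW w) = N.D.ι w ^ 2 := by
  rw [sq]
  exact map_mul N.D.ι w w

theorem mem_two_iff {a w : W} : N.D.ι w ∈ two t (N.D.ι a) ↔ twoB a w = true := by
  rw [twoB, Bool.and_eq_true, ← N.D.comm_iff]
  have h64 : p2 w = true ↔ N.D.ι w ^ 64 = 1 := by
    rw [p2, ← N.D.ι_eq_iff, map_one]
    simp only [sq_eq, ← pow_mul]
  constructor
  · rintro ⟨⟨n, hn⟩, -, hc⟩
    refine ⟨hc, h64.2 ?_⟩
    have hd : orderOf (N.D.ι w) ∣ 576 := by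
      rw [← N.D.card_cent]
      have := orderOf_dvd_natCard (⟨N.D.ι w, N.D.mem_cent.2 ⟨w, rfl⟩⟩ :
        centralizer ({N.D.t} : Set X))
      rwa [Subgroup.orderOf_mk] at this
    obtain ⟨k, -, hk⟩ := (Nat.dvd_prime_pow Nat.prime_two).1 (orderOf_dvd_of_pow_eq_one hn)
    rw [hk] at hd
    refine orderOf_dvd_iff_pow_eq_one.1 ?_
    rw [hk, show (64 : ℕ) = 2 ^ 6 by norm_num]
    refine pow_dvd_pow 2 (not_lt.1 fun hlt => ?_)
    exact absurd ((pow_dvd_pow 2 (show 7 ≤ k by omega)).trans hd) (by norm_num)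
  · rintro ⟨hc, hp⟩
    exact ⟨⟨6, by norm_num; exact h64.1 hp⟩, N.ι_t w, hc⟩

theorem exists_two {a : W} {q : X} (hq : q ∈ two t (N.D.ι a)) :
    ∃ b ∈ twoL a, N.D.ι b = q := by
  obtain ⟨w, rfl⟩ := N.exists_code hq.2.1
  obtain ⟨b, hb, e⟩ := N.D.exists_rep w
  rw [e] at hq ⊢
  exact ⟨b, List.mem_filter.2 ⟨hb, N.mem_two_iff.1 hq⟩, rfl⟩

theorem two_eq {a c : W} (h : (allC.all fun q => twoB c q == twoB a q) = true) :
    two t (N.D.ι c) = two t (N.D.ι a) := by
  ext q
  constructor <;> intro hq <;> obtain ⟨w, rfl⟩ := N.exists_code hq.2.1 <;>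
    obtain ⟨b, hb, e⟩ := N.D.exists_rep w <;> rw [e, N.mem_two_iff] at hq ⊢
  · rwa [← beq_iff_eq.1 (List.all_eq_true.1 h b hb)]
  · rwa [beq_iff_eq.1 (List.all_eq_true.1 h b hb)]

theorem triv_iff {w : W} : triv w = true ↔ N.D.ι w = 1 ∨ N.D.ι w = t := by
  rw [triv, Bool.or_eq_true, ← N.D.ι_eq_iff, ← N.D.ι_eq_iff, map_one]
  exact Iff.or Iff.rfl (by rw [show N.D.ι tW = t from N.D_t])

/-- An element conjugate to `t` has lifts squaring to one. -/
theorem conj_sq {w : W} (h : IsConj t (N.D.ι w)) : w * w = 1 := by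
  have h' : IsConj Concrete.setup.t (Concrete.setup.ι w) := by
    have := N.ψ.symm.toMonoidHom.map_isConj h
    rwa [show N.ψ.symm.toMonoidHom t = Concrete.setup.t from (N.ψ.symm_apply_eq).2 N.ht.symm,
      show N.ψ.symm.toMonoidHom (N.D.ι w) = Concrete.setup.ι w from N.ψ.symm_apply_apply _] at this
  obtain ⟨x, hx⟩ := isConj_iff.1 h'
  obtain ⟨B, rfl⟩ := QuotientGroup.mk'_surjective _ x
  have hx' : Concrete.proj (B * Concrete.lift tW * B⁻¹) = Concrete.proj (Concrete.lift w) := by
    rw [map_mul, map_mul, map_inv]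
    exact hx
  have ht2 : tW * tW = (1 : W) := by decide +kernel
  have hz2 : z * z = (1 : W) := by decide +kernel
  have hzc : ∀ A : Sp, A * Concrete.lift z = Concrete.lift z * A := fun A => by
    have : Concrete.proj (Concrete.lift z) = 1 := Concrete.proj_eq_one.2 (Or.inr rfl)
    exact Subgroup.mem_center_iff.1 ((QuotientGroup.eq_one_iff _).1 this) A
  have hsq : B * Concrete.lift tW * B⁻¹ * (B * Concrete.lift tW * B⁻¹) = 1 := by
    calc _ = B * (Concrete.lift tW * Concrete.lift tW) * B⁻¹ := by group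
      _ = 1 := by rw [← map_mul, ht2, map_one, mul_one, mul_inv_cancel]
  apply Concrete.lift_injective
  rw [map_one, map_mul]
  have h1 : Concrete.proj ((B * Concrete.lift tW * B⁻¹)⁻¹ * Concrete.lift w) = 1 := by
    rw [map_mul Concrete.proj, map_inv, hx', inv_mul_cancel]
  rcases Concrete.proj_eq_one.1 h1 with e | e
  · rw [inv_mul_eq_one] at e
    rw [← e, hsq]
  · rw [inv_mul_eq_iff_eq_mul] at e
    rw [e]
    calc B * Concrete.lift tW * B⁻¹ * Concrete.lift z * (B * Concrete.lift tW * B⁻¹ * Concrete.lift z)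
        = B * Concrete.lift tW * B⁻¹ * (Concrete.lift z * (B * Concrete.lift tW * B⁻¹)) * Concrete.lift z := by
          group
      _ = (B * Concrete.lift tW * B⁻¹ * (B * Concrete.lift tW * B⁻¹)) * (Concrete.lift z * Concrete.lift z) := by
          rw [← hzc]; group
      _ = 1 := by rw [hsq, ← map_mul, hz2, map_one, one_mul]

end Frame

variable {F : Type*} [Field F] [Fintype F] (hF : Fintype.card F = 3) (φ : Cfsg.PSp 2 F ≃* X)

include hF φ in
theorem exists_frame {t : X} (ht : orderOf t = 2)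
    (h9 : 9 ∣ Nat.card (centralizer ({t} : Set X))) : Nonempty (Frame X t) := by
  obtain ⟨e⟩ := exists_field_iso F hF
  let ψ := e.trans φ
  obtain ⟨-, U, hU, hc⟩ := PSpFourRec.psp_central_invol ψ ht h9
  obtain ⟨k, hk⟩ := exists_conj_general (Concrete.setup.transport ψ) ht hU hc
  refine ⟨⟨ψ.trans (MulAut.conj k⁻¹), ?_⟩⟩
  show k⁻¹ * (Concrete.setup.transport ψ).t * k⁻¹⁻¹ = t
  rw [← hk]
  group

namespace Pair

variable {t z1 z2 : X} (h : Pair t z1 z2)

include h in
theorem nine_dvd : 9 ∣ Nat.card (centralizer ({t} : Set X)) := by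
  haveI : Fact (Nat.Prime 3) := ⟨Nat.prime_three⟩
  have h1 : orderOf z1 = 3 := h.central1.1
  have h2 : orderOf z2 = 3 := h.central2.1
  let A := Subgroup.zpowers z1 ⊔ Subgroup.zpowers z2
  have hn : Subgroup.zpowers z1 ≤ normalizer (Subgroup.zpowers z2 : Set X) := by
    intro s hs
    refine Subgroup.centralizer_le_normalizer _ ?_
    obtain ⟨m, rfl⟩ := hs
    refine Subgroup.mem_centralizer_iff.2 ?_
    rintro _ ⟨n, rfl⟩
    exact ((Commute.zpow_zpow h.comm m n).eq).symm
  have hA : IsPGroup 3 A := IsPGroup.to_sup_of_normal_right'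
    (IsPGroup.of_card (n := 1) (by rw [Nat.card_zpowers, h1, pow_one]))
    (IsPGroup.of_card (n := 1) (by rw [Nat.card_zpowers, h2, pow_one])) hn
  obtain ⟨n, hn'⟩ := IsPGroup.iff_card.1 hA
  have hle : Nat.card (Subgroup.zpowers z1) < Nat.card A := by
    refine lt_of_le_of_ne (Subgroup.card_le_of_le le_sup_left) fun e => ?_
    have := Subgroup.eq_of_le_of_card_ge (le_sup_left : Subgroup.zpowers z1 ≤ A) e.ge
    exact h.not_mem (this ▸ mem_sup_right (mem_zpowers z2))
  rw [Nat.card_zpowers, h1, hn'] at hle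
  have h2n : 2 ≤ n := by
    by_contra hlt
    interval_cases n <;> simp at hle
  refine (((pow_dvd_pow 3 h2n).trans (dvd_of_eq hn'.symm))).trans (Subgroup.card_dvd_of_le ?_)
  refine sup_le ?_ ?_ <;> rw [zpowers_le, mem_centralizer_singleton_iff]
  · exact h.comm_t1
  · exact h.comm_t2

include h hF φ in
theorem card_cent : Nat.card (centralizer ({t} : Set X)) = 576 := by
  obtain ⟨N⟩ := exists_frame hF φ h.ord_t h.nine_dvd
  rw [← N.D_t]
  exact N.D.card_cent

include h hF φ in
theorem codes : ∃ (N : Frame X t) (a b : W), a ∈ L3 ∧ b ∈ L3 ∧ N.D.ι a = z1 ∧ N.D.ι b = z2 ∧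
    vp a b = true := by
  obtain ⟨N⟩ := exists_frame hF φ h.ord_t h.nine_dvd
  obtain ⟨a, ha, rfl⟩ := N.code_central h.central1 h.comm_t1
  obtain ⟨b, hb, rfl⟩ := N.code_central h.central2 h.comm_t2
  refine ⟨N, a, b, ha, hb, rfl, rfl, ?_⟩
  have hne : ∀ c : W, (N.D.ι b = N.D.ι c → False) → (!eqz b c) = true := fun c hc => by
    rw [Bool.not_eq_true', ← Bool.not_eq_true, ← N.D.ι_eq_iff]
    exact hc
  rw [vp, Bool.and_eq_true, Bool.and_eq_true, Bool.and_eq_true, ← N.D.comm_iff]
  refine ⟨⟨⟨h.comm, hne 1 fun e => ?_⟩, hne a fun e => ?_⟩, hne (wm a a) fun e => ?_⟩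
  · exact h.not_mem (by rw [e, map_one]; exact one_mem _)
  · exact h.not_mem (by rw [e]; exact mem_zpowers _)
  · exact h.not_mem (by
      rw [e, show wm a a = a * a from rfl, map_mul]
      exact mul_mem (mem_zpowers _) (mem_zpowers _))

include h hF φ in
theorem two_closed {q q' : X} (hq : q ∈ two t z1) (hq' : q' ∈ two t z1) :
    q * q' ∈ two t z1 ∧ (q * q = 1 ∨ q * q = t) := by
  obtain ⟨N, a, b, ha, -, rfl, -, -⟩ := h.codes hF φ
  obtain ⟨u, hu, rfl⟩ := N.exists_two hq
  obtain ⟨v, hv, rfl⟩ := N.exists_two hq'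
  have := List.all_eq_true.1 two_facts a ha
  simp only [Bool.and_eq_true, List.all_eq_true] at this
  obtain ⟨-, h2⟩ := this
  refine ⟨?_, ?_⟩
  · rw [← map_mul, N.mem_two_iff]
    exact (h2 u hu).2 v hv
  · rw [← map_mul]
    exact N.triv_iff.1 (h2 u hu).1

include h hF φ in
theorem card_two : Nat.card (two t z1) = 8 := by
  obtain ⟨N, a, b, ha, -, rfl, -, -⟩ := h.codes hF φ
  have := List.all_eq_true.1 two_facts a ha
  simp only [Bool.and_eq_true, beq_iff_eq] at this
  rw [← this.1, twoL, ← N.D.ncard_image]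
  refine Nat.card_congr (Equiv.subtypeEquivRight fun g => ⟨fun hg => ?_, ?_⟩)
  · exact N.exists_two hg
  · rintro ⟨u, hu, rfl⟩
    exact N.mem_two_iff.2 (List.mem_filter.1 hu).2

include h hF φ in
theorem two_comm {q1 q2 : X} (hq1 : q1 ∈ two t z1) (hq2 : q2 ∈ two t z2) : q1 * q2 = q2 * q1 := by
  obtain ⟨N, a, b, ha, hb, rfl, rfl, hv⟩ := h.codes hF φ
  obtain ⟨u, hu, rfl⟩ := N.exists_two hq1
  obtain ⟨v, hv', rfl⟩ := N.exists_two hq2
  have := List.all_eq_true.1 (List.all_eq_true.1 pair_facts a ha) b hb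
  simp only [hv, Bool.not_true, Bool.false_or, Bool.and_eq_true, List.all_eq_true] at this
  exact N.D.comm_iff.2 (this.2 u hu v hv').1

include h hF φ in
theorem two_inter : two t z1 ∩ two t z2 = {1, t} := by
  obtain ⟨N, a, b, ha, hb, rfl, rfl, hv⟩ := h.codes hF φ
  have := List.all_eq_true.1 (List.all_eq_true.1 pair_facts a ha) b hb
  simp only [hv, Bool.not_true, Bool.false_or, Bool.and_eq_true, List.all_eq_true, Bool.or_eq_true] at this
  ext q
  constructor
  · rintro ⟨h1, h2⟩
    obtain ⟨u, hu, rfl⟩ := N.exists_two h1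
    have hu' := List.mem_filter.1 hu
    rcases this.1 u hu'.1 with (e | e) | e
    · rw [Bool.not_eq_true', ← Bool.not_eq_true] at e
      exact absurd hu'.2 e
    · rw [Bool.not_eq_true', ← Bool.not_eq_true] at e
      exact absurd (N.mem_two_iff.1 h2) e
    · exact N.triv_iff.1 e
  · have ht2 : t ^ 2 = 1 := by rw [← h.ord_t]; exact pow_orderOf_eq_one t
    rintro (rfl | rfl)
    · exact ⟨⟨⟨0, by simp⟩, by simp, by simp⟩, ⟨⟨0, by simp⟩, by simp, by simp⟩⟩
    · exact ⟨⟨⟨1, by simpa using ht2⟩, rfl, h.comm_t1.symm⟩, ⟨⟨1, by simpa using ht2⟩, rfl, h.comm_t2.symm⟩⟩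

include h hF φ in
theorem third {z3 : X} (h3 : Central3 z3) (hc : z3 * t = t * z3) :
    (two t z3 = two t z1 ∧ z3 ∈ closure (insert z1 (two t z2))) ∨
      (two t z3 = two t z2 ∧ z3 ∈ closure (insert z2 (two t z1))) := by
  obtain ⟨N, a, b, ha, hb, rfl, rfl, hv⟩ := h.codes hF φ
  obtain ⟨c, hcm, rfl⟩ := N.code_central h3 hc
  have := List.all_eq_true.1 (List.all_eq_true.1 third_facts a ha) b hb
  rw [hv, Bool.not_true, Bool.false_or] at this
  have := List.all_eq_true.1 this c hcm
  have key : ∀ {a b : W}, ((twoL b).any fun q => [1, a, wm a a].any fun i => eqz c (wm i q)) = true →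
      N.D.ι c ∈ closure (insert (N.D.ι a) (two t (N.D.ι b))) := by
    intro a b hh
    obtain ⟨q, hq, hi⟩ := List.any_eq_true.1 hh
    obtain ⟨i, hi, e⟩ := List.any_eq_true.1 hi
    rw [N.D.ι_eq_iff.2 e, show wm i q = i * q from rfl, map_mul]
    refine mul_mem ?_ (subset_closure (Set.mem_insert_of_mem _ (N.mem_two_iff.2 (List.mem_filter.1 hq).2)))
    have hma : N.D.ι a ∈ closure (insert (N.D.ι a) (two t (N.D.ι b))) :=
      subset_closure (Set.mem_insert _ _)
    simp only [List.mem_cons, List.not_mem_nil, or_false] at hi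
    rcases hi with rfl | rfl | rfl
    · rw [map_one]; exact one_mem _
    · exact hma
    · rw [show wm a a = a * a from rfl, map_mul]; exact mul_mem hma hma
  rw [Bool.or_eq_true, Bool.and_eq_true, Bool.and_eq_true] at this
  rcases this with ⟨h1, h2⟩ | ⟨h1, h2⟩
  · exact Or.inl ⟨N.two_eq h1, key h2⟩
  · exact Or.inr ⟨N.two_eq h1, key h2⟩

include h hF φ in
theorem prod_not_conj {q1 q2 : X} (hq1 : q1 ∈ two t z1) (hq2 : q2 ∈ two t z2)
    (h1 : q1 ≠ 1 ∧ q1 ≠ t) (h2 : q2 ≠ 1 ∧ q2 ≠ t) : ¬ IsConj t (q1 * q2) := by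
  obtain ⟨N, a, b, ha, hb, rfl, rfl, hv⟩ := h.codes hF φ
  obtain ⟨u, hu, rfl⟩ := N.exists_two hq1
  obtain ⟨v, hv', rfl⟩ := N.exists_two hq2
  have := List.all_eq_true.1 (List.all_eq_true.1 pair_facts a ha) b hb
  simp only [hv, Bool.not_true, Bool.false_or, Bool.and_eq_true, List.all_eq_true] at this
  have h3 := (this.2 u hu v hv').2
  have n1 : triv u = false := by
    rw [← Bool.not_eq_true, N.triv_iff]; tauto
  have n2 : triv v = false := by
    rw [← Bool.not_eq_true, N.triv_iff]; tauto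
  intro hc
  rw [← map_mul] at hc
  have hs : wm (wm u v) (wm u v) = 1 := N.conj_sq hc
  simp [n1, n2, hs] at h3

include h hF φ in
theorem swap_not_conj {y : X} (hy : y * t = t * y) (hy2 : y * y = 1) (hc : IsConj t y)
    (hm : y * z1 * y⁻¹ ∉ Subgroup.zpowers z1) : ¬ IsConj t (t * y) := by
  obtain ⟨N, a, b, ha, -, rfl, -, -⟩ := h.codes hF φ
  obtain ⟨w, rfl⟩ := N.exists_code hy
  have hw : wm w w = 1 := N.conj_sq hc
  intro hc'
  rw [show t * N.D.ι w = N.D.ι (tW * w) by rw [map_mul, show N.D.ι tW = t from N.D_t]] at hc'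
  have hw' : wm (wm tW w) (wm tW w) = 1 := N.conj_sq hc'
  have := List.all_eq_true.1 (List.all_eq_true.1 swap_facts a ha) w (mem_allW w)
  simp only [hw, hw', beq_self_eq_true, Bool.not_true, Bool.false_or, Bool.or_false, Bool.or_eq_true] at this
  rw [← N.D.cj_eq] at hm
  rcases this with (e | e) | e <;> rw [N.D.ι_eq_iff.2 e] at hm <;> apply hm
  · rw [map_one]; exact one_mem _
  · exact mem_zpowers _
  · rw [show wm a a = a * a from rfl, map_mul]; exact mul_mem (mem_zpowers _) (mem_zpowers _)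

end Pair


omit [Finite X] in
theorem two_conj {t z c : X} (hc : c * t = t * c) :
    two t (c * z * c⁻¹) = (MulAut.conj c) '' two t z := by
  have ht : (MulAut.conj c) t = t := by rw [MulAut.conj_apply, hc, mul_inv_cancel_right]
  ext q
  constructor
  · rintro ⟨⟨n, hn⟩, h1, h2⟩
    refine ⟨(MulAut.conj c).symm q, ⟨⟨n, by rw [← map_pow, hn, map_one]⟩, ?_, ?_⟩,
      (MulAut.conj c).apply_symm_apply q⟩
    · apply (MulAut.conj c).injective
      rw [map_mul, map_mul, MulEquiv.apply_symm_apply, ht, h1]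
    · apply (MulAut.conj c).injective
      rw [map_mul, map_mul, MulEquiv.apply_symm_apply, MulAut.conj_apply, h2]
  · rintro ⟨q, ⟨⟨n, hn⟩, h1, h2⟩, rfl⟩
    refine ⟨⟨n, by rw [← map_pow, hn, map_one]⟩, ?_, ?_⟩
    · conv_lhs => rw [← ht, ← map_mul, h1, map_mul, ht]
    · rw [← MulAut.conj_apply, ← map_mul, h2, map_mul]

namespace Pair

variable {t z1 z2 : X} (h : Pair t z1 z2)

include h in
theorem symm : Pair t z2 z1 := by
  refine ⟨h.ord_t, h.central2, h.central1, h.comm_t2, h.comm_t1, h.comm.symm, fun hm => h.not_mem ?_⟩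
  haveI : Fact (Nat.Prime 3) := ⟨Nat.prime_three⟩
  have hle : zpowers z1 ≤ zpowers z2 := zpowers_le.2 hm
  rw [Subgroup.eq_of_le_of_card_ge hle (by rw [Nat.card_zpowers, Nat.card_zpowers, h.central1.1, h.central2.1])]
  exact mem_zpowers z2

include h hF φ in
/-- An element centralising `t` fixes or exchanges the two sets. -/
theorem conj_two {c : X} (hc : c * t = t * c) :
    ((MulAut.conj c) '' two t z1 = two t z1 ∧ (MulAut.conj c) '' two t z2 = two t z2) ∨
      ((MulAut.conj c) '' two t z1 = two t z2 ∧ (MulAut.conj c) '' two t z2 = two t z1) := by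
  have hne : two t z1 ≠ two t z2 := fun e => by
    have h8 := h.card_two hF φ
    have hi := h.two_inter hF φ
    rw [← e, Set.inter_self] at hi
    rw [hi, Nat.card_coe_set_eq] at h8
    have := Set.ncard_insert_le (1 : X) {t}
    rw [Set.ncard_singleton] at this
    omega
  have key : ∀ {z : X}, Central3 z → z * t = t * z →
      (MulAut.conj c) '' two t z = two t z1 ∨ (MulAut.conj c) '' two t z = two t z2 := by
    intro z hz hzt
    rw [← two_conj hc]
    have hct : (c * z * c⁻¹) * t = t * (c * z * c⁻¹) := by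
      have e : c⁻¹ * t = t * c⁻¹ := by rw [inv_mul_eq_iff_eq_mul, ← mul_assoc, hc, mul_inv_cancel_right]
      rw [mul_assoc, e, ← mul_assoc, mul_assoc c, hzt, ← mul_assoc, hc, mul_assoc t, mul_assoc t]
    exact (h.third hF φ (central3_map (MulAut.conj c) hz) hct).imp And.left And.left
  have hinj := (MulAut.conj c).injective.image_injective
  rcases key h.central1 h.comm_t1 with e1 | e1 <;> rcases key h.central2 h.comm_t2 with e2 | e2
  · exact absurd (hinj (e1.trans e2.symm)) hne
  · exact Or.inl ⟨e1, e2⟩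
  · exact Or.inr ⟨e1, e2⟩
  · exact absurd (hinj (e1.trans e2.symm)) hne

end Pair

end CfsgLib.O8Three.PSpModel
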