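import Cfsg.Agent.O8Three.PSpModelTv

/-!
# Centres of Sylow 3-subgroups of `PSp₄(3)`
-/

set_option autoImplicit false
set_option linter.style.haveILetI false

namespace CfsgLib.O8Three.PSpModel

open Subgroup CfsgLib.PSpFourInvol CfsgLib.PSpFourInvol.Concrete

/-- A transvection image, its parametrised centralizer, and a Sylow subgroup inside. -/
theorem exists_centre : ∃ (c : P0) (f : PSpFourThree.T → P0) (S : Sylow 3 P0),
    orderOf c = 3 ∧ Function.Injective f ∧ (∀ x y, f (PSpFourThree.tmul x y) = f x * f y) ∧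
    (∀ g, g ∈ centralizer ({c} : Set P0) ↔ ∃ x, f x = g) ∧
    (S : Subgroup P0) ≤ centralizer ({c} : Set P0) ∧
    ∀ y ∈ (S : Subgroup P0), (∀ s ∈ (S : Subgroup P0), s * y = y * s) → y = 1 ∨ y = c ∨ y = c * c := by
  classical
  haveI : Fact (Nat.Prime 3) := ⟨Nat.prime_three⟩
  obtain ⟨f, hfi, hfm, hord, hcent⟩ := PSpFourThree.main (F := ZMod 3) (ZMod.card 3)
  have h1 : f ((0, 0), 1) = 1 := by
    have := hfm ((0, 0), 1) ((0, 0), 1)
    rw [PSpFourThree.tmul_one] at this
    exact mul_eq_left.mp this.symm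
  have hcube : ∀ h : PSpFourThree.H, f (h, 1) ^ 3 = 1 := fun h => by
    rw [pow_succ, pow_two, ← hfm, ← hfm, PSpFourThree.heis_cube, h1]
  let Hsub : Subgroup P0 :=
    { carrier := {g | ∃ h : PSpFourThree.H, g = f (h, 1)}
      one_mem' := ⟨(0, 0), h1.symm⟩
      mul_mem' := by
        rintro _ _ ⟨a, rfl⟩ ⟨b, rfl⟩
        exact ⟨PSpFourThree.hmul a b, by rw [← hfm]; simp [PSpFourThree.tmul]⟩
      inv_mem' := by
        rintro _ ⟨a, rfl⟩
        refine ⟨PSpFourThree.hmul a a, ?_⟩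
        apply inv_eq_of_mul_eq_one_right
        rw [show f (PSpFourThree.hmul a a, 1) = f (a, 1) * f (a, 1) by
          rw [← hfm]; simp [PSpFourThree.tmul], ← hcube a, pow_succ', pow_two] }
  have hPG : IsPGroup 3 Hsub := fun g => ⟨1, by
    obtain ⟨h, hh⟩ := g.2
    apply Subtype.ext
    rw [pow_one, SubgroupClass.coe_pow, hh, hcube]; rfl⟩
  set C := centralizer ({f PSpFourThree.tt} : Set P0) with hC
  have hHC : Hsub ≤ C := by
    rintro _ ⟨h, rfl⟩
    exact (hcent _).2 ⟨_, rfl⟩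
  obtain ⟨Q, hQ⟩ := (hPG.of_equiv (subgroupOfEquivOfLe hHC).symm).exists_le_sylow
  have hCcard : Nat.card C = 648 := by
    rw [← PSpFourThree.card_T]
    exact (Nat.card_eq_of_bijective (fun x => (⟨f x, (hcent _).2 ⟨x, rfl⟩⟩ : C))
      ⟨fun x y h => hfi (congrArg Subtype.val h),
        fun ⟨g, hg⟩ => by obtain ⟨x, rfl⟩ := (hcent g).1 hg; exact ⟨x, rfl⟩⟩).symm
  have hQcard : Nat.card (Q : Subgroup C) = 81 := by
    rw [Q.card_eq_multiplicity, hCcard, show (648 : ℕ) = 3 ^ 4 * 2 ^ 3 by norm_num,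
      Nat.factorization_mul (by norm_num) (by norm_num), Nat.Prime.factorization_pow Nat.prime_three,
      Nat.Prime.factorization_pow Nat.prime_two]
    simp
  have hScard : Nat.card ((Q : Subgroup C).map C.subtype) = 81 := by
    rw [card_map_of_injective C.subtype_injective, hQcard]
  let S : Sylow 3 P0 := Sylow.ofCard ((Q : Subgroup C).map C.subtype) (by
    rw [hScard, PSpFourRec.psp_card (MulEquiv.refl P0), show (25920 : ℕ) = 3 ^ 4 * (2 ^ 6 * 5) by norm_num,
      Nat.factorization_mul (by norm_num) (by norm_num), Nat.Prime.factorization_pow Nat.prime_three,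
      Nat.factorization_mul (by norm_num) (by norm_num), Nat.Prime.factorization_pow Nat.prime_two,
      Nat.Prime.factorization (show Nat.Prime 5 by norm_num)]
    simp)
  have hSC : (S : Subgroup P0) ≤ C := map_subtype_le _
  refine ⟨f PSpFourThree.tt, f, S, hord, hfi, hfm, hcent, hSC, fun y hy hc => ?_⟩
  obtain ⟨x, rfl⟩ := (hcent y).1 (hSC hy)
  have hmem : ∀ h : PSpFourThree.H, f (h, 1) ∈ (S : Subgroup P0) := fun h =>
    ⟨⟨f (h, 1), hHC ⟨h, rfl⟩⟩, hQ (show f (h, 1) ∈ Hsub from ⟨h, rfl⟩), rfl⟩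
  have hcm : ∀ h : PSpFourThree.H,
      PSpFourThree.tmul x (h, 1) = PSpFourThree.tmul (h, 1) x := fun h => hfi (by
    rw [hfm, hfm, hc _ (hmem h)])
  rcases PSpFourThree.cent_heis x ⟨hcm _, hcm _⟩ with rfl | rfl | rfl
  · exact Or.inl h1
  · exact Or.inr (Or.inl rfl)
  · exact Or.inr (Or.inr (hfm _ _))

/-- Elements of order three centralised by a subgroup of order `81` are conjugate up to inversion. -/
theorem central3_conj {y : P0} (hy : Central3 y) {c : P0} {S : Sylow 3 P0}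
    (hS : ∀ y ∈ (S : Subgroup P0), (∀ s ∈ (S : Subgroup P0), s * y = y * s) → y = 1 ∨ y = c ∨ y = c * c) :
    ∃ g : P0, g * y * g⁻¹ = c ∨ g * y * g⁻¹ = c * c := by
  haveI : Fact (Nat.Prime 3) := ⟨Nat.prime_three⟩
  obtain ⟨hy3, h81⟩ := hy
  obtain ⟨K, hK⟩ := Sylow.exists_subgroup_card_pow_prime 3
    (show 3 ^ 4 ∣ Nat.card (centralizer ({y} : Set P0)) from h81)
  set K' := K.map (centralizer ({y} : Set P0)).subtype with hK'
  have hK'card : Nat.card K' = 3 ^ 4 := by
    rw [hK', card_map_of_injective (Subgroup.subtype_injective _), hK]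
  let R : Sylow 3 P0 := Sylow.ofCard K' (by
    rw [hK'card, PSpFourRec.psp_card (MulEquiv.refl P0), show (25920 : ℕ) = 3 ^ 4 * (2 ^ 6 * 5) by norm_num,
      Nat.factorization_mul (by norm_num) (by norm_num), Nat.Prime.factorization_pow Nat.prime_three,
      Nat.factorization_mul (by norm_num) (by norm_num), Nat.Prime.factorization_pow Nat.prime_two,
      Nat.Prime.factorization (show Nat.Prime 5 by norm_num)]
    simp)
  have hcm : ∀ s ∈ (R : Subgroup P0), s * y = y * s := fun s hs =>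
    mem_centralizer_singleton_iff.1 (map_subtype_le K hs)
  have hyR : y ∈ (R : Subgroup P0) := by
    have hp : IsPGroup 3 (Subgroup.zpowers y) :=
      IsPGroup.of_card (n := 1) (by rw [Nat.card_zpowers, hy3, pow_one])
    have hn : (R : Subgroup P0) ≤ normalizer (Subgroup.zpowers y : Set P0) := by
      intro s hs
      refine mem_normalizer_iff.2 fun h => ?_
      have hc : Commute s y := hcm s hs
      constructor
      · rintro ⟨n, rfl⟩
        exact ⟨n, by show y ^ n = s * y ^ n * s⁻¹; rw [(hc.zpow_right n).eq, mul_inv_cancel_right]⟩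
      · rintro ⟨n, hn⟩
        refine ⟨n, ?_⟩
        have hn' : y ^ n = s * h * s⁻¹ := hn
        calc y ^ n = s⁻¹ * (y ^ n * s) := by rw [← (hc.zpow_right n).eq, inv_mul_cancel_left]
          _ = h := by rw [hn']; group
    have := R.is_maximal' (R.isPGroup'.to_sup_of_normal_right' hp hn) le_sup_left
    exact this ▸ mem_sup_right (mem_zpowers y)
  obtain ⟨g, hg⟩ := MulAction.exists_smul_eq P0 R S
  refine ⟨g, ?_⟩
  have hgy : g * y * g⁻¹ ∈ (S : Subgroup P0) := by
    rw [← hg]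
    exact ⟨y, hyR, rfl⟩
  rcases hS _ hgy (fun s hs => by
    rw [← hg] at hs
    obtain ⟨r, hr, rfl⟩ := hs
    show g * r * g⁻¹ * (g * y * g⁻¹) = g * y * g⁻¹ * (g * r * g⁻¹)
    rw [show g * r * g⁻¹ * (g * y * g⁻¹) = g * (r * y) * g⁻¹ by group, hcm r hr]
    group) with h | h | h
  · rw [mul_inv_eq_one, mul_eq_left] at h
    rw [h, orderOf_one] at hy3
    norm_num at hy3
  · exact Or.inl h
  · exact Or.inr h

theorem central3_tv {y : P0} (hy : Central3 y) : Tv y := by
  obtain ⟨c, f, S, hord, -, -, -, -, hS⟩ := exists_centre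
  have hc3 : c ^ 3 = 1 := orderOf_dvd_iff_pow_eq_one.1 (dvd_of_eq hord)
  obtain ⟨g, hg⟩ := central3_conj hy hS
  obtain ⟨k, hk⟩ := central3_conj c0_central3 hS
  have hcube : ∀ a : P0, a ^ 3 = 1 → a * a * (a * a) = a := fun a ha => by
    calc a * a * (a * a) = a ^ 3 * a := by rw [pow_succ, pow_two, mul_assoc (a * a) a a]
      _ = a := by rw [ha, one_mul]
  have hc : Tv c ∧ Tv (c * c) := by
    have h1 := c0_tv.conj k
    rcases hk with e | e
    · rw [e] at h1; exact ⟨h1, h1.sq⟩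
    · rw [e] at h1
      refine ⟨?_, h1⟩
      have h2 := h1.sq
      have h6 : c * c * (c * c) = c := hcube c hc3
      rwa [h6] at h2
  rcases hg with e | e
  · have := (hc.1).conj g⁻¹
    rwa [← e, show g⁻¹ * (g * y * g⁻¹) * g⁻¹⁻¹ = y by group] at this
  · have := (hc.2).conj g⁻¹
    rwa [← e, show g⁻¹ * (g * y * g⁻¹) * g⁻¹⁻¹ = y by group] at this

end CfsgLib.O8Three.PSpModel
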