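import Mathlib
import Cfsg.Agent.PSpFourThreeCent.Param

/-!
# Centralizers of elements of order three inside `3^{1+2}.SL₂(3)`
-/

set_option autoImplicit false
set_option maxRecDepth 100000

namespace CfsgLib.O8Three.PSpModel

open Matrix CfsgLib.PSpFourThree

/-- The coordinates of a product. -/
def prodKey (x y : T) : List (ZMod 3) :=
  let p := x.1.1 0
  let q := x.1.1 1
  let a := x.2.1 0 0
  let b := x.2.1 0 1
  let d := x.2.1 1 0
  let h := x.2.1 1 1
  let p' := a * y.1.1 0 + b * y.1.1 1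
  let q' := d * y.1.1 0 + h * y.1.1 1
  [p + p', q + q', x.1.2 + y.1.2 + (p * q' - q * p'),
    a * y.2.1 0 0 + b * y.2.1 1 0, a * y.2.1 0 1 + b * y.2.1 1 1,
    d * y.2.1 0 0 + h * y.2.1 1 0, d * y.2.1 0 1 + h * y.2.1 1 1]

/-- The coordinates of an element. -/
def keyOf (x : T) : List (ZMod 3) :=
  [x.1.1 0, x.1.1 1, x.1.2, x.2.1 0 0, x.2.1 0 1, x.2.1 1 0, x.2.1 1 1]

theorem keyOf_inj {x y : T} (h : keyOf x = keyOf y) : x = y := by
  simp only [keyOf, List.cons.injEq, and_true] at h
  obtain ⟨h1, h2, h3, h4, h5, h6, h7⟩ := h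
  refine Prod.ext (Prod.ext ?_ h3) ?_
  · funext i; fin_cases i <;> assumption
  · apply Subtype.ext; ext i j; fin_cases i <;> fin_cases j <;> assumption

theorem keyOf_tmul (x y : T) : keyOf (tmul x y) = prodKey x y := by
  simp [keyOf, prodKey, tmul, hmul, om, Matrix.mulVec, dotProduct, Fin.sum_univ_two, Matrix.mul_apply]
  try exact ⟨rfl, rfl⟩

theorem count_dvd : ∀ u : T, tmul (tmul u u) u = ((0, 0), 1) →
    27 ∣ (Finset.univ.filter fun v : T => prodKey u v = prodKey v u).card := by
  set_option synthInstance.maxSize 2000 in set_option synthInstance.maxHeartbeats 200000 in decide +kernel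

theorem cent_dvd (u : T) (hu : tmul (tmul u u) u = ((0, 0), 1)) :
    27 ∣ Nat.card {v : T // tmul u v = tmul v u} := by
  classical
  rw [Nat.card_eq_fintype_card, Fintype.card_subtype]
  convert count_dvd u hu using 2
  refine Finset.filter_congr fun v _ => ?_
  rw [← keyOf_tmul, ← keyOf_tmul]
  exact ⟨congrArg keyOf, keyOf_inj⟩

end CfsgLib.O8Three.PSpModel
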