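import Cfsg.Agent.PSpFourInvol.Model
import Cfsg.Agent.PSpFourThreeCent.Param

/-!
# Coded facts about the involution centraliser of `PSp₄(3)` and its elements of order three
-/

set_option autoImplicit false
set_option maxRecDepth 100000

namespace CfsgLib.O8Three.PSpModel

open CfsgLib.PSpFourInvol CfsgLib.PSpFourInvol.Concrete

/-- The four coordinates. -/
def idx4 : List (Fin 2 ⊕ Fin 2) := [.inl 0, .inl 1, .inr 0, .inr 1]

/-- All two by two minors vanish. -/
def minorsB (M : MB) : Bool :=
  idx4.all fun i => idx4.all fun k => idx4.all fun j => idx4.all fun l =>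
    decide (M i j * M k l = M i l * M k j)

/-- One of `w`, `-w` differs from the identity in rank at most one. -/
def tvB (w : W) : Bool :=
  let A := mat w
  minorsB (A - 1) || minorsB (A + 1)

/-- Order three modulo `z`. -/
def ord3 (w : W) : Bool := eqz (wm w (wm w w)) 1 && !eqz w 1

/-- The elements of order three with a transvection as lift. -/
def L3 : List W :=
  ([4, 7, 8, 9, 10, 13, 20, 22].map fun k => (⟨k, 0, false⟩ : W)) ++
    [4, 7, 8, 9, 10, 13, 20, 22].map fun k => (⟨0, k, false⟩ : W)

/-- Squaring. -/
def sqW (w : W) : W := wm w w

/-- A two-element modulo `z`. -/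
def p2 (w : W) : Bool := eqz (sqW (sqW (sqW (sqW (sqW (sqW w)))))) 1

/-- A two-element commuting with `a`. -/
def twoB (a w : W) : Bool := comm w a && p2 w

/-- The list of these. -/
def twoL (a : W) : List W := allC.filter (twoB a)

/-- Commuting elements generating different subgroups. -/
def vp (a b : W) : Bool := comm a b && !eqz b 1 && !eqz b a && !eqz b (wm a a)

/-- One or `t`. -/
def triv (w : W) : Bool := eqz w 1 || eqz w tW

theorem tv_list : allW.all (fun w => !ord3 w || !tvB w || L3.any (eqz w)) = true := by decide +kernel

theorem L3_ord : L3.all (fun a => ord3 a && comm a tW && tvB a) = true := by decide +kernel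

theorem two_facts : L3.all (fun a =>
    let l := twoL a
    l.length == 8 && l.all fun q => triv (wm q q) && l.all fun q' => twoB a (wm q q')) = true := by
  decide +kernel

theorem pair_facts : L3.all (fun a => L3.all fun b => !vp a b ||
    let la := twoL a
    let lb := twoL b
    (allC.all fun q => !twoB a q || !twoB b q || triv q) &&
    (la.all fun q => lb.all fun q' => comm q q' &&
      (triv q || triv q' || !(wm (wm q q') (wm q q') == 1)))) = true := by
  decide +kernel

theorem third_facts : L3.all (fun a => L3.all fun b => !vp a b ||
    L3.all fun c =>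
      ((allC.all fun q => twoB c q == twoB a q) &&
        (twoL b).any fun q => [1, a, wm a a].any fun i => eqz c (wm i q)) ||
      ((allC.all fun q => twoB c q == twoB b q) &&
        (twoL a).any fun q => [1, b, wm b b].any fun i => eqz c (wm i q))) = true := by
  decide +kernel

theorem swap_facts : L3.all (fun a => allW.all fun w => !(wm w w == 1) ||
    eqz (cj w a) 1 || eqz (cj w a) a || eqz (cj w a) (wm a a) ||
    !(wm (wm tW w) (wm tW w) == 1)) = true := by
  decide +kernel

end CfsgLib.O8Three.PSpModel
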