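import Cfsg.Agent.O8Three.PSpModelCent
import Cfsg.Agent.O8Three.PSpModelCount

/-!
# Elements of order three of `PSp₄(3)` have centralizer order divisible by `27`
-/

set_option autoImplicit false
set_option linter.style.haveILetI false

namespace CfsgLib.O8Three.PSpModel

open Subgroup CfsgLib.PSpFourInvol

theorem three_cent_model {x : Concrete.P0} (hx : orderOf x = 3) :
    27 ∣ Nat.card (centralizer ({x} : Set Concrete.P0)) := by
  classical
  haveI : Fact (Nat.Prime 3) := ⟨Nat.prime_three⟩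
  obtain ⟨c, f, S, -, hfi, hfm, hcent, hSC, -⟩ := exists_centre
  have h1 : f ((0, 0), 1) = 1 := by
    have := hfm ((0, 0), 1) ((0, 0), 1)
    rw [PSpFourThree.tmul_one] at this
    exact mul_eq_left.mp this.symm
  obtain ⟨R, hR⟩ := (IsPGroup.of_card (n := 1)
    (show Nat.card (zpowers x) = 3 ^ 1 by rw [Nat.card_zpowers, hx, pow_one])).exists_le_sylow
  obtain ⟨g, hg⟩ := MulAction.exists_smul_eq Concrete.P0 R S
  have hy : g * x * g⁻¹ ∈ (S : Subgroup Concrete.P0) := by
    rw [← hg]
    exact ⟨x, hR (mem_zpowers x), rfl⟩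
  obtain ⟨u, hu⟩ := (hcent _).1 (hSC hy)
  have hu3 : PSpFourThree.tmul (PSpFourThree.tmul u u) u = ((0, 0), 1) := hfi (by
    rw [hfm, hfm, h1, hu, show g * x * g⁻¹ * (g * x * g⁻¹) * (g * x * g⁻¹) = g * (x * x * x) * g⁻¹ by group,
      show x * x * x = 1 by rw [← pow_two, ← pow_succ]; exact orderOf_dvd_iff_pow_eq_one.1 (dvd_of_eq hx), mul_one, mul_inv_cancel])
  have key := cent_dvd u hu3
  let H := centralizer ({g * x * g⁻¹} : Set Concrete.P0) ⊓ centralizer ({c} : Set Concrete.P0)
  have hH : Nat.card H = Nat.card {v : PSpFourThree.T //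
      PSpFourThree.tmul u v = PSpFourThree.tmul v u} := by
    refine (Nat.card_eq_of_bijective (fun v => (⟨f v.1, ?_, (hcent _).2 ⟨_, rfl⟩⟩ : H)) ⟨?_, ?_⟩).symm
    · show f v.1 ∈ centralizer ({g * x * g⁻¹} : Set Concrete.P0)
      rw [mem_centralizer_singleton_iff, ← hu, ← hfm, ← hfm, v.2]
    · exact fun a b e => Subtype.ext (hfi (congrArg Subtype.val e))
    · rintro ⟨y, hy1, hy2⟩
      obtain ⟨v, rfl⟩ := (hcent y).1 hy2
      refine ⟨⟨v, hfi ?_⟩, rfl⟩
      rw [hfm, hfm, hu]
      exact (mem_centralizer_singleton_iff.1 hy1).symm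
  have h2 : 27 ∣ Nat.card (centralizer ({g * x * g⁻¹} : Set Concrete.P0)) :=
    (hH ▸ key : 27 ∣ Nat.card H).trans (Subgroup.card_dvd_of_le inf_le_left)
  have hmap : centralizer ({g * x * g⁻¹} : Set Concrete.P0) =
      (centralizer ({x} : Set Concrete.P0)).map (MulAut.conj g).toMonoidHom := by
    ext y
    rw [mem_map_equiv, mem_centralizer_singleton_iff, mem_centralizer_singleton_iff, MulAut.conj_symm_apply]
    constructor <;> intro e
    · calc g⁻¹ * y * g * x = g⁻¹ * (y * (g * x * g⁻¹)) * g := by group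
        _ = g⁻¹ * (g * x * g⁻¹ * y) * g := by rw [e]
        _ = _ := by group
    · calc y * (g * x * g⁻¹) = g * (g⁻¹ * y * g * x) * g⁻¹ := by group
        _ = g * (x * (g⁻¹ * y * g)) * g⁻¹ := by rw [e]
        _ = _ := by group
  rwa [hmap, card_map_of_injective (MulAut.conj g).injective] at h2

variable {X : Type*} [Group X] [Finite X] {F : Type*} [Field F] [Fintype F] (hF : Fintype.card F = 3)
  (φ : Cfsg.PSp 2 F ≃* X)

include hF φ in
theorem three_cent {x : X} (hx : orderOf x = 3) : 27 ∣ Nat.card (centralizer ({x} : Set X)) := by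
  obtain ⟨e⟩ := exists_field_iso F hF
  let ψ := e.trans φ
  have h := three_cent_model (x := ψ.symm x) (by rw [MulEquiv.orderOf_eq, hx])
  have hmap : centralizer ({x} : Set X) =
      (centralizer ({ψ.symm x} : Set Concrete.P0)).map ψ.toMonoidHom := by
    ext y
    rw [mem_map_equiv, mem_centralizer_singleton_iff, mem_centralizer_singleton_iff,
      ← map_mul, ← map_mul, ψ.symm.injective.eq_iff]
  rwa [hmap, card_map_of_injective ψ.injective]

end CfsgLib.O8Three.PSpModel
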