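import Cfsg.Agent.PSpFourRec.PSpFacts
import Cfsg.Agent.PSpFourThreeCent.Main
import Cfsg.Agent.O8Three.PSpModelData

/-!
# Elements of `PSp₄(3)` centralised by a Sylow 3-subgroup
-/

set_option autoImplicit false
set_option linter.style.haveILetI false

namespace CfsgLib.O8Three.PSpModel

open Matrix Subgroup CfsgLib.PSpFourInvol CfsgLib.PSpFourInvol.Concrete

/-- Order three with centralizer order divisible by `81`. -/
def Central3 {X : Type*} [Group X] (z : X) : Prop :=
  orderOf z = 3 ∧ 81 ∣ Nat.card (Subgroup.centralizer ({z} : Set X))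

/-- Rank at most one. -/
def R1 (M : MB) : Prop := ∃ u v : Fin 2 ⊕ Fin 2 → ZMod 3, M = vecMulVec u v

theorem R1.mul_left {M : MB} (h : R1 M) (A : MB) : R1 (A * M) := by
  obtain ⟨u, v, rfl⟩ := h
  exact ⟨A *ᵥ u, v, mul_vecMulVec A u v⟩

theorem R1.mul_right {M : MB} (h : R1 M) (A : MB) : R1 (M * A) := by
  obtain ⟨u, v, rfl⟩ := h
  exact ⟨u, v ᵥ* A, vecMulVec_mul u v A⟩

theorem R1.neg {M : MB} (h : R1 M) : R1 (-M) := by
  simpa using h.mul_left (-1)

theorem R1.minors {M : MB} (h : R1 M) : minorsB M = true := by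
  obtain ⟨u, v, rfl⟩ := h
  simp only [minorsB, List.all_eq_true, vecMulVec_apply]
  intro i _ k _ j _ l _
  exact decide_eq_true (by ring)

/-- The symplectic group. -/
abbrev Sp : Type := Matrix.symplecticGroup (Fin 2) (ZMod 3)

/-- Some lift is a transvection up to sign. -/
def Tv (g : P0) : Prop := ∃ A : Sp, proj A = g ∧ (R1 (A.1 - 1) ∨ R1 (A.1 + 1))

theorem Tv.conj {g : P0} (h : Tv g) (x : P0) : Tv (x * g * x⁻¹) := by
  obtain ⟨A, rfl, hA⟩ := h
  obtain ⟨B, rfl⟩ := QuotientGroup.mk'_surjective _ x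
  refine ⟨B * A * B⁻¹, ?_, ?_⟩
  · show proj (B * A * B⁻¹) = proj B * proj A * (proj B)⁻¹
    rw [map_mul, map_mul, map_inv]
  have hB : B.1 * (B⁻¹).1 = 1 := congrArg Subtype.val (mul_inv_cancel B)
  rcases hA with hA | hA
  · left
    have := (hA.mul_left B.1).mul_right (B⁻¹).1
    rw [mul_sub, sub_mul, mul_one, hB] at this
    exact this
  · right
    have := (hA.mul_left B.1).mul_right (B⁻¹).1
    rw [mul_add, add_mul, mul_one, hB] at this
    exact this

theorem Tv.sq {g : P0} (h : Tv g) : Tv (g * g) := by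
  obtain ⟨A, rfl, hA⟩ := h
  refine ⟨A * A, map_mul _ _ _, Or.inl ?_⟩
  have e : (A * A).1 - 1 = (A.1 - 1) * (A.1 + 1) := by
    show A.1 * A.1 - 1 = _
    noncomm_ring
  rw [e]
  rcases hA with hA | hA
  · exact hA.mul_right _
  · exact hA.mul_left _

theorem Tv.tvB {w : W} (h : Tv (Concrete.setup.ι w)) : tvB w = true := by
  obtain ⟨A, hA, hR⟩ := h
  have hA' : proj ((lift w)⁻¹ * A) = 1 := by
    rw [map_mul, map_inv, hA]
    exact inv_mul_cancel (proj (lift w))
  rw [PSpModel.tvB, Bool.or_eq_true]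
  rcases proj_eq_one.1 hA' with e | e
  · rw [inv_mul_eq_one] at e
    subst e
    exact hR.imp R1.minors R1.minors
  · rw [inv_mul_eq_iff_eq_mul] at e
    have hz : mat z = -1 := by decide +kernel
    have e' : A.1 = -mat w := by
      rw [e]
      show mat w * mat z = _
      rw [hz, mul_neg, mul_one]
    rcases hR with hR | hR
    · right
      have := hR.neg
      rw [e', neg_sub, sub_neg_eq_add, add_comm] at this
      exact this.minors
    · left
      have := hR.neg
      rw [e', neg_add_rev, neg_neg, ← sub_eq_neg_add] at this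
      exact this.minors

/-- The transvection. -/
def W0 : MB := PSpFourThree.W 0 0 1 1 0 0 1

theorem W0_mem : W0 ∈ Matrix.symplecticGroup (Fin 2) (ZMod 3) :=
  PSpFourThree.W_symp _ _ _ _ _ _ _ (by decide)

/-- The image of the transvection. -/
def c0 : P0 := proj ⟨W0, W0_mem⟩

theorem c0_tv : Tv c0 := by
  refine ⟨⟨W0, W0_mem⟩, rfl, Or.inl ⟨fun i => if i = .inl 0 then 1 else 0,
    fun j => if j = .inr 0 then 1 else 0, ?_⟩⟩
  decide +kernel

theorem proj_ker_card : Nat.card (proj : Sp →* P0).ker ∣ 2 := by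
  have h1 : (proj : Sp →* P0).ker = Subgroup.zpowers (lift z) := by
    have hzz : lift z * lift z = 1 := by
      rw [← map_mul, show z * z = 1 by decide +kernel, map_one]
    ext A
    rw [MonoidHom.mem_ker, proj_eq_one]
    constructor
    · rintro (rfl | rfl)
      · exact one_mem _
      · exact mem_zpowers _
    · rintro ⟨n, rfl⟩
      rcases Int.even_or_odd' n with ⟨m, rfl | rfl⟩
      · left
        show lift z ^ (2 * m) = 1
        rw [_root_.zpow_mul, zpow_two, hzz, _root_.one_zpow]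
      · right
        show lift z ^ (2 * m + 1) = lift z
        rw [_root_.zpow_add, _root_.zpow_mul, zpow_two, hzz, _root_.one_zpow, one_mul, zpow_one]
  rw [h1, Nat.card_zpowers]
  exact orderOf_dvd_of_pow_eq_one (by rw [sq, ← map_mul, show z * z = 1 by decide +kernel, map_one])

theorem W0_facts : W0 ^ 3 = 1 ∧ W0 ≠ 1 ∧ W0 ≠ mat z := by decide +kernel

theorem c0_central3 : Central3 c0 := by
  haveI : Fact (Nat.Prime 3) := ⟨Nat.prime_three⟩
  let ψ : ZMod 3 ≃+* ZMod 3 := RingEquiv.refl _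
  let E : PSpFourThree.T → Sp := fun x =>
    ⟨PSpFourThree.Wt ψ x, PSpFourThree.W_symp _ _ _ _ _ _ _ (PSpFourThree.det_entries ψ x.2)⟩
  have hE : ∀ x y, E (PSpFourThree.tmul x y) = E x * E y := fun x y =>
    Subtype.ext (PSpFourThree.Wt_mul ψ x y).symm
  have hinj : Function.Injective E := fun x y h => by
    refine PSpFourThree.Wt_inj ψ (e := 1) ?_
    rw [one_smul]
    exact congrArg Subtype.val h
  let U : Subgroup Sp := subgroupOfIdempotent (Set.range E) ⟨_, ⟨((0, 0), 1), rfl⟩⟩ (by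
    apply Set.Subset.antisymm
    · rintro _ ⟨_, ⟨x, rfl⟩, _, ⟨y, rfl⟩, rfl⟩
      exact ⟨_, hE x y⟩
    · rintro _ ⟨x, rfl⟩
      refine ⟨_, ⟨((0, 0), 1), rfl⟩, _, ⟨x, rfl⟩, ?_⟩
      have h1 : E ((0, 0), 1) = 1 := by
        refine mul_eq_left.mp (show E ((0, 0), 1) * E ((0, 0), 1) = E ((0, 0), 1) from ?_)
        rw [← hE, PSpFourThree.tmul_one]
      show E ((0, 0), 1) * E x = E x
      rw [h1, one_mul])
  have hcardU : Nat.card U = 648 := by
    rw [← PSpFourThree.card_T, ← Nat.card_range_of_injective hinj]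
    rfl
  have hle : U.map (proj : Sp →* P0) ≤ centralizer ({c0} : Set P0) := by
    rintro _ ⟨_, ⟨x, rfl⟩, rfl⟩
    rw [mem_centralizer_singleton_iff]
    have ht : (⟨W0, W0_mem⟩ : Sp) = E PSpFourThree.tt :=
      Subtype.ext (PSpFourThree.Wt_tt ψ).symm
    show proj (E x) * proj ⟨W0, W0_mem⟩ = proj ⟨W0, W0_mem⟩ * proj (E x)
    rw [ht, ← map_mul, ← map_mul, ← hE, ← hE, PSpFourThree.tt_central]
  refine ⟨?_, ?_⟩
  · have h3 : (⟨W0, W0_mem⟩ : Sp) ^ 3 = 1 := by
      refine Subtype.ext ?_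
      exact W0_facts.1
    refine orderOf_eq_prime (show c0 ^ 3 = 1 by rw [c0, ← map_pow, h3, map_one]) fun h => ?_
    rcases proj_eq_one.1 h with e | e
    · exact absurd (congrArg Subtype.val e) W0_facts.2.1
    · exact absurd (congrArg Subtype.val e) W0_facts.2.2
  refine Dvd.dvd.trans ?_ (Subgroup.card_dvd_of_le hle)
  let r := (proj : Sp →* P0).comp U.subtype
  have hr : r.range = U.map (proj : Sp →* P0) := by
    rw [MonoidHom.range_comp, Subgroup.range_subtype]
  have hm : Nat.card r.range * Nat.card r.ker = 648 := by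
    rw [← hcardU, ← Subgroup.index_ker r, mul_comm, Subgroup.card_mul_index]
  have hk : Nat.card r.ker ∣ 2 := by
    refine Dvd.dvd.trans ?_ proj_ker_card
    refine Subgroup.card_dvd_of_injective ((U.subtype.comp r.ker.subtype).codRestrict _ fun a => a.2) ?_
    intro a b h
    exact Subtype.ext (Subtype.ext (congrArg Subtype.val h : _))
  rw [← hr]
  rcases (Nat.dvd_prime Nat.prime_two).1 hk with h | h
  · rw [h] at hm; exact ⟨8, by omega⟩
  · rw [h] at hm; exact ⟨4, by omega⟩

end CfsgLib.O8Three.PSpModel
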