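import Cfsg.Agent.O8Three.Classes
import Cfsg.Agent.O8Three.CentA
import Cfsg.Agent.O8Three.PSpModel

/-!
# The quaternion groups in the centralizer of the involution commute

`Qsub` is the quaternion group centralising `t` and `z`; it commutes with its conjugates under the
three reflections, as seen in `PSp₄(3)`, the centralizer of `p₁` modulo `⟨p₁⟩`.
-/

set_option autoImplicit false
set_option maxRecDepth 100000
set_option linter.style.haveILetI false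
set_option linter.unusedSectionVars false

namespace CfsgLib.O8Three

open CfsgLib.PSpFourInvol (S sm si)
open Subgroup

universe u v w

/-- Fourth powers are trivial. -/
def four (g : S) : Bool := sm (sm g g) (sm g g) == 0

theorem three_gen : ∀ g : S, ∃ a b c : S, sm (sm a a) a = 0 ∧ sm (sm b b) b = 0 ∧
    sm (sm c c) c = 0 ∧ g = sm (sm a b) c := by decide +kernel

theorem four_mul : ∀ a b : S, four a = true → four b = true → four (sm a b) = true := by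
  decide +kernel

theorem four_si : ∀ a : S, four a = true → four (si a) = true := by decide +kernel

theorem L_inv (a : S) : (⟨0, v0, a⟩ : T)⁻¹ = ⟨0, v0, si a⟩ := by
  rw [inv_def, ti, vn_v0, act_v0]
  exact T.ext neg_zero rfl rfl

/-- The quaternion subgroup of the complement. -/
def Qm : Subgroup T where
  carrier := {x | ∃ g : S, four g = true ∧ x = ⟨0, v0, g⟩}
  mul_mem' := by
    rintro _ _ ⟨a, ha, rfl⟩ ⟨b, hb, rfl⟩
    exact ⟨sm a b, four_mul a b ha hb, L_mul a b⟩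
  one_mem' := ⟨0, rfl, rfl⟩
  inv_mem' := by
    rintro _ ⟨a, ha, rfl⟩
    exact ⟨si a, four_si a ha, L_inv a⟩

theorem four_centre : ∀ g : S, sm g 1 = sm 1 g := by decide +kernel

theorem q_facts (g : S) (hg : four g = true) :
    (⟨0, v0, g⟩ : T) * tT = tT * ⟨0, v0, g⟩ ∧ (⟨0, v0, g⟩ : T) ^ 8 = 1 := by
  refine ⟨?_, ?_⟩
  · rw [show tT = (⟨0, v0, 1⟩ : T) from rfl, L_mul, L_mul, four_centre]
  · have h4 : (⟨0, v0, g⟩ : T) ^ 4 = 1 := by
      rw [show (4 : ℕ) = 2 + 2 from rfl, pow_add, pow_two, L_mul, L_mul, beq_iff_eq.1 hg]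
      rfl
    rw [show (8 : ℕ) = 4 + 4 from rfl, pow_add, h4, mul_one]

theorem dec_L (g : S) : dec (mk 0 0 g.val) = (⟨0, v0, g⟩ : T) := by
  rw [dec_mk]
  exact T.ext Nat.cast_zero (show dv (0 % 81) = v0 by decide) (Fin.ext (Nat.mod_eq_of_lt g.isLt))

theorem q_check : allN 81 (fun j => allN 24 fun n =>
    !four ⟨n % 24, Nat.mod_lt _ (by norm_num)⟩ ||
      ((!(j % 9 == 0) || mN (mk 0 0 n) (jN j) == mN (jN j) (mk 0 0 n)) &&
       (!(j / 3 % 3 == 0) || j % 3 == 0 || n == 0 || n == 1 ||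
          !(mN (mN (mN (jN j) (mk 0 0 n)) (iN (jN j))) (iN (mk 0 0 n)) == 0 ||
            mN (mN (mN (jN j) (mk 0 0 n)) (iN (jN j))) (iN (mk 0 0 n)) == mk 0 0 1)))) = true := by
  decide +kernel

theorem jN_lt (j : ℕ) : jN j < 5832 := mk_lt _ _ _

theorem q_check' (g : S) (hg : four g = true) (v : JV) :
    (v.b = 0 → v.k = 0 → (⟨0, v0, g⟩ : T) * jT v = jT v * ⟨0, v0, g⟩) ∧
    (v.b = 0 → v.k ≠ 0 → (jT v * ⟨0, v0, g⟩ * (jT v)⁻¹ * (⟨0, v0, g⟩ : T)⁻¹ = 1 ∨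
      jT v * ⟨0, v0, g⟩ * (jT v)⁻¹ * (⟨0, v0, g⟩ : T)⁻¹ = tT) → g = 0 ∨ g = 1) := by
  obtain ⟨j, hj, rfl⟩ := exists_dj v
  have h := allN_spec (allN_spec q_check j hj) g.val g.isLt
  rw [show (⟨g.val % 24, Nat.mod_lt _ (by norm_num)⟩ : S) = g from Fin.ext (Nat.mod_eq_of_lt g.isLt), hg,
    Bool.not_true, Bool.false_or, Bool.and_eq_true] at h
  have hz : ∀ r : ℕ, r < 3 → ((r : ZMod 3) = 0 ↔ r = 0) := by
    intro r hr; interval_cases r <;> decide
  have hb : (dj j).b = 0 ↔ j / 3 % 3 = 0 := hz _ (Nat.mod_lt _ (by norm_num))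
  have hk : (dj j).k = 0 ↔ j % 3 = 0 := hz _ (Nat.mod_lt _ (by norm_num))
  rw [jT_dj hj, ← dec_L]
  refine ⟨fun h1 h2 => ?_, fun h1 h2 hc => ?_⟩
  · have h9 : j % 9 = 0 := by have := hb.1 h1; have := hk.1 h2; omega
    have := h.1
    simp only [h9, beq_self_eq_true, Bool.not_true, Bool.false_or, beq_iff_eq] at this
    rw [← dec_mN, ← dec_mN, this]
  · have := h.2
    simp only [hb.1 h1, beq_self_eq_true, Bool.not_true, Bool.false_or, Bool.or_eq_true, beq_iff_eq] at this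
    rcases this with ((h3 | h3) | h3) | h3
    · exact absurd (hk.2 h3) h2
    · exact Or.inl (Fin.ext h3)
    · exact Or.inr (Fin.ext h3)
    · exfalso
      rw [← dec_iN (jN_lt _), ← dec_iN (mk_lt _ _ _), ← dec_mN, ← dec_mN, ← dec_mN] at hc
      rw [Bool.not_eq_true', Bool.or_eq_false_iff] at h3
      rcases hc with e | e
      · exact (beq_eq_false_iff_ne.1 h3.1) (dec_inj (mN_lt _ _) (by norm_num) (e.trans dec_zero.symm))
      · exact (beq_eq_false_iff_ne.1 h3.2) (dec_inj (mN_lt _ _) (mk_lt _ _ _)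
          (e.trans gens_dec.2.2.2.2.1.symm))

theorem t_fix : ∀ m n : ZMod 3,
    act 1 ⟨0, 0, m, n⟩ = (⟨0, 0, m, n⟩ : Vec) → m = 0 ∧ n = 0 := by decide +kernel

/-- The eighth power on codes. -/
def eightN (x : ℕ) : ℕ := mN (mN (mN x x) (mN x x)) (mN (mN x x) (mN x x))

theorem eight_codes : allN 24 (fun n => allN 3 fun c => allN 3 fun a =>
    !(eightN (mk c (vN a 0 0 0) n) == 0) ||
      (c == 0 && a == 0 && four ⟨n % 24, Nat.mod_lt _ (by norm_num)⟩)) = true := by decide +kernel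

theorem eight_check (g : S) (c a : ZMod 3) (h : (⟨c, ⟨a, 0, 0, 0⟩, g⟩ : T) ^ 8 = 1) :
    c = 0 ∧ a = 0 ∧ four g = true := by
  have e : dec (mk c.val (vN a.val 0 0 0) g.val) = (⟨c, ⟨a, 0, 0, 0⟩, g⟩ : T) := by
    rw [dec_mk, Nat.mod_eq_of_lt (vN_lt _ _ _ _), dv_vN]
    exact T.ext (ZMod.natCast_zmod_val c) (by simp) (Fin.ext (Nat.mod_eq_of_lt g.isLt))
  have h8 : dec (eightN (mk c.val (vN a.val 0 0 0) g.val)) = dec 0 := by
    rw [dec_zero, eightN, dec_mN, dec_mN, dec_mN, e, ← h]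
    simp only [pow_succ, pow_zero, one_mul, mul_assoc]
  have h0 := allN_spec (allN_spec (allN_spec eight_codes g.val g.isLt) c.val c.val_lt) a.val a.val_lt
  have hz : eightN (mk c.val (vN a.val 0 0 0) g.val) = 0 := dec_inj (mN_lt _ _) (by norm_num) h8
  simp only [hz, beq_self_eq_true, Bool.not_true, Bool.false_or] at h0
  simp only [Bool.and_eq_true, beq_iff_eq] at h0
  exact ⟨(ZMod.val_eq_zero c).1 h0.1.1, (ZMod.val_eq_zero a).1 h0.1.2,
    by rw [← h0.2]; exact congrArg four (Fin.ext (Nat.mod_eq_of_lt g.isLt).symm)⟩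

/-- An element of the model commuting with the involution. -/
theorem comm_tT {x : T} (h : x * tT = tT * x) : x.v.m = 0 ∧ x.v.n = 0 := by
  refine t_fix _ _ ?_
  have h0 : va x.v (act x.g v0) = va v0 (act 1 x.v) := congrArg T.v h
  rw [act_v0, (va_v0 _).1, (va_v0 _).2] at h0
  have hm := congrArg Vec.m h0
  have hn := congrArg Vec.n h0
  simp only [act] at hm hn ⊢
  exact Vec.ext (by simp) rfl hm.symm hn.symm

theorem comm_tT_form {x : T} (h : x * tT = tT * x) (hb : x.v.b = 0) :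
    x = ⟨x.c, ⟨x.v.a, 0, 0, 0⟩, x.g⟩ := by
  obtain ⟨hm, hn⟩ := comm_tT h
  exact T.ext rfl (Vec.ext rfl hb hm hn) rfl

namespace Base

variable {G : Type u} [Group G] (H : Base G)

/-- The quaternion group centralising `t` and `z`. -/
def Qsub : Subgroup G := Qm.map H.par

theorem mem_Qsub_iff {g : G} :
    g ∈ H.Qsub ↔ g ∈ H.par.range ∧ g * H.t = H.t * g ∧ g ^ 8 = 1 ∧ g * H.z = H.z * g := by
  constructor
  · rintro ⟨_, ⟨s, hs, rfl⟩, rfl⟩
    exact ⟨⟨_, rfl⟩, H.par_comm.2 (q_facts s hs).1, by rw [← map_pow, (q_facts s hs).2, map_one],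
      H.par_z _⟩
  · rintro ⟨⟨x, rfl⟩, ht, h8, -⟩
    have hxt := H.par_comm.1 ht
    have hx8 : x ^ 8 = 1 := H.inj (by rw [map_pow, h8, map_one])
    have hb : x.v.b = 0 := by
      have h1 : bHom x ^ 8 = 1 := by rw [← map_pow, hx8, map_one]
      have h2 : ∀ r : Multiplicative (ZMod 3), r ^ 8 = 1 → r = 1 := by decide
      exact ofAdd_eq_one.1 (h2 _ h1)
    have hf := comm_tT_form hxt hb
    rw [hf] at hx8
    obtain ⟨hc, ha, h4⟩ := eight_check _ _ _ hx8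
    refine ⟨x, ⟨x.g, h4, ?_⟩, rfl⟩
    rw [hf, hc, ha]
    rfl

variable [Finite G]

/-- An element of order three of the centralizer of `z` is parametrised. -/
theorem range_of_cube {g : G} (hz : g * H.z = H.z * g) (h3 : g ^ 3 = 1) : g ∈ H.par.range := by
  obtain ⟨x, rfl | rfl⟩ := H.mem_cent.1 hz
  · exact ⟨x, rfl⟩
  · refine ⟨x * sigB H.ext x * (x * sigB H.ext x), ?_⟩
    rw [map_mul, map_mul, ← H.out_act]
    calc H.par x * (H.out * H.par x * H.out) * (H.par x * (H.out * H.par x * H.out))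
        = (H.par x * H.out) ^ 4 := by simp only [pow_succ, pow_zero, one_mul, mul_assoc]
      _ = _ := by rw [pow_succ, h3, one_mul]

/-- A conjugation fixing `t` and the line of `z` preserves the quaternion group. -/
theorem Qsub_conj {c : G} (hct : c * H.t = H.t * c)
    (hcz : c * H.z * c⁻¹ = H.z ∨ c * H.z * c⁻¹ = H.z⁻¹) {q : G} (hq : q ∈ H.Qsub) :
    c * q * c⁻¹ ∈ H.Qsub := by
  have ht : c * H.t * c⁻¹ = H.t := by rw [hct, mul_inv_cancel_right]
  have hzc : ∀ y : G, y * H.z = H.z * y → (c * y * c⁻¹) * H.z = H.z * (c * y * c⁻¹) := by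
    intro y hy
    have hc : Commute (c * y * c⁻¹) (c * H.z * c⁻¹) := by
      show _ = _
      calc c * y * c⁻¹ * (c * H.z * c⁻¹) = c * (y * H.z) * c⁻¹ := by group
        _ = c * (H.z * y) * c⁻¹ := by rw [hy]
        _ = _ := by group
    rcases hcz with e | e <;> rw [e] at hc
    · exact hc.eq
    · exact Commute.inv_right_iff.1 hc
  obtain ⟨hr, h1, h8, h2⟩ := H.mem_Qsub_iff.1 hq
  refine H.mem_Qsub_iff.2 ⟨?_, ?_, by rw [conj_pow, h8, mul_one, mul_inv_cancel], hzc q h2⟩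
  · obtain ⟨_, ⟨g, -, rfl⟩, rfl⟩ := hq
    obtain ⟨a, b, d, ha, hb, hd, e⟩ := three_gen g
    have hL : ∀ s : S, sm (sm s s) s = 0 → c * H.par ⟨0, v0, s⟩ * c⁻¹ ∈ H.par.range := fun s hs =>
      H.range_of_cube (hzc _ (H.par_z _)) (by
        rw [conj_pow, ← map_pow, pow_succ, pow_two, L_mul, L_mul, hs, show (⟨0, v0, 0⟩ : T) = 1 from rfl,
          map_one, mul_one, mul_inv_cancel])
    have := mul_mem (mul_mem (hL a ha) (hL b hb)) (hL d hd)
    rw [e, ← L_mul, ← L_mul, map_mul, map_mul]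
    convert this using 1
    group
  · calc c * q * c⁻¹ * H.t = c * q * c⁻¹ * (c * H.t * c⁻¹) := by rw [ht]
      _ = c * (q * H.t) * c⁻¹ := by group
      _ = c * (H.t * q) * c⁻¹ := by rw [h1]
      _ = c * H.t * c⁻¹ * (c * q * c⁻¹) := by group
      _ = _ := by rw [ht]

theorem pair_gen (hG : H.Good)
    {r : G} (hr : H.Nrm r R1J) (hrt : r * H.t = H.t * r) :
    Nonempty (PSpModel.Pair (QuotientGroup.mk' H.aSub ⟨H.t, H.par_mem_Ca.2 rfl⟩) H.zA
      (QuotientGroup.mk' H.aSub ⟨r, mem_centralizer_singleton_iff.2 (mul_inv_eq_iff_eq_mul.1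
        ((hr ⟨0, 1, 0, 0⟩).trans (congrArg H.emb (show R1J ⟨0, 1, 0, 0⟩ = ⟨0, 1, 0, 0⟩ by decide))))⟩ * H.zA *
        (QuotientGroup.mk' H.aSub ⟨r, mem_centralizer_singleton_iff.2 (mul_inv_eq_iff_eq_mul.1
          ((hr ⟨0, 1, 0, 0⟩).trans (congrArg H.emb (show R1J ⟨0, 1, 0, 0⟩ = ⟨0, 1, 0, 0⟩ by decide))))⟩)⁻¹)) := by
  classical
  set mkA := QuotientGroup.mk' H.aSub with hmk
  have hra : r ∈ H.Ca := by
    rw [mem_centralizer_singleton_iff]
    have := hr ⟨0, 1, 0, 0⟩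
    rw [show R1J ⟨0, 1, 0, 0⟩ = ⟨0, 1, 0, 0⟩ by decide] at this
    exact mul_inv_eq_iff_eq_mul.1 this
  have htc : H.t ∈ H.Ca := H.par_mem_Ca.2 rfl
  set tA := mkA ⟨H.t, htc⟩
  set rA := mkA ⟨r, hra⟩
  have hz2 : rA * H.zA * rA⁻¹ = H.psi ⟨jT ⟨0, 0, 0, -1⟩, mem_Tb.2 rfl⟩ := by
    rw [show H.zA = mkA ⟨H.z, H.z_mem_Ca⟩ from rfl, ← map_inv, ← map_mul, ← map_mul]
    refine congrArg mkA (Subtype.ext ?_)
    show r * H.z * r⁻¹ = H.emb ⟨0, 0, 0, -1⟩
    rw [H.emb_zT, hr]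
    exact congrArg H.emb (by decide)
  have hcard : 81 ∣ Nat.card (centralizer ({H.zA} : Set H.XA)) := by
    obtain ⟨⟨-, h27, -⟩, ⟨eC⟩⟩ := H.core_facts hG
    have h24 : Nat.card (Matrix.SpecialLinearGroup (Fin 2) (ZMod 3)) = 24 := by
      rw [← Nat.card_congr (Equiv.ofBijective (fun g : S => slHom ⟨0, v0, g⟩)
        ⟨fun a b hab => smat_inj a b (congrArg Subtype.val hab), slHom_surj⟩ :
        S ≃ Matrix.SpecialLinearGroup (Fin 2) (ZMod 3))]
      simp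
    rw [card_eq_card_quotient_mul_card_subgroup
      (Cfsg.pCore 3 (centralizer ({H.zA} : Set H.XA))), Nat.card_congr eC.toEquiv, h24, h27]
    norm_num
  have hmap : ∀ {x y : H.Ca}, (x : G) * y = y * x → mkA x * mkA y = mkA y * mkA x := fun {x y} h => by
    rw [← map_mul, ← map_mul]; exact congrArg mkA (Subtype.ext h)
  have hzt : H.zA * tA = tA * H.zA :=
    hmap (x := ⟨H.z, H.z_mem_Ca⟩) (y := ⟨H.t, htc⟩) (H.par_z tT).symm
  have hrA : rA * tA = tA * rA := hmap (x := ⟨r, hra⟩) (y := ⟨H.t, htc⟩) hrt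
  have hcen : PSpModel.Central3 H.zA := ⟨H.zA_three, hcard⟩
  have hP : PSpModel.Pair tA H.zA (rA * H.zA * rA⁻¹) := by
    refine ⟨?_, hcen, PSpModel.central3_map (MulAut.conj rA) hcen, hzt, ?_, ?_, ?_⟩
    · refine orderOf_eq_prime ?_ fun h1 => ?_
      · rw [pow_two, ← map_mul]
        exact (congrArg mkA (Subtype.ext H.t_mul_self)).trans (map_one mkA)
      · have : H.psi ⟨tT, mem_Tb.2 rfl⟩ = H.psi 1 := h1.trans (map_one H.psi).symm
        exact absurd (H.psi_eq_iff.1 this).2.2.2 (show (1 : S) ≠ 0 by decide)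
    · have hi : rA⁻¹ * tA = tA * rA⁻¹ := (show Commute rA tA from hrA).inv_left.eq
      rw [mul_assoc, hi, ← mul_assoc, mul_assoc rA, hzt, ← mul_assoc, hrA, mul_assoc tA, mul_assoc tA]
    · rw [hz2, ← H.zA_eq, ← map_mul, ← map_mul]
      exact congrArg H.psi (Subtype.ext (zT_central _).symm)
    · rw [hz2, ← H.zA_eq]
      intro hm
      let L : Subgroup Tb :=
        { carrier := {x | (x : T).g = 0}
          mul_mem' := fun {a b} ha hb => g_zero_mul ha hb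
          one_mem' := rfl
          inv_mem' := fun {a} ha => (inv_v ha).2 }
      obtain ⟨x, hx, ex⟩ : H.psi ⟨jT ⟨0, 0, 0, -1⟩, mem_Tb.2 rfl⟩ ∈ L.map H.psi :=
        zpowers_le.2 (show H.psi ⟨zT, mem_Tb.2 rfl⟩ ∈ L.map H.psi from ⟨_, rfl, rfl⟩) hm
      have hg := (H.psi_eq_iff.1 ex).2.2.2
      rw [show (x : T).g = 0 from hx] at hg
      exact absurd hg (show (0 : S) ≠ xpow (-1) by decide)
  exact ⟨hP⟩

/-- The pair for the smaller centralizer. -/
theorem pair_t (hG : H.Good) (he : H.ext = false) {F : Type v} [Field F] [Fintype F]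
    (hF : Fintype.card F = 3) {F₂ : Type w} [Field F₂] [Fintype F₂] (h42 : RecogPSp H.XA F F₂)
    {r : G} (hr : H.Nrm r R1J) (hrt : r * H.t = H.t * r) :
    Nonempty (PSpModel.Pair (QuotientGroup.mk' H.aSub ⟨H.t, H.par_mem_Ca.2 rfl⟩) H.zA
      (QuotientGroup.mk' H.aSub ⟨r, mem_centralizer_singleton_iff.2 (mul_inv_eq_iff_eq_mul.1
        ((hr ⟨0, 1, 0, 0⟩).trans (congrArg H.emb (show R1J ⟨0, 1, 0, 0⟩ = ⟨0, 1, 0, 0⟩ by decide))))⟩ * H.zA *
        (QuotientGroup.mk' H.aSub ⟨r, mem_centralizer_singleton_iff.2 (mul_inv_eq_iff_eq_mul.1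
          ((hr ⟨0, 1, 0, 0⟩).trans (congrArg H.emb (show R1J ⟨0, 1, 0, 0⟩ = ⟨0, 1, 0, 0⟩ by decide))))⟩)⁻¹)) := H.pair_gen hG hr hrt

/-- Commuting images in the factor group give commuting quaternion elements. -/
theorem pk_comm_of {r : G} (hra : r ∈ H.Ca) {p q : G} (hp : p ∈ H.Qsub) (hq : q ∈ H.Qsub)
    (hpa : p ∈ H.Ca) (hqa : q ∈ H.Ca)
    (hc : QuotientGroup.mk' H.aSub ⟨p, hpa⟩ *
        QuotientGroup.mk' H.aSub (⟨r, hra⟩ * ⟨q, hqa⟩ * ⟨r, hra⟩⁻¹) =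
      QuotientGroup.mk' H.aSub (⟨r, hra⟩ * ⟨q, hqa⟩ * ⟨r, hra⟩⁻¹) *
        QuotientGroup.mk' H.aSub ⟨p, hpa⟩) :
    p * (r * q * r⁻¹) = r * q * r⁻¹ * p := by
  classical
  have hQc : ∀ {x : G}, x ∈ H.Qsub → x ∈ H.Ca := by
    rintro x ⟨_, ⟨s, -, rfl⟩, rfl⟩
    exact H.par_mem_Ca.2 rfl
  rw [← map_mul, ← map_mul, QuotientGroup.mk'_eq_mk'] at hc
  obtain ⟨a, ha, hae⟩ := hc
  have hae' : p * (r * q * r⁻¹) * (a : G) = r * q * r⁻¹ * p := congrArg Subtype.val hae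
  set w := r * q * r⁻¹ with hwdef
  have hp8 := (H.mem_Qsub_iff.1 hp).2.2.1
  have hca : Commute p (a : G) := by
    obtain ⟨j, hj⟩ := mem_zpowers_iff.1 (show (a : G) ∈ zpowers H.aEl from ha)
    rw [← hj]
    exact ((show Commute p H.aEl from mem_centralizer_singleton_iff.1 (hQc hp)).zpow_right j)
  have hcw : Commute w (a : G) := by
    obtain ⟨j, hj⟩ := mem_zpowers_iff.1 (show (a : G) ∈ zpowers H.aEl from ha)
    rw [← hj]
    exact ((show Commute w H.aEl from mem_centralizer_singleton_iff.1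
      (mul_mem (mul_mem hra (hQc hq)) (inv_mem hra))).zpow_right j)
  -- `w⁻¹ p w = p a⁻¹`, and eighth powers kill the part of order three
  have e1 : w⁻¹ * p * w = p * (a : G)⁻¹ := by
    calc w⁻¹ * p * w = w⁻¹ * (p * w * a) * (a : G)⁻¹ := by group
      _ = _ := by rw [hae']; group
  have e2 : ((a : G)⁻¹) ^ 8 = 1 := by
    have h := congrArg (· ^ 8) e1
    simp only [hca.inv_right.mul_pow, hp8, one_mul] at h
    rw [← h]
    have := conj_pow (a := w⁻¹) (b := p) (i := 8)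
    rw [inv_inv] at this
    rw [this, hp8, mul_one, inv_mul_cancel]
  have e3 : ((a : G)⁻¹) ^ 3 = 1 := by
    have := (pow_card_eq_one' (x := (⟨a, ha⟩ : H.aSub)))
    rw [H.card_aSub] at this
    rw [inv_pow, inv_eq_one]
    exact congrArg (fun x : H.aSub => ((x : H.Ca) : G)) this
  have e4 := pow_gcd_eq_one.2 ⟨e2, e3⟩
  norm_num at e4
  rw [e4, Subgroup.coe_one, mul_one] at hae'
  exact hae'

/-- The quaternion group of `z` commutes with its conjugate. -/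
theorem pk_comm (he : H.ext = false) (hG : H.Good) {F : Type v} [Field F] [Fintype F]
    (hF : Fintype.card F = 3) {F₂ : Type w} [Field F₂] [Fintype F₂] (h42 : RecogPSp H.XA F F₂)
    {r : G} (hr : H.Nrm r R1J) (hrt : r * H.t = H.t * r) {p q : G} (hp : p ∈ H.Qsub)
    (hq : q ∈ H.Qsub) : p * (r * q * r⁻¹) = r * q * r⁻¹ * p := by
  classical
  obtain ⟨e⟩ := (H.XA_recog h42 hG).1 he
  set mkA := QuotientGroup.mk' H.aSub with hmk
  have hra : r ∈ H.Ca := by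
    rw [mem_centralizer_singleton_iff]
    have := hr ⟨0, 1, 0, 0⟩
    rw [show R1J ⟨0, 1, 0, 0⟩ = ⟨0, 1, 0, 0⟩ by decide] at this
    exact mul_inv_eq_iff_eq_mul.1 this
  have htc : H.t ∈ H.Ca := H.par_mem_Ca.2 rfl
  have hQc : ∀ {x : G}, x ∈ H.Qsub → x ∈ H.Ca := by
    rintro x ⟨_, ⟨s, -, rfl⟩, rfl⟩
    exact H.par_mem_Ca.2 rfl
  set tA := mkA ⟨H.t, htc⟩
  set rA := mkA ⟨r, hra⟩
  have hmap : ∀ {x y : H.Ca}, (x : G) * y = y * x → mkA x * mkA y = mkA y * mkA x := fun {x y} h => by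
    rw [← map_mul, ← map_mul]; exact congrArg mkA (Subtype.ext h)
  have hrA : rA * tA = tA * rA := hmap (x := ⟨r, hra⟩) (y := ⟨H.t, htc⟩) hrt
  obtain ⟨hP⟩ := H.pair_t hG he hF h42 hr hrt
  have h2 : ∀ {x : G} (hx : x ∈ H.Qsub), mkA ⟨x, hQc hx⟩ ∈ PSpModel.two tA H.zA := by
    intro x hx
    obtain ⟨-, h1, h3, h2⟩ := H.mem_Qsub_iff.1 hx
    exact ⟨⟨3, by rw [← map_pow]; exact (congrArg mkA (Subtype.ext h3)).trans (map_one mkA)⟩,
      hmap (x := ⟨x, hQc hx⟩) (y := ⟨H.t, htc⟩) h1,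
      hmap (x := ⟨x, hQc hx⟩) (y := ⟨H.z, H.z_mem_Ca⟩) h2⟩
  have hw : mkA (⟨r, hra⟩ * ⟨q, hQc hq⟩ * ⟨r, hra⟩⁻¹) ∈ PSpModel.two tA (rA * H.zA * rA⁻¹) := by
    rw [PSpModel.two_conj hrA, map_mul, map_mul, map_inv]
    exact ⟨_, h2 hq, rfl⟩
  have hc := hP.two_comm hF e.symm (h2 hp) hw
  exact H.pk_comm_of hra hp hq (hQc hp) (hQc hq) hc

variable {H}

/-- The reflections indexed. -/
def Refl.rr (R : Refl H) : Fin 3 → G := ![R.r1, R.r2, R.r3]

/-- Their maps. -/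
def sJ : Fin 3 → JV → JV := ![R1J, R2J, R3J]

theorem Refl.nrm (R : Refl H) : ∀ i, H.Nrm (R.rr i) (sJ i)
  | 0 => R.nrm1
  | 1 => R.nrm2
  | 2 => R.nrm3

theorem Refl.sq (R : Refl H) : ∀ i, R.rr i * R.rr i = 1
  | 0 => R.sq1
  | 1 => R.sq2
  | 2 => R.sq3

theorem Refl.comm_t (R : Refl H) : ∀ i, R.rr i * H.t = H.t * R.rr i
  | 0 => R.comm1
  | 1 => R.comm2
  | 2 => R.comm3

theorem Refl.comm (R : Refl H) : ∀ i j, R.rr i * R.rr j = R.rr j * R.rr i
  | 0, 0 => rfl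
  | 0, 1 => R.comm12
  | 0, 2 => R.comm31.symm
  | 1, 0 => R.comm12.symm
  | 1, 1 => rfl
  | 1, 2 => R.comm23
  | 2, 0 => R.comm31
  | 2, 1 => R.comm23.symm
  | 2, 2 => rfl

theorem Refl.inv_eq (R : Refl H) (i : Fin 3) : (R.rr i)⁻¹ = R.rr i :=
  inv_eq_of_mul_eq_one_right (R.sq i)

/-- The commuting spreads from the first reflection to the others. -/
theorem Refl.quat_comm_of (R : Refl H)
    (h0 : ∀ p q : G, p ∈ H.Qsub → q ∈ H.Qsub → p * (R.r1 * q * R.r1⁻¹) = R.r1 * q * R.r1⁻¹ * p)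
    (i : Fin 3) {p q : G} (hp : p ∈ H.Qsub) (hq : q ∈ H.Qsub) :
    p * (R.rr i * q * (R.rr i)⁻¹) = R.rr i * q * (R.rr i)⁻¹ * p := by
  set P := H.par p2T
  have hPt : P * H.t = H.t * P := H.par_comm.2 t_p2.1
  have hPz : P * H.z * P⁻¹ = H.z := by rw [H.par_z, mul_inv_cancel_right]
  have hPi : ∀ {x : G}, x ∈ H.Qsub → P⁻¹ * x * P ∈ H.Qsub := fun {x} hx => by
    have := H.Qsub_conj (c := P⁻¹) (Commute.inv_left hPt).eq
      (Or.inl (by rw [inv_inv]; calc P⁻¹ * H.z * P = P⁻¹ * (P * H.z * P⁻¹) * P := by rw [hPz]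
                                _ = _ := by group)) hx
    rwa [inv_inv] at this
  have hstep : ∀ r r' : G, P * r * P⁻¹ = r' →
      (∀ p q : G, p ∈ H.Qsub → q ∈ H.Qsub → p * (r * q * r⁻¹) = r * q * r⁻¹ * p) →
      ∀ p q : G, p ∈ H.Qsub → q ∈ H.Qsub → p * (r' * q * r'⁻¹) = r' * q * r'⁻¹ * p := by
    rintro r _ rfl h p q hp hq
    have h1 := h _ _ (hPi hp) (hPi hq)
    calc p * (P * r * P⁻¹ * q * (P * r * P⁻¹)⁻¹)
        = P * (P⁻¹ * p * P * (r * (P⁻¹ * q * P) * r⁻¹)) * P⁻¹ := by group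
      _ = P * (r * (P⁻¹ * q * P) * r⁻¹ * (P⁻¹ * p * P)) * P⁻¹ := by rw [h1]
      _ = _ := by group
  match i with
  | 0 => exact h0 p q hp hq
  | 1 => exact hstep _ _ R.cyc1 h0 p q hp hq
  | 2 => exact hstep _ _ R.cyc2 (hstep _ _ R.cyc1 h0) p q hp hq

/-- The quaternion group commutes with its conjugates under the reflections. -/
theorem Refl.quat_comm (R : Refl H) (he : H.ext = false) (hG : H.Good) {F : Type v} [Field F]
    [Fintype F] (hF : Fintype.card F = 3) {F₂ : Type w} [Field F₂] [Fintype F₂]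
    (h42 : RecogPSp H.XA F F₂) (i : Fin 3) {p q : G} (hp : p ∈ H.Qsub) (hq : q ∈ H.Qsub) :
    p * (R.rr i * q * (R.rr i)⁻¹) = R.rr i * q * (R.rr i)⁻¹ * p :=
  R.quat_comm_of (fun p q hp hq => H.pk_comm he hG hF h42 R.nrm1 R.comm1 hp hq) i hp hq

end Base

end CfsgLib.O8Three
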