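import Cfsg.Agent.O8Three.SetupCtx
import Cfsg.Agent.Solvable.Basics
import Cfsg.Prelude.Def_Solvable
import Cfsg.Prelude.Def_CaseTheorems
import Cfsg.Prelude.Def_Transfer

/-!
# The standing data from the hypotheses on the centralizer of the centre of a Sylow 3-subgroup
-/

set_option autoImplicit false
set_option maxRecDepth 4000
set_option linter.style.haveILetI false

namespace CfsgLib.O8Three

open Matrix CfsgLib.PSpFourThree
open CfsgLib.PSpFourInvol (S sm)

universe u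

theorem cube_code : ∀ g : S, ∃ a : S, sm a (sm a a) = 0 ∧ ∃ b : S, sm b (sm b b) = 0 ∧
    ∃ c : S, sm c (sm c c) = 0 ∧ sm a (sm b c) = g := by decide +kernel

theorem cube_words (A : S23) :
    ∃ a b c : S23, a ^ 3 = 1 ∧ b ^ 3 = 1 ∧ c ^ 3 = 1 ∧ a * b * c = A := by
  obtain ⟨g, rfl⟩ := sA_surj A
  obtain ⟨a, ha, b, hb, c, hc, hg⟩ := cube_code g
  have key : ∀ x : S, sm x (sm x x) = 0 → sA x ^ 3 = 1 := fun x hx => by
    rw [pow_succ', pow_two, ← sA_mul, ← sA_mul, hx, sA_zero]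
  exact ⟨sA a, sA b, sA c, key a ha, key b hb, key c hc, by rw [mul_assoc, ← sA_mul, ← sA_mul, hg]⟩

/-- The quotient by the 3-core in one form for both cases. -/
theorem exists_quot_hom {X : Type u} [Group X] [Finite X]
    (e : Nonempty (X ≃* S23) ∨ Nonempty (X ≃* S23 × Multiplicative (ZMod 2))) :
    ∃ (ext : Bool) (f : X →* S23 × Multiplicative (ZMod 2)), Function.Injective f ∧
      (∀ A, ∃ x, f x = (A, 1)) ∧ (ext = false → ∀ x, (f x).2 = 1) ∧
      (ext = true → ∃ x, (f x).1 = 1 ∧ (f x).2 ≠ 1) ∧ (ext = false ↔ Nonempty (X ≃* S23)) := by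
  by_cases h : Nonempty (X ≃* S23)
  · obtain ⟨e'⟩ := h
    refine ⟨false, (MonoidHom.inl S23 (Multiplicative (ZMod 2))).comp e'.toMonoidHom, ?_, fun A => ⟨e'.symm A, by simp⟩,
      fun _ x => rfl, fun h => (Bool.noConfusion h), ⟨fun _ => ⟨e'⟩, fun _ => rfl⟩⟩
    intro x y hxy
    exact e'.injective (congrArg Prod.fst hxy)
  · obtain ⟨e'⟩ := e.resolve_left h
    refine ⟨true, e'.toMonoidHom, e'.injective, fun A => ⟨e'.symm (A, 1), by simp⟩, fun h => (Bool.noConfusion h),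
      fun _ => ⟨e'.symm (1, Multiplicative.ofAdd 1), by simp⟩, ⟨fun h' => Bool.noConfusion h', fun h' => absurd h' h⟩⟩

/-- The part with trivial second coordinate is generated by the elements of odd order. -/
theorem mem_residual {X : Type u} [Group X] [Finite X] {f : X →* S23 × Multiplicative (ZMod 2)}
    (hfi : Function.Injective f) (hsurj : ∀ A, ∃ x, f x = (A, 1)) (x : X) :
    x ∈ Cfsg.pResidual 2 X ↔ (f x).2 = 1 := by
  constructor
  · intro hx
    have hle : Cfsg.pResidual 2 X ≤ ((MonoidHom.snd S23 (Multiplicative (ZMod 2))).comp f).ker := by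
      refine (Subgroup.closure_le _).2 fun y hy => ?_
      show (f y).2 = 1
      have key : ∀ a : Multiplicative (ZMod 2), a ^ 2 = 1 := by decide
      have h1 : orderOf (f y).2 ∣ orderOf y :=
        orderOf_map_dvd ((MonoidHom.snd S23 (Multiplicative (ZMod 2))).comp f) y
      have h2 : orderOf (f y).2 ∣ 2 := orderOf_dvd_of_pow_eq_one (key _)
      rw [← orderOf_eq_one_iff]
      exact Nat.dvd_one.1 ((Nat.dvd_gcd h1 h2).trans (hy : Nat.Coprime (orderOf y) 2).dvd)
    exact hle hx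
  · intro hx
    obtain ⟨a, b, c, ha, hb, hc, habc⟩ := cube_words (f x).1
    obtain ⟨xa, hxa⟩ := hsurj a
    obtain ⟨xb, hxb⟩ := hsurj b
    obtain ⟨xc, hxc⟩ := hsurj c
    have key : ∀ (y : X) (A : S23), f y = (A, 1) → A ^ 3 = 1 → y ∈ Cfsg.pResidual 2 X := fun y A h h3 => by
      refine Subgroup.subset_closure (Nat.Coprime.coprime_dvd_left (orderOf_dvd_of_pow_eq_one (hfi ?_))
        (by norm_num : Nat.Coprime 3 2))
      rw [map_pow, map_one, h, Prod.pow_mk, h3, one_pow]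
      rfl
    have e : x = xa * xb * xc := hfi (by
      rw [map_mul, map_mul, hxa, hxb, hxc, Prod.mk_mul_mk, Prod.mk_mul_mk, habc, one_mul, one_mul]
      exact Prod.ext rfl hx)
    rw [e]
    exact mul_mem (mul_mem (key _ _ hxa ha) (key _ _ hxb hb)) (key _ _ hxc hc)

theorem card_quot : Nat.card S23 = 24 ∧ Nat.card (S23 × Multiplicative (ZMod 2)) = 48 := by
  have h : Nat.card S23 = 24 := by
    rw [← Nat.card_congr (Equiv.ofBijective sA ⟨sA_inj, sA_surj⟩), Nat.card_fin]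
  refine ⟨h, ?_⟩
  rw [Nat.card_prod, h, Nat.card_congr Multiplicative.toAdd, Nat.card_zmod]

theorem commutator_pow {X : Type u} [Group X] {H : Subgroup X} {z : X} (hz3 : z ^ 3 = 1) {a b : X}
    (ha : a ∈ H) (hb : b ∈ H) (hcomm : commutator H ≤ (Subgroup.zpowers z).subgroupOf H) :
    ∃ i : ZMod 3, b * a = a * b * pw z i := by
  have hm : (⟨b, hb⟩ : H)⁻¹ * (⟨a, ha⟩ : H)⁻¹ * ⟨b, hb⟩ * ⟨a, ha⟩ ∈ commutator H := by
    have := Subgroup.commutator_mem_commutator (Subgroup.mem_top (⟨b, hb⟩ : H)⁻¹) (Subgroup.mem_top (⟨a, ha⟩ : H)⁻¹)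
    rw [commutatorElement_def, inv_inv, inv_inv] at this
    rwa [commutator_def]
  obtain ⟨n, hn⟩ := Subgroup.mem_subgroupOf.1 (hcomm hm)
  refine ⟨(n : ZMod 3), ?_⟩
  have hn' : z ^ n = b⁻¹ * a⁻¹ * b * a := hn
  have : pw z (n : ZMod 3) = z ^ n := by
    show z ^ ((n : ZMod 3)).val = z ^ n
    rw [← zpow_natCast, ZMod.val_intCast, ← zpow_eq_zpow_emod n
      (show z ^ ((3 : ℕ) : ℤ) = 1 by rw [zpow_natCast]; exact hz3)]
  rw [this, hn']
  group

theorem exists_ctx {G : Type u} [Group G] [Finite G]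
    (S : Sylow 3 G) (Z : Subgroup G) (hZ : Z = (S : Subgroup G) ⊓ Subgroup.centralizer ((S : Subgroup G) : Set G))
    (C : Subgroup G) (hCZ : C = Subgroup.centralizer (Z : Set G))
    (Q : Subgroup G) (hQ : Q = (Cfsg.pCore 3 C).map C.subtype)
    (hQex : Cfsg.IsExtraspecial 3 Q) (hQcard : Nat.card Q = 3 ^ 5) (hQexp : ∀ a ∈ Q, a ^ 3 = 1)
    (hCQ : Subgroup.centralizer (Q : Set G) ≤ Q)
    (K : Subgroup G) (hK : K = ((Cfsg.pResidual 2 (C ⧸ Cfsg.pCore 3 C)).comap (QuotientGroup.mk' (Cfsg.pCore 3 C))).map C.subtype)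
    (e : Nonempty (C ⧸ Cfsg.pCore 3 C ≃* Matrix.SpecialLinearGroup (Fin 2) (ZMod 3)) ∨
      Nonempty (C ⧸ Cfsg.pCore 3 C ≃* Matrix.SpecialLinearGroup (Fin 2) (ZMod 3) × Multiplicative (ZMod 2))) :
    ∃ D : Ctx G, D.C = C ∧ D.Q = Q ∧ Z = Subgroup.zpowers D.z ∧ ¬ 3 ^ 7 ∣ Nat.card G ∧
      (∀ c : D.C, D.σ c = 1 → (c : G) ∈ K) ∧ (∀ k ∈ K, ∃ c : D.C, (c : G) = k ∧ D.σ c = 1) ∧
      (D.ext = false ↔ Nonempty (C ⧸ Cfsg.pCore 3 C ≃* Matrix.SpecialLinearGroup (Fin 2) (ZMod 3))) := by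
  classical
  haveI : Fact (Nat.Prime 3) := ⟨Nat.prime_three⟩
  have hSC : (S : Subgroup G) ≤ C := by
    rw [hCZ]
    refine fun s hs => Subgroup.mem_centralizer_iff.2 fun a ha => ?_
    rw [hZ] at ha
    exact (Subgroup.mem_centralizer_iff.1 ha.2 s hs).symm
  have hQC : Q ≤ C := hQ ▸ Subgroup.map_subtype_le _
  have hQsub : ∀ c : C, (c : G) ∈ Q ↔ c ∈ Cfsg.pCore 3 C := fun c => by
    rw [hQ]
    exact Subgroup.mem_map_iff_mem C.subtype_injective
  have hQS : Q ≤ (S : Subgroup G) := by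
    haveI : (Cfsg.pCore 3 C).Normal := CfsgLib.Solvable.pCore_normal 3
    have hp : IsPGroup 3 ((Cfsg.pCore 3 C ⊔ ((S.subtype hSC : Sylow 3 C) : Subgroup C) : Subgroup C)) :=
      (CfsgLib.Solvable.isPGroup_pCore 3).to_sup_of_normal_left (S.subtype hSC).isPGroup'
    have hle := (S.subtype hSC).is_maximal' hp le_sup_right
    intro q hq
    have : (⟨q, hQC hq⟩ : C) ∈ ((S.subtype hSC : Sylow 3 C) : Subgroup C) := by
      rw [← hle]
      exact Subgroup.mem_sup_left ((hQsub _).1 hq)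
    exact this
  have hZQ : Z ≤ Q := fun a ha => hCQ (Subgroup.mem_centralizer_iff.2 fun q hq => by
    rw [hZ] at ha
    exact Subgroup.mem_centralizer_iff.1 ha.2 q (hQS hq))
  -- the centre of `Q`
  let Zc : Subgroup G := (Subgroup.center Q).map Q.subtype
  have hZc : Nat.card Zc = 3 := by
    rw [Subgroup.card_map_of_injective Q.subtype_injective]
    exact hQex.2
  have hZle : Z ≤ Zc := fun a ha => ⟨⟨a, hZQ ha⟩, Subgroup.mem_center_iff.2 fun q => Subtype.ext (by
    rw [hZ] at ha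
    exact Subgroup.mem_centralizer_iff.1 ha.2 q (hQS q.2)), rfl⟩
  have hZne : Z ≠ ⊥ := by
    intro hbot
    haveI : Nontrivial (S : Subgroup G) := by
      refine Finite.one_lt_card_iff_nontrivial.1 ?_
      have := Subgroup.card_le_of_le hQS
      rw [hQcard] at this
      omega
    haveI := S.isPGroup'.center_nontrivial
    obtain ⟨s, hs⟩ := exists_ne (1 : Subgroup.center (S : Subgroup G))
    have hmem : ((s : (S : Subgroup G)) : G) ∈ Z := by
      rw [hZ]
      exact ⟨(s : (S : Subgroup G)).2, Subgroup.mem_centralizer_iff.2 fun x hx =>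
        congrArg Subtype.val (Subgroup.mem_center_iff.1 s.2 ⟨x, hx⟩)⟩
    rw [hbot, Subgroup.mem_bot] at hmem
    exact hs (Subtype.ext (Subtype.ext hmem))
  have hcardZ : Nat.card Z = 3 := by
    have h := Subgroup.card_dvd_of_le hZle
    rw [hZc] at h
    rcases (Nat.dvd_prime Nat.prime_three).1 h with h1 | h1
    · exact absurd (Subgroup.card_eq_one.1 h1) hZne
    · exact h1
  have hZeq : Z = Zc := Subgroup.eq_of_le_of_card_ge hZle (by rw [hZc, hcardZ])
  obtain ⟨z, hzZ, hz1⟩ := (Subgroup.bot_or_exists_ne_one Z).resolve_left hZne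
  have hZz : Z = Subgroup.zpowers z := by
    refine (Subgroup.eq_of_le_of_card_ge (Subgroup.zpowers_le.2 hzZ) ?_).symm
    rw [hcardZ, Nat.card_zpowers]
    have h1 : orderOf z ∣ 3 := orderOf_dvd_of_pow_eq_one (hQexp z (hZQ hzZ))
    rcases (Nat.dvd_prime Nat.prime_three).1 h1 with h | h
    · exact absurd (orderOf_eq_one_iff.1 h) hz1
    · rw [h]
  have hcentre : ∀ q ∈ Q, (∀ r ∈ Q, r * q = q * r) → q ∈ Subgroup.zpowers z := fun q hq hc => by
    rw [← hZz, hZeq]
    exact ⟨⟨q, hq⟩, Subgroup.mem_center_iff.2 fun r => Subtype.ext (hc r r.2), rfl⟩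
  have qh : QHyp Q z :=
    { z_mem := hZQ hzZ
      z_ne := hz1
      z_comm := fun q hq => by
        have h := hzZ
        rw [hZ] at h
        exact Subgroup.mem_centralizer_iff.1 h.2 q (hQS hq)
      exp := hQexp
      card := by rw [hQcard]; norm_num
      comm := fun a ha b hb => by
        refine commutator_pow (hQexp z (hZQ hzZ)) ha hb ?_
        rw [hQex.1.2.2]
        intro w hw
        rw [Subgroup.mem_subgroupOf, ← hZz, hZeq]
        exact ⟨w, hw, rfl⟩
      centre := hcentre }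
  -- the quotient
  obtain ⟨ext, f, hfi, hfs, hff, hft, hfiso⟩ := exists_quot_hom e
  let mk := QuotientGroup.mk' (Cfsg.pCore 3 C)
  have hmem : ∀ g, g ∈ C ↔ g * z = z * g := fun g => by
    rw [hCZ, hZz]
    refine ⟨fun h => (Subgroup.mem_centralizer_iff.1 h z (Subgroup.mem_zpowers z)).symm, fun h =>
      Subgroup.mem_centralizer_iff.2 ?_⟩
    rintro _ ⟨n, rfl⟩
    exact ((show Commute g z from h).symm.zpow_left n).eq
  let D : Ctx G :=
    { Q := Q
      z := z
      qh := qh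
      C := C
      mem_C := hmem
      norm := fun c hc q hq => by
        have h := (inferInstance : (Cfsg.pCore 3 C).Normal).conj_mem ⟨q, hQC hq⟩ ((hQsub _).1 hq) ⟨c, hc⟩
        exact (hQsub _).2 h
      centQ := fun g hg => hCQ (Subgroup.mem_centralizer_iff.2 hg)
      ext := ext
      π := (MonoidHom.fst S23 _).comp (f.comp mk)
      σ := (MonoidHom.snd S23 _).comp (f.comp mk)
      ker := fun c h1 h2 => (hQsub c).2 ((QuotientGroup.eq_one_iff c).1 (hfi (by
        rw [map_one]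
        exact Prod.ext h1 h2)))
      kerQ := fun c hc => by
        have h0 : mk c = 1 := (QuotientGroup.eq_one_iff c).2 ((hQsub c).1 hc)
        constructor <;> simp [h0]
      surj := fun A => by
        obtain ⟨x, hx⟩ := hfs A
        obtain ⟨c, rfl⟩ := QuotientGroup.mk'_surjective _ x
        exact ⟨c, congrArg Prod.fst hx, congrArg Prod.snd hx⟩
      ext_false := fun h c => hff h (mk c)
      ext_true := fun h => by
        obtain ⟨x, hx1, hx2⟩ := hft h
        obtain ⟨c, rfl⟩ := QuotientGroup.mk'_surjective _ x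
        exact ⟨c, hx1, hx2⟩ }
  refine ⟨D, rfl, rfl, hZz, ?_, fun c hc => ?_, fun k hk => ?_, hfiso⟩
  · intro h7
    have hS : 3 ^ 7 ∣ Nat.card (S : Subgroup G) := by
      rw [S.card_eq_multiplicity]
      exact pow_dvd_pow 3 ((Nat.prime_three.pow_dvd_iff_le_factorization Nat.card_pos.ne').1 h7)
    have hC := hS.trans (Subgroup.card_dvd_of_le hSC)
    rw [Subgroup.card_eq_card_quotient_mul_card_subgroup (Cfsg.pCore 3 C)] at hC
    rw [show Nat.card (Cfsg.pCore 3 C) = 3 ^ 5 by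
      rw [← hQcard, hQ, Subgroup.card_map_of_injective C.subtype_injective]] at hC
    rcases e with ⟨⟨e'⟩⟩ | ⟨⟨e'⟩⟩ <;> rw [Nat.card_congr e'.toEquiv] at hC
    · rw [card_quot.1] at hC; norm_num at hC
    · rw [card_quot.2] at hC; norm_num at hC
  · rw [hK]
    exact ⟨c, (mem_residual hfi hfs (mk c)).2 hc, rfl⟩
  · rw [hK] at hk
    obtain ⟨c, hc, rfl⟩ := hk
    exact ⟨c, rfl, (mem_residual hfi hfs (mk c)).1 hc⟩

end CfsgLib.O8Three
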