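import Cfsg.Agent.O8Three.SetupFus
import Cfsg.Agent.Solvable.Gaschutz

/-!
# The parametrisation of the centralizer
-/

set_option autoImplicit false
set_option maxRecDepth 4000
set_option linter.style.haveILetI false
set_option linter.unusedVariables false

namespace CfsgLib.O8Three

open Matrix CfsgLib.PSpFourThree
open CfsgLib.PSpFourInvol (S sm si)

universe u

theorem app_act (g : S) (v : Vec) : app (up (chi g), sA g) v = act g v := by
  simp [app, act, up, sA]

theorem app_negOne (v : Vec) : app (negOne, 1) v = ⟨-v.a, -v.b, v.m, v.n⟩ := by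
  simp [app, negOne]

theorem sq_two : ∀ a b : Multiplicative (ZMod 2), a ≠ 1 → b ≠ 1 → a * b = 1 := by decide

namespace Levi

variable {G : Type u} [Group G] {D : Ctx G} {F : Fr G D.Q D.z} {t : D.C}

theorem mem_zpowers_of_act {g : G} (hact : ∀ q ∈ D.Q, q * (g : G) = g * q) : g ∈ Subgroup.zpowers D.z :=
  D.qh.centre g (D.centQ g hact) hact

/-- The elements of the centralizer of the involution acting linearly. -/
def lin (hL : Levi D F t 1) : Subgroup D.C where
  carrier := {c | c * t = t * c ∧ D.σ c = 1 ∧ ∃ g : S, F.Act (c : G) (up (chi g), sA g) (0, 0)}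
  one_mem' := ⟨by rw [one_mul, mul_one], map_one _, 0, by
    rw [sA_zero, chi_zero, show up 0 = (1 : S23) by decide +kernel]
    exact Fr.Act.one⟩
  mul_mem' := by
    rintro a b ⟨ha, hsa, g, hga⟩ ⟨hb, hsb, h, hgb⟩
    refine ⟨((show Commute a t from ha).mul_left hb).eq, by rw [map_mul, hsa, hsb, one_mul], sm g h, ?_⟩
    have hup : ∀ a c : ZMod 3, up a * up c = up (a + c) := by decide +kernel
    have h := hga.mul0 hgb
    rw [Prod.mk_mul_mk, hup, ← chi_mul, ← sA_mul] at h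
    exact h
  inv_mem' := by
    rintro a ⟨ha, hsa, g, hga⟩
    refine ⟨((show Commute a t from ha).inv_left).eq, by rw [map_inv, hsa, inv_one], si g, ?_⟩
    have hchi : chi (si g) = -chi g := by
      have := chi_mul (si g) g
      rw [(PSpFourInvol.sm_one g).2.2, chi_zero] at this
      exact eq_neg_of_add_eq_zero_left this.symm
    have hsi : sA (si g) = (sA g)⁻¹ := eq_inv_of_mul_eq_one_left (by
      rw [← sA_mul, (PSpFourInvol.sm_one g).2.2, sA_zero])
    have hup : ∀ c : ZMod 3, (up c)⁻¹ = up (-c) := by decide +kernel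
    have h := hga.inv
    rw [Prod.inv_mk, hup, ← hchi, ← hsi] at h
    exact h

theorem exists_psi [Finite G] (hL : Levi D F t 1) {x : D.C} (hx : hL.IsX x) (hx3 : (x : G) ^ 3 = 1) :
    ∃ ψ : S → D.C, (∀ g h, ψ (sm g h) = ψ g * ψ h) ∧
      ∀ g, ψ g * t = t * ψ g ∧ D.σ (ψ g) = 1 ∧ F.Act (ψ g : G) (up (chi g), sA g) (0, 0) := by
  classical
  choose gg hgg using fun c : hL.lin => c.2.2.2
  let M : hL.lin →* S23 := MonoidHom.mk' (fun c => sA (gg c)) fun a b => by
    exact congrArg Prod.snd (Fr.Act.unique (hgg (a * b)) ((hgg a).mul0 (hgg b))).1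
  have hMg : ∀ (c : hL.lin) (g : S), F.Act ((c : D.C) : G) (up (chi g), sA g) (0, 0) → M c = sA g :=
    fun c g h => congrArg Prod.snd (Fr.Act.unique (hgg c) h).1
  let zc : hL.lin := ⟨⟨D.z, D.z_mem_C⟩, Subtype.ext hL.split.2.1.symm, (D.kerQ _ D.qh.z_mem).2, 0, by
    rw [sA_zero, chi_zero, show up 0 = (1 : S23) by decide +kernel]
    intro k v
    rw [Prod.mk_one_one, app_one]
    show D.z * F.emb k v * D.z⁻¹ = _
    rw [← D.qh.z_comm _ (F.emb_mem k v), mul_inv_cancel_right]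
    simp [fnl]⟩
  have hker : M.ker ≤ Subgroup.zpowers zc := by
    intro c hc
    have h0 : gg c = 0 := sA_inj ((MonoidHom.mem_ker.1 hc).trans sA_zero.symm)
    have h := hgg c
    rw [h0, sA_zero, chi_zero, show up 0 = (1 : S23) by decide +kernel] at h
    obtain ⟨n, hn⟩ := mem_zpowers_of_act (D := D) h.comm
    exact ⟨n, Subtype.ext (Subtype.ext (by simpa using hn))⟩
  have hker' : Subgroup.zpowers zc ≤ M.ker := Subgroup.zpowers_le.2 (by
    rw [MonoidHom.mem_ker, hMg zc 0, sA_zero]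
    rw [sA_zero, chi_zero, show up 0 = (1 : S23) by decide +kernel]
    intro k v
    rw [Prod.mk_one_one, app_one]
    show D.z * F.emb k v * D.z⁻¹ = _
    rw [← D.qh.z_comm _ (F.emb_mem k v), mul_inv_cancel_right]
    simp [fnl])
  have hK : M.ker = Subgroup.zpowers zc := le_antisymm hker hker'
  haveI : IsMulCommutative M.ker := by rw [hK]; infer_instance
  have hcardK : Nat.card M.ker ∣ 3 := by
    rw [hK, Nat.card_zpowers]
    exact orderOf_dvd_of_pow_eq_one (Subtype.ext (Subtype.ext (by simpa using D.qh.z3)))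
  have hsurj : Function.Surjective M := by
    intro A
    obtain ⟨g, rfl⟩ := sA_surj A
    obtain ⟨c, h1, h2, h3⟩ := hL.lift g
    rw [one_mul] at h3
    exact ⟨⟨c, h1, h2, g, h3⟩, hMg _ g h3⟩
  let U : Subgroup hL.lin := (Subgroup.zpowers trv).comap M
  have hU : U.index = 8 := by
    rw [Subgroup.index_comap_of_surjective _ hsurj]
    have h := (Subgroup.zpowers trv).card_mul_index
    rw [Nat.card_zpowers, ← Nat.card_congr (Equiv.ofBijective sA ⟨sA_inj, sA_surj⟩), Nat.card_fin,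
      orderOf_eq_prime (p := 3) (by rw [pow_succ, pow_two]; exact trv_cube') (by decide +kernel)] at h
    omega
  have hxl : x ∈ hL.lin := ⟨hx.1, hx.2.1, 10, by
    rw [sA_ten.1, sA_ten.2.1]
    exact hx.2.2⟩
  let xc : hL.lin := ⟨x, hxl⟩
  have hMx : M xc = trv := by
    rw [hMg xc 10 (by rw [sA_ten.1, sA_ten.2.1]; exact hx.2.2), sA_ten.1]
  obtain ⟨H, hH⟩ := Gaschutz.exists_complement (K := M.ker) (U := U)
    (fun c hc => by
      show M c ∈ Subgroup.zpowers trv
      rw [MonoidHom.mem_ker.1 hc]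
      exact one_mem _)
    (Nat.Coprime.coprime_dvd_left hcardK (by rw [hU]; norm_num))
    (Subgroup.zpowers xc)
    (Subgroup.zpowers_le.2 (by show M xc ∈ Subgroup.zpowers trv; rw [hMx]; exact Subgroup.mem_zpowers _))
    (by
      rw [eq_bot_iff]
      intro c hcm
      obtain ⟨hcA, hc⟩ := Subgroup.mem_inf.1 hcm
      obtain ⟨n, rfl⟩ := Subgroup.mem_zpowers_iff.1 hcA
      have hn : (orderOf trv : ℤ) ∣ n := by
        rw [orderOf_dvd_iff_zpow_eq_one]
        have := MonoidHom.mem_ker.1 hc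
        rwa [map_zpow, hMx] at this
      rw [orderOf_eq_prime (p := 3) (by rw [pow_succ, pow_two]; exact trv_cube') (by decide +kernel)] at hn
      obtain ⟨m, rfl⟩ := hn
      rw [Subgroup.mem_bot]
      show xc ^ (((3 : ℕ) : ℤ) * m) = 1
      rw [_root_.zpow_mul, zpow_natCast,
        show xc ^ 3 = 1 from Subtype.ext (Subtype.ext (by simpa [xc] using hx3)), _root_.one_zpow])
    (le_antisymm (sup_le (fun c hc => by
        show M c ∈ Subgroup.zpowers trv
        rw [MonoidHom.mem_ker.1 hc]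
        exact one_mem _)
      (Subgroup.zpowers_le.2 (by show M xc ∈ Subgroup.zpowers trv; rw [hMx]; exact Subgroup.mem_zpowers _)))
      fun c hc => by
        obtain ⟨n, hn⟩ := (hc : M c ∈ Subgroup.zpowers trv)
        have hc' : c * (xc ^ n)⁻¹ ∈ M.ker := by
          rw [MonoidHom.mem_ker, map_mul, map_inv, map_zpow, hMx]
          exact mul_inv_eq_one.2 hn.symm
        have hcc := Subgroup.mul_mem_sup hc' (Subgroup.zpow_mem (Subgroup.zpowers xc) (Subgroup.mem_zpowers xc) n)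
        rwa [inv_mul_cancel_right] at hcc)
  have hHinj : ∀ a ∈ H, ∀ b ∈ H, M a = M b → a = b := fun a ha b hb e => by
    have h : a * b⁻¹ ∈ M.ker ⊓ H := Subgroup.mem_inf.2 ⟨by
      rw [MonoidHom.mem_ker, map_mul, map_inv, e, mul_inv_cancel], mul_mem ha (inv_mem hb)⟩
    rw [hH.disjoint.eq_bot, Subgroup.mem_bot] at h
    exact mul_inv_eq_one.1 h
  have hex : ∀ g : S, ∃ h ∈ H, M h = sA g := fun g => by
    obtain ⟨c, hc⟩ := hsurj (sA g)
    obtain ⟨⟨k, h⟩, hkh⟩ := hH.2 c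
    refine ⟨h, h.2, ?_⟩
    rw [← hc, ← hkh, map_mul, MonoidHom.mem_ker.1 k.2, one_mul]
  choose ψ hψH hψ using hex
  refine ⟨fun g => ((ψ g : hL.lin) : D.C), fun g h => ?_, fun g => ⟨(ψ g).2.1, (ψ g).2.2.1, ?_⟩⟩
  · have := hHinj _ (hψH (sm g h)) _ (mul_mem (hψH g) (hψH h)) (by rw [map_mul, hψ, hψ, hψ, sA_mul])
    exact congrArg Subtype.val this
  · have h := hgg (ψ g)
    rwa [show gg (ψ g) = g from sA_inj (hψ g)] at h

/-- The outer involution centralises the complement. -/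
theorem out_comm (hL : Levi D F t 1) {s c : D.C} {g : S} (hs : (s : G) * s = 1)
    (hsa : F.Act (s : G) (negOne, 1) (0, 0))
    (hca : F.Act (c : G) (up (chi g), sA g) (0, 0)) : (s : G) * c * s = c := by
  have hsi : (s : G)⁻¹ = s := inv_eq_of_mul_eq_one_right hs
  have hzs : (s : G) * D.z = D.z * s := (D.mem_C _).1 s.2
  have h := ((hsa.mul0 hca).mul0 hsa.inv).mul0 hca.inv
  have hb : ((negOne, (1 : S23)) : Bl) * (up (chi g), sA g) * (negOne, 1)⁻¹ * (up (chi g), sA g)⁻¹ = 1 := by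
    refine Prod.ext ?_ ?_
    · simp only [Prod.fst_mul, Prod.fst_inv, Prod.fst_one]
      rw [← bl_facts.1, mul_inv_cancel_right, mul_inv_cancel]
    · simp
  rw [hb, hsi] at h
  obtain ⟨n, hn⟩ := mem_zpowers_of_act (D := D) h.comm
  have hn' : D.z ^ n = (s : G) * c * s * (c : G)⁻¹ := hn
  have e : (s : G) * c * s = D.z ^ n * c := by rw [hn', inv_mul_cancel_right]
  have hzn : Commute (s : G) (D.z ^ n) := (show Commute (s : G) D.z from hzs).zpow_right n
  have hz2 : D.z ^ n * D.z ^ n = 1 := by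
    have e2 : (c : G) = D.z ^ n * D.z ^ n * c := by
      calc (c : G) = (s : G) * s * c * ((s : G) * s) := by rw [hs, one_mul, mul_one]
        _ = (s : G) * ((s : G) * c * s) * s := by simp only [mul_assoc]
        _ = (s : G) * D.z ^ n * c * s := by rw [e]; simp only [mul_assoc]
        _ = D.z ^ n * ((s : G) * c * s) := by rw [hzn.eq]; simp only [mul_assoc]
        _ = _ := by rw [e]; simp only [mul_assoc]
    exact (mul_eq_right.1 e2.symm)
  have hz3 : (D.z ^ n) ^ 3 = 1 := by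
    rw [← zpow_natCast, ← _root_.zpow_mul, mul_comm, _root_.zpow_mul, zpow_natCast, D.qh.z3, _root_.one_zpow]
  rw [pow_succ, pow_two, hz2, one_mul] at hz3
  rw [e, hz3, one_mul]

theorem eq_par [Finite G] (hL : Levi D F t 1) {ψ : S → D.C}
    (hψ : ∀ g, ψ g * t = t * ψ g ∧ D.σ (ψ g) = 1 ∧ F.Act (ψ g : G) (up (chi g), sA g) (0, 0))
    {c : D.C} (hc : D.σ c = 1) : ∃ k v g, (c : G) = F.emb k v * (ψ g : G) := by
  obtain ⟨c', hc't, hc'π, hc'σ⟩ := D.split hL.tπ hL.tσ hL.split.1 c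
  have hc'tC : c' * t = t * c' := Subtype.ext hc't
  obtain ⟨g, κ, hg⟩ := hL.form c' hc'tC (hc'σ.trans hc)
  rw [one_mul] at hg
  have h1 := hg.mul (hψ g).2.2.inv
  rw [mul_inv_cancel] at h1
  have hq1 : ((c' : G) * (ψ g : G)⁻¹) ∈ D.Q := hL.trivialAct (c' * (ψ g)⁻¹) _
    (((show Commute c' t from hc'tC).mul_left (show Commute (ψ g) t from (hψ g).1).inv_left).eq) h1
  have hq0 : ((c * c'⁻¹ : D.C) : G) ∈ D.Q := D.ker _
    (by rw [map_mul, map_inv, hc'π, mul_inv_cancel]) (by rw [map_mul, map_inv, hc'σ, mul_inv_cancel])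
  have hq := mul_mem hq0 hq1
  rw [Subgroup.coe_mul, Subgroup.coe_inv, mul_assoc, inv_mul_cancel_left] at hq
  obtain ⟨k, v, hkv⟩ := F.emb_surj hq
  exact ⟨k, v, g, by rw [hkv, inv_mul_cancel_right]⟩

theorem exists_par [Finite G] (hL : Levi D F t 1) {x : D.C} (hx : hL.IsX x) (hx3 : (x : G) ^ 3 = 1) :
    ∃ (p : T →* G) (out : G), Function.Injective p ∧ out * out = 1 ∧ (D.ext = false → out = 1) ∧
      (D.ext = true → ∀ y, p y ≠ out) ∧ (∀ y, out * p y * out = p (sigB D.ext y)) ∧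
      (∀ g, g * p zT = p zT * g → ∃ y, g = p y ∨ g = p y * out) ∧ p zT = D.z ∧
      ∀ q ∈ D.Q, ∃ y : T, p y = q ∧ y.g = 0 ∧ (y.v = v0 → q ∈ Subgroup.zpowers D.z) := by
  classical
  obtain ⟨ψ, hψm, hψ⟩ := hL.exists_psi hx hx3
  have hψ0 : ψ 0 = 1 := by
    have := hψm 0 0
    rw [(PSpFourInvol.sm_one 0).1] at this
    exact mul_eq_left.1 this.symm
  let p : T →* G := MonoidHom.mk' (fun y => F.emb y.c y.v * (ψ y.g : G)) fun a b => by
    show F.emb (a * b).c (a * b).v * (ψ (a * b).g : G) = _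
    rw [mul_def, tm]
    rw [hψm, Subgroup.coe_mul]
    have hb := (hψ a.g).2.2 b.c b.v
    rw [app_act] at hb
    simp only [fnl, zero_mul, add_zero] at hb
    rw [show F.emb a.c a.v * (ψ a.g : G) * (F.emb b.c b.v * (ψ b.g : G)) =
      F.emb a.c a.v * ((ψ a.g : G) * F.emb b.c b.v * (ψ a.g : G)⁻¹) * ((ψ a.g : G) * (ψ b.g : G)) by group,
      hb, F.emb_mul]
  have hpdef : ∀ y, p y = F.emb y.c y.v * (ψ y.g : G) := fun _ => rfl
  have hpz : p zT = D.z := by
    rw [hpdef]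
    show F.emb 1 v0 * (ψ 0 : G) = D.z
    rw [hψ0, Subgroup.coe_one, mul_one, F.emb_z]
  have hpinj : Function.Injective p := by
    refine (injective_iff_map_eq_one p).2 fun y hy => ?_
    rw [hpdef] at hy
    have hq : (ψ y.g : G) ∈ D.Q := by
      rw [eq_inv_of_mul_eq_one_right hy]
      exact inv_mem (F.emb_mem _ _)
    obtain ⟨κ, hκ⟩ := hL.act_of_mem (hψ y.g).1 hq
    have hg := congrArg Prod.snd (Fr.Act.unique (hψ y.g).2.2 hκ).1
    have hg0 : y.g = 0 := sA_inj (hg.trans sA_zero.symm)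
    rw [hg0, hψ0, Subgroup.coe_one, mul_one] at hy
    obtain ⟨h1, h2⟩ := F.emb_eq_one hy
    exact T.ext h1 h2 hg0
  have hcov : ∀ c : D.C, D.σ c = 1 → ∃ y, (c : G) = p y := fun c hc => by
    obtain ⟨k, v, g, h⟩ := eq_par hL hψ hc
    exact ⟨⟨k, v, g⟩, h⟩
  have hC : ∀ g, g * p zT = p zT * g → g ∈ D.C := fun g h => by
    rw [hpz] at h
    exact (D.mem_C g).2 h
  have hqcov : ∀ q ∈ D.Q, ∃ y : T, p y = q ∧ y.g = 0 ∧ (y.v = v0 → q ∈ Subgroup.zpowers D.z) := fun q hq => by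
    obtain ⟨k, v, rfl⟩ := F.emb_surj hq
    refine ⟨⟨k, v, 0⟩, ?_, rfl, fun h => F.mem_center.2 h⟩
    rw [hpdef, hψ0, Subgroup.coe_one, mul_one]
  cases hext : D.ext
  · refine ⟨p, 1, hpinj, one_mul 1, fun _ => rfl, fun h => Bool.noConfusion h, fun y => by
      rw [one_mul, mul_one]; rfl, fun g hg => ?_, hpz, hqcov⟩
    obtain ⟨y, hy⟩ := hcov ⟨g, hC g hg⟩ (D.ext_false hext _)
    exact ⟨y, Or.inl hy⟩
  · obtain ⟨s, hst, hsσ, hs2, hsa⟩ := hL.out hext
    refine ⟨p, s, hpinj, hs2, fun h => Bool.noConfusion h, fun _ y hy => hsσ ?_, fun y => ?_, fun g hg => ?_,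
      hpz, hqcov⟩
    · have hmem : F.emb y.c y.v ∈ D.C := D.Q_le (F.emb_mem _ _)
      have e : s = (⟨_, hmem⟩ : D.C) * ψ y.g := Subtype.ext hy.symm
      rw [e, map_mul, (D.kerQ _ (F.emb_mem _ _)).2, (hψ y.g).2.1, one_mul]
    · have hsi : (s : G)⁻¹ = s := inv_eq_of_mul_eq_one_right hs2
      have he := hsa y.c y.v
      rw [app_negOne, hsi] at he
      simp only [fnl, zero_mul, add_zero] at he
      rw [hpdef, hpdef]
      calc (s : G) * (F.emb y.c y.v * (ψ y.g : G)) * s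
          = (s : G) * F.emb y.c y.v * ((s : G) * s) * (ψ y.g : G) * s := by rw [hs2]; simp only [mul_assoc, one_mul]
        _ = ((s : G) * F.emb y.c y.v * s) * ((s : G) * (ψ y.g : G) * s) := by simp only [mul_assoc]
        _ = _ := by rw [he, out_comm hL hs2 hsa (hψ y.g).2.2]; rfl
    · by_cases hσ : D.σ ⟨g, hC g hg⟩ = 1
      · obtain ⟨y, hy⟩ := hcov _ hσ
        exact ⟨y, Or.inl hy⟩
      · obtain ⟨y, hy⟩ := hcov (⟨g, hC g hg⟩ * s) (by rw [map_mul]; exact sq_two _ _ hσ hsσ)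
        refine ⟨y, Or.inr ?_⟩
        rw [← hy, Subgroup.coe_mul, mul_assoc, hs2, mul_one]

end Levi

end CfsgLib.O8Three
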