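import Cfsg.Agent.O8Three.SetupIrred
import Cfsg.Agent.O8Three.SetupHyp
import Cfsg.Agent.O8Three.SetupParam

/-!
# The hypotheses give the parametrised centralizer of a 3-central element
-/

set_option autoImplicit false
set_option maxRecDepth 4000
set_option linter.style.haveILetI false

namespace CfsgLib.O8Three

open Matrix CfsgLib.PSpFourThree

universe u

namespace Ctx

variable {G : Type u} [Group G] (D : Ctx G)

/-- If nothing outside the centre of `Q` is fixed, the involution inverts `Q` modulo its centre. -/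
theorem all_inverted {t : D.C} (h2 : (t : G) * t = 1)
    (h : ∀ p ∈ D.Q, (t : G) * p = p * t → p ∈ Subgroup.zpowers D.z) :
    ∀ q ∈ D.Q, (t : G) * q * t * q ∈ Subgroup.zpowers D.z := by
  intro q hq
  have htz : (t : G) * D.z = D.z * t := (D.mem_C _).1 t.2
  obtain ⟨m, hm, p, hp, htm, htp, rfl⟩ := D.qh.decomp h2 htz (fun q hq => D.t_conj_mem h2 hq) hq
  have hpz := h p hp htp
  have hcm : Commute m p := by
    obtain ⟨n, rfl⟩ := hpz
    exact (show Commute m D.z from D.qh.z_comm m hm).zpow_right n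
  have e : (t : G) * (m * p) * t * (m * p) = p * p := by
    calc (t : G) * (m * p) * t * (m * p) = (t : G) * m * ((t : G) * t) * p * t * (m * p) := by
          rw [h2, mul_one]; simp only [mul_assoc]
      _ = ((t : G) * m * t) * ((t : G) * p * t) * (m * p) := by simp only [mul_assoc]
      _ = m⁻¹ * p * (m * p) := by rw [htm, htp, mul_assoc p, h2, mul_one]
      _ = p * p := by rw [mul_assoc, ← mul_assoc p m p, ← hcm.eq, mul_assoc m p p, inv_mul_cancel_left]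
  rw [e]
  exact mul_mem hpz hpz

/-- The chain forces a fixed element outside the centre. -/
theorem exists_plus {t : D.C} (hπ : D.π t = negOne) (hσ : D.σ t = 1) (h2 : (t : G) * t = 1)
    {K : Subgroup G} (hKσ : ∀ c : D.C, D.σ c = 1 → (c : G) ∈ K) (hKC : ∀ k ∈ K, ∃ c : D.C, (c : G) = k ∧ D.σ c = 1)
    (r : ℕ) (A : Fin (r + 1) → Subgroup G) (hA0 : A 0 = Subgroup.zpowers D.z) (hAr : A (Fin.last r) = D.Q)
    (hmono : ∀ i : Fin r, A i.castSucc < A i.succ)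
    (hmax : ∀ i : Fin r, ∀ B : Subgroup G, A i.castSucc < B → B < A i.succ → ∃ k ∈ K, ∃ b ∈ B, k * b * k⁻¹ ∉ B)
    (hone : ∃! i : Fin r, (∃ k ∈ K, ∃ a ∈ A i.succ, k * a * k⁻¹ * a⁻¹ ∉ A i.castSucc)) :
    ∃ p ∈ D.Q, (t : G) * p = p * t ∧ p ∉ Subgroup.zpowers D.z := by
  by_contra hno
  push Not at hno
  have hall := D.all_inverted h2 hno
  obtain ⟨B, hB1, hB2, hBinv⟩ := D.exists_invariant hπ hσ h2 hall
  have hsm : StrictMono A := Fin.strictMono_iff_lt_succ.2 hmono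
  have hle : ∀ i, A i ≤ D.Q := fun i => hAr ▸ hsm.monotone (Fin.le_last i)
  have hge : ∀ i, Subgroup.zpowers D.z ≤ A i := fun i => hA0 ▸ hsm.monotone (Fin.zero_le i)
  have hti : (t : G)⁻¹ = t := inv_eq_of_mul_eq_one_right h2
  have hmove : ∀ i : Fin r, ∃ k ∈ K, ∃ a ∈ A i.succ, k * a * k⁻¹ * a⁻¹ ∉ A i.castSucc := by
    intro i
    obtain ⟨a, ha, hna⟩ := SetLike.exists_of_lt (hmono i)
    refine ⟨t, hKσ t hσ, a, ha, fun hmem => hna ?_⟩
    rw [hti] at hmem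
    have hu := hge i.castSucc (hall a (hle _ ha))
    have h3 := D.qh.exp a (hle _ ha)
    have e : a = ((t : G) * a * t * a)⁻¹ * ((t : G) * a * t * a⁻¹) := by
      calc a = a ^ 3 * (a⁻¹ * a⁻¹) := by group
        _ = a⁻¹ * a⁻¹ := by rw [h3, one_mul]
        _ = _ := by group
    rw [e]
    exact mul_mem (inv_mem hu) hmem
  obtain ⟨i₀, -, huniq⟩ := hone
  have hr1 : r ≤ 1 := by
    by_contra hr
    have h0 := huniq ⟨0, by omega⟩ (hmove _)
    have h1 := huniq ⟨1, by omega⟩ (hmove _)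
    exact absurd (h0.trans h1.symm) (by simp [Fin.ext_iff])
  interval_cases r
  · exact absurd hB1 (by
      intro h
      have hEq : Subgroup.zpowers D.z = D.Q := hA0.symm.trans hAr
      exact lt_irrefl _ (h.trans (hB2.trans_le hEq.symm.le)))
  · obtain ⟨k, hk, b, hb, hnot⟩ := hmax 0 B (by simpa [hA0] using hB1) (by
      rw [show (Fin.succ (0 : Fin 1)) = Fin.last 1 from rfl, hAr]
      exact hB2)
    obtain ⟨c, rfl, hc⟩ := hKC k hk
    exact hnot (hBinv c hc b hb)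

end Ctx

/-- The hypotheses give a parametrised centralizer. -/
theorem exists_base {G : Type u} [Group G] [Finite G]
    (S : Sylow 3 G) (Z : Subgroup G) (hZ : Z = (S : Subgroup G) ⊓ Subgroup.centralizer ((S : Subgroup G) : Set G))
    (C : Subgroup G) (hCZ : C = Subgroup.centralizer (Z : Set G))
    (Q : Subgroup G) (hQ : Q = (Cfsg.pCore 3 C).map C.subtype)
    (hQex : Cfsg.IsExtraspecial 3 Q) (hQcard : Nat.card Q = 3 ^ 5) (hQexp : ∀ a ∈ Q, a ^ 3 = 1)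
    (hCQ : Subgroup.centralizer (Q : Set G) ≤ Q)
    (hZQ : ∃ x : G, Z.map (MulAut.conj x).toMonoidHom ≤ Q ∧ Z.map (MulAut.conj x).toMonoidHom ≠ Z)
    (K : Subgroup G) (hK : K = ((Cfsg.pResidual 2 (C ⧸ Cfsg.pCore 3 C)).comap (QuotientGroup.mk' (Cfsg.pCore 3 C))).map C.subtype)
    (r : ℕ) (A : Fin (r + 1) → Subgroup G) (hA0 : A 0 = Z) (hAr : A (Fin.last r) = Q)
    (hmono : ∀ i : Fin r, A i.castSucc < A i.succ)
    (hmax : ∀ i : Fin r, ∀ B : Subgroup G, A i.castSucc < B → B < A i.succ → ∃ k ∈ K, ∃ b ∈ B, k * b * k⁻¹ ∉ B)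
    (e : Nonempty (C ⧸ Cfsg.pCore 3 C ≃* Matrix.SpecialLinearGroup (Fin 2) (ZMod 3)) ∨
      Nonempty (C ⧸ Cfsg.pCore 3 C ≃* Matrix.SpecialLinearGroup (Fin 2) (ZMod 3) × Multiplicative (ZMod 2)))
    (hone : ∃! i : Fin r, (∃ k ∈ K, ∃ a ∈ A i.succ, k * a * k⁻¹ * a⁻¹ ∉ A i.castSucc)) :
    ∃ H : Base G, Z = Subgroup.zpowers H.z ∧ C = Subgroup.centralizer ({H.z} : Set G) ∧
      (H.ext = false ↔ Nonempty (C ⧸ Cfsg.pCore 3 C ≃* Matrix.SpecialLinearGroup (Fin 2) (ZMod 3))) := by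
  obtain ⟨D, hDC, hDQ, hZz, hdvd, hKσ, hKC, hext⟩ := exists_ctx S Z hZ C hCZ Q hQ hQex hQcard hQexp hCQ K hK e
  obtain ⟨t, hπ, hσ, h2⟩ := D.exists_t
  have htz : (t : G) * D.z = D.z * t := (D.mem_C _).1 t.2
  have hplus := D.exists_plus hπ hσ h2 hKσ hKC r A (hA0.trans hZz) (hAr.trans hDQ.symm) hmono hmax hone
  obtain ⟨F₀, hs₀⟩ := D.qh.exists_split h2 htz (fun q hq => D.t_conj_mem h2 hq) hplus (D.not_all_fixed hπ)
  obtain ⟨F, eps, hL⟩ := D.exists_levi hπ hσ F₀ hs₀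
  obtain ⟨x, hx⟩ := hL.exists_X
  obtain ⟨g, hg1, hg2⟩ := hZQ
  obtain ⟨y, hy⟩ : ∃ y, g * D.z * g⁻¹ = y := ⟨_, rfl⟩
  have hyQ : y ∈ D.Q := by
    rw [hDQ, ← hy]
    exact hg1 ⟨D.z, hZz ▸ Subgroup.mem_zpowers D.z, rfl⟩
  have hyn : y ∉ Subgroup.zpowers D.z := by
    intro hmem
    refine hg2 (Subgroup.eq_of_le_of_card_ge ?_ (Subgroup.card_map_of_injective (MulAut.conj g).injective).ge)
    rw [hZz, MonoidHom.map_zpowers, Subgroup.zpowers_le]
    show g * D.z * g⁻¹ ∈ Subgroup.zpowers D.z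
    rw [hy]
    exact hmem
  obtain ⟨rfl, hx3⟩ := hL.eps_one hx hyQ hyn hy
  obtain ⟨p, out, hpi, hout, houte, houtn, houta, hcov, hpz, hqcov⟩ := hL.exists_par hx hx3
  obtain ⟨yT, hyT, hyg, hyv⟩ := hqcov y hyQ
  refine ⟨⟨p, hpi, D.ext, out, hout, houte, houtn, houta, hcov, ⟨g, yT, by rw [hpz, hy, hyT], hyg,
    fun h => hyn (hyv h)⟩, hdvd⟩, ?_, ?_, hext⟩
  · show Z = Subgroup.zpowers (p zT)
    rw [hpz, hZz]
  · show C = Subgroup.centralizer ({p zT} : Set G)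
    rw [hpz, ← hDC]
    ext c
    rw [D.mem_C, Subgroup.mem_centralizer_singleton_iff]

end CfsgLib.O8Three
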