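import Cfsg.Agent.O8Three.SetupEmb

/-!
# Automorphisms induced on the coordinates, and the split with respect to an involution
-/

set_option autoImplicit false
set_option maxRecDepth 4000
set_option linter.style.haveILetI false

namespace CfsgLib.O8Three

open Matrix CfsgLib.PSpFourThree

universe u

/-- The two blocks of a linear map. -/
abbrev Bl : Type := S23 × S23

/-- The image of a vector. -/
def app (g : Bl) (v : Vec) : Vec :=
  ⟨g.1.1 0 0 * v.a + g.1.1 0 1 * v.b, g.1.1 1 0 * v.a + g.1.1 1 1 * v.b,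
    g.2.1 0 0 * v.m + g.2.1 0 1 * v.n, g.2.1 1 0 * v.m + g.2.1 1 1 * v.n⟩

/-- A functional vanishing on the last two coordinates. -/
def fnl (κ : ZMod 3 × ZMod 3) (v : Vec) : ZMod 3 := κ.1 * v.a + κ.2 * v.b

theorem val_mul (x y : S23) : (x * y).1 = x.1 * y.1 := rfl

theorem app_mul (g h : Bl) (v : Vec) : app (g * h) v = app g (app h v) := by
  simp only [app, Prod.fst_mul, Prod.snd_mul, val_mul, Matrix.mul_apply, Fin.sum_univ_two]
  refine Vec.ext ?_ ?_ ?_ ?_ <;> ring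

theorem app_one (v : Vec) : app 1 v = v := by
  simp [app]

theorem app_ext {g h : Bl} (e : ∀ v, app g v = app h v) : g = h := by
  have ha := e ⟨1, 0, 0, 0⟩
  have hb := e ⟨0, 1, 0, 0⟩
  have hc := e ⟨0, 0, 1, 0⟩
  have hd := e ⟨0, 0, 0, 1⟩
  simp [app] at ha hb hc hd
  refine Prod.ext (Subtype.ext ?_) (Subtype.ext ?_) <;> ext i j <;> fin_cases i <;> fin_cases j <;> simp_all

theorem exists_solve : ∀ P : S23, ∀ α β : ZMod 3, ∃ u1 u2 : ZMod 3,
    2 * (u1 * P.1 1 0 - u2 * P.1 0 0) = α ∧ 2 * (u1 * P.1 1 1 - u2 * P.1 0 1) = β := by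
  decide +kernel

theorem vec_decomp (v : Vec) :
    va (va (va (vs v.a ⟨1, 0, 0, 0⟩) (vs v.b ⟨0, 1, 0, 0⟩)) (vs v.m ⟨0, 0, 1, 0⟩)) (vs v.n ⟨0, 0, 0, 1⟩) = v := by
  simp [va, vs]

/-- An additive map commutes with scalars. -/
theorem map_vs {A : Vec → Vec} (hA : ∀ v w, A (va v w) = va (A v) (A w)) (k : ZMod 3) (v : Vec) :
    A (vs k v) = vs k (A v) := by
  have h0 : A v0 = v0 := by
    have := hA v0 v0
    have e : va v0 v0 = v0 := by decide
    rw [e] at this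
    have h3 : ∀ x : ZMod 3, x = x + x → x = 0 := by decide
    exact Vec.ext (h3 _ (congrArg Vec.a this)) (h3 _ (congrArg Vec.b this)) (h3 _ (congrArg Vec.m this))
      (h3 _ (congrArg Vec.n this))
  have key : ∀ k : ZMod 3, k = 0 ∨ k = 1 ∨ k = 1 + 1 := by decide
  rcases key k with rfl | rfl | rfl
  · have e : ∀ w : Vec, vs 0 w = v0 := fun w => by simp [vs, v0]
    rw [e, e, h0]
  · have e : ∀ w : Vec, vs 1 w = w := fun w => by simp [vs]
    rw [e, e]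
  · have e : ∀ w : Vec, vs (1 + 1) w = va w w := fun w => by
      simp only [vs, va]; refine Vec.ext ?_ ?_ ?_ ?_ <;> ring
    rw [e, e, hA]

namespace Fr

variable {G : Type u} [Group G] {Q : Subgroup G} {z : G} (F : Fr G Q z)

/-- The involution fixes the first and inverts the second half. -/
def Split (t : G) : Prop :=
  t * t = 1 ∧ t * z = z * t ∧ t * F.p1 = F.p1 * t ∧ t * F.p2 = F.p2 * t ∧
    t * F.m1 * t = F.m1⁻¹ ∧ t * F.m2 * t = F.m2⁻¹

/-- Conjugation by `c` in coordinates, for an arbitrary map. -/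
theorem exists_map {c : G} (hc : ∀ q ∈ Q, c * q * c⁻¹ ∈ Q) (hz : c * z = z * c) :
    ∃ (A : Vec → Vec) (κ : Vec → ZMod 3), (∀ k v, c * F.emb k v * c⁻¹ = F.emb (k + κ v) (A v)) ∧
      (∀ v w, A (va v w) = va (A v) (A w)) ∧ (∀ v w, κ (va v w) = κ v + κ w) ∧
      (∀ v w, bet (A v) (A w) = bet v w) := by
  choose κ A h using fun v => F.emb_surj (hc _ (F.emb_mem 0 v))
  have hk : ∀ k v, c * F.emb k v * c⁻¹ = F.emb (k + κ v) (A v) := fun k v => by
    have hcz : Commute c (pw z k) := (show Commute c z from hz).pow_right _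
    rw [F.emb_shift (k + κ v), pw_add F.z3, mul_assoc (pw z k), ← F.emb_shift, h, F.emb_shift k]
    calc c * (pw z k * F.emb 0 v) * c⁻¹ = c * pw z k * F.emb 0 v * c⁻¹ := by simp only [mul_assoc]
      _ = pw z k * (c * F.emb 0 v * c⁻¹) := by rw [hcz.eq]; simp only [mul_assoc]
  have hmul : ∀ v w, κ (va v w) + bet v w = κ v + κ w + bet (A v) (A w) ∧ A (va v w) = va (A v) (A w) := by
    intro v w
    have h1 : c * (F.emb 0 v * F.emb 0 w) * c⁻¹ = F.emb (κ v) (A v) * F.emb (κ w) (A w) := by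
      rw [← zero_add (κ v), ← zero_add (κ w), ← hk, ← hk]
      simp only [mul_assoc, inv_mul_cancel_left]
    rw [F.emb_mul, F.emb_mul, hk] at h1
    obtain ⟨e1, e2⟩ := F.emb_inj h1
    exact ⟨by rw [← e1]; ring, e2⟩
  have hbet : ∀ v w, bet (A v) (A w) = bet v w := by
    intro v w
    have h1 := (hmul v w).1
    have h2 := (hmul w v).1
    have hc' : va w v = va v w := by simp only [va]; refine Vec.ext ?_ ?_ ?_ ?_ <;> ring
    rw [hc'] at h2
    have hb : ∀ x y : Vec, bet y x = -bet x y := fun x y => by simp only [bet]; ring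
    rw [hb v w, hb (A v) (A w)] at h2
    have h3 : ∀ s a b x y : ZMod 3, s + x = a + b + y → s + -x = b + a + -y → y = x := by decide +kernel
    exact h3 _ _ _ _ _ h1 h2
  refine ⟨A, κ, hk, fun v w => (hmul v w).2, fun v w => ?_, hbet⟩
  have := (hmul v w).1
  rw [hbet] at this
  exact add_right_cancel this

/-- The action of `c` is given by blocks and a functional. -/
def Act (c : G) (g : Bl) (κ : ZMod 3 × ZMod 3) : Prop :=
  ∀ k v, c * F.emb k v * c⁻¹ = F.emb (k + fnl κ v) (app g v)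

variable {F}

theorem Act.unique {c : G} {g g' : Bl} {κ κ' : ZMod 3 × ZMod 3} (h : F.Act c g κ) (h' : F.Act c g' κ') :
    g = g' ∧ κ = κ' := by
  have e := fun v => F.emb_inj ((h 0 v).symm.trans (h' 0 v))
  refine ⟨app_ext fun v => (e v).2, ?_⟩
  have e1 := (e ⟨1, 0, 0, 0⟩).1
  have e2 := (e ⟨0, 1, 0, 0⟩).1
  simp [fnl] at e1 e2
  exact Prod.ext e1 e2

theorem Act.mul {c d : G} {g h : Bl} {κ μ : ZMod 3 × ZMod 3} (hc : F.Act c g κ) (hd : F.Act d h μ) :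
    F.Act (c * d) (g * h) (μ.1 + (κ.1 * h.1.1 0 0 + κ.2 * h.1.1 1 0), μ.2 + (κ.1 * h.1.1 0 1 + κ.2 * h.1.1 1 1)) := by
  intro k v
  rw [show c * d * F.emb k v * (c * d)⁻¹ = c * (d * F.emb k v * d⁻¹) * c⁻¹ by group, hd, hc, app_mul]
  congr 1
  simp only [fnl, app]
  ring

theorem Act.mul0 {c d : G} {g h : Bl} (hc : F.Act c g (0, 0)) (hd : F.Act d h (0, 0)) :
    F.Act (c * d) (g * h) (0, 0) := by
  simpa using hc.mul hd

theorem Act.one : F.Act 1 1 (0, 0) := by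
  intro k v
  simp [fnl, app_one]

theorem Act.inv {c : G} {g : Bl} (h : F.Act c g (0, 0)) : F.Act c⁻¹ g⁻¹ (0, 0) := by
  intro k v
  have := h k (app g⁻¹ v)
  rw [← app_mul, mul_inv_cancel, app_one] at this
  simp [fnl] at this ⊢
  rw [← this]
  group

theorem Act.comm {c : G} (h : F.Act c 1 (0, 0)) : ∀ q ∈ Q, q * c = c * q := by
  intro q hq
  obtain ⟨k, v, rfl⟩ := F.emb_surj hq
  have := h k v
  simp [fnl, app_one] at this
  rw [mul_inv_eq_iff_eq_mul] at this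
  exact this.symm

theorem act_inner (k u1 u2 : ZMod 3) : F.Act (F.emb k ⟨u1, u2, 0, 0⟩) 1 (2 * -u2, 2 * u1) := by
  intro l v
  rw [F.emb_conj, app_one]
  congr 1
  simp only [bet, fnl]
  ring

theorem Act.adjust {c : G} {g : Bl} {κ : ZMod 3 × ZMod 3} (h : F.Act c g κ) :
    ∃ u1 u2 : ZMod 3, F.Act (F.emb 0 ⟨u1, u2, 0, 0⟩ * c) g (0, 0) := by
  obtain ⟨u1, u2, h1, h2⟩ := exists_solve g.1 (-κ.1) (-κ.2)
  refine ⟨u1, u2, ?_⟩
  have := (act_inner (F := F) 0 u1 u2).mul h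
  rw [one_mul] at this
  convert this using 1
  refine Prod.ext ?_ ?_
  · linear_combination -h1
  · linear_combination -h2

variable (F)

theorem tau_emb {t : G} (ht : F.Split t) (k : ZMod 3) (v : Vec) :
    t * F.emb k v * t = F.emb k ⟨v.a, v.b, -v.m, -v.n⟩ := by
  obtain ⟨h2, hz, hp1, hp2, hm1, hm2⟩ := ht
  have hi : t⁻¹ = t := inv_eq_of_mul_eq_one_right h2
  let φ := MulAut.conj t
  have e : ∀ x, φ x = t * x * t := fun x => by show t * x * t⁻¹ = _; rw [hi]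
  have efix : ∀ x, t * x = x * t → φ x = x := fun x hx => by rw [e, hx, mul_assoc, h2, mul_one]
  have hneg : ∀ {x : G}, x ∈ Q → ∀ i : ZMod 3, (pw x i)⁻¹ = pw x (-i) := fun hx i => by
    refine inv_eq_of_mul_eq_one_right ?_
    rw [← pw_add (F.exp _ hx), add_neg_cancel, pw_zero]
  have einv : ∀ {x : G}, x ∈ Q → t * x * t = x⁻¹ → ∀ i : ZMod 3, φ (pw x i) = pw x (-i) := fun hx hxt i => by
    rw [← hneg hx, show φ (pw _ i) = (φ _) ^ i.val from map_pow φ _ _, e, hxt, inv_pow]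
    rfl
  have efp : ∀ {x : G}, t * x = x * t → ∀ i : ZMod 3, φ (pw x i) = pw x i := fun hx i => by
    rw [show φ (pw _ i) = (φ _) ^ i.val from map_pow φ _ _, efix _ hx]
    rfl
  rw [← e]
  simp only [emb, NN, map_mul, Matrix.cons_val_zero, Matrix.cons_val_one]
  rw [efp hp1, efp hp2, efp hz, efp hz, einv F.m2_mem hm2, einv F.m1_mem hm1]
  congr 3
  ring

theorem exists_act {t c : G} (ht : F.Split t) (hc : ∀ q ∈ Q, c * q * c⁻¹ ∈ Q) (hz : c * z = z * c)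
    (hct : c * t = t * c) : ∃ g κ, F.Act c g κ := by
  obtain ⟨A, κ, hA, hadd, hκ, hbet⟩ := F.exists_map hc hz
  have htau : ∀ v : Vec, A ⟨v.a, v.b, -v.m, -v.n⟩ = ⟨(A v).a, (A v).b, -(A v).m, -(A v).n⟩ ∧
      κ ⟨v.a, v.b, -v.m, -v.n⟩ = κ v := by
    intro v
    have h1 := hA 0 v
    have h2 := hA 0 ⟨v.a, v.b, -v.m, -v.n⟩
    have hi : t⁻¹ = t := inv_eq_of_mul_eq_one_right ht.1
    rw [← F.tau_emb ht] at h2
    have e : c * (t * F.emb 0 v * t) * c⁻¹ = t * (c * F.emb 0 v * c⁻¹) * t := by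
      calc c * (t * F.emb 0 v * t) * c⁻¹ = (c * t) * F.emb 0 v * (c * t⁻¹)⁻¹ := by group
        _ = (t * c) * F.emb 0 v * (t * c)⁻¹ := by rw [hct, hi, hct]
        _ = t * (c * F.emb 0 v * c⁻¹) * t⁻¹ := by group
        _ = _ := by rw [hi]
    rw [e, h1, F.tau_emb ht] at h2
    obtain ⟨e1, e2⟩ := F.emb_inj h2
    exact ⟨e2.symm, (add_left_cancel e1).symm⟩
  have h3 : ∀ x : ZMod 3, x = -x → x = 0 := by decide
  have hplus : ∀ a b : ZMod 3, (A ⟨a, b, 0, 0⟩).m = 0 ∧ (A ⟨a, b, 0, 0⟩).n = 0 := by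
    intro a b
    have := (htau ⟨a, b, 0, 0⟩).1
    simp only [neg_zero] at this
    exact ⟨h3 _ (congrArg Vec.m this), h3 _ (congrArg Vec.n this)⟩
  have hminus : ∀ m n : ZMod 3, (A ⟨0, 0, m, n⟩).a = 0 ∧ (A ⟨0, 0, m, n⟩).b = 0 ∧ κ ⟨0, 0, m, n⟩ = 0 := by
    intro m n
    obtain ⟨e1, e2⟩ := htau ⟨0, 0, m, n⟩
    have h0 : va ⟨0, 0, m, n⟩ ⟨0, 0, -m, -n⟩ = v0 := by simp [va, v0]
    have hk := hκ ⟨0, 0, m, n⟩ ⟨0, 0, -m, -n⟩
    have ha := hadd ⟨0, 0, m, n⟩ ⟨0, 0, -m, -n⟩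
    have hk0 := hκ v0 v0
    have ha0 := hadd v0 v0
    have e00 : va v0 v0 = v0 := by decide
    rw [h0, e2] at hk
    rw [h0, e1] at ha
    rw [e00] at hk0 ha0
    have k3 : ∀ x y : ZMod 3, x = x + x → x = y + y → y = 0 := by decide
    refine ⟨k3 _ _ (congrArg Vec.a ha0) (congrArg Vec.a ha), k3 _ _ (congrArg Vec.b ha0) (congrArg Vec.b ha),
      k3 _ _ hk0 hk⟩
  set a1 := A ⟨1, 0, 0, 0⟩ with ha1
  set a2 := A ⟨0, 1, 0, 0⟩ with ha2
  set a3 := A ⟨0, 0, 1, 0⟩ with ha3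
  set a4 := A ⟨0, 0, 0, 1⟩ with ha4
  have d1 : !![a1.a, a2.a; a1.b, a2.b].det = 1 := by
    have := hbet ⟨1, 0, 0, 0⟩ ⟨0, 1, 0, 0⟩
    rw [← ha1, ← ha2] at this
    simp only [bet] at this
    rw [(hplus 1 0).1, (hplus 1 0).2, (hplus 0 1).1, (hplus 0 1).2] at this
    rw [Matrix.det_fin_two_of]
    linear_combination this
  have d2 : !![a3.m, a4.m; a3.n, a4.n].det = 1 := by
    have := hbet ⟨0, 0, 1, 0⟩ ⟨0, 0, 0, 1⟩
    rw [← ha3, ← ha4] at this
    simp only [bet] at this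
    rw [(hminus 1 0).1, (hminus 1 0).2.1, (hminus 0 1).1, (hminus 0 1).2.1] at this
    rw [Matrix.det_fin_two_of]
    linear_combination -this
  refine ⟨(⟨_, d1⟩, ⟨_, d2⟩), (κ ⟨1, 0, 0, 0⟩, κ ⟨0, 1, 0, 0⟩), fun k v => ?_⟩
  rw [hA]
  have hκs : ∀ (s : ZMod 3) w, κ (vs s w) = s * κ w := by
    intro s w
    have h0 : κ v0 = 0 := by
      have := hκ v0 v0
      rw [show va v0 v0 = v0 by decide] at this
      exact add_eq_left.1 this.symm
    have key : ∀ k : ZMod 3, k = 0 ∨ k = 1 ∨ k = 1 + 1 := by decide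
    rcases key s with rfl | rfl | rfl
    · rw [show vs 0 w = v0 by simp [vs, v0], h0, zero_mul]
    · rw [show vs 1 w = w by simp [vs], one_mul]
    · rw [show vs (1 + 1) w = va w w by
        simp only [vs, va]; refine Vec.ext ?_ ?_ ?_ ?_ <;> ring, hκ]
      ring
  conv_lhs => rw [← vec_decomp v]
  simp only [hadd, hκ, map_vs hadd, hκs, ← ha1, ← ha2, ← ha3, ← ha4]
  rw [(hminus 1 0).2.2, (hminus 0 1).2.2]
  congr 1
  · simp only [fnl]; ring
  · refine Vec.ext ?_ ?_ ?_ ?_ <;> simp only [va, vs, app] <;>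
      simp [(hminus 1 0).1, (hminus 1 0).2.1, (hminus 0 1).1, (hminus 0 1).2.1, (hplus 1 0).1, (hplus 1 0).2,
        (hplus 0 1).1, (hplus 0 1).2, ha1, ha2, ha3, ha4] <;> ring

end Fr

end CfsgLib.O8Three
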