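import Cfsg.Agent.O8Three.SetupGen

/-!
# The centralizer of a 3-central element: standing data and finite facts on `SL₂(3)`
-/

set_option autoImplicit false
set_option maxRecDepth 100000
set_option linter.style.haveILetI false

namespace CfsgLib.O8Three

open Matrix CfsgLib.PSpFourThree
open CfsgLib.PSpFourInvol (S sm)
open CfsgLib.PSpFourInvol.Concrete (smat)

universe u

/-- The decoded element of `SL₂(3)`. -/
def sA (g : S) : S23 := ⟨smat g, by
  rw [Matrix.det_fin_two]; exact smat_det g⟩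

theorem sA_mul (a b : S) : sA (sm a b) = sA a * sA b :=
  Subtype.ext (PSpFourInvol.Concrete.smat_mul a b)

theorem sA_zero : sA 0 = 1 := Subtype.ext PSpFourInvol.Concrete.smat_one

theorem sA_inj : Function.Injective sA := by decide +kernel

theorem sA_surj (A : S23) : ∃ g, sA g = A := by
  obtain ⟨g, hg⟩ := PSpFourInvol.Concrete.smat_surj (A.1 0 0) (A.1 0 1) (A.1 1 0) (A.1 1 1) (by
    rw [← Matrix.det_fin_two]; exact A.2)
  refine ⟨g, Subtype.ext ?_⟩
  show smat g = A.1
  rw [hg]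
  exact (Matrix.eta_fin_two A.1).symm

/-- Upper unitriangular. -/
def up (e : ZMod 3) : S23 := ⟨!![1, e; 0, 1], by simp [Matrix.det_fin_two]⟩

theorem sA_ten : sA 10 = trv ∧ chi 10 = 1 ∧ sA 1 = negOne := by decide +kernel

theorem split_q8 : ∀ g : S, ∃ q : S, sA q ^ 4 = 1 ∧ sA g = sA q * trv ^ (chi g).val := by decide +kernel

theorem up_pow : ∀ e c : ZMod 3, up e ^ c.val = up (e * c) := by decide +kernel

theorem up_of_fix : ∀ P : S23, P.1 0 0 = 1 → P.1 1 0 = 0 → P = up (P.1 0 1) := by decide +kernel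

theorem fix_vec : ∀ P : S23, P * P * P = 1 → ∃ R : S23,
    P.1 0 0 * R.1 0 0 + P.1 0 1 * R.1 1 0 = R.1 0 0 ∧ P.1 1 0 * R.1 0 0 + P.1 1 1 * R.1 1 0 = R.1 1 0 := by
  decide +kernel

theorem invol_S23 : ∀ A : S23, A * A = 1 → A = 1 ∨ A = negOne := by decide +kernel

theorem centre_S23 : ∀ A : S23, (∀ B : S23, A * B = B * A) → A = 1 ∨ A = negOne := by decide +kernel

/-- An element of order four. -/
def iI : S23 := ⟨!![0, 1; 2, 0], by decide +kernel⟩

theorem order_four : ∀ A : S23, A ^ 4 = 1 → A = 1 ∨ A = negOne ∨ ∃ B : S23, B * iI * B⁻¹ = A := by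
  decide +kernel

theorem iI_facts : iI ^ 2 = negOne ∧ ∃ B : S23, ∃ C : S23, iI * (B * iI * B⁻¹) = C * iI * C⁻¹ := by
  decide +kernel

theorem trv_cube' : trv * trv * trv = 1 := by decide +kernel

/-- A homomorphism killing minus one kills all elements of order dividing four. -/
theorem hom_q8 (g : S23 →* S23) (h : g negOne = 1) : ∀ A : S23, A ^ 4 = 1 → g A = 1 := by
  obtain ⟨hI, B₀, C₀, hBC⟩ := iI_facts
  have hgi : g iI = 1 := by
    have h2 : g iI * g iI = 1 := by rw [← map_mul, ← sq, hI, h]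
    have hc : ∀ B : S23, g (B * iI * B⁻¹) = g iI := fun B => by
      rw [map_mul, map_mul, map_inv]
      have key : ∀ X Y : S23, Y * Y = 1 → X * Y * X⁻¹ = Y := by decide +kernel
      exact key _ _ h2
    have := congrArg g hBC
    rw [map_mul, hc, hc] at this
    exact mul_eq_left.1 this
  intro A hA
  rcases order_four A hA with rfl | rfl | ⟨B, rfl⟩
  · exact map_one g
  · exact h
  · simp [hgi]

/-- A homomorphism killing minus one is determined by the transvection. -/
theorem hom_chi (g : S23 →* S23) (h : g negOne = 1) (s : S) : g (sA s) = g trv ^ (chi s).val := by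
  obtain ⟨q, hq, e⟩ := split_q8 s
  rw [e, map_mul, map_pow, hom_q8 g h _ hq, one_mul]

/-- The centralizer `C` of `z`, with its homomorphisms onto `SL₂(3)` and onto the group of order at most two. -/
structure Ctx (G : Type u) [Group G] where
  /-- the extraspecial subgroup -/
  Q : Subgroup G
  /-- the central element -/
  z : G
  qh : QHyp Q z
  /-- its centralizer -/
  C : Subgroup G
  mem_C : ∀ g, g ∈ C ↔ g * z = z * g
  norm : ∀ c ∈ C, ∀ q ∈ Q, c * q * c⁻¹ ∈ Q
  centQ : ∀ g, (∀ q ∈ Q, q * g = g * q) → g ∈ Q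
  /-- whether `C` has the factor of order two -/
  ext : Bool
  /-- onto `SL₂(3)` -/
  π : C →* S23
  /-- onto the factor of order two -/
  σ : C →* Multiplicative (ZMod 2)
  ker : ∀ c : C, π c = 1 → σ c = 1 → (c : G) ∈ Q
  kerQ : ∀ c : C, (c : G) ∈ Q → π c = 1 ∧ σ c = 1
  surj : ∀ A, ∃ c : C, π c = A ∧ σ c = 1
  ext_false : ext = false → ∀ c : C, σ c = 1
  ext_true : ext = true → ∃ c : C, π c = 1 ∧ σ c ≠ 1

namespace Ctx

variable {G : Type u} [Group G] (D : Ctx G)

theorem Q_le : D.Q ≤ D.C := fun q hq => (D.mem_C q).2 (D.qh.z_comm q hq)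

theorem z_mem_C : D.z ∈ D.C := D.Q_le D.qh.z_mem

theorem exists_t : ∃ t : D.C, D.π t = negOne ∧ D.σ t = 1 ∧ (t : G) * t = 1 := by
  obtain ⟨c, hπ, hσ⟩ := D.surj negOne
  have h6 : ((c : G) * c) ^ 3 = 1 := by
    refine D.qh.exp _ (D.ker (c * c) ?_ ?_)
    · rw [map_mul, hπ]; decide +kernel
    · rw [map_mul, hσ, one_mul]
  refine ⟨c ^ 3, by rw [map_pow, hπ]; decide +kernel, by rw [map_pow, hσ, one_pow], ?_⟩
  rw [SubgroupClass.coe_pow, ← pow_add, show 3 + 3 = 2 * 3 by norm_num, pow_mul, pow_two]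
  exact h6

theorem t_conj_mem {t : D.C} (h2 : (t : G) * t = 1) {q : G} (hq : q ∈ D.Q) : (t : G) * q * t ∈ D.Q := by
  have := D.norm t t.2 q hq
  rwa [inv_eq_of_mul_eq_one_right h2] at this

/-- `C = Q · C(t)`. -/
theorem split {t : D.C} (hπ : D.π t = negOne) (hσ : D.σ t = 1) (h2 : (t : G) * t = 1) (c : D.C) :
    ∃ c' : D.C, (c' : G) * t = t * c' ∧ D.π c' = D.π c ∧ D.σ c' = D.σ c := by
  obtain ⟨t', ht'⟩ : ∃ x, x = c * t * c⁻¹ := ⟨_, rfl⟩
  have hq : ((t * t' : D.C) : G) ∈ D.Q := by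
    refine D.ker _ ?_ ?_
    · rw [ht', map_mul, map_mul, map_mul, map_inv, hπ]
      have key : ∀ A : S23, negOne * (A * negOne * A⁻¹) = 1 := by decide +kernel
      exact key _
    · rw [ht', map_mul, map_mul, map_mul, map_inv, hσ, one_mul, mul_one, mul_inv_cancel]
  set q : D.C := t * t' with hqdef
  have hq3 : q * q * q = 1 := Subtype.ext (by
    have := D.qh.exp _ hq
    rwa [pow_succ, pow_two] at this)
  have ht2 : t * t = 1 := Subtype.ext h2
  have ht'2 : t' * t' = 1 := by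
    rw [ht']
    calc c * t * c⁻¹ * (c * t * c⁻¹) = c * (t * t) * c⁻¹ := by group
      _ = 1 := by rw [ht2, mul_one, mul_inv_cancel]
  have hinv : t * q * t = q⁻¹ := by
    apply eq_inv_of_mul_eq_one_left
    calc t * q * t * q = (t * t) * t' * (t * t) * t' := by rw [hqdef]; simp only [mul_assoc]
      _ = 1 := by rw [ht2, one_mul, mul_one, ht'2]
  have hqt : q * t * q⁻¹ = t' := by
    have h1 : q * t = t * q⁻¹ := by
      rw [← hinv, ← mul_assoc, ← mul_assoc, ht2, one_mul]
    have h3 : q⁻¹ * q⁻¹ = q := by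
      rw [← _root_.mul_inv_rev]
      exact inv_eq_of_mul_eq_one_right hq3
    rw [h1, mul_assoc, h3, hqdef, ← mul_assoc, ht2, one_mul]
  refine ⟨q⁻¹ * c, ?_, ?_, ?_⟩
  · have : q⁻¹ * c * t = t * (q⁻¹ * c) := by
      calc q⁻¹ * c * t = q⁻¹ * (c * t * c⁻¹) * c := by group
        _ = q⁻¹ * (q * t * q⁻¹) * c := by rw [← ht', hqt]
        _ = t * (q⁻¹ * c) := by group
    exact congrArg Subtype.val this
  · rw [map_mul, map_inv, (D.kerQ q hq).1, inv_one, one_mul]
  · rw [map_mul, map_inv, (D.kerQ q hq).2, inv_one, one_mul]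

theorem not_all_fixed {t : D.C} (hπ : D.π t = negOne) : ∃ q ∈ D.Q, (t : G) * q ≠ q * t := by
  by_contra h
  push Not at h
  have := (D.kerQ t (D.centQ t fun q hq => (h q hq).symm)).1
  rw [hπ] at this
  exact absurd this (by decide +kernel)

end Ctx

end CfsgLib.O8Three
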