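import Cfsg.Agent.O8Three.Base
import Cfsg.Agent.PSpFourThreeCent.Group

/-!
# Coordinates on an extraspecial group of order `3⁵` and exponent three
-/

set_option autoImplicit false
set_option maxRecDepth 4000
set_option linter.style.haveILetI false

namespace CfsgLib.O8Three

open Matrix CfsgLib.PSpFourThree

universe u

/-- Scalar multiples of vectors. -/
def vs (k : ZMod 3) (v : Vec) : Vec := ⟨k * v.a, k * v.b, k * v.m, k * v.n⟩

theorem bet_left : ∀ v : Vec, v ≠ v0 →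
    bet v ⟨1, 0, 0, 0⟩ ≠ 0 ∨ bet v ⟨0, 1, 0, 0⟩ ≠ 0 ∨ bet v ⟨0, 0, 1, 0⟩ ≠ 0 ∨ bet v ⟨0, 0, 0, 1⟩ ≠ 0 := by
  decide +kernel

theorem card_Vec : Nat.card (ZMod 3 × Vec) = 243 := by
  rw [Nat.card_prod, Nat.card_congr Vec.equiv]
  simp

/-- A hyperbolic basis of a group with centre `⟨z⟩`. -/
structure Fr (G : Type u) [Group G] (Q : Subgroup G) (z : G) where
  /-- first element -/
  p1 : G
  /-- second element -/
  p2 : G
  /-- third element -/
  m1 : G
  /-- fourth element -/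
  m2 : G
  p1_mem : p1 ∈ Q
  p2_mem : p2 ∈ Q
  m1_mem : m1 ∈ Q
  m2_mem : m2 ∈ Q
  z_mem : z ∈ Q
  z_ne : z ≠ 1
  z_comm : ∀ q ∈ Q, q * z = z * q
  exp : ∀ q ∈ Q, q ^ 3 = 1
  card : Nat.card Q = 243
  hp : p2 * p1 = p1 * p2 * z
  hm : m1 * m2 = m2 * m1 * z
  c11 : Commute p1 m1
  c12 : Commute p1 m2
  c21 : Commute p2 m1
  c22 : Commute p2 m2

namespace Fr

variable {G : Type u} [Group G] {Q : Subgroup G} {z : G} (F : Fr G Q z)

include F in
theorem z3 : z ^ 3 = 1 := F.exp z F.z_mem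

include F in
theorem pw_z_eq {i j : ZMod 3} (h : pw z i = pw z j) : i = j := by
  have h1 : pw z (i - j) = 1 := by
    rw [sub_eq_add_neg, pw_add F.z3, h, ← pw_add F.z3, ← sub_eq_add_neg, sub_self, pw_zero]
  have key : ∀ k : ZMod 3, k = 0 ∨ k = 1 ∨ k = 1 + 1 := by decide
  rcases key (i - j) with e | e | e
  · exact sub_eq_zero.1 e
  · rw [e, pw_one] at h1
    exact absurd h1 F.z_ne
  · exfalso
    rw [e, pw_add F.z3, pw_one] at h1
    have h3 := F.z3
    rw [pow_succ, pow_two, h1, one_mul] at h3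
    exact F.z_ne h3

/-- The parametrisation. -/
def emb (k : ZMod 3) (v : Vec) : G :=
  NN F.p1 F.p2 z (![v.a, v.b], k) * NN F.m2 F.m1 z (![v.n, v.m], 0)

include F in
theorem shift {u w : G} (x : V2) (k : ZMod 3) : NN u w z (x, k) = NN u w z (x, 0) * pw z k := by
  simp only [NN]
  rw [add_zero, pw_add F.z3, ← mul_assoc]

theorem emb_mem (k : ZMod 3) (v : Vec) : F.emb k v ∈ Q :=
  Q.mul_mem (Q.mul_mem (Q.mul_mem (Q.pow_mem F.p1_mem _) (Q.pow_mem F.p2_mem _)) (Q.pow_mem F.z_mem _))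
    (Q.mul_mem (Q.mul_mem (Q.pow_mem F.m2_mem _) (Q.pow_mem F.m1_mem _)) (Q.pow_mem F.z_mem _))

theorem comm_NN (x y : H) : Commute (NN F.m2 F.m1 z x) (NN F.p1 F.p2 z y) := by
  have hz : ∀ q ∈ Q, ∀ i j : ZMod 3, Commute (pw q i) (pw z j) := fun q hq i j =>
    (show Commute q z from F.z_comm q hq).pow_pow _ _
  have e : ∀ {a b : G}, Commute a b → ∀ i j : ZMod 3, Commute (pw a i) (pw b j) := fun h i j =>
    h.pow_pow _ _
  simp only [NN]
  refine Commute.mul_left (Commute.mul_left ?_ ?_) ?_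
  · exact Commute.mul_right (Commute.mul_right (e F.c12.symm _ _) (e F.c22.symm _ _)) (hz _ F.m2_mem _ _)
  · exact Commute.mul_right (Commute.mul_right (e F.c11.symm _ _) (e F.c21.symm _ _)) (hz _ F.m1_mem _ _)
  · exact Commute.mul_right (Commute.mul_right (hz _ F.p1_mem _ _).symm (hz _ F.p2_mem _ _).symm)
      ((Commute.refl z).pow_pow _ _)

theorem emb_mul (k l : ZMod 3) (v w : Vec) :
    F.emb k v * F.emb l w = F.emb (k + l + bet v w) (va v w) := by
  have hA := NN_mul (F.exp _ F.p1_mem) (F.exp _ F.p2_mem) F.z3 (F.z_comm _ F.p1_mem) (F.z_comm _ F.p2_mem) F.hp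
  have hB := NN_mul (F.exp _ F.m2_mem) (F.exp _ F.m1_mem) F.z3 (F.z_comm _ F.m2_mem) (F.z_comm _ F.m1_mem) F.hm
  have hzc : ∀ (x : H) (i : ZMod 3), Commute (pw z i) (NN F.m2 F.m1 z x) := fun x i => by
    have h1 : ∀ q ∈ Q, Commute (pw z i) q := fun q hq => ((show Commute q z from F.z_comm q hq).symm).pow_left _
    exact h1 _ (Q.mul_mem (Q.mul_mem (Q.pow_mem F.m2_mem _) (Q.pow_mem F.m1_mem _)) (Q.pow_mem F.z_mem _))
  unfold emb
  rw [mul_assoc, ← mul_assoc (NN F.m2 F.m1 z _) (NN F.p1 F.p2 z _), (F.comm_NN _ _).eq, mul_assoc,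
    ← mul_assoc, ← hA, ← hB]
  have e1 : hmul (![v.a, v.b], k) (![w.a, w.b], l) =
      (![v.a + w.a, v.b + w.b], k + l + (v.a * w.b - v.b * w.a)) := by
    simp [hmul, om]
  have e2 : hmul (![v.n, v.m], (0 : ZMod 3)) (![w.n, w.m], 0) =
      (![v.n + w.n, v.m + w.m], v.n * w.m - v.m * w.n) := by
    simp [hmul, om]
  rw [e1, e2]
  simp only [va, bet]
  set d1 := v.a * w.b - v.b * w.a with hd1
  have ed : d1 - (v.m * w.n - v.n * w.m) = d1 + (v.n * w.m - v.m * w.n) := by ring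
  rw [ed, F.shift _ (v.n * w.m - v.m * w.n), F.shift _ (k + l + d1),
    F.shift _ (k + l + (d1 + (v.n * w.m - v.m * w.n))), ← (hzc _ (v.n * w.m - v.m * w.n)).eq,
    ← add_assoc (k + l) d1, pw_add F.z3 (k + l + d1)]
  simp only [mul_assoc]

theorem emb_center (k : ZMod 3) : F.emb k v0 = pw z k := by
  simp [emb, v0, NN, pw_zero]

theorem emb_one : F.emb 0 v0 = 1 := by rw [F.emb_center, pw_zero]

theorem emb_z : F.emb 1 v0 = z := by rw [F.emb_center, pw_one]

theorem emb_shift (k : ZMod 3) (v : Vec) : F.emb k v = pw z k * F.emb 0 v := by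
  rw [← F.emb_center, F.emb_mul]
  simp [bet, v0, va]

theorem emb_k_inj {k l : ZMod 3} {v : Vec} (h : F.emb k v = F.emb l v) : k = l := by
  rw [F.emb_shift k, F.emb_shift l] at h
  exact F.pw_z_eq (mul_right_cancel h)

theorem emb_eq_one {k : ZMod 3} {v : Vec} (h : F.emb k v = 1) : k = 0 ∧ v = v0 := by
  have hv : v = v0 := by
    by_contra hne
    have key : ∀ w, bet v w = 0 := fun w => by
      have h1 := F.emb_mul k 0 v w
      have h2 := F.emb_mul 0 k w v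
      rw [h, one_mul] at h1
      rw [h, mul_one] at h2
      have hc : va w v = va v w := by simp only [va]; refine Vec.ext ?_ ?_ ?_ ?_ <;> ring
      rw [hc] at h2
      have := F.emb_k_inj (h1.symm.trans h2)
      have hb : bet w v = -bet v w := by simp only [bet]; ring
      rw [hb] at this
      have h3 : ∀ x y : ZMod 3, y + 0 + x = 0 + y + -x → x = 0 := by decide
      exact h3 _ _ this
    rcases bet_left v hne with e | e | e | e <;> exact e (key _)
  subst hv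
  rw [F.emb_center, ← pw_zero z] at h
  exact ⟨F.pw_z_eq h, rfl⟩

theorem emb_inj {k l : ZMod 3} {v w : Vec} (h : F.emb k v = F.emb l w) : k = l ∧ v = w := by
  have h1 : F.emb (-k) (vn v) * F.emb k v = 1 := by
    rw [F.emb_mul, ← F.emb_one]
    congr 1
    · simp only [bet, vn]; ring
    · simp only [va, vn, v0]; refine Vec.ext ?_ ?_ ?_ ?_ <;> ring
  rw [h, F.emb_mul] at h1
  obtain ⟨-, e2⟩ := F.emb_eq_one h1
  have hv : v = w := by
    simp only [va, vn, v0] at e2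
    have h3 : ∀ x y : ZMod 3, -x + y = 0 → x = y := by decide
    exact Vec.ext (h3 _ _ (congrArg Vec.a e2)) (h3 _ _ (congrArg Vec.b e2)) (h3 _ _ (congrArg Vec.m e2))
      (h3 _ _ (congrArg Vec.n e2))
  subst hv
  exact ⟨F.emb_k_inj h, rfl⟩

theorem emb_inv (k : ZMod 3) (v : Vec) : (F.emb k v)⁻¹ = F.emb (-k) (vn v) := by
  refine inv_eq_of_mul_eq_one_right ?_
  rw [F.emb_mul, ← F.emb_one]
  congr 1
  · simp only [bet, vn]; ring
  · simp only [va, vn, v0]; refine Vec.ext ?_ ?_ ?_ ?_ <;> ring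

theorem emb_surj {q : G} (hq : q ∈ Q) : ∃ k v, F.emb k v = q := by
  haveI : Finite Q := Nat.finite_of_card_ne_zero (by rw [F.card]; norm_num)
  have hb : Function.Bijective (fun p : ZMod 3 × Vec => (⟨F.emb p.1 p.2, F.emb_mem _ _⟩ : Q)) :=
    Function.Injective.bijective_of_nat_card_le (fun a b h => by
      obtain ⟨h1, h2⟩ := F.emb_inj (congrArg Subtype.val h)
      exact Prod.ext h1 h2) (by rw [F.card, card_Vec])
  obtain ⟨⟨k, v⟩, h⟩ := hb.2 ⟨q, hq⟩
  exact ⟨k, v, congrArg Subtype.val h⟩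

theorem emb_conj (k l : ZMod 3) (u v : Vec) :
    F.emb k u * F.emb l v * (F.emb k u)⁻¹ = F.emb (l + 2 * bet u v) v := by
  rw [F.emb_inv, F.emb_mul, F.emb_mul]
  congr 1
  · simp only [bet, va, vn]; ring
  · simp only [va, vn]; refine Vec.ext ?_ ?_ ?_ ?_ <;> ring

theorem emb_comm_iff {k l : ZMod 3} {v w : Vec} :
    F.emb k v * F.emb l w = F.emb l w * F.emb k v ↔ bet v w = 0 := by
  rw [← mul_inv_eq_iff_eq_mul, F.emb_conj]
  constructor
  · intro h
    have h3 : ∀ x y : ZMod 3, y + 2 * x = y → x = 0 := by decide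
    exact h3 _ _ (F.emb_inj h).1
  · intro h
    rw [h, mul_zero, add_zero]

theorem emb_p : F.emb 0 ⟨1, 0, 0, 0⟩ = F.p1 ∧ F.emb 0 ⟨0, 1, 0, 0⟩ = F.p2 ∧
    F.emb 0 ⟨0, 0, 1, 0⟩ = F.m1 ∧ F.emb 0 ⟨0, 0, 0, 1⟩ = F.m2 := by
  simp [emb, NN, pw_zero, pw_one]

theorem mem_center {k : ZMod 3} {v : Vec} : F.emb k v ∈ Subgroup.zpowers z ↔ v = v0 := by
  constructor
  · rintro ⟨n, hn⟩
    refine (F.emb_inj (k := k) (l := (n : ZMod 3)) (w := v0) ?_).2
    rw [F.emb_center, ← hn]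
    show z ^ n = z ^ ((n : ZMod 3)).val
    rw [← zpow_natCast, ZMod.val_intCast, zpow_eq_zpow_emod n
      (show z ^ ((3 : ℕ) : ℤ) = 1 by rw [zpow_natCast]; exact F.z3)]
  · rintro rfl
    rw [F.emb_center]
    exact Subgroup.pow_mem _ (Subgroup.mem_zpowers z) _

end Fr

end CfsgLib.O8Three
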