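import Cfsg.Agent.O8Three.SetupLevi

/-!
# Fusion fixes the action of the element of order three
-/

set_option autoImplicit false
set_option maxRecDepth 4000
set_option linter.style.haveILetI false

namespace CfsgLib.O8Three

open Matrix CfsgLib.PSpFourThree
open CfsgLib.PSpFourInvol (S sm si)

universe u

theorem pair_vec : ∀ v : Vec, v ≠ v0 → ∃ a : Vec, bet a v = 0 ∧ ∃ b : Vec, bet b v = 0 ∧ bet a b = 2 := by
  decide +kernel

theorem three_comm : ∀ A B : S23, A * A * A = 1 → B * B * B = 1 →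
    A * B * (A * B) * (A * B) = 1 → A * (B * B) * (A * (B * B)) * (A * (B * B)) = 1 →
    A * B = B * A ∧ (A = 1 ∨ B = 1 ∨ B = A ∨ B = A * A) := by decide +kernel

theorem conj_ten : ∀ g : S, sm g (sm g g) = 0 → g ≠ 0 →
    ∃ b : S, sm (sm b g) (si b) = 10 ∨ sm (sm b g) (si b) = sm 10 10 := by decide +kernel

theorem coord_facts : ∀ eps wb wn ub un : ZMod 3, -(wb * (eps * wb)) + wn * wn = 0 →
    (eps * wb ≠ 0 ∨ wn ≠ 0) → -(ub * (eps * wb)) + un * wn = 0 → eps = 1 ∧ un * un = ub * ub := by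
  decide +kernel

/-- The action of the element over the transvection. -/
def actX (v : Vec) : Vec := ⟨v.a + v.b, v.b, v.m + v.n, v.n⟩

theorem cube_facts : ∀ u : Vec, u.n * u.n = u.b * u.b →
    bet u (actX u) + bet (va u (actX u)) (actX (actX u)) = 0 ∧ va (va u (actX u)) (actX (actX u)) = v0 := by
  decide +kernel

theorem app_up_trv (eps : ZMod 3) (v : Vec) : app (up eps, trv) v = ⟨v.a + eps * v.b, v.b, v.m + v.n, v.n⟩ := by
  simp [app, up, trv]

theorem three_zero : (3 : ZMod 3) = 0 := by decide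

theorem mult_two : ∀ a : Multiplicative (ZMod 2), a * a * a = 1 → a = 1 := by decide

namespace Ctx

variable {G : Type u} [Group G] (D : Ctx G)

/-- Elements with the commutator a nontrivial element of `Q` commuting with both. -/
def Trip (h w Y : G) : Prop :=
  h ∈ D.C ∧ h ∉ D.Q ∧ h ^ 3 = 1 ∧ w ∈ D.Q ∧ Y ∈ D.Q ∧ Y ∉ Subgroup.zpowers D.z ∧ h * Y = Y * h ∧
    w * Y = Y * w ∧ h * w = Y * w * h

variable {D}

theorem Trip.conj {h w Y : G} (T : D.Trip h w Y) (c : D.C) :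
    D.Trip (MulAut.conj (c : G) h) (MulAut.conj (c : G) w) (MulAut.conj (c : G) Y) := by
  obtain ⟨h1, h2, h3, h4, h5, h6, h7, h8, h9⟩ := T
  have hback : ∀ x, MulAut.conj (c : G) x ∈ D.Q → x ∈ D.Q := fun x hx => by
    have := D.norm _ (inv_mem c.2) _ hx
    rwa [MulAut.conj_apply, inv_inv, ← mul_assoc, ← mul_assoc, inv_mul_cancel, one_mul, inv_mul_cancel_right] at this
  refine ⟨D.C.mul_mem (D.C.mul_mem c.2 h1) (inv_mem c.2), fun e => h2 (hback _ e), by rw [← map_pow, h3, map_one],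
    D.norm c c.2 w h4, D.norm c c.2 Y h5, ?_, by rw [← map_mul, h7, map_mul], by rw [← map_mul, h8, map_mul],
    by rw [← map_mul, h9, map_mul, map_mul]⟩
  rintro ⟨n, hn⟩
  refine h6 ⟨n, (MulAut.conj (c : G)).injective ?_⟩
  have hz : MulAut.conj (c : G) D.z = D.z := by
    rw [MulAut.conj_apply, (D.mem_C _).1 c.2, mul_inv_cancel_right]
  show MulAut.conj (c : G) (D.z ^ n) = _
  rw [map_zpow, hz]
  exact hn

theorem Trip.sq {h w Y : G} (T : D.Trip h w Y) : D.Trip (h * h) w (Y * Y) := by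
  obtain ⟨h1, h2, h3, h4, h5, h6, h7, h8, h9⟩ := T
  have hh : h * h * (h * h) = h := by
    calc h * h * (h * h) = h ^ 3 * h := by rw [pow_succ, pow_two]; simp only [mul_assoc]
      _ = h := by rw [h3, one_mul]
  have hY : Y * Y * (Y * Y) = Y := by
    have h3' := D.qh.exp Y h5
    calc Y * Y * (Y * Y) = Y ^ 3 * Y := by rw [pow_succ, pow_two]; simp only [mul_assoc]
      _ = Y := by rw [h3', one_mul]
  refine ⟨mul_mem h1 h1, fun e => h2 (hh ▸ mul_mem e e), ?_, h4, mul_mem h5 h5,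
    fun e => h6 (hY ▸ mul_mem e e), ((show Commute h Y from h7).mul_left h7).mul_right
      ((show Commute h Y from h7).mul_left h7), (show Commute w Y from h8).mul_right h8, ?_⟩
  · rw [← pow_two, ← pow_mul, mul_comm, pow_mul, h3, one_pow]
  · calc h * h * w = h * Y * (w * h) := by rw [mul_assoc, h9]; simp only [mul_assoc]
      _ = Y * (h * w) * h := by rw [h7]; simp only [mul_assoc]
      _ = Y * Y * w * (h * h) := by rw [h9]; simp only [mul_assoc]

/-- A triple from two conjugates of elements of `Q`. -/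
theorem trip_of_pair {a b Y : G} (ha : a ∈ D.C) (hb : b ∈ D.C) (ha3 : a ^ 3 = 1) (hb3 : b ^ 3 = 1)
    (hab : (a * b) ^ 3 = 1) (habb : (a * (b * b)) ^ 3 = 1) (hYQ : Y ∈ D.Q) (hY : Y ∉ Subgroup.zpowers D.z)
    (haY : a * Y = Y * a) (hbY : b * Y = Y * b) (h : a * b = Y * b * a) (haQ : a ∉ D.Q) :
    ∃ w, D.Trip a w Y := by
  have hπ3 : ∀ x : G, (hx : x ∈ D.C) → x ^ 3 = 1 →
      D.π ⟨x, hx⟩ * D.π ⟨x, hx⟩ * D.π ⟨x, hx⟩ = 1 ∧ D.σ ⟨x, hx⟩ = 1 := fun x hx h3 => by
    have e : (⟨x, hx⟩ : D.C) * ⟨x, hx⟩ * ⟨x, hx⟩ = 1 := Subtype.ext (by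
      show x * x * x = 1
      rw [← pow_two, ← pow_succ, h3])
    exact ⟨by rw [← map_mul, ← map_mul, e, map_one], mult_two _ (by rw [← map_mul, ← map_mul, e, map_one])⟩
  obtain ⟨pa, sa⟩ := hπ3 a ha ha3
  obtain ⟨pb, sb⟩ := hπ3 b hb hb3
  obtain ⟨pab, -⟩ := hπ3 (a * b) (mul_mem ha hb) hab
  obtain ⟨pabb, -⟩ := hπ3 (a * (b * b)) (mul_mem ha (mul_mem hb hb)) habb
  set A : D.C := ⟨a, ha⟩
  set B : D.C := ⟨b, hb⟩
  have e1 : (⟨a * b, mul_mem ha hb⟩ : D.C) = A * B := rfl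
  have e2 : (⟨a * (b * b), mul_mem ha (mul_mem hb hb)⟩ : D.C) = A * (B * B) := rfl
  rw [e1, map_mul] at pab
  rw [e2, map_mul, map_mul] at pabb
  have hcases := (three_comm _ _ pa pb pab pabb).2
  have hA : D.π A ≠ 1 := fun e => haQ (D.ker A e sa)
  obtain ⟨n, hn⟩ : ∃ n : ℕ, D.π B * D.π A ^ n = 1 := by
    rcases hcases.resolve_left hA with e | e | e
    · exact ⟨0, by rw [e, pow_zero, mul_one]⟩
    · exact ⟨2, by rw [e, pow_two, ← mul_assoc, pa]⟩
    · exact ⟨1, by rw [e, pow_one, pa]⟩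
  refine ⟨b * a ^ n, ha, haQ, ha3, ?_, hYQ, hY, haY,
    (show Commute b Y from hbY).mul_left ((show Commute a Y from haY).pow_left n), ?_⟩
  · exact D.ker (B * A ^ n) (by rw [map_mul, map_pow, hn]) (by rw [map_mul, map_pow, sa, sb, one_pow, mul_one])
  · calc a * (b * a ^ n) = Y * b * (a * a ^ n) := by rw [← mul_assoc, h]; simp only [mul_assoc]
      _ = Y * (b * a ^ n) * a := by rw [← pow_succ', pow_succ]; simp only [mul_assoc]

/-- Conjugation produces a triple. -/
theorem exists_trip (F : Fr G D.Q D.z) {g y : G} (hy : y ∈ D.Q) (hny : y ∉ Subgroup.zpowers D.z)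
    (hg : g * D.z * g⁻¹ = y) : ∃ h w Y, D.Trip h w Y := by
  obtain ⟨ky, v, rfl⟩ := F.emb_surj hy
  have hv : v ≠ v0 := fun e => hny (F.mem_center.2 e)
  obtain ⟨a, hav, b, hbv, hab⟩ := pair_vec v hv
  set φ := MulAut.conj g⁻¹ with hφ
  have hφy : φ (F.emb ky v) = D.z := by
    rw [← hg, hφ, MulAut.conj_apply]
    group
  have hφC : ∀ u, bet u v = 0 → φ (F.emb 0 u) ∈ D.C := fun u hu => by
    have := congrArg φ ((F.emb_comm_iff (k := 0) (l := ky)).2 hu)
    rw [map_mul, map_mul, hφy] at this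
    exact (D.mem_C _).2 this
  have hφ3 : ∀ x ∈ D.Q, φ x ^ 3 = 1 := fun x hx => by rw [← map_pow, D.qh.exp x hx, map_one]
  have hφz : ∀ x ∈ D.Q, φ x * φ D.z = φ D.z * φ x := fun x hx => by
    rw [← map_mul, ← map_mul, D.qh.z_comm x hx]
  have hmA := F.emb_mem 0 a
  have hmB := F.emb_mem 0 b
  have hcomm : F.emb 0 a * F.emb 0 b = D.z * F.emb 0 b * F.emb 0 a := by
    rw [show D.z * F.emb 0 b * F.emb 0 a = F.emb 1 v0 * F.emb 0 b * F.emb 0 a by rw [F.emb_z],
      F.emb_mul, F.emb_mul, F.emb_mul]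
    have hb' : bet b a = -bet a b := by simp only [bet]; ring
    have hva : ∀ w, va v0 w = w := fun w => by simp [va, v0]
    congr 1
    · rw [hva, hb', hab]
      simp [bet, v0]
      decide
    · rw [hva]
      simp only [va]
      refine Vec.ext ?_ ?_ ?_ ?_ <;> ring
  have hc : φ (F.emb 0 a) * φ (F.emb 0 b) = φ D.z * φ (F.emb 0 b) * φ (F.emb 0 a) := by
    rw [← map_mul, hcomm, map_mul, map_mul]
  have hYC : φ D.z ∈ D.C := by
    have : φ D.z = φ (F.emb 0 a) * φ (F.emb 0 b) * (φ (F.emb 0 b) * φ (F.emb 0 a))⁻¹ := by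
      rw [hc]; group
    rw [this]
    exact mul_mem (mul_mem (hφC a hav) (hφC b hbv)) (inv_mem (mul_mem (hφC b hbv) (hφC a hav)))
  have hYQ : φ D.z ∈ D.Q := by
    have hA := hφ3 _ hmA
    have hB := hφ3 _ hmB
    have hab3 : (φ (F.emb 0 a) * φ (F.emb 0 b)) ^ 3 = 1 := by rw [← map_mul]; exact hφ3 _ (mul_mem hmA hmB)
    have habb3 : (φ (F.emb 0 a) * (φ (F.emb 0 b) * φ (F.emb 0 b))) ^ 3 = 1 := by
      rw [← map_mul, ← map_mul]; exact hφ3 _ (mul_mem hmA (mul_mem hmB hmB))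
    have key : ∀ x : G, (hx : x ∈ D.C) → x ^ 3 = 1 →
        D.π ⟨x, hx⟩ * D.π ⟨x, hx⟩ * D.π ⟨x, hx⟩ = 1 ∧ D.σ ⟨x, hx⟩ = 1 := fun x hx h3 => by
      have e : (⟨x, hx⟩ : D.C) * ⟨x, hx⟩ * ⟨x, hx⟩ = 1 := Subtype.ext (by
        show x * x * x = 1
        rw [← pow_two, ← pow_succ, h3])
      exact ⟨by rw [← map_mul, ← map_mul, e, map_one], mult_two _ (by rw [← map_mul, ← map_mul, e, map_one])⟩
    set A : D.C := ⟨_, hφC a hav⟩
    set B : D.C := ⟨_, hφC b hbv⟩
    obtain ⟨pa, sa⟩ := key _ A.2 hA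
    obtain ⟨pb, sb⟩ := key _ B.2 hB
    have pab := (key _ (A * B).2 hab3).1
    have pabb := (key _ (A * (B * B)).2 habb3).1
    simp only [Subtype.coe_eta, map_mul] at pa pb pab pabb sa sb
    have hcm := (three_comm _ _ pa pb pab pabb).1
    have e : (⟨φ D.z, hYC⟩ : D.C) = A * B * (B * A)⁻¹ := Subtype.ext (by
      show φ D.z = φ (F.emb 0 a) * φ (F.emb 0 b) * (φ (F.emb 0 b) * φ (F.emb 0 a))⁻¹
      rw [hc]; group)
    refine D.ker ⟨φ D.z, hYC⟩ ?_ ?_ <;> rw [e, map_mul, map_mul, map_inv, map_mul]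
    · rw [hcm, mul_inv_cancel]
    · rw [sa, sb, mul_one, inv_one, mul_one]
  have hYn : φ D.z ∉ Subgroup.zpowers D.z := by
    rintro ⟨n, hn⟩
    have hz : D.z = (F.emb ky v) ^ n := by
      have h' : φ (F.emb ky v) ^ n = φ D.z := by rw [hφy]; exact hn
      rw [← map_zpow] at h'
      exact (φ.injective h').symm
    have h3 : (F.emb ky v) ^ ((3 : ℕ) : ℤ) = 1 := by rw [zpow_natCast]; exact D.qh.exp _ hy
    rw [zpow_eq_zpow_emod n h3] at hz
    rcases (show n % 3 = 0 ∨ n % 3 = 1 ∨ n % 3 = 2 by omega) with e | e | e <;>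
      rw [show ((3 : ℕ) : ℤ) = 3 from rfl, e] at hz
    · rw [zpow_zero] at hz
      exact D.qh.z_ne hz
    · rw [zpow_one] at hz
      exact hny (hz ▸ Subgroup.mem_zpowers D.z)
    · refine hny ?_
      have hy' : F.emb ky v = D.z * D.z :=
        calc F.emb ky v = F.emb ky v ^ (((3 : ℕ) : ℤ) + 1) := by rw [_root_.zpow_add, h3, zpow_one, one_mul]
          _ = F.emb ky v ^ (2 : ℤ) * F.emb ky v ^ (2 : ℤ) := by rw [← _root_.zpow_add]; norm_num
          _ = D.z * D.z := by rw [← hz]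
      exact hy' ▸ mul_mem (Subgroup.mem_zpowers D.z) (Subgroup.mem_zpowers D.z)
  by_cases haQ : φ (F.emb 0 a) ∈ D.Q
  · -- the other element lies outside
    have hbQ : φ (F.emb 0 b) ∉ D.Q := fun hbQ => by
      obtain ⟨i, hi⟩ := D.qh.comm _ hbQ _ haQ
      rw [hc, mul_assoc (φ D.z)] at hi
      have he : φ D.z = pw D.z i := by
        have hcz : Commute (φ (F.emb 0 b) * φ (F.emb 0 a)) (pw D.z i) := D.qh.cz (mul_mem hbQ haQ) i
        rw [hcz.eq] at hi
        exact mul_right_cancel hi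
      exact hYn (he ▸ Subgroup.pow_mem _ (Subgroup.mem_zpowers _) _)
    have hYi : (φ D.z)⁻¹ ∉ Subgroup.zpowers D.z := fun e => hYn (inv_inv (φ D.z) ▸ inv_mem e)
    have hc' : φ (F.emb 0 b) * φ (F.emb 0 a) = (φ D.z)⁻¹ * φ (F.emb 0 a) * φ (F.emb 0 b) := by
      rw [mul_assoc, hc]; group
    obtain ⟨w, hw⟩ := trip_of_pair (hφC b hbv) (hφC a hav) (hφ3 _ hmB) (hφ3 _ hmA)
      (by rw [← map_mul]; exact hφ3 _ (mul_mem hmB hmA))
      (by rw [← map_mul, ← map_mul]; exact hφ3 _ (mul_mem hmB (mul_mem hmA hmA)))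
      (inv_mem hYQ) hYi ((show Commute _ _ from hφz _ hmB).inv_right.eq)
      ((show Commute _ _ from hφz _ hmA).inv_right.eq) hc' hbQ
    exact ⟨_, _, _, hw⟩
  · obtain ⟨w, hw⟩ := trip_of_pair (hφC a hav) (hφC b hbv) (hφ3 _ hmA) (hφ3 _ hmB)
      (by rw [← map_mul]; exact hφ3 _ (mul_mem hmA hmB))
      (by rw [← map_mul, ← map_mul]; exact hφ3 _ (mul_mem hmA (mul_mem hmB hmB)))
      hYQ hYn (hφz _ hmA) (hφz _ hmB) hc haQ
    exact ⟨_, _, _, hw⟩

end Ctx

namespace Levi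

variable {G : Type u} [Group G] {D : Ctx G} {F : Fr G D.Q D.z} {t : D.C} {eps : ZMod 3}

theorem act_of_mem (hL : Levi D F t eps) {c : D.C} (hc : c * t = t * c) (hq : (c : G) ∈ D.Q) :
    ∃ κ, F.Act (c : G) 1 κ := by
  obtain ⟨k, v, hkv⟩ := F.emb_surj hq
  have hs := hL.split
  have htc : (t : G) * F.emb k v * t = F.emb k v := by
    have hc' : (c : G) * t = t * (c : G) := congrArg Subtype.val hc
    rw [hkv, ← hc', mul_assoc, hs.1, mul_one]
  rw [F.tau_emb hs] at htc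
  have h3 : ∀ x : ZMod 3, -x = x → x = 0 := by decide
  have hv := (F.emb_inj htc).2
  have hm := h3 _ (congrArg Vec.m hv)
  have hn := h3 _ (congrArg Vec.n hv)
  obtain ⟨a, b, m, n⟩ := v
  simp only at hm hn
  subst hm hn
  exact ⟨_, hkv ▸ Fr.act_inner (F := F) k a b⟩

/-- An element over the transvection. -/
def IsX (_ : Levi D F t eps) (x : D.C) : Prop :=
  x * t = t * x ∧ D.σ x = 1 ∧ F.Act (x : G) (up eps, trv) (0, 0)

theorem exists_X (hL : Levi D F t eps) : ∃ x, hL.IsX x := by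
  obtain ⟨x, h1, h2, h3⟩ := hL.lift 10
  refine ⟨x, h1, h2, ?_⟩
  rwa [sA_ten.1, sA_ten.2.1, mul_one] at h3

/-- A triple with first element over the transvection. -/
theorem normalise (hL : Levi D F t eps) {x : D.C} (hx : hL.IsX x) {h w Y : G} (T : D.Trip h w Y) :
    ∃ h' w' Y', D.Trip h' w' Y' ∧ h' * (x : G)⁻¹ ∈ D.Q := by
  choose l hlt hlσ hl using hL.lift
  -- two elements with equal blocks agree modulo `Q`
  have same : ∀ c d : D.C, c * t = t * c → d * t = t * d → ∀ g κ, F.Act (c : G) g κ →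
      F.Act (d : G) g (0, 0) → (c : G) * (d : G)⁻¹ ∈ D.Q := by
    intro c d hc hd g κ h1 h2
    have h3 := h1.mul h2.inv
    rw [mul_inv_cancel] at h3
    exact hL.trivialAct (c * d⁻¹) _ (((show Commute c t from hc).mul_left
      (show Commute d t from hd).inv_left).eq) h3
  set H : D.C := ⟨h, T.1⟩
  have hH3 : H * H * H = 1 := Subtype.ext (by
    show h * h * h = 1
    rw [← pow_two, ← pow_succ, T.2.2.1])
  obtain ⟨H', hH't, hH'π, hH'σ⟩ := D.split hL.tπ hL.tσ hL.split.1 H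
  have hH'tC : H' * t = t * H' := Subtype.ext hH't
  have hσH : D.σ H = 1 := mult_two _ (by rw [← map_mul, ← map_mul, hH3, map_one])
  obtain ⟨g, κ, hg⟩ := hL.form H' hH'tC (hH'σ.trans hσH)
  have hq1 := same H' (l g) hH'tC (hlt g) _ κ hg (hl g)
  have hq0 : h * (H' : G)⁻¹ ∈ D.Q := D.ker (H * H'⁻¹)
    (by rw [map_mul, map_inv, hH'π, mul_inv_cancel]) (by rw [map_mul, map_inv, hH'σ, mul_inv_cancel])
  have hq : h * (l g : G)⁻¹ ∈ D.Q := by
    have := mul_mem hq0 hq1
    rwa [mul_assoc, inv_mul_cancel_left] at this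
  have hgne : g ≠ 0 := by
    rintro rfl
    have h0 := hl 0
    rw [chi_zero, mul_zero, sA_zero, show up 0 = (1 : S23) by decide +kernel] at h0
    have hl0 := hL.trivialAct (l 0) _ (hlt 0) h0
    have := mul_mem hq hl0
    rw [inv_mul_cancel_right] at this
    exact T.2.1 this
  have hg3 : sm g (sm g g) = 0 := by
    have hm : D.π (l g) = D.π H := by
      have := (D.kerQ (H * (l g)⁻¹) hq).1
      rw [map_mul, map_inv, mul_inv_eq_one] at this
      exact this.symm
    have hc3 : (((l g) * (l g) * (l g) : D.C) : G) ∈ D.Q := D.ker _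
      (by rw [map_mul, map_mul, hm, ← map_mul, ← map_mul, hH3, map_one])
      (by rw [map_mul, map_mul, hlσ, one_mul, one_mul])
    have hct : l g * l g * l g * t = t * (l g * l g * l g) :=
      (((show Commute (l g) t from hlt g).mul_left (hlt g)).mul_left (hlt g)).eq
    obtain ⟨κ', h1⟩ := hL.act_of_mem hct hc3
    have h2 := ((hl g).mul0 (hl g)).mul0 (hl g)
    have e := congrArg Prod.snd (Fr.Act.unique h1 h2).1
    simp only [Prod.snd_mul, Prod.snd_one] at e
    rw [← sA_mul, ← sA_mul, ← sA_zero] at e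
    rw [← PSpFourInvol.sm_assoc]
    exact (sA_inj e).symm
  obtain ⟨b, hb⟩ := conj_ten g hg3 hgne
  set h' := MulAut.conj (l b : G) h
  have T' := T.conj (l b)
  have hq' : h' * (MulAut.conj (l b : G) (l g : G))⁻¹ ∈ D.Q := by
    rw [← map_inv, ← map_mul]
    exact D.norm _ (l b).2 _ hq
  have hchi : chi (si b) = -chi b := by
    have := chi_mul (si b) b
    rw [(PSpFourInvol.sm_one b).2.2, chi_zero] at this
    exact eq_neg_of_add_eq_zero_left this.symm
  have hsi : sA (si b) = (sA b)⁻¹ := eq_inv_of_mul_eq_one_left (by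
    rw [← sA_mul, (PSpFourInvol.sm_one b).2.2, sA_zero])
  have hup : ∀ a c : ZMod 3, up a * up c = up (a + c) := by decide +kernel
  have hblock : ((up (eps * chi b), sA b) : Bl) * (up (eps * chi g), sA g) * (up (eps * chi b), sA b)⁻¹ =
      (up (eps * chi (sm (sm b g) (si b))), sA (sm (sm b g) (si b))) := by
    refine mul_inv_eq_iff_eq_mul.2 (Prod.ext ?_ ?_)
    · rw [Prod.fst_mul, Prod.fst_mul, hup, hup, chi_mul, chi_mul, hchi]
      congr 1
      ring
    · rw [Prod.snd_mul, Prod.snd_mul, sA_mul, sA_mul, hsi]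
      group
  have hact : F.Act ((l b * l g * (l b)⁻¹ : D.C) : G) (up (eps * chi (sm (sm b g) (si b))),
      sA (sm (sm b g) (si b))) (0, 0) := hblock ▸ ((hl b).mul0 (hl g)).mul0 (hl b).inv
  have hct : l b * l g * (l b)⁻¹ * t = t * (l b * l g * (l b)⁻¹) :=
    (((show Commute (l b) t from hlt b).mul_left (hlt g)).mul_left (show Commute (l b) t from hlt b).inv_left).eq
  rcases hb with e | e <;> rw [e] at hact
  · rw [sA_ten.1, sA_ten.2.1, mul_one] at hact
    refine ⟨_, _, _, T', ?_⟩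
    have := mul_mem hq' (same _ x hct hx.1 _ _ hact hx.2.2)
    rwa [show h' * (MulAut.conj (l b : G) (l g : G))⁻¹ * (((l b * l g * (l b)⁻¹ : D.C) : G) * (x : G)⁻¹) =
      h' * (x : G)⁻¹ by simp [MulAut.conj_apply, mul_assoc]] at this
  · rw [sA_mul, chi_mul, sA_ten.1, sA_ten.2.1] at hact
    have hx2 := hx.2.2.mul0 hx.2.2
    rw [show ((up eps, trv) : Bl) * (up eps, trv) = (up (eps * (1 + 1)), trv * trv) from
      Prod.ext (by rw [Prod.fst_mul, hup]; congr 1; ring) rfl] at hx2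
    have h1 := mul_mem hq' (same _ (x * x) hct ((show Commute x t from hx.1).mul_left hx.1).eq _ _ hact hx2)
    rw [show h' * (MulAut.conj (l b : G) (l g : G))⁻¹ * (((l b * l g * (l b)⁻¹ : D.C) : G) * ((x * x : D.C) : G)⁻¹) =
      h' * ((x : G) * x)⁻¹ by simp [MulAut.conj_apply, mul_assoc]] at h1
    refine ⟨_, _, _, T'.sq, ?_⟩
    -- `h'² x⁻¹` lies in `Q`
    have hx3 : (x : G) * x * x ∈ D.Q := by
      have := (hx.2.2.mul0 hx.2.2).mul0 hx.2.2
      rw [show ((up eps, trv) : Bl) * (up eps, trv) * (up eps, trv) = 1 from Prod.ext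
        (by rw [Prod.fst_mul, Prod.fst_mul, hup, hup]
            rw [show eps + eps + eps = 0 by linear_combination eps * three_zero]
            exact (show up 0 = 1 by decide +kernel))
        trv_cube'] at this
      exact D.centQ _ this.comm
    have hh : h' * h' * (x : G)⁻¹ =
        h' * ((x : G) * x)⁻¹ * (((x : G) * x) * (h' * ((x : G) * x)⁻¹) * ((x : G) * x)⁻¹) * ((x : G) * x * x) := by
      group
    show h' * h' * (x : G)⁻¹ ∈ D.Q
    rw [hh]
    exact mul_mem (mul_mem h1 (D.norm _ (mul_mem x.2 x.2) _ h1)) hx3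

/-- The action on `(v₁, v₂)` is nontrivial and the element over the transvection has order three. -/
theorem eps_one (hL : Levi D F t eps) {x : D.C} (hx : hL.IsX x) {g y : G} (hy : y ∈ D.Q)
    (hny : y ∉ Subgroup.zpowers D.z) (hg : g * D.z * g⁻¹ = y) : eps = 1 ∧ (x : G) ^ 3 = 1 := by
  obtain ⟨h₀, w₀, Y₀, T₀⟩ := Ctx.exists_trip F hy hny hg
  obtain ⟨h, w, Y, ⟨-, -, h3, hw, hY, hYn, hhY, hwY, hhw⟩, hq⟩ := hL.normalise hx T₀
  obtain ⟨k, u, hku⟩ := F.emb_surj hq
  obtain ⟨kw, ww, rfl⟩ := F.emb_surj hw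
  obtain ⟨ky, v, rfl⟩ := F.emb_surj hY
  have hh : h = F.emb k u * (x : G) := by rw [hku, inv_mul_cancel_right]
  have hact : ∀ l y, h * F.emb l y * h⁻¹ =
      F.emb (l + 2 * bet u (app (up eps, trv) y)) (app (up eps, trv) y) := fun l y => by
    rw [hh, show F.emb k u * (x : G) * F.emb l y * (F.emb k u * (x : G))⁻¹ =
      F.emb k u * ((x : G) * F.emb l y * (x : G)⁻¹) * (F.emb k u)⁻¹ by group, hx.2.2, F.emb_conj]
    simp [fnl]
  have e1 := hact ky v
  rw [hhY, mul_inv_cancel_right] at e1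
  obtain ⟨e1a, e1b⟩ := F.emb_inj e1
  rw [← e1b] at e1a
  have hbu : bet u v = 0 := by
    have k3 : ∀ a b : ZMod 3, a = a + 2 * b → b = 0 := by decide
    exact k3 _ _ e1a
  have e2 := hact kw ww
  rw [hhw, mul_inv_cancel_right, F.emb_mul, app_up_trv] at e2
  have e2v := (F.emb_inj e2).2
  have hva : v.a = eps * ww.b := by
    have := congrArg Vec.a e2v; simp [va] at this; linear_combination this
  have hvb : v.b = 0 := by have := congrArg Vec.b e2v; simp [va] at this; linear_combination this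
  have hvm : v.m = ww.n := by have := congrArg Vec.m e2v; simp [va] at this; linear_combination this
  have hvn : v.n = 0 := by have := congrArg Vec.n e2v; simp [va] at this; linear_combination this
  have hbw : bet ww v = 0 := F.emb_comm_iff.1 hwY
  simp only [bet, hva, hvb, hvm, hvn] at hbu hbw
  have hne : eps * ww.b ≠ 0 ∨ ww.n ≠ 0 := by
    by_contra hh'
    push Not at hh'
    refine hYn (F.mem_center.2 (Vec.ext ?_ hvb ?_ hvn))
    · rw [hva, hh'.1]; rfl
    · rw [hvm, hh'.2]; rfl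
  obtain ⟨rfl, hu2⟩ := coord_facts eps ww.b ww.n u.b u.n (by linear_combination hbw) hne (by linear_combination hbu)
  refine ⟨rfl, ?_⟩
  obtain ⟨hc1, hc2⟩ := cube_facts u hu2
  have hX : ∀ l y, (x : G) * F.emb l y = F.emb l (actX y) * x := fun l y => by
    rw [← mul_inv_eq_iff_eq_mul, hx.2.2, app_up_trv]
    simp [fnl, actX]
  have hcube : h ^ 3 = F.emb k u * F.emb k (actX u) * F.emb k (actX (actX u)) * (x : G) ^ 3 := by
    rw [pow_succ, pow_two, pow_succ (x : G), pow_two, hh]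
    calc F.emb k u * (x : G) * (F.emb k u * x) * (F.emb k u * x)
        = F.emb k u * ((x : G) * F.emb k u) * ((x : G) * F.emb k u) * x := by simp only [mul_assoc]
      _ = F.emb k u * F.emb k (actX u) * (((x : G) * (F.emb k (actX u))) * x) * x := by
          rw [hX]; simp only [mul_assoc]
      _ = F.emb k u * F.emb k (actX u) * F.emb k (actX (actX u)) * ((x : G) * x * x) := by
          rw [hX]; simp only [mul_assoc]
  rw [h3, F.emb_mul, F.emb_mul, hc2,
    show k + k + bet u (actX u) + k + bet (va u (actX u)) (actX (actX u)) = 0 by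
      linear_combination hc1 + k * three_zero, F.emb_one, one_mul] at hcube
  exact hcube.symm

end Levi

end CfsgLib.O8Three
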