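import Cfsg.Agent.O8Three.SetupAct

/-!
# Existence of hyperbolic bases
-/

set_option autoImplicit false
set_option maxRecDepth 4000
set_option linter.style.haveILetI false
set_option linter.unusedSectionVars false

namespace CfsgLib.O8Three

open Matrix CfsgLib.PSpFourThree

universe u

/-- An extraspecial group of order `3⁵` and exponent three with centre `⟨z⟩`, inside `G`. -/
structure QHyp {G : Type u} [Group G] (Q : Subgroup G) (z : G) : Prop where
  z_mem : z ∈ Q
  z_ne : z ≠ 1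
  z_comm : ∀ q ∈ Q, q * z = z * q
  exp : ∀ q ∈ Q, q ^ 3 = 1
  card : Nat.card Q = 243
  comm : ∀ a ∈ Q, ∀ b ∈ Q, ∃ i : ZMod 3, b * a = a * b * pw z i
  centre : ∀ q ∈ Q, (∀ r ∈ Q, r * q = q * r) → q ∈ Subgroup.zpowers z

namespace QHyp

variable {G : Type u} [Group G] {Q : Subgroup G} {z : G} (D : QHyp Q z)

include D

theorem z3 : z ^ 3 = 1 := D.exp z D.z_mem

theorem cz {q : G} (hq : q ∈ Q) (i : ZMod 3) : Commute q (pw z i) :=
  (show Commute q z from D.z_comm q hq).pow_right _

theorem pw_mem {q : G} (hq : q ∈ Q) (i : ZMod 3) : pw q i ∈ Q := Q.pow_mem hq _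

theorem partner {u : G} (hu : u ∈ Q) (hnu : u ∉ Subgroup.zpowers z) : ∃ w ∈ Q, w * u = u * w * z := by
  obtain ⟨w, hw, hne⟩ : ∃ w ∈ Q, w * u ≠ u * w := by
    by_contra h
    push Not at h
    exact hnu (D.centre u hu h)
  obtain ⟨i, hi⟩ := D.comm u hu w hw
  have key : ∀ k : ZMod 3, k = 0 ∨ k = 1 ∨ k = 1 + 1 := by decide
  rcases key i with rfl | rfl | rfl
  · rw [pw_zero, mul_one] at hi
    exact absurd hi hne
  · rw [pw_one] at hi
    exact ⟨w, hw, hi⟩
  · rw [pw_add D.z3, pw_one] at hi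
    refine ⟨w * w, mul_mem hw hw, ?_⟩
    have hcw : ∀ x, w * (z * x) = z * (w * x) := fun x => by rw [← mul_assoc, D.z_comm w hw, mul_assoc]
    have h4 : z * (z * (z * z)) = z := by
      calc z * (z * (z * z)) = z ^ 3 * z := by rw [pow_succ, pow_two]; simp only [mul_assoc]
        _ = z := by rw [D.z3, one_mul]
    calc w * w * u = w * (u * w * (z * z)) := by rw [mul_assoc, hi]
      _ = (w * u) * (w * (z * z)) := by simp only [mul_assoc]
      _ = u * w * (z * z) * (w * (z * z)) := by rw [hi]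
      _ = u * (w * w) * (z * (z * (z * z))) := by simp only [mul_assoc, hcw]
      _ = u * (w * w) * z := by rw [h4]

theorem swap_pow {a b : G} {i : ZMod 3} (ha : a ∈ Q) (hb : b ∈ Q) (h : b * a = a * b * pw z i) (k : ZMod 3) :
    pw b k * a = a * pw b k * pw z (k * i) ∧ b * pw a k = pw a k * b * pw z (k * i) := by
  have key : ∀ k : ZMod 3, k = 0 ∨ k = 1 ∨ k = 1 + 1 := by decide
  rcases key k with rfl | rfl | rfl
  · simp [pw_zero]
  · simp [pw_one, h]
  · rw [pw_add (D.exp b hb), pw_add (D.exp a ha), pw_one, pw_one,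
      show (1 + 1) * i = i + i by ring, pw_add D.z3]
    constructor
    · calc b * b * a = b * (a * b * pw z i) := by rw [mul_assoc, h]
        _ = (b * a) * (b * pw z i) := by simp only [mul_assoc]
        _ = a * b * (pw z i * b) * pw z i := by rw [h]; simp only [mul_assoc]
        _ = a * (b * b) * (pw z i * pw z i) := by rw [← (D.cz hb i).eq]; simp only [mul_assoc]
    · calc b * (a * a) = (b * a) * a := by rw [mul_assoc]
        _ = a * b * (pw z i * a) := by rw [h]; simp only [mul_assoc]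
        _ = a * (b * a) * pw z i := by rw [← (D.cz ha i).eq]; simp only [mul_assoc]
        _ = a * a * b * (pw z i * pw z i) := by rw [h]; simp only [mul_assoc]

theorem ortho {u w q : G} (hu : u ∈ Q) (hw : w ∈ Q) (hp : w * u = u * w * z) (hq : q ∈ Q) :
    ∃ a b : ZMod 3, Commute (q * pw u a * pw w b) u ∧ Commute (q * pw u a * pw w b) w := by
  obtain ⟨i, hi⟩ := D.comm u hu q hq
  obtain ⟨j, hj⟩ := D.comm w hw q hq
  have hp' : w * u = u * w * pw z 1 := by rw [pw_one]; exact hp
  have hp'' : u * w = w * u * pw z (-1) := by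
    rw [hp', mul_assoc, ← pw_add D.z3, add_neg_cancel, pw_zero, mul_one]
  refine ⟨j, -i, ?_, ?_⟩
  · show q * pw u j * pw w (-i) * u = u * (q * pw u j * pw w (-i))
    have hu' : Commute (pw u j) u := (Commute.refl u).pow_left _
    calc q * pw u j * pw w (-i) * u = q * (pw u j * u) * pw w (-i) * pw z (-i * 1) := by
          rw [mul_assoc, (D.swap_pow hu hw hp' (-i)).1]; simp only [mul_assoc]
      _ = (q * u) * pw u j * pw w (-i) * pw z (-i) := by rw [hu'.eq, mul_one]; simp only [mul_assoc]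
      _ = u * q * (pw z i * (pw u j * pw w (-i))) * pw z (-i) := by rw [hi]; simp only [mul_assoc]
      _ = u * q * (pw u j * pw w (-i)) * (pw z i * pw z (-i)) := by
          rw [← (D.cz (mul_mem (D.pw_mem hu j) (D.pw_mem hw (-i))) i).eq]; simp only [mul_assoc]
      _ = u * (q * pw u j * pw w (-i)) := by
          rw [← pw_add D.z3, add_neg_cancel, pw_zero, mul_one]; simp only [mul_assoc]
  · show q * pw u j * pw w (-i) * w = w * (q * pw u j * pw w (-i))
    have hw' : Commute (pw w (-i)) w := (Commute.refl w).pow_left _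
    calc q * pw u j * pw w (-i) * w = q * (pw u j * w) * pw w (-i) := by
          rw [mul_assoc (q * pw u j), hw'.eq]; simp only [mul_assoc]
      _ = (q * w) * pw u j * pw z (j * -1) * pw w (-i) := by
          rw [(D.swap_pow hw hu hp'' j).1]; simp only [mul_assoc]
      _ = w * q * (pw z j * (pw u j * pw z (-j))) * pw w (-i) := by
          rw [hj, mul_neg_one]; simp only [mul_assoc]
      _ = w * q * (pw u j * (pw z (-j) * pw z j)) * pw w (-i) := by
          rw [← (D.cz (mul_mem (D.pw_mem hu j) (D.pw_mem D.z_mem (-j))) j).eq]; simp only [mul_assoc]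
      _ = w * (q * pw u j * pw w (-i)) := by
          rw [← pw_add D.z3, neg_add_cancel, pw_zero, mul_one]; simp only [mul_assoc]

/-- The frame on given elements. -/
def mkFr (u w m n : G) (hu : u ∈ Q) (hw : w ∈ Q) (hm : m ∈ Q) (hn : n ∈ Q)
    (hp : w * u = u * w * z) (hmn : m * n = n * m * z)
    (h1 : Commute u m) (h2 : Commute u n) (h3 : Commute w m) (h4 : Commute w n) : Fr G Q z :=
  ⟨u, w, m, n, hu, hw, hm, hn, D.z_mem, D.z_ne, D.z_comm, D.exp, D.card, hp, hmn, h1, h2, h3, h4⟩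

theorem exists_not_center : ∃ u ∈ Q, u ∉ Subgroup.zpowers z := by
  by_contra h
  push Not at h
  haveI : Finite Q := Nat.finite_of_card_ne_zero (by rw [D.card]; norm_num)
  have h3 : orderOf z ∣ 3 := orderOf_dvd_of_pow_eq_one D.z3
  haveI : Finite (Subgroup.zpowers z) := Nat.finite_of_card_ne_zero (by
    rw [Nat.card_zpowers]
    intro h0
    rw [h0] at h3
    norm_num at h3)
  have := Subgroup.card_le_of_le (show Q ≤ Subgroup.zpowers z from h)
  rw [D.card, Nat.card_zpowers] at this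
  have := Nat.le_of_dvd (by norm_num) h3
  omega

theorem exists_frame : Nonempty (Fr G Q z) := by
  classical
  obtain ⟨u, hu, hnu⟩ := D.exists_not_center
  obtain ⟨w, hw, hp⟩ := D.partner hu hnu
  have hN := NN_mul (D.exp u hu) (D.exp w hw) D.z3 (D.z_comm u hu) (D.z_comm w hw) hp
  obtain ⟨q, hq, hnq⟩ : ∃ q ∈ Q, ∀ x : H, NN u w z x ≠ q := by
    by_contra h
    push Not at h
    choose f hf using fun q : Q => h q.1 q.2
    have := Nat.card_le_card_of_injective f (fun a b e => Subtype.ext ((hf a).symm.trans ((congrArg _ e).trans (hf b))))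
    rw [D.card, Nat.card_eq_fintype_card] at this
    simp at this
  obtain ⟨a, b, hqu, hqw⟩ := D.ortho hu hw hp hq
  obtain ⟨m, hmdef⟩ : ∃ m, m = q * pw u a * pw w b := ⟨_, rfl⟩
  rw [← hmdef] at hqu hqw
  have hm : m ∈ Q := hmdef ▸ mul_mem (mul_mem hq (D.pw_mem hu a)) (D.pw_mem hw b)
  have hnm : m ∉ Subgroup.zpowers z := by
    rintro ⟨n, hn⟩
    have hn' : z ^ n = m := hn
    have hz : ∃ k, NN u w z ((0 : V2), k) = m := by
      refine ⟨(n : ZMod 3), ?_⟩
      rw [← hn']
      simp only [NN, Pi.zero_apply, pw_zero, one_mul, mul_zero, zero_add]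
      show z ^ ((n : ZMod 3)).val = z ^ n
      rw [← zpow_natCast, ZMod.val_intCast, ← zpow_eq_zpow_emod n
        (show z ^ ((3 : ℕ) : ℤ) = 1 by rw [zpow_natCast]; exact D.z3)]
    obtain ⟨k, hk⟩ := hz
    let x : H := (![a, b], -(2 * a * b))
    have hx : NN u w z x = pw u a * pw w b := by simp [x, NN, pw_zero]
    have hinv : NN u w z x * NN u w z (-x.1, -x.2) = 1 := by
      rw [← hN]
      simp only [x, hmul, NN, om, Pi.add_apply, Matrix.cons_val_zero, Matrix.cons_val_one, Matrix.neg_cons,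
        Matrix.neg_empty]
      rw [add_neg_cancel, add_neg_cancel, pw_zero, pw_zero, one_mul, one_mul, ← pw_zero z]
      congr 1
      ring
    refine hnq (hmul ((0 : V2), k) (-x.1, -x.2)) ?_
    rw [hN, hk, hmdef, mul_assoc q, ← hx, mul_assoc, hinv, mul_one]
  obtain ⟨n₀, hn₀, hmn₀⟩ := D.partner hm hnm
  obtain ⟨c, d, hnu', hnw'⟩ := D.ortho hu hw hp hn₀
  refine ⟨D.mkFr u w (n₀ * pw u c * pw w d) m hu hw
    (mul_mem (mul_mem hn₀ (D.pw_mem hu c)) (D.pw_mem hw d)) hm hp ?_ hnu'.symm hqu.symm hnw'.symm hqw.symm⟩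
  have h1 : Commute m (pw u c * pw w d) := (hqu.pow_right _).mul_right (hqw.pow_right _)
  calc n₀ * pw u c * pw w d * m = n₀ * (m * (pw u c * pw w d)) := by rw [h1.eq]; simp only [mul_assoc]
    _ = (n₀ * m) * (pw u c * pw w d) := (mul_assoc _ _ _).symm
    _ = m * n₀ * (z * (pw u c * pw w d)) := by rw [hmn₀]; simp only [mul_assoc]
    _ = m * n₀ * ((pw u c * pw w d) * z) := by
      rw [D.z_comm _ (mul_mem (D.pw_mem hu c) (D.pw_mem hw d))]
    _ = m * (n₀ * pw u c * pw w d) * z := by simp only [mul_assoc]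

section Inv

variable {t : G} (h2 : t * t = 1) (htz : t * z = z * t) (htQ : ∀ q ∈ Q, t * q * t ∈ Q)

include h2 htz htQ

theorem plus_minus_comm {p m : G} (hp : p ∈ Q) (hm : m ∈ Q) (htp : t * p = p * t) (htm : t * m * t = m⁻¹) :
    Commute p m := by
  obtain ⟨i, hi⟩ := D.comm p hp m hm
  have hi' : t⁻¹ = t := inv_eq_of_mul_eq_one_right h2
  let φ := MulAut.conj t
  have ep : φ p = p := by show t * p * t⁻¹ = p; rw [htp, mul_inv_cancel_right]
  have em : φ m = m⁻¹ := by show t * m * t⁻¹ = _; rw [hi', htm]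
  have ez : φ z = z := by show t * z * t⁻¹ = z; rw [htz, mul_inv_cancel_right]
  have h := congrArg φ hi
  rw [map_mul, map_mul, map_mul, ep, em, show φ (pw z i) = (φ z) ^ i.val from map_pow φ _ _, ez] at h
  change m⁻¹ * p = p * m⁻¹ * pw z i at h
  have h' : p * m = m * p * pw z i := by
    have := congrArg (fun x => m * x * m) h
    simp only [mul_inv_cancel_left] at this
    calc p * m = m * (p * m⁻¹ * pw z i) * m := this
      _ = m * p * (m⁻¹ * (pw z i * m)) := by simp only [mul_assoc]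
      _ = m * p * pw z i := by rw [← (D.cz hm i).eq, inv_mul_cancel_left]
  have hh : pw z (i + i) = 1 := by
    rw [hi, mul_assoc, mul_assoc, ← pw_add D.z3, ← mul_assoc] at h'
    exact mul_eq_left.1 h'.symm
  have hi0 : i = 0 := by
    have key : ∀ k : ZMod 3, k = 0 ∨ k + k + (k + k) + (k + k) = 0 ∧ (k + k = 1 ∨ k + k = 1 + 1) := by decide
    rcases key i with rfl | ⟨-, e | e⟩
    · rfl
    · rw [e, pw_one] at hh
      exact absurd hh D.z_ne
    · exfalso
      rw [e, pw_add D.z3, pw_one] at hh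
      have h3 := D.z3
      rw [pow_succ, pow_two, hh, one_mul] at h3
      exact D.z_ne h3
  subst hi0
  rw [pw_zero, mul_one] at hi
  exact hi.symm

/-- Every element is the product of an inverted and a centralised one. -/
theorem decomp {q : G} (hq : q ∈ Q) :
    ∃ m ∈ Q, ∃ p ∈ Q, t * m * t = m⁻¹ ∧ t * p = p * t ∧ q = m * p := by
  have h3 : ∀ x ∈ Q, x * x = x⁻¹ := fun x hx => by
    apply eq_inv_of_mul_eq_one_left
    rw [← pow_two, ← pow_succ]
    exact D.exp x hx
  have hi' : t⁻¹ = t := inv_eq_of_mul_eq_one_right h2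
  let φ := MulAut.conj t
  have eφ : ∀ x, φ x = t * x * t := fun x => by show t * x * t⁻¹ = _; rw [hi']
  have eφφ : ∀ x, φ (φ x) = x := fun x => by
    rw [eφ, eφ, show t * (t * x * t) * t = (t * t) * x * (t * t) by group, h2, one_mul, mul_one]
  have ez : ∀ i : ZMod 3, φ (pw z i) = pw z i := fun i => by
    rw [show φ (pw z i) = (φ z) ^ i.val from map_pow φ _ _, eφ, htz, mul_assoc, h2, mul_one]
    rfl
  obtain ⟨q', hq'⟩ : ∃ x, x = t * q * t := ⟨_, rfl⟩
  have hq'm : q' ∈ Q := hq' ▸ htQ q hq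
  have eq' : φ q = q' := by rw [eφ, hq']
  obtain ⟨y, hy⟩ : ∃ x, x = q * q' := ⟨_, rfl⟩
  have hym : y ∈ Q := hy ▸ mul_mem hq hq'm
  obtain ⟨i, hi⟩ := D.comm q hq q' hq'm
  have hφy : φ y = y * pw z i := by
    have e2 : φ q' = q := by rw [← eq', eφφ]
    rw [hy, map_mul, eq', e2, hi]
  have hi0 : φ y = y := by
    have := congrArg φ hφy
    rw [eφφ, map_mul, ez, hφy, mul_assoc, ← pw_add D.z3] at this
    have hh : pw z (i + i) = 1 := mul_eq_left.1 this.symm
    have key : ∀ k : ZMod 3, k = (k + k) + (k + k) := by decide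
    rw [hφy, key i, pw_add D.z3, hh, mul_one, mul_one]
  obtain ⟨m, hmdef⟩ : ∃ x, x = q * y := ⟨_, rfl⟩
  have hmm : m ∈ Q := hmdef ▸ mul_mem hq hym
  obtain ⟨j, hj⟩ : ∃ j : ZMod 3, φ m = m⁻¹ * pw z j := by
    obtain ⟨a, ha⟩ := D.comm q' hq'm q hq
    refine ⟨a, ?_⟩
    have e1 : φ m = q' * y := by rw [hmdef, map_mul, hi0, eq']
    have e2 : m⁻¹ = q'⁻¹ * (q * q)⁻¹ := by rw [hmdef, hy]; group
    have e3 : q' * y = q' * q * q' := by rw [hy, mul_assoc]
    rw [e1, e3, e2, h3 q hq, inv_inv, mul_assoc, ha]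
    simp only [← mul_assoc]
    rw [h3 q' hq'm]
  have hzi : ∀ a : ZMod 3, pw z (-a) = (pw z a)⁻¹ := fun a => by
    refine eq_inv_of_mul_eq_one_right ?_
    rw [← pw_add D.z3, add_neg_cancel, pw_zero]
  refine ⟨m * pw z j, mul_mem hmm (D.pw_mem D.z_mem j), pw z (-j) * y⁻¹,
    mul_mem (D.pw_mem D.z_mem _) (inv_mem hym), ?_, ?_, ?_⟩
  · rw [← eφ, map_mul, ez, hj, mul_assoc, ← pw_add D.z3, _root_.mul_inv_rev,
      ← hzi, ← (D.cz (inv_mem hmm) (-j)).eq]
    congr 2
    have key : ∀ k : ZMod 3, k + k = -k := by decide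
    exact key j
  · have h : φ (pw z (-j) * y⁻¹) = pw z (-j) * y⁻¹ := by rw [map_mul, map_inv, ez, hi0]
    rw [eφ] at h
    calc t * (pw z (-j) * y⁻¹) = t * (pw z (-j) * y⁻¹) * (t * t) := by rw [h2, mul_one]
      _ = t * (pw z (-j) * y⁻¹) * t * t := by simp only [mul_assoc]
      _ = _ := by rw [h]
  · rw [mul_assoc, ← mul_assoc (pw z j), ← pw_add D.z3, add_neg_cancel, pw_zero, one_mul, hmdef,
      mul_inv_cancel_right]

theorem exists_split (hplus : ∃ p ∈ Q, t * p = p * t ∧ p ∉ Subgroup.zpowers z)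
    (hmove : ∃ q ∈ Q, t * q ≠ q * t) : ∃ F : Fr G Q z, F.Split t := by
  obtain ⟨u, hu, htu, hnu⟩ := hplus
  obtain ⟨w₀, hw₀, hp₀⟩ := D.partner hu hnu
  obtain ⟨mw, hmw, w, hw, htmw, htw, rfl⟩ := D.decomp h2 htz htQ hw₀
  have hcu : Commute u mw := D.plus_minus_comm h2 htz htQ hu hmw htu htmw
  have hp : w * u = u * w * z := by
    apply mul_left_cancel (a := mw)
    calc mw * (w * u) = u * (mw * w) * z := by rw [← mul_assoc, hp₀]
      _ = (u * mw) * (w * z) := by simp only [mul_assoc]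
      _ = mw * (u * w * z) := by rw [hcu.eq]; simp only [mul_assoc]
  obtain ⟨q, hq, hne⟩ := hmove
  obtain ⟨m, hm, pq, hpq, htm, htpq, rfl⟩ := D.decomp h2 htz htQ hq
  have hnm : m ∉ Subgroup.zpowers z := by
    intro hmz
    have hc : t * m = m * t := by
      obtain ⟨n, rfl⟩ := hmz
      exact ((show Commute t z from htz).zpow_right n).eq
    rw [hc, mul_assoc, h2, mul_one] at htm
    have h3 := D.exp m hm
    rw [pow_succ, pow_two] at h3
    have hm1 : m = 1 := by
      have : m * m = 1 := by nth_rewrite 1 [htm]; exact inv_mul_cancel m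
      rwa [this, one_mul] at h3
    subst hm1
    exact hne (by rw [one_mul]; exact htpq)
  obtain ⟨n₀, hn₀, hmn₀⟩ := D.partner hm hnm
  obtain ⟨n, hn, pn, hpn, htn, htpn, rfl⟩ := D.decomp h2 htz htQ hn₀
  have hcm : Commute pn m := D.plus_minus_comm h2 htz htQ hpn hm htpn htm
  have hmn : n * m = m * n * z := by
    apply mul_right_cancel (b := pn)
    calc n * m * pn = n * pn * m := by rw [mul_assoc, ← hcm.eq, ← mul_assoc]
      _ = m * (n * pn) * z := hmn₀
      _ = m * n * (pn * z) := by simp only [mul_assoc]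
      _ = m * n * z * pn := by rw [D.z_comm pn hpn]; simp only [mul_assoc]
  refine ⟨D.mkFr u w n m hu hw hn hm hp hmn (D.plus_minus_comm h2 htz htQ hu hn htu htn)
    (D.plus_minus_comm h2 htz htQ hu hm htu htm) (D.plus_minus_comm h2 htz htQ hw hn htw htn)
    (D.plus_minus_comm h2 htz htQ hw hm htw htm), h2, htz, htu, htw, htn, htm⟩

end Inv

end QHyp

end CfsgLib.O8Three
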