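import Cfsg.Agent.O8Three.SetupCtx

/-!
# If the involution inverts all of `Q/Z`, some intermediate subgroup is invariant
-/

set_option autoImplicit false
set_option maxRecDepth 4000
set_option linter.style.haveILetI false

namespace CfsgLib.O8Three

open Matrix CfsgLib.PSpFourThree

universe u

/-- An element of order three. -/
def xI : S23 := ⟨!![1, 2; 0, 1], by decide +kernel⟩

/-- A second element of order four. -/
def jI : S23 := ⟨!![1, 2; 2, 2], by decide +kernel⟩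

theorem q8_facts : iI * iI = negOne ∧ jI * jI = negOne ∧ jI * iI = negOne * (iI * jI) ∧
    jI * (iI * jI) = iI ∧ iI * (iI * jI) = negOne * jI ∧ xI * iI = jI * xI ∧ xI * jI = iI * jI * xI ∧
    xI * (iI * jI) = iI * xI ∧ xI * (xI * xI) = 1 := by decide +kernel

theorem words : ∀ A : S23, ∃ a : Fin 4, ∃ b : Fin 2, ∃ c : Fin 3,
    A = iI ^ a.val * jI ^ b.val * xI ^ c.val := by decide +kernel

theorem lin_facts : ∀ a b c d : ZMod 3, (b + c + d = 0 → -a + d + -c = 0 → c = b + a) ∧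
    -d + -a + b = -a + d + -c + (b + c + d) := by decide +kernel

/-- Scalar combinations. -/
def comb (x y : Vec) (p : ZMod 3 × ZMod 3) : Vec := va (vs p.1 x) (vs p.2 y)

namespace Ctx

variable {G : Type u} [Group G] (D : Ctx G)

theorem exists_linear (F : Fr G D.Q D.z) {t : D.C} (hπ : D.π t = negOne) (hσ : D.σ t = 1)
    (hall : ∀ q ∈ D.Q, (t : G) * q * t * q ∈ Subgroup.zpowers D.z) (h2 : (t : G) * t = 1) :
    ∃ f : S23 → Vec → Vec, (∀ A v w, f A (va v w) = va (f A v) (f A w)) ∧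
      (∀ A B v, f (A * B) v = f A (f B v)) ∧ (∀ v, f 1 v = v) ∧ (∀ v, f negOne v = vn v) ∧
      ∀ c : D.C, D.σ c = 1 → ∀ k v, ∃ k', (c : G) * F.emb k v * (c : G)⁻¹ = F.emb k' (f (D.π c) v) := by
  classical
  choose c hcπ hcσ using D.surj
  choose f κ hf hadd _ _ using fun A => F.exists_map (c := (c A : G)) (fun q hq => D.norm _ (c A).2 q hq)
    ((D.mem_C _).1 (c A).2)
  have key : ∀ d : D.C, D.σ d = 1 → ∀ k v, ∃ k', (d : G) * F.emb k v * (d : G)⁻¹ = F.emb k' (f (D.π d) v) := by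
    intro d hd k v
    have hq : ((d * (c (D.π d))⁻¹ : D.C) : G) ∈ D.Q := D.ker _
      (by rw [map_mul, map_inv, hcπ, mul_inv_cancel]) (by rw [map_mul, map_inv, hcσ, hd, one_mul, inv_one])
    obtain ⟨l, u, hlu⟩ := F.emb_surj hq
    have e : (d : G) = F.emb l u * (c (D.π d) : G) := by
      rw [hlu, Subgroup.coe_mul, Subgroup.coe_inv, inv_mul_cancel_right]
    refine ⟨k + κ (D.π d) v + 2 * bet u (f (D.π d) v), ?_⟩
    calc (d : G) * F.emb k v * (d : G)⁻¹
        = F.emb l u * ((c (D.π d) : G) * F.emb k v * (c (D.π d) : G)⁻¹) * (F.emb l u)⁻¹ := by rw [e]; group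
      _ = _ := by rw [hf, F.emb_conj]
  refine ⟨f, hadd, fun A B v => ?_, fun v => ?_, fun v => ?_, key⟩
  · obtain ⟨k', h1⟩ := key (c A * c B) (by rw [map_mul, hcσ, hcσ, one_mul]) 0 v
    rw [map_mul, hcπ, hcπ] at h1
    rw [show ((c A * c B : D.C) : G) * F.emb 0 v * ((c A * c B : D.C) : G)⁻¹ =
      (c A : G) * ((c B : G) * F.emb 0 v * (c B : G)⁻¹) * (c A : G)⁻¹ by
      rw [Subgroup.coe_mul]; group, hf, hf] at h1
    exact (F.emb_inj h1).2.symm
  · obtain ⟨k', h1⟩ := key 1 (map_one _) 0 v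
    rw [map_one, Subgroup.coe_one, one_mul, inv_one, mul_one] at h1
    exact (F.emb_inj h1).2.symm
  · obtain ⟨k', h1⟩ := key t hσ 0 v
    rw [hπ, inv_eq_of_mul_eq_one_right h2] at h1
    have hz := hall _ (F.emb_mem 0 v)
    rw [h1, F.emb_mul, F.mem_center] at hz
    have h3 : ∀ x y : ZMod 3, x + y = 0 → x = -y := by decide
    simp only [va, v0] at hz
    exact Vec.ext (h3 _ _ (congrArg Vec.a hz)) (h3 _ _ (congrArg Vec.b hz)) (h3 _ _ (congrArg Vec.m hz))
      (h3 _ _ (congrArg Vec.n hz))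

theorem exists_invariant {t : D.C} (hπ : D.π t = negOne) (hσ : D.σ t = 1) (h2 : (t : G) * t = 1)
    (hall : ∀ q ∈ D.Q, (t : G) * q * t * q ∈ Subgroup.zpowers D.z) :
    ∃ B : Subgroup G, Subgroup.zpowers D.z < B ∧ B < D.Q ∧
      ∀ c : D.C, D.σ c = 1 → ∀ b ∈ B, (c : G) * b * (c : G)⁻¹ ∈ B := by
  classical
  obtain ⟨F⟩ := D.qh.exists_frame
  obtain ⟨f, hadd, hmul, hone, hneg, hf⟩ := D.exists_linear F hπ hσ hall h2
  obtain ⟨hii, hjj, hji, hjij, hiij, hxi, hxj, hxij, hxxx⟩ := q8_facts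
  have hnegA : ∀ A v, f (negOne * A) v = vn (f A v) := fun A v => by rw [hmul, hneg]
  have vnn : ∀ v, vn (vn v) = v := fun v => by simp [vn]
  have hv0 : ∀ A, f A v0 = v0 := fun A => by
    have := map_vs (hadd A) 0 v0
    simpa [vs, v0] using this
  -- a fixed vector of `xI`
  obtain ⟨v, hv, hxv⟩ : ∃ v, v ≠ v0 ∧ f xI v = v := by
    let e : Vec := ⟨1, 0, 0, 0⟩
    by_cases hs : va (va e (f xI e)) (f xI (f xI e)) = v0
    · by_cases hu : va (f xI e) (vn e) = v0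
      · refine ⟨e, by decide, ?_⟩
        simp only [va, vn, v0] at hu
        have h3 : ∀ x y : ZMod 3, x + -y = 0 → x = y := by decide
        exact Vec.ext (h3 _ _ (congrArg Vec.a hu)) (h3 _ _ (congrArg Vec.b hu)) (h3 _ _ (congrArg Vec.m hu))
          (h3 _ _ (congrArg Vec.n hu))
      · refine ⟨_, hu, ?_⟩
        rw [hadd, show f xI (vn e) = vn (f xI e) by
          have := map_vs (hadd xI) 2 e
          have hm : ∀ w : Vec, vs 2 w = vn w := fun w => by
            have h3 : ∀ x : ZMod 3, 2 * x = -x := by decide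
            simp only [vs, vn, h3]
          rwa [hm, hm] at this]
        simp only [va, vn, v0] at hs ⊢
        have h3 : ∀ x y z : ZMod 3, x + y + z = 0 → z + -y = y + -x := by decide
        exact Vec.ext (h3 _ _ _ (congrArg Vec.a hs)) (h3 _ _ _ (congrArg Vec.b hs))
          (h3 _ _ _ (congrArg Vec.m hs)) (h3 _ _ _ (congrArg Vec.n hs))
    · refine ⟨_, hs, ?_⟩
      rw [hadd, hadd, ← hmul xI xI, ← hmul xI (xI * xI), hxxx, hone, hmul]
      simp only [va]
      refine Vec.ext ?_ ?_ ?_ ?_ <;> ring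
  obtain ⟨x, hx, hxx, hjx⟩ : ∃ x, x ≠ v0 ∧ f xI x = x ∧ f jI x = va (f iI x) x := by
    have h1 : f iI (f iI v) = vn v := by rw [← hmul, hii, hneg]
    have h3 : f iI (f (iI * jI) v) = vn (f jI v) := by rw [← hmul, hiij, hnegA]
    have h4 : f jI (f iI v) = vn (f (iI * jI) v) := by rw [← hmul, hji, hnegA]
    have h5 : f jI (f jI v) = vn v := by rw [← hmul, hjj, hneg]
    have h6 : f jI (f (iI * jI) v) = f iI v := by rw [← hmul, hjij]
    have h7 : f iI (f jI v) = f (iI * jI) v := (hmul _ _ _).symm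
    obtain ⟨w, hw⟩ : ∃ w, w = va (va (f iI v) (f jI v)) (f (iI * jI) v) := ⟨_, rfl⟩
    have hiw : f iI w = va (va (vn v) (f (iI * jI) v)) (vn (f jI v)) := by
      rw [hw, hadd, hadd, h1, h7, h3]
    have hjw : f jI w = va (va (vn (f (iI * jI) v)) (vn v)) (f iI v) := by
      rw [hw, hadd, hadd, h4, h5, h6]
    by_cases h0 : w = v0
    · refine ⟨v, hv, hxv, ?_⟩
      have hi0 : va (va (vn v) (f (iI * jI) v)) (vn (f jI v)) = v0 := by rw [← hiw, h0, hv0]
      rw [h0] at hw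
      simp only [va, vn, v0] at hw hi0 ⊢
      have hl := fun a b c d => (lin_facts a b c d).1
      exact Vec.ext (hl _ _ _ _ (congrArg Vec.a hw).symm (congrArg Vec.a hi0))
        (hl _ _ _ _ (congrArg Vec.b hw).symm (congrArg Vec.b hi0))
        (hl _ _ _ _ (congrArg Vec.m hw).symm (congrArg Vec.m hi0))
        (hl _ _ _ _ (congrArg Vec.n hw).symm (congrArg Vec.n hi0))
    · refine ⟨w, h0, ?_, ?_⟩
      · have e1 : f xI (f iI v) = f jI v := by rw [← hmul, hxi, hmul, hxv]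
        have e2 : f xI (f jI v) = f (iI * jI) v := by rw [← hmul, hxj, hmul, hxv]
        have e3 : f xI (f (iI * jI) v) = f iI v := by rw [← hmul, hxij, hmul, hxv]
        rw [hw, hadd, hadd, e1, e2, e3]
        simp only [va]
        refine Vec.ext ?_ ?_ ?_ ?_ <;> ring
      · rw [hjw, hiw, hw]
        simp only [va, vn]
        exact Vec.ext (lin_facts _ _ _ _).2 (lin_facts _ _ _ _).2 (lin_facts _ _ _ _).2 (lin_facts _ _ _ _).2
  -- the invariant span
  set sp : Set Vec := Set.range (comb x (f iI x)) with hsp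
  have spa : ∀ v ∈ sp, ∀ w ∈ sp, va v w ∈ sp := by
    rintro _ ⟨p, rfl⟩ _ ⟨q, rfl⟩
    refine ⟨p + q, ?_⟩
    simp only [comb, va, vs, Prod.fst_add, Prod.snd_add]
    refine Vec.ext ?_ ?_ ?_ ?_ <;> ring
  have sps : ∀ (s : ZMod 3), ∀ v ∈ sp, vs s v ∈ sp := by
    rintro s _ ⟨p, rfl⟩
    refine ⟨(s * p.1, s * p.2), ?_⟩
    simp only [comb, va, vs]
    refine Vec.ext ?_ ?_ ?_ ?_ <;> ring
  have hx0 : x ∈ sp := ⟨(1, 0), by simp [comb, va, vs]⟩
  have hix : f iI x ∈ sp := ⟨(0, 1), by simp [comb, va, vs]⟩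
  have spn : ∀ v ∈ sp, vn v ∈ sp := fun v hv => by
    have := sps 2 v hv
    have h3 : ∀ x : ZMod 3, 2 * x = -x := by decide
    simpa only [vs, vn, h3] using this
  have gen : ∀ A, f A x ∈ sp → f A (f iI x) ∈ sp → ∀ v ∈ sp, f A v ∈ sp := by
    rintro A h1 h2 _ ⟨p, rfl⟩
    rw [comb, hadd, map_vs (hadd A), map_vs (hadd A)]
    exact spa _ (sps _ _ h1) _ (sps _ _ h2)
  have hI : ∀ v ∈ sp, f iI v ∈ sp := gen iI hix (by rw [← hmul, hii, hneg]; exact spn _ hx0)
  have hJ : ∀ v ∈ sp, f jI v ∈ sp := gen jI (hjx ▸ spa _ hix _ hx0) (by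
    rw [← hmul, hji, hnegA, hmul, hjx]
    exact spn _ (hI _ (spa _ hix _ hx0)))
  have hX : ∀ v ∈ sp, f xI v ∈ sp := gen xI (hxx.symm ▸ hx0) (by
    rw [← hmul, hxi, hmul, hxx]
    exact hJ _ hx0)
  have hpow : ∀ A, (∀ v ∈ sp, f A v ∈ sp) → ∀ n : ℕ, ∀ v ∈ sp, f (A ^ n) v ∈ sp := by
    intro A hA n
    induction n with
    | zero => intro v hv; rwa [pow_zero, hone]
    | succ n ih => intro v hv; rw [pow_succ', hmul]; exact hA _ (ih v hv)
  have hall' : ∀ A, ∀ v ∈ sp, f A v ∈ sp := by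
    intro A v hv
    obtain ⟨a, b, c, rfl⟩ := words A
    rw [hmul, hmul]
    exact hpow iI hI _ _ (hpow jI hJ _ _ (hpow xI hX _ _ hv))
  let B : Subgroup G :=
    { carrier := {g | ∃ k, ∃ w ∈ sp, F.emb k w = g}
      one_mem' := ⟨0, v0, ⟨0, by simp [comb, va, vs, v0]⟩, F.emb_one⟩
      mul_mem' := by
        rintro _ _ ⟨k, v, hv, rfl⟩ ⟨l, w, hw, rfl⟩
        exact ⟨_, _, spa _ hv _ hw, (F.emb_mul k l v w).symm⟩
      inv_mem' := by
        rintro _ ⟨k, v, hv, rfl⟩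
        exact ⟨_, _, spn _ hv, (F.emb_inv k v).symm⟩ }
  refine ⟨B, lt_of_le_of_ne ?_ ?_, lt_of_le_of_ne ?_ ?_, ?_⟩
  · rw [Subgroup.zpowers_le]
    exact ⟨1, v0, ⟨0, by simp [comb, va, vs, v0]⟩, F.emb_z⟩
  · intro e
    have hm : F.emb 0 x ∈ B := ⟨0, x, hx0, rfl⟩
    rw [← e, F.mem_center] at hm
    exact hx hm
  · rintro _ ⟨k, w, -, rfl⟩
    exact F.emb_mem k w
  · intro e
    have hsurj : Function.Surjective (comb x (f iI x)) := fun u => by
      obtain ⟨k, w, hw, hkw⟩ := (e.symm ▸ F.emb_mem 0 u : F.emb 0 u ∈ B)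
      obtain ⟨p, hp⟩ := hw
      exact ⟨p, hp.trans (F.emb_inj hkw).2⟩
    have := Nat.card_le_card_of_surjective _ hsurj
    rw [Nat.card_congr Vec.equiv] at this
    simp at this
  · rintro c hc _ ⟨k, w, hw, rfl⟩
    obtain ⟨k', hk'⟩ := hf c hc k w
    exact ⟨k', _, hall' _ w hw, hk'.symm⟩

end Ctx

end CfsgLib.O8Three
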