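import Cfsg.Agent.O8Three.SetupCtx

/-!
# The blocks of the elements centralizing the involution
-/

set_option autoImplicit false
set_option maxRecDepth 4000
set_option linter.style.haveILetI false

namespace CfsgLib.O8Three

open Matrix CfsgLib.PSpFourThree
open CfsgLib.PSpFourInvol (S sm)

universe u

theorem bl_facts : (∀ X : S23, X * negOne = negOne * X) ∧ negOne * negOne = (1 : S23) ∧
    negOne ≠ (1 : S23) := by decide +kernel

theorem comm_up : ∀ X : S23, X * X = 1 → X = 1 ∨ X = negOne := invol_S23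

namespace Ctx

variable {G : Type u} [Group G] (D : Ctx G)

/-- The centralizer of `t` in `C`. -/
def Lv (t : D.C) : Subgroup D.C := Subgroup.centralizer ({t} : Set D.C)

theorem mem_Lv {t c : D.C} : c ∈ D.Lv t ↔ c * t = t * c := Subgroup.mem_centralizer_singleton_iff

variable {D}

theorem exists_act {t : D.C} (F : Fr G D.Q D.z) (hs : F.Split t) (c : D.C) (hc : c * t = t * c) :
    ∃ g κ, F.Act (c : G) g κ :=
  F.exists_act hs (D.norm c c.2) ((D.mem_C _).1 c.2) (congrArg Subtype.val hc)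

/-- The homomorphism of the blocks. -/
theorem exists_rho {t : D.C} (F : Fr G D.Q D.z) (hs : F.Split t) :
    ∃ ρ : D.Lv t →* Bl, (∀ c : D.Lv t, ∃ κ, F.Act ((c : D.C) : G) (ρ c) κ) ∧
      ∀ c : D.Lv t, ρ c = 1 ↔ ((c : D.C) : G) ∈ D.Q := by
  classical
  choose g κ hg using fun c : D.Lv t => exists_act F hs c.1 (D.mem_Lv.1 c.2)
  let ρ : D.Lv t →* Bl := MonoidHom.mk' g fun a b =>
    (Fr.Act.unique (hg (a * b)) ((hg a).mul (hg b))).1
  refine ⟨ρ, fun c => ⟨κ c, hg c⟩, fun c => ⟨fun h => ?_, fun h => ?_⟩⟩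
  · have hc := hg c
    rw [show g c = 1 from h] at hc
    obtain ⟨u1, u2, hu⟩ := hc.adjust
    have hq := D.centQ _ hu.comm
    have := mul_mem (inv_mem (F.emb_mem 0 ⟨u1, u2, 0, 0⟩)) hq
    rwa [inv_mul_cancel_left] at this
  · obtain ⟨k, v, hkv⟩ := F.emb_surj h
    have htc : (t : G) * F.emb k v * t = F.emb k v := by
      have hc : ((c : D.C) : G) * t = t * (c : D.C) := congrArg Subtype.val (D.mem_Lv.1 c.2)
      rw [hkv, ← hc, mul_assoc, hs.1, mul_one]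
    rw [F.tau_emb hs] at htc
    have h3 : ∀ x : ZMod 3, -x = x → x = 0 := by decide
    have hv := (F.emb_inj htc).2
    have hm := h3 _ (congrArg Vec.m hv)
    have hn := h3 _ (congrArg Vec.n hv)
    obtain ⟨a, b, m, n⟩ := v
    simp only at hm hn
    subst hm hn
    have := Fr.act_inner (F := F) k a b
    rw [hkv] at this
    exact (Fr.Act.unique (hg c) this).1

/-- The blocks over each element of `SL₂(3)`. -/
theorem exists_blocks {t : D.C} (hπ : D.π t = negOne) (hσ : D.σ t = 1) (F : Fr G D.Q D.z) (hs : F.Split t)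
    {ρ : D.Lv t →* Bl} (hρ : ∀ c : D.Lv t, ∃ κ, F.Act ((c : D.C) : G) (ρ c) κ)
    (hρQ : ∀ c : D.Lv t, ρ c = 1 ↔ ((c : D.C) : G) ∈ D.Q) :
    ∃ f : S23 →* Bl, Function.Injective f ∧ f negOne = (1, negOne) ∧
      ∀ c : D.Lv t, D.σ c = 1 → ρ c = f (D.π c) := by
  classical
  choose d hdπ hdσ using D.surj
  choose l hl hlπ hlσ using fun A => D.split hπ hσ hs.1 (d A)
  let L : S23 → D.Lv t := fun A => ⟨l A, D.mem_Lv.2 (Subtype.ext (hl A))⟩
  have hLπ : ∀ A, D.π (L A).1 = A := fun A => (hlπ A).trans (hdπ A)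
  have hLσ : ∀ A, D.σ (L A).1 = 1 := fun A => (hlσ A).trans (hdσ A)
  have key : ∀ c : D.Lv t, D.σ c = 1 → ρ c = ρ (L (D.π c)) := by
    intro c hc
    have h := (hρQ (c * (L (D.π c))⁻¹)).2 (D.ker _
      (by rw [Subgroup.coe_mul, map_mul, Subgroup.coe_inv, map_inv, hLπ, mul_inv_cancel])
      (by rw [Subgroup.coe_mul, map_mul, Subgroup.coe_inv, map_inv, hLσ, hc, one_mul, inv_one]))
    rwa [map_mul, map_inv, mul_inv_eq_one] at h
  refine ⟨MonoidHom.mk' (fun A => ρ (L A)) fun A B => ?_, ?_, ?_, key⟩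
  · have := key (L A * L B) (by rw [Subgroup.coe_mul, map_mul, hLσ, hLσ, one_mul])
    rw [Subgroup.coe_mul, map_mul, map_mul, hLπ, hLπ] at this
    exact this.symm
  · refine (injective_iff_map_eq_one _).2 fun A hA => ?_
    have := (D.kerQ (L A).1 ((hρQ _).1 hA)).1
    rwa [hLπ] at this
  · show ρ (L negOne) = (1, negOne)
    have := key ⟨t, D.mem_Lv.2 rfl⟩ hσ
    rw [show D.π ((⟨t, D.mem_Lv.2 rfl⟩ : D.Lv t) : D.C) = negOne from hπ] at this
    rw [← this]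
    obtain ⟨κ, hκ⟩ := hρ ⟨t, D.mem_Lv.2 rfl⟩
    refine (Fr.Act.unique hκ (g' := (1, negOne)) (κ' := (0, 0)) fun k v => ?_).1
    rw [inv_eq_of_mul_eq_one_right hs.1, F.tau_emb hs]
    congr 1
    · simp [fnl]
    · simp [app, negOne]

/-- In suitable coordinates the first block is upper unitriangular. -/
theorem exists_upper {t : D.C} (hπ : D.π t = negOne) (hσ : D.σ t = 1) (F₀ : Fr G D.Q D.z) (hs₀ : F₀.Split t) :
    ∃ (F : Fr G D.Q D.z) (_ : F.Split t) (ρ : D.Lv t →* Bl) (f : S23 →* Bl) (g₂ : S23 ≃* S23) (eps : ZMod 3),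
      (∀ c : D.Lv t, ∃ κ, F.Act ((c : D.C) : G) (ρ c) κ) ∧ (∀ c : D.Lv t, ρ c = 1 ↔ ((c : D.C) : G) ∈ D.Q) ∧
      (∀ c : D.Lv t, D.σ c = 1 → ρ c = f (D.π c)) ∧ (∀ A, g₂ A = (f A).2) ∧
      ∀ g : S, f (g₂.symm (sA g)) = (up (eps * chi g), sA g) := by
  classical
  obtain ⟨ρ₀, hρ₀, hρ₀Q⟩ := exists_rho F₀ hs₀
  obtain ⟨f₀, hf₀i, hf₀n, hf₀⟩ := exists_blocks hπ hσ F₀ hs₀ hρ₀ hρ₀Q
  obtain ⟨R, hR1, hR2⟩ := fix_vec (f₀ trv).1 (by
    rw [← Prod.fst_mul, ← Prod.fst_mul, ← map_mul, ← map_mul, trv_cube', map_one]; rfl)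
  let u₁ : Vec := ⟨R.1 0 0, R.1 1 0, 0, 0⟩
  let u₂ : Vec := ⟨R.1 0 1, R.1 1 1, 0, 0⟩
  obtain ⟨hp1, hp2, hm1, hm2⟩ := F₀.emb_p
  have hbet : bet u₂ u₁ = -1 := by
    have := R.2
    rw [Matrix.det_fin_two] at this
    simp only [u₁, u₂, bet]
    linear_combination -this
  let F : Fr G D.Q D.z :=
    { p1 := F₀.emb 0 u₁
      p2 := F₀.emb 0 u₂
      m1 := F₀.m1
      m2 := F₀.m2
      p1_mem := F₀.emb_mem _ _
      p2_mem := F₀.emb_mem _ _
      m1_mem := F₀.m1_mem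
      m2_mem := F₀.m2_mem
      z_mem := F₀.z_mem
      z_ne := F₀.z_ne
      z_comm := F₀.z_comm
      exp := F₀.exp
      card := F₀.card
      hp := by
        rw [show F₀.emb 0 u₁ * F₀.emb 0 u₂ * D.z = F₀.emb 0 u₁ * F₀.emb 0 u₂ * F₀.emb 1 v0 by
          rw [F₀.emb_z], F₀.emb_mul, F₀.emb_mul, F₀.emb_mul]
        have hb : bet u₁ u₂ = -bet u₂ u₁ := by simp only [bet]; ring
        congr 1
        · rw [hb, hbet]
          simp [bet, v0]
          decide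
        · simp only [va, v0]; refine Vec.ext ?_ ?_ ?_ ?_ <;> ring
      hm := F₀.hm
      c11 := by rw [← hm1]; exact F₀.emb_comm_iff.2 (by simp [u₁, bet])
      c12 := by rw [← hm2]; exact F₀.emb_comm_iff.2 (by simp [u₁, bet])
      c21 := by rw [← hm1]; exact F₀.emb_comm_iff.2 (by simp [u₂, bet])
      c22 := by rw [← hm2]; exact F₀.emb_comm_iff.2 (by simp [u₂, bet]) }
  have hfix : ∀ a b : ZMod 3, (t : G) * F₀.emb 0 ⟨a, b, 0, 0⟩ = F₀.emb 0 ⟨a, b, 0, 0⟩ * t := fun a b => by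
    have := F₀.tau_emb hs₀ 0 ⟨a, b, 0, 0⟩
    simp only [neg_zero] at this
    nth_rewrite 2 [← this]
    rw [mul_assoc _ _ (t : G), hs₀.1, mul_one]
  have hs : F.Split t := ⟨hs₀.1, hs₀.2.1, hfix _ _, hfix _ _, hs₀.2.2.2.2.1, hs₀.2.2.2.2.2⟩
  obtain ⟨ρ, hρ, hρQ⟩ := exists_rho F hs
  obtain ⟨f, hfi, hfn, hf⟩ := exists_blocks hπ hσ F hs hρ hρQ
  -- the new first block of the transvection fixes the first basis vector
  have hP : ((f trv).1).1 0 0 = 1 ∧ ((f trv).1).1 1 0 = 0 := by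
    obtain ⟨c, hc, hcσ⟩ := D.surj trv
    obtain ⟨c', hc't, hc'π, hc'σ⟩ := D.split hπ hσ hs₀.1 c
    rw [hc] at hc'π
    rw [hcσ] at hc'σ
    let L : D.Lv t := ⟨c', D.mem_Lv.2 (Subtype.ext hc't)⟩
    obtain ⟨κ₀, h0⟩ := hρ₀ L
    obtain ⟨κ, h1⟩ := hρ L
    rw [hf₀ L hc'σ, show D.π (L : D.C) = trv from hc'π] at h0
    rw [hf L hc'σ, show D.π (L : D.C) = trv from hc'π] at h1
    have e0 := h0 0 u₁
    have e1 := h1 0 ⟨1, 0, 0, 0⟩
    rw [show F₀.emb 0 u₁ = F.emb 0 ⟨1, 0, 0, 0⟩ from F.emb_p.1.symm] at e0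
    rw [e0] at e1
    have hu : app (f₀ trv) u₁ = u₁ := by
      simp only [app, u₁]
      refine Vec.ext hR1 hR2 ?_ ?_ <;> simp
    rw [hu, F₀.emb_shift] at e1
    rw [show F₀.emb 0 u₁ = F.emb 0 ⟨1, 0, 0, 0⟩ from F.emb_p.1.symm, ← F.emb_shift] at e1
    have := (F.emb_inj e1).2
    simp only [app] at this
    have ha := congrArg Vec.a this
    have hb := congrArg Vec.b this
    simp at ha hb
    exact ⟨ha.symm, hb.symm⟩
  let g₁ : S23 →* S23 := (MonoidHom.fst S23 S23).comp f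
  let g₂h : S23 →* S23 := (MonoidHom.snd S23 S23).comp f
  have hg1n : g₁ negOne = 1 := congrArg Prod.fst hfn
  have hg2n : g₂h negOne = negOne := congrArg Prod.snd hfn
  have hg2 : Function.Injective g₂h := by
    refine (injective_iff_map_eq_one _).2 fun A hA => ?_
    by_contra hne
    have hneg : g₂h negOne = 1 := by
      rcases negOne_mem A hne with h | h | h | ⟨B, h | h⟩
      · rw [← h, hA]
      · rw [← h, map_mul, hA, one_mul]
      · rw [← h, map_mul, map_mul, hA, one_mul, one_mul]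
      · rw [← h]; simp [map_mul, hA]
      · rw [← h]; simp [map_mul, hA]
    rw [hg2n] at hneg
    exact bl_facts.2.2 hneg
  let g₂ : S23 ≃* S23 := MulEquiv.ofBijective g₂h ⟨hg2, (Finite.injective_iff_surjective).1 hg2⟩
  have hup : ∀ A : S23, ∃ e, g₁ A = up e := by
    intro A
    obtain ⟨s, rfl⟩ := sA_surj A
    rw [hom_chi g₁ hg1n s, up_of_fix (g₁ trv) hP.1 hP.2, up_pow]
    exact ⟨_, rfl⟩
  let h : S23 →* S23 := g₁.comp g₂.symm.toMonoidHom
  have hhn : h negOne = 1 := by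
    show g₁ (g₂.symm negOne) = 1
    rw [show g₂.symm negOne = negOne from g₂.symm_apply_eq.2 hg2n.symm, hg1n]
  obtain ⟨eps, heps⟩ := hup (g₂.symm trv)
  refine ⟨F, hs, ρ, f, g₂, eps, hρ, hρQ, hf, fun A => rfl, fun g => ?_⟩
  refine Prod.ext ?_ (g₂.apply_symm_apply (sA g))
  show h (sA g) = up (eps * chi g)
  rw [hom_chi h hhn g, show h trv = up eps from heps, up_pow]

end Ctx

/-- The result on the centralizer of `t`: blocks in standard form. -/
structure Levi {G : Type u} [Group G] (D : Ctx G) (F : Fr G D.Q D.z) (t : D.C) (eps : ZMod 3) : Prop where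
  split : F.Split t
  tπ : D.π t = negOne
  tσ : D.σ t = 1
  lift : ∀ g : S, ∃ c : D.C, c * t = t * c ∧ D.σ c = 1 ∧ F.Act (c : G) (up (eps * chi g), sA g) (0, 0)
  form : ∀ c : D.C, c * t = t * c → D.σ c = 1 → ∃ (g : S) (κ : ZMod 3 × ZMod 3),
    F.Act (c : G) (up (eps * chi g), sA g) κ
  trivialAct : ∀ (c : D.C) (κ : ZMod 3 × ZMod 3), c * t = t * c → F.Act (c : G) 1 κ → (c : G) ∈ D.Q
  out : D.ext = true → ∃ s : D.C, s * t = t * s ∧ D.σ s ≠ 1 ∧ (s : G) * s = 1 ∧ F.Act (s : G) (negOne, 1) (0, 0)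

namespace Ctx

variable {G : Type u} [Group G] (D : Ctx G)

theorem exists_levi {t : D.C} (hπ : D.π t = negOne) (hσ : D.σ t = 1) (F₀ : Fr G D.Q D.z) (hs₀ : F₀.Split t) :
    ∃ (F : Fr G D.Q D.z) (eps : ZMod 3), Levi D F t eps := by
  classical
  obtain ⟨F, hs, ρ, f, g₂, eps, hρ, hρQ, hf, hg₂, hform⟩ := exists_upper hπ hσ F₀ hs₀
  have adj : ∀ c : D.C, c * t = t * c → ∀ g κ, F.Act (c : G) g κ →
      ∃ c' : D.C, c' * t = t * c' ∧ D.σ c' = D.σ c ∧ D.π c' = D.π c ∧ F.Act (c' : G) g (0, 0) := by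
    intro c hc g κ h
    obtain ⟨u1, u2, hu⟩ := h.adjust
    let q : D.C := ⟨F.emb 0 ⟨u1, u2, 0, 0⟩, D.Q_le (F.emb_mem _ _)⟩
    have hqt : q * t = t * q := by
      apply Subtype.ext
      show F.emb 0 ⟨u1, u2, 0, 0⟩ * (t : G) = t * F.emb 0 ⟨u1, u2, 0, 0⟩
      have := F.tau_emb hs 0 ⟨u1, u2, 0, 0⟩
      simp only [neg_zero] at this
      nth_rewrite 1 [← this]
      rw [mul_assoc _ _ (t : G), hs.1, mul_one]
    refine ⟨q * c, ?_, ?_, ?_, hu⟩
    · rw [mul_assoc, hc, ← mul_assoc, hqt, mul_assoc]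
    · rw [map_mul, (D.kerQ q (F.emb_mem _ _)).2, one_mul]
    · rw [map_mul, (D.kerQ q (F.emb_mem _ _)).1, one_mul]
  have formπ : ∀ c : D.Lv t, D.σ (c : D.C) = 1 → ∀ g : S, (g₂ (D.π c) = sA g) →
      ρ c = (up (eps * chi g), sA g) := fun c hc g hg => by
    rw [hf c hc, ← hform g, ← hg, MulEquiv.symm_apply_apply]
  refine ⟨F, eps, hs, hπ, hσ, ?_, ?_, ?_, ?_⟩
  · intro g
    obtain ⟨c, hcπ, hcσ⟩ := D.surj (g₂.symm (sA g))
    obtain ⟨c₁, hc₁t, hc₁π, hc₁σ⟩ := D.split hπ hσ hs.1 c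
    let L : D.Lv t := ⟨c₁, D.mem_Lv.2 (Subtype.ext hc₁t)⟩
    obtain ⟨κ, hκ⟩ := hρ L
    rw [formπ L (hc₁σ.trans hcσ) g (by
      show g₂ (D.π c₁) = _
      rw [hc₁π, hcπ, g₂.apply_symm_apply])] at hκ
    obtain ⟨c', h1, h2, -, h4⟩ := adj c₁ (Subtype.ext hc₁t) _ _ hκ
    exact ⟨c', h1, h2.trans (hc₁σ.trans hcσ), h4⟩
  · intro c hct hcσ
    obtain ⟨g, hg⟩ := sA_surj (g₂ (D.π c))
    obtain ⟨κ, hκ⟩ := hρ ⟨c, D.mem_Lv.2 hct⟩
    rw [formπ ⟨c, D.mem_Lv.2 hct⟩ hcσ g hg.symm] at hκ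
    exact ⟨g, κ, hκ⟩
  · intro c κ hct h
    obtain ⟨κ', hκ'⟩ := hρ ⟨c, D.mem_Lv.2 hct⟩
    exact (hρQ ⟨c, D.mem_Lv.2 hct⟩).1 (Fr.Act.unique hκ' h).1
  · intro hext
    obtain ⟨c, hcπ, hcσ⟩ := D.ext_true hext
    obtain ⟨c₁, hc₁t, hc₁π, hc₁σ⟩ := D.split hπ hσ hs.1 c
    rw [hcπ] at hc₁π
    let L : D.Lv t := ⟨c₁, D.mem_Lv.2 (Subtype.ext hc₁t)⟩
    have hσL : D.σ c₁ ≠ 1 := hc₁σ ▸ hcσ
    have hsqσ : ∀ d : D.C, D.σ d * D.σ d = 1 := fun d => by
      have key : ∀ a : Multiplicative (ZMod 2), a * a = 1 := by decide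
      exact key _
    -- the second block is central
    have hcomm : ∀ A : S23, (ρ L).2 * A = A * (ρ L).2 := by
      intro A
      obtain ⟨d, hdπ, hdσ⟩ := D.surj (g₂.symm A)
      obtain ⟨d', hd't, hd'π, hd'σ⟩ := D.split hπ hσ hs.1 d
      let M : D.Lv t := ⟨d', D.mem_Lv.2 (Subtype.ext hd't)⟩
      have h1 : ρ ((L * M) * (M * L)⁻¹) = 1 := by
        rw [hρQ]
        refine D.ker _ ?_ ?_ <;>
          simp only [Subgroup.coe_mul, Subgroup.coe_inv, map_mul, map_inv, L, M, hc₁π, one_mul, mul_one,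
            mul_inv_cancel]
        rw [mul_comm (D.σ d') (D.σ c₁), mul_inv_cancel]
      rw [map_mul, map_inv, mul_inv_eq_one, map_mul, map_mul] at h1
      have h2 := congrArg Prod.snd h1
      rw [Prod.snd_mul, Prod.snd_mul, hf M (hd'σ.trans hdσ), ← hg₂,
        show D.π (M : D.C) = g₂.symm A from hd'π.trans hdπ, g₂.apply_symm_apply] at h2
      exact h2
    obtain ⟨c₂, hc₂t, hc₂π, hc₂σ, hM⟩ : ∃ c₂ : D.Lv t, True ∧ (D.π (c₂ : D.C) = 1 ∨ D.π (c₂ : D.C) = negOne) ∧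
        D.σ (c₂ : D.C) ≠ 1 ∧ (ρ c₂).2 = 1 := by
      rcases centre_S23 _ hcomm with h | h
      · exact ⟨L, trivial, Or.inl hc₁π, hσL, h⟩
      · refine ⟨⟨t, D.mem_Lv.2 rfl⟩ * L, trivial, Or.inr ?_, ?_, ?_⟩
        · rw [Subgroup.coe_mul, map_mul]
          show D.π t * D.π c₁ = _
          rw [hπ, hc₁π, mul_one]
        · rw [Subgroup.coe_mul, map_mul]
          show D.σ t * D.σ c₁ ≠ 1
          rw [hσ, one_mul]
          exact hσL
        · rw [map_mul, Prod.snd_mul, h, hf ⟨t, D.mem_Lv.2 rfl⟩ hσ, ← hg₂]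
          show g₂ (D.π t) * negOne = 1
          rw [hπ]
          have : g₂ negOne = negOne := by
            have h' := hform 1
            rw [sA_ten.2.2] at h'
            have h2 : g₂ (g₂.symm negOne) = negOne := g₂.apply_symm_apply _
            have h3 : g₂ negOne * g₂ negOne = 1 := by rw [← map_mul, bl_facts.2.1, map_one]
            rcases invol_S23 _ h3 with e | e
            · exact absurd (g₂.injective (e.trans (map_one g₂).symm)) bl_facts.2.2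
            · exact e
          rw [this, bl_facts.2.1]
    have hsq : ρ (c₂ * c₂) = 1 := by
      rw [hρQ]
      refine D.ker _ ?_ (by rw [Subgroup.coe_mul, map_mul]; exact hsqσ _)
      rw [Subgroup.coe_mul, map_mul]
      rcases hc₂π with e | e <;> rw [e]
      · rw [one_mul]
      · exact bl_facts.2.1
    have hP : (ρ c₂).1 = negOne := by
      have h1 := congrArg Prod.fst hsq
      rw [map_mul, Prod.fst_mul] at h1
      rcases invol_S23 _ h1 with e | e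
      · exfalso
        have := (D.kerQ c₂.1 ((hρQ c₂).1 (Prod.ext e hM))).2
        exact hc₂σ this
      · exact e
    obtain ⟨κ, hκ⟩ := hρ c₂
    rw [show ρ c₂ = (negOne, 1) from Prod.ext hP hM] at hκ
    obtain ⟨c₃, hc₃t, hc₃σ, -, hc₃⟩ := adj c₂.1 (D.mem_Lv.1 c₂.2) _ _ hκ
    have h2 : F.Act ((c₃ * c₃ : D.C) : G) 1 (0, 0) := by
      have := hc₃.mul0 hc₃
      rwa [show ((negOne, 1) : Bl) * (negOne, 1) = 1 from Prod.ext bl_facts.2.1 (one_mul 1)] at this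
    have hcq := D.centQ _ h2.comm
    refine ⟨c₃ ^ 3, ((show Commute c₃ t from hc₃t).pow_left 3).eq, ?_, ?_, ?_⟩
    · rw [map_pow, pow_succ, pow_two, hsqσ, one_mul, hc₃σ]
      exact hc₂σ
    · rw [SubgroupClass.coe_pow, ← pow_add, show 3 + 3 = 2 * 3 by norm_num, pow_mul, pow_two]
      exact D.qh.exp _ hcq
    · rw [SubgroupClass.coe_pow, pow_succ, pow_two]
      have := (hc₃.mul0 hc₃).mul0 hc₃
      rwa [show ((negOne, 1) : Bl) * (negOne, 1) * (negOne, 1) = (negOne, 1) from by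
        rw [show ((negOne, 1) : Bl) * (negOne, 1) = 1 from Prod.ext bl_facts.2.1 (one_mul 1), one_mul]] at this

end Ctx

end CfsgLib.O8Three
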