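import Cfsg.Agent.O8Three.WMainCent
import Cfsg.Agent.Invol.ThompsonTransfer
import Cfsg.Agent.Solvable.CoprimeAbelian
import Cfsg.Agent.SmithTyrer.Main
import Cfsg.Agent.Transfer.PResidual

/-!
# The abstract centralizer of the involution is `K.(Sym₃)³`

The normalizer of a Sylow 2-subgroup is trivial, Thompson's transfer removes the sign changes of weight one
and two, and what remains has 3-length one with its `3'`-core in `M`.
-/

set_option autoImplicit false
set_option maxRecDepth 100000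
set_option linter.style.haveILetI false
set_option linter.unusedSectionVars false

namespace CfsgLib.O8Three

open Subgroup
open scoped commutatorElement

universe u

theorem aff_inv : ∀ (v : ZMod 3) (e : Bool) (x : ZMod 3),
    (if e then -((v + if e then -x else x) - v) else (v + if e then -x else x) - v) = x ∧
      (v + if e then -(if e then -(x - v) else x - v) else (if e then -(x - v) else x - v)) = x := by
  decide +kernel

theorem eflip_all : ∀ v : V3, eflip eall v = -v := by decide +kernel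

/-- An affine permutation of the three points. -/
def affPerm (v : ZMod 3) (e : Bool) : Equiv.Perm (Fin 3) :=
  { toFun := fun (x : ZMod 3) => v + (if e then -x else x)
    invFun := fun (x : ZMod 3) => if e then -(x - v) else x - v
    left_inv := fun (x : ZMod 3) => (aff_inv v e x).1
    right_inv := fun (x : ZMod 3) => (aff_inv v e x).2 }

theorem affPerm_facts : (∀ v w e f, affPerm (v + if e then -w else w) (xor e f) = affPerm v e * affPerm w f) ∧
    (∀ v e, affPerm v e = 1 → v = 0 ∧ e = false) ∧ (∀ p, ∃ v e, affPerm v e = p) ∧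
    affPerm 0 false = 1 := by decide +kernel

theorem weight_cases : ∀ e : Sg, e ≠ e0 → ∃ l, e l = true := by decide +kernel

theorem small_of_false : ∀ (e : Sg) (l : Fin 3), e l = false → e ≠ e0 → Small e := by
  unfold Small; decide +kernel

theorem half_count : ∀ l : Fin 3, Fintype.card {e : Sg // e l = false} = 4 := by decide +kernel

theorem plane_heavy : ∀ v : V3, v 0 + v 1 + v 2 = 0 → v ≠ 0 → Heavy v := by
  unfold Heavy; decide +kernel

theorem sum_card : Fintype.card {v : V3 // v 0 + v 1 + v 2 = 0} = 9 := by decide +kernel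

theorem sub_vflip : ∀ (j : Fin 3) (v : V3), v - vflip j v = 0 → v j = 0 := by decide +kernel

theorem sub_vflip_ax : ∀ (j : Fin 3) (v : V3), v j ≠ 0 → v - vflip j v = ax j ∨ v - vflip j v = -ax j := by
  decide +kernel

theorem neg_ax_sub : ∀ i : Fin 3, -ax i - ax i = ax i := by decide +kernel

theorem neg_twice : ∀ u : V3, -u + -(-u) + 0 = 0 ∧ -u + -u = u := by decide +kernel

namespace WSys

variable {W : Type u} [Group W] [Finite W] (D : WSys W)

theorem sg_normalizes (e : Sg) {k : W} (hk : k ∈ D.K) : D.sg e * k * (D.sg e)⁻¹ ∈ D.K :=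
  (mem_normalizer_iff.1 (D.NA_normalizes (D.sg_mem e)) k).1 hk

theorem sg_eq_of_mul_eq {k k' : W} (hk : k ∈ D.K) (hk' : k' ∈ D.K) {e f : Sg}
    (h : k * D.sg e = k' * D.sg f) : e = f := by
  have h1 : D.nf 0 (exor e f) false = k⁻¹ * k' := by
    rw [← D.nf_plain, D.a_zero, one_mul, ← D.sg_mul, eq_inv_mul_iff_mul_eq, ← mul_assoc, h, mul_assoc,
      D.sg_sq, mul_one]
  have h2 := (D.K_inter_NA (h1 ▸ mul_mem (inv_mem hk) hk')).2
  have : ∀ e f : Sg, exor e f = e0 → e = f := by decide +kernel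
  exact this e f h2

/-- The extensions of `K` by sets of sign changes. -/
def ext (S : Set Sg) (h0 : e0 ∈ S) (hS : ∀ e ∈ S, ∀ f ∈ S, exor e f ∈ S) : Subgroup W where
  carrier := {g | ∃ k ∈ D.K, ∃ e ∈ S, g = k * D.sg e}
  one_mem' := ⟨1, one_mem _, e0, h0, by rw [D.sg_e0, one_mul]⟩
  mul_mem' := by
    rintro _ _ ⟨k, hk, e, he, rfl⟩ ⟨l, hl, f, hf, rfl⟩
    refine ⟨_, mul_mem hk (D.sg_normalizes e hl), _, hS e he f hf, ?_⟩
    rw [← D.sg_mul]; group
  inv_mem' := by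
    rintro _ ⟨k, hk, e, he, rfl⟩
    refine ⟨_, D.sg_normalizes e (inv_mem hk), e, he, ?_⟩
    rw [mul_inv_rev, D.sg_inv, mul_assoc _ (D.sg e) (D.sg e), D.sg_sq, mul_one]

/-- The Sylow 2-subgroup. -/
def T : Subgroup W := D.ext Set.univ trivial fun _ _ _ _ => trivial

/-- A subgroup of index two of the Sylow 2-subgroup. -/
def U (l : Fin 3) : Subgroup W :=
  D.ext {e | e l = false} rfl fun e he f hf => by
    show xor (e l) (f l) = false
    rw [he, hf]; rfl

theorem mem_T {g : W} : g ∈ D.T ↔ ∃ k ∈ D.K, ∃ e, g = k * D.sg e := by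
  constructor
  · rintro ⟨k, hk, e, -, h⟩; exact ⟨k, hk, e, h⟩
  · rintro ⟨k, hk, e, h⟩; exact ⟨k, hk, e, trivial, h⟩

theorem card_ext (S : Set Sg) (h0 : e0 ∈ S) (hS : ∀ e ∈ S, ∀ f ∈ S, exor e f ∈ S) :
    Nat.card (D.ext S h0 hS) = 512 * Nat.card S := by
  let f : D.K × S → D.ext S h0 hS := fun x => ⟨x.1 * D.sg x.2, x.1, x.1.2, x.2, x.2.2, rfl⟩
  have hf : Function.Bijective f := by
    refine ⟨fun x y h => ?_, ?_⟩
    · have h' := congrArg Subtype.val h
      have he := D.sg_eq_of_mul_eq x.1.2 y.1.2 h'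
      refine Prod.ext (Subtype.ext ?_) (Subtype.ext he)
      simp only [f, he] at h'
      exact mul_right_cancel h'
    · rintro ⟨_, k, hk, e, he, rfl⟩
      exact ⟨(⟨k, hk⟩, ⟨e, he⟩), rfl⟩
  rw [← Nat.card_congr (Equiv.ofBijective f hf), Nat.card_prod, D.K_card]
  rfl

theorem card_T : Nat.card D.T = 4096 := by
  refine (D.card_ext _ _ _).trans ?_
  rw [Nat.card_congr (Equiv.Set.univ Sg), Nat.card_eq_fintype_card]
  rfl

theorem K_le_T : D.K ≤ D.T := fun k hk => D.mem_T.2 ⟨k, hk, e0, by rw [D.sg_e0, mul_one]⟩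

theorem sg_mem_T (e : Sg) : D.sg e ∈ D.T := D.mem_T.2 ⟨1, one_mem _, e, (one_mul _).symm⟩

theorem Z2_conj {z : W} (hz : z ∈ D.Z2) (g : W) : g * z * g⁻¹ = z := by
  rcases D.mem_Z2.1 hz with rfl | rfl
  · simp
  · rw [D.t_central, mul_inv_cancel_right]

theorem comm_Z2 {x y : W} (hx : x ∈ D.K) (hy : y ∈ D.K) : x * y * x⁻¹ * y⁻¹ ∈ D.Z2 := by
  have h : ⁅(⟨x, hx⟩ : D.K), ⟨y, hy⟩⁆ ∈ center D.K :=
    D.K_ext.1.2.2 ▸ commutator_mem_commutator (mem_top _) (mem_top _)
  rw [D.center_K] at h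
  simpa [commutatorElement_def] using h

/-- The elements commuting with `u` modulo `t` inside the Sylow 2-subgroup. -/
abbrev CT (u : W) : Type u := {x : W // x ∈ D.T ∧ x * u * x⁻¹ * u⁻¹ ∈ D.Z2}

theorem comm_mul_inv {x y u : W} (hx : x * u * x⁻¹ * u⁻¹ ∈ D.Z2) (hy : y * u * y⁻¹ * u⁻¹ ∈ D.Z2) :
    x * y⁻¹ * u * (x * y⁻¹)⁻¹ * u⁻¹ ∈ D.Z2 := by
  have h1 : y⁻¹ * (y * u * y⁻¹ * u⁻¹)⁻¹ * y = (y * u * y⁻¹ * u⁻¹)⁻¹ := by
    have := D.Z2_conj (inv_mem hy) y⁻¹
    rwa [inv_inv] at this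
  have h2 := D.Z2_conj (inv_mem hy) x
  have e : x * y⁻¹ * u * (x * y⁻¹)⁻¹ * u⁻¹ =
      x * (y⁻¹ * (y * u * y⁻¹ * u⁻¹)⁻¹ * y) * x⁻¹ * (x * u * x⁻¹ * u⁻¹) := by group
  rw [e, h1, h2]
  exact mul_mem (inv_mem hy) hx

theorem CT_lower {u : W} (hu : u ∈ D.K) : 512 ≤ Nat.card (D.CT u) := by
  rw [show (512 : ℕ) = Nat.card D.K by rw [D.K_card]; norm_num]
  exact Nat.card_le_card_of_injective
    (fun k : D.K => (⟨k, D.K_le_T k.2, D.comm_Z2 k.2 hu⟩ : D.CT u))
    fun a b h => Subtype.ext (show (a : W) = (b : W) from congrArg (fun z : D.CT u => (z : W)) h)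

theorem CT_conj {g : W} (hg : ∀ x ∈ D.T, g * x * g⁻¹ ∈ D.T) (u : W) :
    Nat.card (D.CT u) ≤ Nat.card (D.CT (g * u * g⁻¹)) := by
  refine Nat.card_le_card_of_injective (fun x : D.CT u => (⟨g * x.1 * g⁻¹, hg _ x.2.1, ?_⟩ :
    D.CT (g * u * g⁻¹))) fun a b h => ?_
  · rw [show g * x.1 * g⁻¹ * (g * u * g⁻¹) * (g * x.1 * g⁻¹)⁻¹ * (g * u * g⁻¹)⁻¹ =
      g * (x.1 * u * x.1⁻¹ * u⁻¹) * g⁻¹ by group, D.Z2_conj x.2.2]
    exact x.2.2
  · exact Subtype.ext (mul_left_cancel (mul_right_cancel (congrArg Subtype.val h)))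

theorem card_comap_fixQ {e : Sg} (he : e ≠ e0) :
    Nat.card ((D.fixQ e).comap (QuotientGroup.mk' (center D.K))) = 32 := by
  have h1 := ((D.fixQ e).comap (QuotientGroup.mk' (center D.K))).card_mul_index
  rw [index_comap_of_surjective _ (QuotientGroup.mk'_surjective _), D.K_card] at h1
  have h2 := (D.fixQ e).card_mul_index
  rw [D.card_fixQ he, D.card_Q] at h2
  have h3 : (D.fixQ e).index = 16 := by omega
  rw [h3] at h1
  omega

theorem CT_upper {e : Sg} (he : e ≠ e0) {k : W} (hk : k ∈ D.K) :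
    Nat.card (D.CT (k * D.sg e)) ≤ 256 := by
  classical
  have hdec : ∀ x : D.CT (k * D.sg e), ∃ p : D.K × Sg, (x : W) = (p.1 : W) * D.sg p.2 := fun x => by
    obtain ⟨l, hl, f, h⟩ := D.mem_T.1 x.2.1
    exact ⟨(⟨l, hl⟩, f), h⟩
  choose p hp using hdec
  let r : Sg → D.K := fun f => if h : ∃ x, (p x).2 = f then (p h.choose).1 else 1
  let C := (D.fixQ e).comap (QuotientGroup.mk' (center D.K))
  have hC : ∀ x, (p x).1 * (r (p x).2)⁻¹ ∈ C := by
    intro x
    have hex : ∃ y, (p y).2 = (p x).2 := ⟨x, rfl⟩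
    simp only [r, dif_pos hex]
    set y := hex.choose with hy
    have hf : (p y).2 = (p x).2 := hex.choose_spec
    set d := (p x).1 * ((p y).1)⁻¹ with hd
    have hdv : (d : W) = (x : W) * (y : W)⁻¹ := by rw [hp x, hp y, hf, hd]; push_cast; group
    have hz : (d : W) * (k * D.sg e) * (d : W)⁻¹ * (k * D.sg e)⁻¹ ∈ D.Z2 := by
      rw [hdv]
      exact D.comm_mul_inv x.2.2 y.2.2
    show D.cl d d.2 ∈ D.fixQ e
    show D.act _ (D.NA_normalizes (D.sg_mem e)) (D.cl d d.2) = D.cl d d.2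
    rw [act_cl, D.cl_eq]
    have hkd := D.comm_Z2 hk d.2
    set z1 := (d : W) * (k * D.sg e) * (d : W)⁻¹ * (k * D.sg e)⁻¹ with hz1
    have hz' := D.Z2_conj hz k⁻¹
    rw [inv_inv] at hz'
    have e1' : (D.sg e * d * (D.sg e)⁻¹)⁻¹ * d = k⁻¹ * ((d : W)⁻¹ * z1 * d * (k * (d : W)⁻¹ * k⁻¹ * d)⁻¹) * k *
        1 * (k⁻¹ * 1 * k) := by
      rw [hz1]; group
    rw [e1', mul_one, mul_one, inv_mul_cancel, mul_one]
    have hz2 := D.Z2_conj hz (d : W)⁻¹
    rw [inv_inv] at hz2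
    rw [hz2]
    have hc2 := D.comm_Z2 hk (inv_mem d.2)
    rw [inv_inv] at hc2
    have hm := mul_mem hz (inv_mem hc2)
    have := D.Z2_conj hm k⁻¹
    rw [inv_inv] at this
    rw [this]
    exact hm
  have hinj : Function.Injective fun x => ((⟨_, hC x⟩ : C), (p x).2) := fun x y h => by
    simp only [Prod.mk.injEq, Subtype.mk.injEq] at h
    obtain ⟨h1, h2⟩ := h
    rw [h2] at h1
    exact Subtype.ext (by rw [hp x, hp y, h2, mul_right_cancel h1])
  refine (Nat.card_le_card_of_injective _ hinj).trans ?_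
  rw [Nat.card_prod, D.card_comap_fixQ he, Nat.card_eq_fintype_card]
  rfl

theorem sg_notMem_K {e : Sg} (he : e ≠ e0) : D.sg e ∉ D.K := fun h =>
  he (D.K_inter_NA (v := 0) (d := false) (by rwa [← D.nf_plain, D.a_zero, one_mul])).2

/-- The normalizer of `T` is `T`. -/
theorem norm_T {g : W} (hg : ∀ x ∈ D.T, g * x * g⁻¹ ∈ D.T) : g ∈ D.T := by
  have hgK : g ∈ normalizer (D.K : Set W) := by
    have key : D.K.map (MulAut.conj g).toMonoidHom ≤ D.K := by
      rintro _ ⟨k, hk, rfl⟩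
      obtain ⟨l, hl, e, he⟩ := D.mem_T.1 (hg k (D.K_le_T hk))
      by_cases h0 : e = e0
      · show g * k * g⁻¹ ∈ D.K
        rw [he, h0, D.sg_e0, mul_one]; exact hl
      · have h1 := (D.CT_lower hk).trans (D.CT_conj hg k)
        rw [he] at h1
        have := D.CT_upper h0 hl
        omega
    have heq := CfsgLib.Solvable.eq_of_le_of_card_le key
      (Nat.card_congr (D.K.equivMapOfInjective _ (MulAut.conj g).injective).toEquiv).le
    refine mem_normalizer_iff.2 fun k => ⟨fun hk => key ⟨k, hk, rfl⟩, fun hk => ?_⟩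
    have hk' : g * k * g⁻¹ ∈ D.K.map (MulAut.conj g).toMonoidHom := heq.symm ▸ hk
    obtain ⟨m, hm, e⟩ := hk'
    rwa [(MulAut.conj g).injective e] at hm
  have himg : ∀ i, ∃ k ∈ D.K, ∃ e, e ≠ e0 ∧ g * D.s i * g⁻¹ = k * D.sg e := fun i => by
    obtain ⟨k, hk, e, he⟩ := D.mem_T.1 (hg (D.s i) (by rw [← D.sg_e1]; exact D.sg_mem_T _))
    refine ⟨k, hk, e, fun h0 => ?_, he⟩
    rw [h0, D.sg_e0, mul_one] at he
    refine D.sg_notMem_K (small_e1 i).1 ?_
    rw [D.sg_e1, mem_normalizer_iff.1 hgK, he]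
    exact hk
  choose k hk e he hke using himg
  obtain ⟨i, hi⟩ : ∃ i, Small (e i) := by
    by_contra hall
    push Not at hall
    have hA : ∀ i, e i = eall := fun i => by_contra fun h => hall i ⟨he i, h⟩
    have h1 : g * (D.s 0 * D.s 1) * g⁻¹ ∈ D.K := by
      rw [show g * (D.s 0 * D.s 1) * g⁻¹ = (g * D.s 0 * g⁻¹) * (g * D.s 1 * g⁻¹) by group, hke, hke, hA, hA]
      have := mul_mem (hk 0) (D.sg_normalizes eall (hk 1))
      rw [D.sg_inv] at this
      simpa [mul_assoc] using this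
    rw [← mem_normalizer_iff.1 hgK, ← D.sg_e1, ← D.sg_e1, D.sg_mul] at h1
    exact D.sg_notMem_K (by decide) h1
  have hsq : k i * D.sg (e i) * (k i * D.sg (e i)) = 1 := by
    rw [← hke, show g * D.s i * g⁻¹ * (g * D.s i * g⁻¹) = g * (D.s i * D.s i) * g⁻¹ by group, D.s_sq,
      mul_one, mul_inv_cancel]
  obtain ⟨x, hx, d, hxd⟩ := D.invol_coset (he i) (hk i) hsq
  rw [← hke] at hxd
  have hconj : x⁻¹ * g * (D.sg (e1 i) * D.tp false) * (x⁻¹ * g)⁻¹ = D.sg (e i) * D.tp d := by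
    rw [D.sg_e1, show D.tp false = 1 from rfl, mul_one,
      show x⁻¹ * g * D.s i * (x⁻¹ * g)⁻¹ = x⁻¹ * (g * D.s i * g⁻¹) * x by group, hxd]
    group
  obtain ⟨he1, hd⟩ := D.fusion (small_e1 i) hi hconj
  subst hd
  rw [← he1, show D.tp false = 1 from rfl, mul_one, D.sg_e1] at hconj
  have hM : g ∈ D.M := by
    have := mul_mem (D.K_le_M hx) (D.single_cent (mul_mem (inv_mem (le_normalizer hx)) hgK)
      (mul_inv_eq_iff_eq_mul.1 hconj))
    rwa [mul_inv_cancel_left] at this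
  obtain ⟨l, hl, v, f, b, rfl⟩ := D.mem_M.1 hM
  have hv : v = 0 := funext fun j => by
    obtain ⟨m, hm, h, h'⟩ := D.mem_T.1 (hg (D.s j) (by rw [← D.sg_e1]; exact D.sg_mem_T _))
    have hn : D.nf v f b * D.nf 0 (e1 j) false = D.nf (v - vflip j v) (e1 j) false * D.nf v f b := by
      rw [D.nf_mul, D.nf_mul, eflip_facts.2.2.1, sub_add_cancel, exor_facts.2.2.1 f, Bool.xor_comm]
      congr 1
      funext k; simp [eflip]
    have h2 : l * D.nf (v - vflip j v) (e1 j) false * l⁻¹ = m * D.sg h := by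
      rw [← h', show D.s j = D.nf 0 (e1 j) false by simp [nf, D.a_zero, D.sg_e1, tp]]
      rw [show l * D.nf v f b * D.nf 0 (e1 j) false * (l * D.nf v f b)⁻¹ =
        l * (D.nf v f b * D.nf 0 (e1 j) false) * (D.nf v f b)⁻¹ * l⁻¹ by group, hn]
      group
    have h3 : D.nf (v - vflip j v) (e1 j) false * D.sg h = l⁻¹ * m * (D.sg h * l * (D.sg h)⁻¹) := by
      rw [D.sg_inv, show D.nf (v - vflip j v) (e1 j) false =
        l⁻¹ * (l * D.nf (v - vflip j v) (e1 j) false * l⁻¹) * l by group, h2]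
      group
    have h4 : D.nf (v - vflip j v) (e1 j) false * D.sg h ∈ D.K :=
      h3 ▸ mul_mem (mul_mem (inv_mem hl) hm) (D.sg_normalizes h hl)
    rw [← D.nf_plain, mul_assoc, D.sg_mul, D.nf_plain] at h4
    exact sub_vflip j v (D.K_inter_NA h4).1
  subst hv
  refine D.mem_T.2 ⟨l * D.tp b, mul_mem hl (D.tp_mem_K b), f, ?_⟩
  rw [← D.sg_nf, mul_assoc, D.tp_central b (D.sg f)]

theorem sylow_T : ∃ P : Sylow 2 W, (P : Subgroup W) = D.T := by
  haveI : Fact (Nat.Prime 2) := ⟨Nat.prime_two⟩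
  obtain ⟨P, hP⟩ := (IsPGroup.of_card (n := 12) (by rw [D.card_T]; norm_num) :
    IsPGroup 2 D.T).exists_le_sylow
  refine ⟨P, le_antisymm (fun x hx => ?_) hP⟩
  by_contra hne
  haveI : Group.IsNilpotent P := P.isPGroup'.isNilpotent
  have hlt : D.T.subgroupOf P < ⊤ := lt_top_iff_ne_top.2 fun e =>
    hne ((e ▸ mem_top (⟨x, hx⟩ : P) : (⟨x, hx⟩ : P) ∈ D.T.subgroupOf P))
  obtain ⟨y, hy, hyT⟩ := SetLike.exists_of_lt (Group.normalizerCondition_of_isNilpotent _ hlt)
  exact hyT (D.norm_T fun z hz => (mem_normalizer_iff.1 hy ⟨z, hP hz⟩).1 hz)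

/-! ### Transfer -/

theorem exists_index_two {e : Sg} (he : Small e) :
    ∃ N : Subgroup W, N.Normal ∧ N.index = 2 ∧ D.sg e ∉ N := by
  haveI : Fact (Nat.Prime 2) := ⟨Nat.prime_two⟩
  obtain ⟨l, hl⟩ := weight_cases e he.1
  obtain ⟨P, hP⟩ := D.sylow_T
  have hodd : Odd D.T.index := by
    rw [← hP, ← Nat.not_even_iff_odd, even_iff_two_dvd]
    exact P.not_dvd_index
  have hrel : (D.U l).relIndex D.T = 2 := by
    have hle : D.U l ≤ D.T := by
      rintro _ ⟨k, hk, f, -, rfl⟩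
      exact D.mem_T.2 ⟨k, hk, f, rfl⟩
    have h := Subgroup.relIndex_mul_relIndex ⊥ (D.U l) D.T bot_le hle
    have hU : Nat.card (D.U l) = 512 * 4 := (D.card_ext _ _ _).trans (congrArg (512 * ·)
      ((Nat.card_eq_fintype_card (α := {e : Sg // e l = false})).trans (half_count l)))
    rw [relIndex_bot_left, relIndex_bot_left, D.card_T, hU] at h
    omega
  refine (ThompsonTransfer.thompson_transfer D.T (D.U l) hodd hrel (D.sg_sq e)).resolve_right ?_
  rintro ⟨g, k, hk, f, hf, h⟩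
  by_cases h0 : f = e0
  · refine D.not_conj_K he (d := false) g ?_
    rw [show D.tp false = 1 from rfl, mul_one, h, h0, D.sg_e0, mul_one]
    exact hk
  have hsq : k * D.sg f * (k * D.sg f) = 1 := by
    rw [← h, show g * D.sg e * g⁻¹ * (g * D.sg e * g⁻¹) = g * (D.sg e * D.sg e) * g⁻¹ by group,
      D.sg_sq, mul_one, mul_inv_cancel]
  obtain ⟨x, -, d, hxd⟩ := D.invol_coset h0 hk hsq
  have h1 := D.fusion he (small_of_false f l hf h0) (g := x⁻¹ * g) (d := false) (d' := d) (by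
    rw [show D.tp false = 1 from rfl, mul_one,
      show x⁻¹ * g * D.sg e * (x⁻¹ * g)⁻¹ = x⁻¹ * (g * D.sg e * g⁻¹) * x by group, h, hxd]
    group)
  rw [h1.1] at hl
  exact absurd (hl.symm.trans hf) (by simp)

/-- The intersection of the normal subgroups of index two. -/
def W0 (_ : WSys W) : Subgroup W := sInf {N : Subgroup W | N.Normal ∧ N.index = 2}

theorem W0_normal : (D.W0).Normal :=
  ⟨fun x hx g => mem_sInf.2 fun N hN => hN.1.conj_mem x (mem_sInf.1 hx N hN) g⟩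

theorem sq_mem_W0 (g : W) : g * g ∈ D.W0 :=
  mem_sInf.2 fun _ hN => mul_self_mem_of_index_two hN.2 g

theorem a_mem_W0 (v : V3) : D.a v ∈ D.W0 := by
  have h : D.a v = (D.a v * D.a v) * (D.a v * D.a v) := by
    have h3 := D.a_cube v
    rw [pow_succ, sq] at h3
    rw [← mul_assoc, h3, one_mul]
  rw [h]
  exact mul_mem (D.sq_mem_W0 _) (D.sq_mem_W0 _)

theorem K_le_W0 : D.K ≤ D.W0 := by
  intro k hk
  rw [W0, mem_sInf]
  rintro N ⟨hN, hN2⟩
  have key : ∀ g x : W, g * x * g⁻¹ * x⁻¹ ∈ N := fun g x => by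
    have h1 : g * x * g⁻¹ ∈ N ↔ x ∈ N :=
      ⟨fun h => by
        have := hN.conj_mem _ h g⁻¹
        simpa [mul_assoc] using this, fun h => hN.conj_mem x h g⟩
    rw [mul_mem_iff_of_index_two hN2, h1, inv_mem_iff]
  have ht : D.t ∈ N := by
    obtain ⟨y, hy, hyZ⟩ : ∃ y ∈ D.K, y ∉ D.Z2 := by
      by_contra h
      push Not at h
      have h1 := CfsgLib.Solvable.eq_of_le_of_card_le D.Z2_le (card_le_of_le h)
      have h2 : Nat.card D.Z2 = 2 := by
        rw [Z2, Nat.card_zpowers]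
        haveI : Fact (Nat.Prime 2) := ⟨Nat.prime_two⟩
        exact orderOf_eq_prime (by rw [sq, D.t_sq]) D.t_ne
      rw [h1, D.K_card] at h2
      norm_num at h2
    obtain ⟨x, -, hx⟩ := D.center_or_conj_t hy hyZ
    have h2 := key x y
    rw [hx] at h2
    rwa [D.t_central y, mul_assoc, mul_inv_cancel, mul_one] at h2
  -- every class is a commutator with an axis
  let φ : D.Q →* D.Q :=
    { toFun := fun p => p * D.na _ (D.a_mem (ax 0)) p
      map_one' := by simp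
      map_mul' := fun p q => by rw [map_mul, mul_assoc, ← mul_assoc q, D.Q_comm q, mul_assoc, mul_assoc] }
  have hφ : Function.Injective φ := (injective_iff_map_eq_one φ).2 fun p hp => D.fix_Q (i := 0) (by
    rw [← D.Q_inv p]
    rw [D.Q_inv p]
    exact (inv_eq_of_mul_eq_one_right hp).symm.trans (D.Q_inv p))
  obtain ⟨q, hq⟩ := (Finite.injective_iff_surjective.1 hφ) (D.cl k hk)
  obtain ⟨x, hx, rfl⟩ := D.cl_surj q
  have hq' : D.cl (x * (D.a (ax 0) * x * (D.a (ax 0))⁻¹)) (mul_mem hx (D.K_a _ x hx)) = D.cl k hk := hq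
  rw [D.cl_eq] at hq'
  have h1 : x * (D.a (ax 0) * x * (D.a (ax 0))⁻¹) ∈ N := by
    rw [mul_mem_iff_of_index_two hN2]
    exact ⟨fun h => hN.conj_mem x h _, fun h => by
      have := hN.conj_mem _ h (D.a (ax 0))⁻¹
      simpa [mul_assoc] using this⟩
  have h2 : (x * (D.a (ax 0) * x * (D.a (ax 0))⁻¹))⁻¹ * k ∈ N := by
    rcases D.mem_Z2.1 hq' with e | e <;> rw [e]
    · exact one_mem _
    · exact ht
  have := mul_mem h1 h2
  rwa [mul_inv_cancel_left] at this

theorem sg_W0 {e : Sg} (h : D.sg e ∈ D.W0) : e = e0 ∨ e = eall := by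
  by_contra hne
  push Not at hne
  obtain ⟨N, hN, hN2, heN⟩ := D.exists_index_two (e := e) hne
  exact heN (mem_sInf.1 h N ⟨hN, hN2⟩)

theorem NA_W0 {g : W} (hg : g ∈ D.NA) (h0 : g ∈ D.W0) :
    ∃ v e d, (e = e0 ∨ e = eall) ∧ D.sg e ∈ D.W0 ∧ g = D.nf v e d := by
  obtain ⟨v, e, d, rfl⟩ := D.mem_NA.1 hg
  have h := mul_mem (mul_mem (inv_mem (D.a_mem_W0 v)) h0) (inv_mem (D.K_le_W0 (D.tp_mem_K d)))
  simp only [nf, mul_assoc, inv_mul_cancel_left, mul_inv_cancel, mul_one] at h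
  exact ⟨v, e, d, D.sg_W0 h, h, rfl⟩

theorem W0_sup_T : D.W0 ⊔ D.T = ⊤ := by
  haveI : Fact (Nat.Prime 2) := ⟨Nat.prime_two⟩
  haveI := D.W0_normal
  obtain ⟨P, hP⟩ := D.sylow_T
  have hpg : IsPGroup 2 (W ⧸ D.W0) := fun x => by
    induction x using QuotientGroup.induction_on with | H g => ?_
    refine ⟨1, ?_⟩
    rw [pow_one, sq, ← QuotientGroup.mk_mul, QuotientGroup.eq_one_iff]
    exact D.sq_mem_W0 g
  obtain ⟨n, hn⟩ := IsPGroup.iff_card.1 hpg
  have h1 : (D.W0 ⊔ D.T).index ∣ 2 ^ n := hn ▸ index_dvd_of_le le_sup_left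
  have h2 : (D.W0 ⊔ D.T).index ∣ (P : Subgroup W).index := hP.symm ▸ index_dvd_of_le le_sup_right
  refine index_eq_one.1 (Nat.eq_one_of_dvd_coprimes (Nat.Coprime.pow_left n ?_) h1 h2)
  exact Nat.prime_two.coprime_iff_not_dvd.2 P.not_dvd_index

/-- A normal subgroup of `W0` of order prime to three supplementing the normalizer of `A` lies in `M`. -/
theorem W0_le_of_supplement (Y : Subgroup D.W0) [Y.Normal] (hY : ¬ 3 ∣ Nat.card Y)
    (hsup : normalizer ((D.Asub.subgroupOf D.W0 : Subgroup D.W0) : Set D.W0) ⊔ Y = ⊤) : D.W0 ≤ D.M := by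
  have hNA : ∀ x : D.W0, x ∈ normalizer ((D.Asub.subgroupOf D.W0 : Subgroup D.W0) : Set D.W0) →
      (x : W) ∈ D.NA := fun x hx => D.norm_mem_NA fun v => by
    obtain ⟨w, hw⟩ := (mem_normalizer_iff.1 hx ⟨D.a v, D.a_mem_W0 v⟩).1 ⟨v, rfl⟩
    exact ⟨w, hw.symm⟩
  let B : Subgroup W :=
    { carrier := {g | ∃ v : V3, v 0 + v 1 + v 2 = 0 ∧ g = D.a v}
      one_mem' := ⟨0, rfl, D.a_zero.symm⟩
      mul_mem' := by
        rintro _ _ ⟨v, hv, rfl⟩ ⟨w, hw, rfl⟩
        refine ⟨v + w, ?_, (D.a_add v w).symm⟩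
        simp only [Pi.add_apply]
        linear_combination hv + hw
      inv_mem' := by
        rintro _ ⟨v, hv, rfl⟩
        refine ⟨-v, ?_, (D.a_neg v).symm⟩
        simp only [Pi.neg_apply]
        linear_combination -hv }
  haveI : IsMulCommutative B := ⟨⟨fun x y => Subtype.ext (by
    obtain ⟨v, -, hv⟩ := x.2
    obtain ⟨w, -, hw⟩ := y.2
    show (x : W) * y = y * x
    rw [hv, hw, D.a_comm])⟩⟩
  have hBc : Nat.card B = 9 := by
    let f : {v : V3 // v 0 + v 1 + v 2 = 0} → B := fun v => ⟨D.a v, v, v.2, rfl⟩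
    have hf : Function.Bijective f := by
      refine ⟨fun v w h => Subtype.ext (D.a_inj (congrArg Subtype.val h)), ?_⟩
      rintro ⟨_, v, hv, rfl⟩
      exact ⟨⟨v, hv⟩, rfl⟩
    rw [← Nat.card_congr (Equiv.ofBijective f hf), Nat.card_eq_fintype_card, sum_card]
  have hcyc : ¬ IsCyclic B := by
    intro h
    obtain ⟨g, hg⟩ := IsCyclic.exists_ofOrder_eq_natCard (α := B)
    rw [hBc] at hg
    have h3 : g ^ 3 = 1 := by
      obtain ⟨v, -, hv⟩ := g.2
      exact Subtype.ext (by simp [hv, D.a_cube])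
    have := orderOf_dvd_of_pow_eq_one h3
    rw [hg] at this
    norm_num at this
  set Yw := Y.map D.W0.subtype with hYw
  have hBY : B ≤ normalizer (Yw : Set W) := by
    rintro g ⟨v, -, rfl⟩
    refine mem_normalizer_iff.2 fun y => ⟨?_, ?_⟩
    · rintro ⟨z, hz, rfl⟩
      exact ⟨⟨D.a v, D.a_mem_W0 v⟩ * z * ⟨D.a v, D.a_mem_W0 v⟩⁻¹, ‹Y.Normal›.conj_mem z hz _, rfl⟩
    · rintro ⟨z, hz, e⟩
      refine ⟨⟨D.a v, D.a_mem_W0 v⟩⁻¹ * z * ⟨D.a v, D.a_mem_W0 v⟩, ?_, ?_⟩
      · have := ‹Y.Normal›.conj_mem z hz ⟨D.a v, D.a_mem_W0 v⟩⁻¹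
        rwa [inv_inv] at this
      · simp only [Subgroup.coe_subtype, coe_mul, coe_inv] at e ⊢
        rw [e]; group
  have hYM : Yw ≤ D.M := by
    rw [← CfsgLib.CoprimeAct.generated_by_centralizers hcyc hBY (by
      rw [hBc, card_map_of_injective D.W0.subtype_injective, show 9 = 3 ^ 2 from rfl]
      exact Nat.Coprime.pow_left 2 (Nat.prime_three.coprime_iff_not_dvd.2 hY))]
    refine iSup₂_le fun b hb => ?_
    obtain ⟨⟨v, hv, rfl⟩, hb1⟩ := hb
    rintro x ⟨-, hx⟩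
    exact D.heavy v (plane_heavy v hv fun e => hb1 (by rw [e, D.a_zero])) x
      (mem_centralizer_singleton_iff.1 hx)
  intro g hg
  have hle : normalizer ((D.Asub.subgroupOf D.W0 : Subgroup D.W0) : Set D.W0) ⊔ Y ≤
      D.M.comap D.W0.subtype :=
    sup_le (fun x hx => D.NA_le_M (hNA x hx)) fun y hy => hYM ⟨y, hy, rfl⟩
  exact hle (hsup.symm ▸ mem_top (⟨g, hg⟩ : D.W0))

theorem W0_le_M : D.W0 ≤ D.M := by
  haveI : Fact (Nat.Prime 3) := ⟨Nat.prime_three⟩
  have hAW : D.Asub ≤ D.W0 := by rintro _ ⟨v, rfl⟩; exact D.a_mem_W0 v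
  obtain ⟨P0, hP0⟩ := D.sylow_A
  have hle : (P0 : Subgroup W) ≤ D.W0 := hP0 ▸ hAW
  set P : Sylow 3 D.W0 := P0.subtype hle with hP'
  have hPc : (P : Subgroup D.W0) = D.Asub.subgroupOf D.W0 := by
    rw [hP', P0.coe_subtype, hP0]
  have hnorm : ∀ x ∈ normalizer ((P : Subgroup D.W0) : Set D.W0), (x : W) ∈ D.NA := fun x hx =>
    D.norm_mem_NA fun v => by
      rw [hPc] at hx
      obtain ⟨w, hw⟩ := (mem_normalizer_iff.1 hx ⟨D.a v, D.a_mem_W0 v⟩).1 ⟨v, rfl⟩
      exact ⟨w, hw.symm⟩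
  by_cases hn : D.sg eall ∈ D.W0
  · set n : D.W0 := ⟨D.sg eall, hn⟩ with hnn
    have hneg : ∀ v : V3, eflip eall v = -v := eflip_all
    have hnN : n ∈ normalizer ((P : Subgroup D.W0) : Set D.W0) := by
      rw [hPc, mem_normalizer_iff]
      intro x
      constructor
      · rintro ⟨v, hv⟩
        exact ⟨eflip eall v, by rw [← D.sg_act, hv]; rfl⟩
      · rintro ⟨v, hv⟩
        refine ⟨eflip eall v, ?_⟩
        have hv' : D.a v = D.sg eall * (x : W) * (D.sg eall)⁻¹ := hv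
        rw [← D.sg_act, hv', D.sg_inv]
        rw [show D.sg eall * (D.sg eall * (x : W) * D.sg eall) * D.sg eall =
          (D.sg eall * D.sg eall) * (x : W) * (D.sg eall * D.sg eall) by group, D.sg_sq, one_mul,
          mul_one]
        rfl
    have hnC : n ∉ centralizer ((P : Subgroup D.W0) : Set D.W0) := fun h => by
      rw [mem_centralizer_iff] at h
      have h1 := congrArg Subtype.val (h ⟨D.a (ax 0), D.a_mem_W0 _⟩ (by rw [hPc]; exact ⟨ax 0, rfl⟩))
      have h2 := D.sg_a eall (ax 0)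
      simp only [coe_mul, hnn] at h1
      rw [← h1] at h2
      exact absurd (D.a_inj (mul_right_cancel h2)) (by rw [hneg]; exact (ax_ne_zero 0).2.2)
    have hidx : (centralizer ((P : Subgroup D.W0) : Set D.W0)).relIndex
        (normalizer ((P : Subgroup D.W0) : Set D.W0)) = 2 := by
      refine SmithTyrer.relIndex_eq_two hnN hnC fun m hm => ?_
      obtain ⟨v, e, d, he, -, hmv⟩ := D.NA_W0 (hnorm m hm) m.2
      rcases he with rfl | rfl
      · refine Or.inl (mem_centralizer_iff.2 fun x hx => Subtype.ext ?_)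
        rw [hPc] at hx
        obtain ⟨w, hw⟩ := hx
        have h1 := D.nf_conj v e0 d w
        rw [eflip_facts.1, mul_inv_eq_iff_eq_mul, ← hmv] at h1
        show (x : W) * m = m * x
        rw [show (x : W) = D.a w from hw.symm, h1]
      · refine Or.inr fun x hx => Subtype.ext ?_
        rw [hPc] at hx
        obtain ⟨w, hw⟩ := hx
        simp only [coe_mul, coe_inv]
        rw [show (x : W) = D.a w from hw.symm, hmv, D.nf_conj, hneg, D.a_neg]
    have hab : IsMulCommutative (P : Subgroup D.W0) := ⟨⟨fun x y => Subtype.ext (Subtype.ext (by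
      obtain ⟨v, hv⟩ := (hPc ▸ x.2 : (x : D.W0) ∈ D.Asub.subgroupOf D.W0)
      obtain ⟨w, hw⟩ := (hPc ▸ y.2 : (y : D.W0) ∈ D.Asub.subgroupOf D.W0)
      simp only [coe_mul]
      rw [← show D.a v = ((x : D.W0) : W) from hv, ← show D.a w = ((y : D.W0) : W) from hw, D.a_comm]))⟩⟩
    have hnc : ¬ IsCyclic (P : Subgroup D.W0) := by
      intro h
      obtain ⟨g, hg⟩ := IsCyclic.exists_ofOrder_eq_natCard (α := (P : Subgroup D.W0))
      have hc : Nat.card (P : Subgroup D.W0) = 27 := by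
        rw [hPc, Nat.card_congr (subgroupOfEquivOfLe hAW).toEquiv, D.card_Asub]
      rw [hc] at hg
      have h3 : g ^ 3 = 1 := by
        obtain ⟨v, hv⟩ := (hPc ▸ g.2 : (g : D.W0) ∈ D.Asub.subgroupOf D.W0)
        refine Subtype.ext (Subtype.ext ?_)
        simp only [SubmonoidClass.coe_pow, OneMemClass.coe_one]
        rw [← show D.a v = ((g : D.W0) : W) from hv, D.a_cube]
      have := orderOf_dvd_of_pow_eq_one h3
      rw [hg] at this
      norm_num at this
    have hres : Cfsg.pResidual 3 D.W0 = ⊤ := by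
      have hin : ∀ x : D.W0, x * x = 1 → x ∈ Cfsg.pResidual 3 D.W0 := fun x hx =>
        subset_closure (Nat.Coprime.coprime_dvd_left (orderOf_dvd_of_pow_eq_one ((sq x).trans hx))
          (by norm_num : Nat.Coprime 2 3))
      have hAR : ∀ u : V3, (⟨D.a u, D.a_mem_W0 u⟩ : D.W0) ∈ Cfsg.pResidual 3 D.W0 := by
        intro u
        set y : D.W0 := ⟨D.a (-u), D.a_mem_W0 _⟩
        have e : (⟨D.a u, D.a_mem_W0 u⟩ : D.W0) = y * n * y⁻¹ * n := by
          refine Subtype.ext ?_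
          simp only [coe_mul, coe_inv, hnn, y]
          rw [← D.a_neg, neg_neg, mul_assoc (D.a (-u)), D.sg_a, mul_assoc, mul_assoc (D.a (eflip eall u)),
            D.sg_sq, mul_one, ← D.a_add, hneg]
          rw [(neg_twice u).2]
        have hn2 : n * n = 1 := Subtype.ext (D.sg_sq eall)
        rw [e]
        refine mul_mem (hin _ ?_) (hin n hn2)
        rw [show y * n * y⁻¹ * (y * n * y⁻¹) = y * (n * n) * y⁻¹ by group, hn2, mul_one, mul_inv_cancel]
      haveI hnr : (Cfsg.pResidual 3 D.W0).Normal := CfsgLib.PResidual.pResidual_normal 3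
      refine top_le_iff.1 ?_
      rw [← CfsgLib.Solvable.iSup_sylow_eq_top (fun q : Nat.Primes =>
        haveI : Fact (Nat.Prime q) := ⟨q.2⟩
        (default : Sylow (q : ℕ) D.W0))]
      refine iSup_le fun q => ?_
      haveI : Fact (Nat.Prime q) := ⟨q.2⟩
      intro x hx
      by_cases hq : (q : ℕ) = 3
      · obtain ⟨k, hk⟩ := (default : Sylow (q : ℕ) D.W0).isPGroup' ⟨x, hx⟩
        have hp3 : IsPGroup 3 (zpowers x) := by
          intro y
          obtain ⟨j, hj⟩ := mem_zpowers_iff.1 y.2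
          refine ⟨k, Subtype.ext ?_⟩
          have hxk : x ^ 3 ^ k = 1 := by rw [← hq]; simpa using congrArg Subtype.val hk
          rw [SubmonoidClass.coe_pow, ← hj, ← zpow_natCast (x ^ j), ← zpow_mul, mul_comm, zpow_mul,
            zpow_natCast, hxk, one_zpow]
          rfl
        obtain ⟨R, hR⟩ := hp3.exists_le_sylow
        obtain ⟨g, hg⟩ := MulAction.exists_smul_eq D.W0 P R
        have hxR : x ∈ ((g • P : Sylow 3 D.W0) : Subgroup D.W0) := hg.symm ▸ hR (mem_zpowers x)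
        rw [Sylow.coe_subgroup_smul] at hxR
        obtain ⟨p, hp, rfl⟩ := hxR
        rw [SetLike.mem_coe, hPc] at hp
        obtain ⟨v, hv⟩ := hp
        have := hnr.conj_mem _ (hAR v) g
        rwa [show (⟨D.a v, D.a_mem_W0 v⟩ : D.W0) = p from Subtype.ext hv] at this
      · obtain ⟨k, hk⟩ := (default : Sylow (q : ℕ) D.W0).isPGroup' ⟨x, hx⟩
        refine subset_closure (Nat.Coprime.coprime_dvd_left (orderOf_dvd_of_pow_eq_one
          (by simpa using congrArg Subtype.val hk)) ?_)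
        exact Nat.Coprime.pow_left k ((Nat.coprime_primes q.2 Nat.prime_three).2 hq)
    haveI := Fintype.ofFinite D.W0
    have hlen : Cfsg.PLengthLE 3 1 D.W0 :=
      (SmithTyrer.residual_or_pLength (by norm_num : (3 : ℕ) ≠ 2) hab hnc hidx).resolve_left
        (fun h => h hres)
    -- the second term contains `A`
    let U1 := CfsgLib.FGSA.PLen.U 3 D.W0 1
    let U2 := CfsgLib.FGSA.PLen.U 3 D.W0 2
    haveI : U1.Normal := (Cfsg.upperPSeries 3 D.W0 1).2
    haveI : U2.Normal := (Cfsg.upperPSeries 3 D.W0 2).2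
    have h23 : (U2.index).Coprime 3 := by
      have h := CfsgLib.FGSA.PLen.good_factor (p := 3) (G := D.W0) 2
      rw [show CfsgLib.FGSA.PLen.U 3 D.W0 (2 + 1) = ⊤ from hlen, relIndex_top_right] at h
      simpa [CfsgLib.FGSA.PLen.Good] using h
    have hPU : (P : Subgroup D.W0) ≤ U2 := by
      refine relIndex_eq_one.1 (Nat.eq_one_of_dvd_coprimes h23 (relIndex_dvd_index_of_normal _ _) ?_)
      obtain ⟨j, hj⟩ := IsPGroup.iff_card.1 P.isPGroup'
      have hd := relIndex_dvd_card U2 (P : Subgroup D.W0)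
      rw [hj] at hd
      obtain ⟨i, hi, e⟩ := (Nat.dvd_prime_pow Nat.prime_three).1 hd
      rcases Nat.eq_zero_or_pos i with rfl | hipos
      · rw [e, pow_zero]; exact one_dvd _
      · exfalso
        refine (Nat.prime_three.coprime_iff_not_dvd.1 h23.symm) (dvd_trans ?_
          (relIndex_dvd_index_of_normal U2 (P : Subgroup D.W0)))
        rw [e]; exact dvd_pow_self 3 hipos.ne'
    have hfr := Sylow.normalizer_sup_eq_top' P hPU
    have hU2 : U2 ≤ (P : Subgroup D.W0) ⊔ U1 := by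
      refine relIndex_eq_one.1 ?_
      have h1 : ((P : Subgroup D.W0) ⊔ U1).relIndex U2 ∣ U1.relIndex U2 :=
        relIndex_dvd_of_le_left _ le_sup_right
      have h2 : ((P : Subgroup D.W0) ⊔ U1).relIndex U2 ∣ (P : Subgroup D.W0).index :=
        (relIndex_dvd_of_le_left _ le_sup_left).trans
          ⟨_, (relIndex_mul_index hPU).symm⟩
      obtain ⟨k, hk⟩ : ∃ k, U1.relIndex U2 = 3 ^ k := by
        have h := CfsgLib.FGSA.PLen.good_factor (p := 3) (G := D.W0) 1
        simpa [CfsgLib.FGSA.PLen.Good] using h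
      rw [hk] at h1
      exact Nat.eq_one_of_dvd_coprimes (Nat.Coprime.pow_left k
        (Nat.prime_three.coprime_iff_not_dvd.2 P.not_dvd_index)) h1 h2
    refine D.W0_le_of_supplement U1 ?_ (top_le_iff.1 ?_)
    · exact Nat.prime_three.coprime_iff_not_dvd.1 CfsgLib.FGSA.PLen.card_U_one_coprime.symm
    · rw [← hfr, ← hPc]
      exact sup_le le_sup_left (hU2.trans (sup_le (le_normalizer.trans le_sup_left) le_sup_right))
  · have hC : normalizer ((P : Subgroup D.W0) : Set D.W0) ≤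
        centralizer ((P : Subgroup D.W0) : Set D.W0) := by
      intro m hm
      obtain ⟨v, e, d, he, heW, hmv⟩ := D.NA_W0 (hnorm m hm) m.2
      rcases he with rfl | rfl
      · refine mem_centralizer_iff.2 fun x hx => Subtype.ext ?_
        rw [hPc] at hx
        obtain ⟨w, hw⟩ := hx
        have h1 := D.nf_conj v e0 d w
        rw [eflip_facts.1, mul_inv_eq_iff_eq_mul, ← hmv] at h1
        show (x : W) * m = m * x
        rw [show (x : W) = D.a w from hw.symm, h1]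
      · exact absurd heW hn
    have hcompl := MonoidHom.ker_transferSylow_isComplement' P hC
    refine D.W0_le_of_supplement (MonoidHom.transferSylow P hC).ker
      (MonoidHom.not_dvd_card_ker_transferSylow P hC) (top_le_iff.1 ?_)
    rw [← hcompl.sup_eq_top, ← hPc]
    exact sup_le le_sup_right (le_normalizer.trans le_sup_left)

theorem M_eq_top : D.M = ⊤ := by
  refine top_le_iff.1 (D.W0_sup_T ▸ sup_le D.W0_le_M fun g hg => ?_)
  obtain ⟨k, hk, e, rfl⟩ := D.mem_T.1 hg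
  exact mul_mem (D.K_le_M hk) (D.NA_le_M (D.sg_mem e))

/-! ### The quotient -/

theorem exists_form (g : W) : ∃ p : V3 × Sg, ∃ k ∈ D.K, g = k * D.a p.1 * D.sg p.2 := by
  obtain ⟨k, hk, v, e, d, rfl⟩ := D.mem_M.1 (D.M_eq_top.ge (mem_top g))
  refine ⟨(v, e), k * D.tp d, mul_mem hk (D.tp_mem_K d), ?_⟩
  rw [nf, mul_assoc k (D.tp d), ← D.tp_central, mul_assoc (D.a v), D.tp_central d (D.sg e)]
  simp only [mul_assoc]

theorem form_unique {k l : W} (hk : k ∈ D.K) (hl : l ∈ D.K) {v w : V3} {e f : Sg}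
    (h : k * D.a v * D.sg e = l * D.a w * D.sg f) : v = w ∧ e = f := by
  have h1 : D.nf (v - w) (exor e f) false = D.a (-w) * (k⁻¹ * l) * D.a w := by
    calc D.nf (v - w) (exor e f) false = D.a (-w) * (D.a v * D.sg e) * D.sg f := by
          rw [← D.nf_plain, ← D.sg_mul, sub_eq_add_neg, add_comm, D.a_add]; simp only [mul_assoc]
      _ = D.a (-w) * (k⁻¹ * (k * D.a v * D.sg e)) * D.sg f := by group
      _ = D.a (-w) * (k⁻¹ * l) * D.a w * (D.sg f * D.sg f) := by rw [h]; group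
      _ = _ := by rw [D.sg_sq, mul_one]
  have h2 : D.a (-w) * (k⁻¹ * l) * D.a w ∈ D.K := by
    have := D.K_a (-w) _ (mul_mem (inv_mem hk) hl)
    rwa [D.a_neg, inv_inv, ← D.a_neg] at this
  obtain ⟨e1', e2'⟩ := D.K_inter_NA (h1 ▸ h2)
  have : ∀ e f : Sg, exor e f = e0 → e = f := by decide +kernel
  exact ⟨sub_eq_zero.1 e1', this e f e2'⟩

theorem cent_K_le : centralizer (D.K : Set W) ≤ D.K := by
  intro x hx
  obtain ⟨k, hk, v, e, d, rfl⟩ := D.mem_M.1 (D.M_eq_top.ge (mem_top x))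
  let Pr : W → Prop := fun g => ∀ m ∈ D.K, g * m * g⁻¹ * m⁻¹ ∈ D.Z2
  have hn : Pr (D.nf v e d) := fun m hm => by
    have h1 : k * D.nf v e d * m * (k * D.nf v e d)⁻¹ = m := by
      rw [← mem_centralizer_iff.1 hx m hm, mul_inv_cancel_right]
    have e1 : D.nf v e d * m * (D.nf v e d)⁻¹ * m⁻¹ =
        k⁻¹ * (k * D.nf v e d * m * (k * D.nf v e d)⁻¹) * k * m⁻¹ := by group
    rw [e1, h1]
    have := D.comm_Z2 (inv_mem hk) hm
    rwa [inv_inv] at this
  have hmul : ∀ g h, Pr g → (∀ m ∈ D.K, h * m * h⁻¹ ∈ D.K) → Pr h → Pr (g * h) := by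
    intro g h hg hK hh m hm
    have e1 : g * h * m * (g * h)⁻¹ * m⁻¹ =
        (g * (h * m * h⁻¹) * g⁻¹ * (h * m * h⁻¹)⁻¹) * (h * m * h⁻¹ * m⁻¹) := by group
    rw [e1]
    exact mul_mem (hg _ (hK m hm)) (hh m hm)
  have hNK : ∀ {y}, y ∈ D.NA → ∀ m ∈ D.K, y * m * y⁻¹ ∈ D.K := fun hy m hm =>
    (mem_normalizer_iff.1 (D.NA_normalizes hy) m).1 hm
  have hconj : ∀ y g, y ∈ D.NA → Pr g → Pr (y * g * y⁻¹) := by
    intro y g hy hg m hm
    have hm' := hNK (inv_mem hy) m hm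
    rw [inv_inv] at hm'
    have e1 : y * g * y⁻¹ * m * (y * g * y⁻¹)⁻¹ * m⁻¹ =
        y * (g * (y⁻¹ * m * y) * g⁻¹ * (y⁻¹ * m * y)⁻¹) * y⁻¹ := by group
    rw [e1, D.Z2_conj (hg _ hm')]
    exact hg _ hm'
  have hinv : ∀ g, g ∈ D.NA → Pr g → Pr g⁻¹ := by
    intro g hgN hg m hm
    have hm' := hNK (inv_mem hgN) m hm
    have e1 : g⁻¹ * m * g⁻¹⁻¹ * m⁻¹ =
        (g * (g⁻¹ * m * g⁻¹⁻¹) * g⁻¹ * (g⁻¹ * m * g⁻¹⁻¹)⁻¹)⁻¹ := by group
    rw [e1]
    exact inv_mem (hg _ hm')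
  have hax : ∀ i, ¬ Pr (D.a (ax i)) := fun i h => by
    have h1 : ∀ p : D.Q, p = 1 := fun p => by
      obtain ⟨m, hm, rfl⟩ := D.cl_surj p
      refine D.fix_Q (i := i) ?_
      rw [na, act_cl, D.cl_eq]
      have hz := h m hm
      have := D.Z2_conj (inv_mem hz) m⁻¹
      rw [inv_inv] at this
      have h2 := this ▸ inv_mem hz
      have e1 : (D.a (ax i) * m * (D.a (ax i))⁻¹)⁻¹ * m =
          m⁻¹ * (D.a (ax i) * m * (D.a (ax i))⁻¹ * m⁻¹)⁻¹ * m := by group
      rw [e1]; exact h2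
    haveI : Subsingleton D.Q := ⟨fun p q => (h1 p).trans (h1 q).symm⟩
    have := D.card_Q
    rw [Nat.card_of_subsingleton 1] at this
    norm_num at this
  have he : e = e0 := by
    by_contra hne
    obtain ⟨i, hi⟩ := weight_cases e hne
    refine hax i ?_
    have h1 := hmul _ _ hn (hNK (mul_mem (mul_mem (D.a_mem (ax i)) (inv_mem (D.nf_mem v e d)))
      (inv_mem (D.a_mem (ax i))))) (hconj _ _ (D.a_mem (ax i)) (hinv _ (D.nf_mem v e d) hn))
    have e1 : D.nf v e d * (D.a (ax i) * (D.nf v e d)⁻¹ * (D.a (ax i))⁻¹) = D.a (ax i) := by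
      rw [← mul_assoc, ← mul_assoc, D.nf_conj, eflip_facts.2.2.2.1, if_pos hi, ← D.a_sub]
      rw [neg_ax_sub]
    rwa [e1] at h1
  subst he
  have hv : v = 0 := by
    by_contra hne
    obtain ⟨i, hi⟩ := Function.ne_iff.1 hne
    have hsg := D.sg_mem (e1 i)
    have h1 := hmul _ _ hn (hNK (mul_mem (mul_mem hsg (inv_mem (D.nf_mem v e0 d))) (inv_mem hsg)))
      (hconj _ _ hsg (hinv _ (D.nf_mem v e0 d) hn))
    have e1' : D.nf v e0 d * (D.sg (e1 i) * (D.nf v e0 d)⁻¹ * (D.sg (e1 i))⁻¹) =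
        D.a (v - vflip i v) := by
      have h3 : D.sg (e1 i) * D.nf v e0 d * (D.sg (e1 i))⁻¹ = D.nf (vflip i v) e0 d := by
        rw [nf, nf, D.sg_e0, mul_one, mul_one, ← mul_assoc, mul_assoc _ (D.tp d), ← D.tp_central,
          ← mul_assoc, D.sg_act, eflip_facts.2.2.1]
      rw [show D.sg (e1 i) * (D.nf v e0 d)⁻¹ * (D.sg (e1 i))⁻¹ =
        (D.sg (e1 i) * D.nf v e0 d * (D.sg (e1 i))⁻¹)⁻¹ by group, h3, mul_inv_eq_iff_eq_mul, D.a_nf,
        D.nf_mul, eflip_facts.1, sub_add_cancel, exor_facts.2.1, Bool.false_xor]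
    rw [e1'] at h1
    rcases sub_vflip_ax i v hi with e2 | e2 <;> rw [e2] at h1
    · exact hax i h1
    · have h4 := hinv _ (D.a_mem _) h1
      rw [← D.a_neg, neg_neg] at h4
      exact hax i h4
  subst hv
  rw [← D.sg_nf, D.sg_e0, one_mul]
  exact mul_mem hk (D.tp_mem_K d)

/-- `W` is an extension of `K` by `Sym₃ × Sym₃ × Sym₃`. -/
theorem exists_pi : ∃ π : W →* Equiv.Perm (Fin 3) × Equiv.Perm (Fin 3) × Equiv.Perm (Fin 3),
    Function.Surjective π ∧ (∀ g, π g = 1 ↔ g ∈ D.K) ∧ centralizer (D.K : Set W) ≤ D.K := by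
  choose p k hk hp using D.exists_form
  let F : V3 × Sg → Equiv.Perm (Fin 3) × Equiv.Perm (Fin 3) × Equiv.Perm (Fin 3) := fun q =>
    (affPerm (q.1 0) (q.2 0), affPerm (q.1 1) (q.2 1), affPerm (q.1 2) (q.2 2))
  have hF : ∀ g {l v e}, l ∈ D.K → g = l * D.a v * D.sg e → p g = (v, e) := fun g l v e hl h => by
    obtain ⟨h1, h2⟩ := D.form_unique (hk g) hl ((hp g).symm.trans h)
    exact Prod.ext h1 h2
  let π : W →* Equiv.Perm (Fin 3) × Equiv.Perm (Fin 3) × Equiv.Perm (Fin 3) :=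
    MonoidHom.mk' (fun g => F (p g)) fun g h => by
      have hn : D.a (p g).1 * D.sg (p g).2 * k h * (D.a (p g).1 * D.sg (p g).2)⁻¹ ∈ D.K :=
        (mem_normalizer_iff.1 (D.NA_normalizes (mul_mem (D.a_mem _) (D.sg_mem _))) _).1 (hk h)
      have e1 := hF (g * h) (v := (p g).1 + eflip (p g).2 (p h).1) (e := exor (p g).2 (p h).2)
        (mul_mem (hk g) hn) (by
          rw [D.a_add, ← D.sg_mul]
          conv_lhs => rw [hp g, hp h]
          rw [← D.sg_act (p g).2 (p h).1]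
          group)
      rw [e1]
      simp only [F, eflip, exor, Pi.add_apply, affPerm_facts.1, Prod.mk_mul_mk]
  refine ⟨π, fun q => ?_, fun g => ?_, D.cent_K_le⟩
  · obtain ⟨v0, b0, h0⟩ := affPerm_facts.2.2.1 q.1
    obtain ⟨v1, b1, h1⟩ := affPerm_facts.2.2.1 q.2.1
    obtain ⟨v2, b2, h2⟩ := affPerm_facts.2.2.1 q.2.2
    refine ⟨D.a ![v0, v1, v2] * D.sg ![b0, b1, b2], ?_⟩
    show F (p _) = q
    rw [hF _ (one_mem _) (by rw [one_mul])]
    simp [F, h0, h1, h2]
  · show F (p g) = 1 ↔ _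
    constructor
    · intro h
      simp only [F, Prod.mk_eq_one] at h
      obtain ⟨h0, h1, h2⟩ := h
      have hv : (p g).1 = 0 ∧ (p g).2 = e0 := by
        refine ⟨funext fun j => ?_, funext fun j => ?_⟩ <;> fin_cases j
        · exact (affPerm_facts.2.1 _ _ h0).1
        · exact (affPerm_facts.2.1 _ _ h1).1
        · exact (affPerm_facts.2.1 _ _ h2).1
        · exact (affPerm_facts.2.1 _ _ h0).2
        · exact (affPerm_facts.2.1 _ _ h1).2
        · exact (affPerm_facts.2.1 _ _ h2).2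
      rw [hp g, hv.1, hv.2, D.a_zero, D.sg_e0, mul_one, mul_one]
      exact hk g
    · intro hg
      rw [hF g (v := 0) (e := e0) hg (by rw [D.a_zero, D.sg_e0, mul_one, mul_one])]
      simp [F, e0, affPerm_facts.2.2.2]

end WSys

end CfsgLib.O8Three
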