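import Cfsg.Agent.O8Three.CentW
import Cfsg.Agent.O8Three.WMain
import Cfsg.Agent.O8Three.FinishTop

/-!
# The centralizer of the involution in the subgroup of index three: the data of the finish
-/

set_option autoImplicit false
set_option maxRecDepth 100000
set_option linter.style.haveILetI false
set_option linter.unusedSectionVars false

namespace CfsgLib.O8Three

open CfsgLib.PSpFourInvol (S sm si)
open Subgroup

universe u v w

/-- The orthonormal coordinates. -/
def aV (v : V3) : JV := ⟨v 0 + v 1 + v 2, v 1 + 2 * v 2, 0, v 0 + 2 * v 1 + 2 * v 2⟩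

theorem aV_add (v w : V3) : aV (v + w) = ja (aV v) (aV w) := by
  simp only [aV, ja, Pi.add_apply]
  refine JV.ext ?_ ?_ ?_ ?_ <;> simp only <;> ring

theorem aV_inj : Function.Injective aV := by
  have h : ∀ v w : V3, aV v = aV w → v = w := by decide +kernel
  exact fun v w => h v w

theorem aV_surj : ∀ u : JV, u.b = 0 → ∃ v : V3, aV v = u := by decide +kernel

theorem aV_flip : ∀ (i : Fin 3) (v : V3), Base.sJ i (aV v) = aV (vflip i v) := by decide +kernel

theorem aV_heavy : ∀ v : V3, Heavy v → qJ (aV v) = 0 ∧ aV v ≠ j0 ∨ qJ (aV v) = -1 := by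
  unfold Heavy; decide +kernel

theorem aV_ax : ∀ i : Fin 3, qJ (aV (ax i)) = 1 ∧ ∀ o, (cJ o (aV (ax i))).k ≠ 0 := by decide +kernel

namespace Base

variable {G : Type u} [Group G] [Finite G] {H : Base G} {R : Refl H} {N : Subgroup G} [hN : N.Normal]

/-- An element of `C_N(t)` normalising `A` lies in `A⟨t, r₁, r₂, r₃⟩`. -/
theorem Refl.norm_A (R : Refl H) (hG : H.Good) (he : H.ext = false)
    (hpar : ∀ x, H.par x ∈ N ↔ x.v.b = 0) {g : G} (hg : g ∈ N) (ht : g * H.t = H.t * g)
    (hA : ∀ u : JV, u.b = 0 → ∃ w : JV, w.b = 0 ∧ g * H.emb u * g⁻¹ = H.emb w) : g ∈ R.NA := by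
  obtain ⟨w, hwb, hw⟩ := hA ⟨1, 0, 0, 0⟩ rfl
  have hq : qJ w = 0 := (hG.qJ_conj hw).symm.trans (by decide)
  have hne : w ≠ j0 := by
    rintro rfl
    rw [H.emb_j0, conj_eq_one_iff, ← H.emb_j0] at hw
    exact absurd (H.emb_inj hw) (by decide)
  obtain ⟨o, ho⟩ := weight_three w hwb hq hne
  obtain ⟨c, hc, hcz⟩ : ∃ c ∈ R.NA, c * H.emb w * c⁻¹ = H.z := by
    rcases ho with e | e
    · exact ⟨R.cc o, R.cc_mem o, by rw [R.cc_nrm, e, ← H.emb_zT]⟩
    · refine ⟨R.r1 * R.r2 * R.r3 * R.cc o,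
        mul_mem (mul_mem (mul_mem (R.rr_mem 0) (R.rr_mem 1)) (R.rr_mem 2)) (R.cc_mem o), ?_⟩
      rw [((R.nrm1.mul R.nrm2).mul R.nrm3).mul (R.cc_nrm o) w, H.emb_zT]
      refine congrArg H.emb ?_
      show R1J (R2J (R3J (cJ o w))) = _
      rw [e]; decide
  have hcN := R.NA_le hpar hc
  have hd1 : c * g ∈ N := mul_mem hcN.1 hg
  have hd2 : c * g * H.z = H.z * (c * g) := by
    refine mul_inv_eq_iff_eq_mul.1 ?_
    conv_rhs => rw [← hcz, ← hw, ← H.emb_zT]
    group
  have hd3 : c * g * H.t = H.t * (c * g) :=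
    ((show Commute c H.t from mem_centralizer_singleton_iff.1 hcN.2).mul_left ht).eq
  obtain ⟨x, hx⟩ := H.mem_cent.1 hd2
  rw [H.out_eq he, mul_one, or_self] at hx
  rw [hx] at hd1 hd3
  have hf := comm_tT_form (H.par_comm.1 hd3) ((hpar x).1 hd1)
  have hnorm : ∃ u : JV, c * g * H.emb ⟨0, 0, 0, 1⟩ * (c * g)⁻¹ = H.emb u := by
    obtain ⟨w', hw'b, hw'⟩ := hA ⟨0, 0, 0, 1⟩ rfl
    have hcA : ∀ d ∈ R.NA, ∀ u : JV, ∃ u', d * H.emb u * d⁻¹ = H.emb u' := by
      intro d hd
      induction hd using closure_induction with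
      | mem d hd =>
        intro u
        rcases hd with rfl | ⟨v, -, rfl⟩ | ⟨i, rfl⟩
        · exact ⟨_, H.nrm_t u⟩
        · exact ⟨u, by rw [H.emb_comm, mul_inv_cancel_right]⟩
        · exact ⟨_, R.nrm i u⟩
      | one => exact fun u => ⟨u, by group⟩
      | mul a b _ _ ha hb =>
        intro u
        obtain ⟨u1, h1⟩ := hb u
        obtain ⟨u2, h2⟩ := ha u1
        exact ⟨u2, by rw [← h2, ← h1]; group⟩
      | inv a _ ha =>
        intro u
        have hsurj : Function.Surjective fun v => Classical.choose (ha v) :=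
          Finite.injective_iff_surjective.1 fun v v' e => by
            have h1 := Classical.choose_spec (ha v)
            have h2 := Classical.choose_spec (ha v')
            refine H.emb_inj (mul_left_cancel (a := a) (mul_right_cancel (b := a⁻¹) ?_))
            exact h1.trans ((congrArg H.emb e).trans h2.symm)
        obtain ⟨v, hv⟩ := hsurj u
        refine ⟨v, ?_⟩
        rw [← hv, ← Classical.choose_spec (ha v)]; group
    obtain ⟨u, hu⟩ := hcA c hc w'
    exact ⟨u, by rw [← hu, ← hw']; group⟩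
  obtain ⟨u, hu⟩ := hnorm
  rw [hx, emb, emb, ← map_inv, ← map_mul, ← map_mul] at hu
  have hxk := norm_line x.g (by
    have h2 : (x * jT ⟨0, 0, 0, 1⟩ * x⁻¹).g = (jT u).g := congrArg T.g (H.inj hu)
    have h3 := Jsub_le (mem_Jsub.2 (jC_jT u).2)
    rw [mem_Ssub, inS, ← h2, mul_g, mul_g] at h3
    exact h3)
  have hmem : H.par x ∈ R.NA := by
    rcases hxk with hk | hk
    · have e : x = jT ⟨x.c, x.v.a, 0, chi x.g⟩ := by rw [hf]; exact T.ext rfl rfl hk
      rw [e]; exact R.emb_mem rfl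
    · have e : x = tT * jT ⟨x.c, x.v.a, 0, chi x.g⟩ := by
        rw [hf]
        refine T.ext ?_ ?_ hk
        · simp [mul_def, tm, jT, tT, bet, v0]
        · simp [mul_def, tm, jT, tT, va, v0, act, show chi 1 = 0 from by decide]
      rw [e, map_mul]
      exact mul_mem R.t_mem_NA (R.emb_mem rfl)
  rw [show g = c⁻¹ * (c * g) by group, hx]
  exact mul_mem (inv_mem hc) hmem

/-- The elements of weight at least two. -/
theorem Refl.Comm.step_heavy (hR : R.Comm) (hG : H.Good) (he : H.ext = false)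
    (hpar : ∀ x, H.par x ∈ N ↔ x.v.b = 0) {F : Type v} [Field F]
    [Fintype F] (hF : Fintype.card F = 3) {F₂ : Type w} [Field F₂] [Fintype F₂]
    (h42 : RecogPSp H.XA F F₂) {v : V3} (hv : Heavy v) : R.Step N (aV v) := by
  rcases aV_heavy v hv with ⟨hq, hne⟩ | hq
  · obtain ⟨o, ho⟩ := weight_three _ (show (aV v).b = 0 from rfl) hq hne
    refine R.step_cc hpar (o := o) (R.step_pm ?_ ho)
    intro g hg ht hz
    rw [← H.emb_zT] at hz
    refine R.cent_z hpar (fun g _ hz => ?_) hg ht hz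
    obtain ⟨x, hx⟩ := H.mem_cent.1 hz
    rw [H.out_eq he, mul_one, or_self] at hx
    exact ⟨x, hx.symm⟩
  · obtain ⟨o, i, ho⟩ := weight_two _ (show (aV v).b = 0 from rfl) hq
    exact R.step_al_iter i.1 (R.step_cc hpar (o := o)
      (R.step_pm (fun g _ ht ha => hR.cent_a hG he hF h42 ht ha) ho))

/-- The data of the finish for the subgroup of index three. -/
theorem Good.wdata (hG : H.Good) (he : H.ext = false) {F : Type v} [Field F] [Fintype F]
    (hF : Fintype.card F = 3) {F₂ : Type w} [Field F₂] [Fintype F₂] (h42 : RecogPSp H.XA F F₂)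
    (N : Subgroup G) [N.Normal] (hpar : ∀ x, H.par x ∈ N ↔ x.v.b = 0) : H.WData N := by
  classical
  obtain ⟨R⟩ := hG.exists_refl
  have hR : R.Comm := fun i p hp q hq => R.quat_comm he hG hF h42 i hp hq
  set W : Subgroup G := N ⊓ centralizer ({H.t} : Set G) with hW
  have hAW : ∀ v, H.emb (aV v) ∈ W := fun v => R.NA_le hpar (R.emb_mem rfl)
  have hKW : R.K ≤ W := fun x hx =>
    ⟨R.K_le (fun x hx => (hpar x).2 hx) hx, mem_centralizer_singleton_iff.2 (hR.K_cent hx)⟩
  have ht : H.t ∈ W := R.NA_le hpar R.t_mem_NA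
  set aW : V3 → W := fun v => ⟨H.emb (aV v), hAW v⟩
  set sW : Fin 3 → W := fun i => ⟨R.rr i, R.NA_le hpar (R.rr_mem i)⟩
  set K0 : Subgroup W := R.K.subgroupOf W
  set NAW : Subgroup W := closure (insert (⟨H.t, ht⟩ : W) (Set.range aW ∪ Set.range sW)) with hNAW
  have hmap : NAW.map W.subtype = R.NA := by
    rw [hNAW, MonoidHom.map_closure, Refl.NA, Set.image_insert_eq, Set.image_union, ← Set.range_comp,
      ← Set.range_comp]
    refine congrArg Subgroup.closure (congrArg₂ (fun a b => insert a b) rfl (congrArg₂ (· ∪ ·) ?_ rfl))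
    ext g
    constructor
    · rintro ⟨v, rfl⟩; exact ⟨aV v, rfl, rfl⟩
    · rintro ⟨u, hu, rfl⟩
      obtain ⟨v, rfl⟩ := aV_surj u hu
      exact ⟨v, rfl⟩
  have hmapM : (K0 ⊔ NAW).map W.subtype = R.M := by
    rw [Subgroup.map_sup, hmap, subgroupOf_map_subtype, inf_eq_left.2 hKW]
    rfl
  have hback : ∀ {P : Subgroup W} {g : W}, (g : G) ∈ P.map W.subtype → g ∈ P := fun {P g} h => by
    obtain ⟨y, hy, e⟩ := h
    rwa [← Subtype.ext e]
  let eK : K0 ≃* R.K := subgroupOfEquivOfLe hKW
  let D : WSys W :=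
    { t := ⟨H.t, ht⟩
      t_central := fun g => Subtype.ext (mem_centralizer_singleton_iff.1 g.2.2)
      t_sq := Subtype.ext H.t_mul_self
      t_ne := fun e => t_ne_one (congrArg Subtype.val e)
      a := aW
      a_add := fun v w => Subtype.ext (by
        show H.emb (aV (v + w)) = H.emb (aV v) * H.emb (aV w)
        rw [aV_add, H.emb_ja])
      a_inj := fun v w e => aV_inj (H.emb_inj (congrArg Subtype.val e))
      s := sW
      s_sq := fun i => Subtype.ext (R.sq i)
      s_comm := fun i j => Subtype.ext (R.comm i j)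
      s_act := fun i v => Subtype.ext ((R.nrm i (aV v)).trans (congrArg H.emb (aV_flip i v)))
      K := K0
      K_ext := LargeExtra.isExtraspecial_equiv eK.symm hR.extraspecial
      K_card := (Nat.card_congr eK.toEquiv).trans hR.card_K
      t_mem := mem_subgroupOf.2 R.t_mem_K
      K_a := fun v k hk => mem_subgroupOf.2 (R.K_emb rfl (mem_subgroupOf.1 hk))
      K_s := fun i k hk => mem_subgroupOf.2 (R.K_rr i (mem_subgroupOf.1 hk))
      fix_ax := fun i k hk hc => by
        rcases hR.fix_axis rfl (aV_ax i).2 (mem_subgroupOf.1 hk) (congrArg Subtype.val hc) with e | e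
        · exact Or.inl (Subtype.ext e)
        · exact Or.inr (Subtype.ext e)
      norm_A := fun g hg => by
        refine hback ?_
        rw [← hNAW, hmap]
        refine R.norm_A hG he hpar g.2.1 (mem_centralizer_singleton_iff.1 g.2.2) fun u hu => ?_
        obtain ⟨v, rfl⟩ := aV_surj u hu
        obtain ⟨w, hw⟩ := hg v
        exact ⟨aV w, rfl, congrArg Subtype.val hw⟩
      heavy := fun v hv g hg => by
        refine hback ?_
        rw [← hNAW, hmapM]
        exact hR.step_heavy hG he hpar hF h42 hv g g.2.1 (mem_centralizer_singleton_iff.1 g.2.2)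
          (congrArg Subtype.val hg)
      light := fun i v hv g e => by
        have h := hG.qJ_conj (congrArg Subtype.val e)
        rw [(aV_ax i).1] at h
        rcases aV_heavy v hv with ⟨hq, -⟩ | hq <;> rw [hq] at h <;> exact absurd h (by decide) }
  obtain ⟨π, hs, hk, hcK⟩ := D.exists_pi
  refine ⟨R.K, π, hR.extraspecial, hR.card_K, hKW, ?_, hs, fun c => (hk c).trans mem_subgroupOf⟩
  intro g hg
  have hgW : g ∈ W := ⟨hg.1, mem_centralizer_singleton_iff.2
    ((mem_centralizer_iff.1 hg.2 _ R.t_mem_K).symm)⟩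
  exact mem_subgroupOf.1 (hcK (show (⟨g, hgW⟩ : W) ∈ centralizer (D.K : Set W) from
    mem_centralizer_iff.2 fun y hy => Subtype.ext (mem_centralizer_iff.1 hg.2 _ (mem_subgroupOf.1 hy))))

end Base

end CfsgLib.O8Three
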